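import Cfsg.Agent.Lib.Helper24.OTLa

set_option autoImplicit false

/-!
# `SL(3,2)`: the function `F` and non-solvability
-/

open scoped commutatorElement

namespace Cfsg.Agent.Lib.Helper24.OT

/-- the values of `F` on `L168` -/
def fL : ℕ → ℕ
  | 1 => 1 | 2 => 22 | 3 => 57 | 4 => 64 | 6 => 78 | 7 => 49 | 12 => 120 | 14 => 70
  | 21 => 105 | 28 => 112 | 42 => 126 | 84 => 168 | _ => 0

theorem F_L168 (d : ℕ) (hd : d ∈ Nat.divisors 84) : F L168 d = fL d := by
  have hdiv : Nat.divisors 84 = {1, 2, 3, 4, 6, 7, 12, 14, 21, 28, 42, 84} := by decide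
  rw [hdiv] at hd
  simp only [Finset.mem_insert, Finset.mem_singleton] at hd
  unfold F
  rw [Nat.card_eq_fintype_card]
  rcases hd with rfl | rfl | rfl | rfl | rfl | rfl | rfl | rfl | rfl | rfl | rfl | rfl
  · simp [fL]
  · exact L168_card_pow2
  · exact L168_card_pow3
  · exact L168_card_pow4
  · exact L168_card_pow6
  · exact L168_card_pow7
  · have h := L168_card_pow12
    simp only [← pow_mul, Nat.reduceMul] at h
    exact h
  · have h := L168_card_pow14
    simp only [← pow_mul, Nat.reduceMul] at h
    exact h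
  · have h := L168_card_pow21
    simp only [← pow_mul, Nat.reduceMul] at h
    exact h
  · have h := L168_card_pow28
    simp only [← pow_mul, Nat.reduceMul] at h
    exact h
  · have h := L168_card_pow42
    simp only [← pow_mul, Nat.reduceMul] at h
    exact h
  · have h := L168_card_pow84
    simp only [← pow_mul, Nat.reduceMul] at h
    exact h

theorem L168_pow_84 (g : L168) : g ^ 84 = 1 := by
  apply pow_eq_one_of_F_eq_card
  rw [F_L168 84 (by decide), Nat.card_eq_fintype_card, L168_card]
  rfl

/-! ### non-solvability -/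

/-- an involution -/
def gL : L168 := ⟨!![0, 0, 1; 0, 1, 0; 1, 0, 0], by decide⟩
/-- first conjugator -/
def aL : L168 := ⟨!![0, 0, 1; 0, 1, 0; 1, 1, 0], by decide⟩
/-- second conjugator -/
def bL : L168 := ⟨!![0, 0, 1; 0, 1, 1; 1, 0, 0], by decide⟩

theorem gL_ne_one : gL ≠ 1 := by decide

theorem gL_comm : ⁅aL * gL * aL⁻¹, bL * gL * bL⁻¹⁆ = gL := by decide +kernel

theorem L168_not_solvable : ¬ Group.IsSolvable L168 := by
  apply not_solvable_of_mem_derivedSeries gL_ne_one
  intro n
  induction n with
  | zero => exact Subgroup.mem_top _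
  | succ n ih =>
    rw [← gL_comm, derivedSeries_succ]
    exact Subgroup.commutator_mem_commutator
      ((derivedSeries_normal L168 n).conj_mem _ ih _)
      ((derivedSeries_normal L168 n).conj_mem _ ih _)

end Cfsg.Agent.Lib.Helper24.OT
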