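import Mathlib
import Cfsg.Prelude.Def_Blocks

/-!
# Elementary facts on the local ring / local ideal at a modular maximal ideal (helper24)
-/

set_option autoImplicit false

namespace Cfsg.Agent.Lib.Helper24

variable {p : ℕ} {M : Ideal Cfsg.AlgInt}

theorem one_notMem (hM : Cfsg.IsPModular p M) : (1 : Cfsg.AlgInt) ∉ M := by
  intro h
  exact hM.2.1.ne_top ((Ideal.eq_top_iff_one M).mpr h)

theorem natCast_mem (hM : Cfsg.IsPModular p M) {n : ℕ} (h : p ∣ n) : (n : Cfsg.AlgInt) ∈ M := by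
  obtain ⟨k, rfl⟩ := h
  rw [Nat.cast_mul]
  exact Ideal.mul_mem_right _ _ hM.2.2

theorem natCast_notMem (hM : Cfsg.IsPModular p M) {n : ℕ} (h : ¬ p ∣ n) :
    (n : Cfsg.AlgInt) ∉ M := by
  intro hn
  have hcop : Nat.Coprime p n := (Nat.Prime.coprime_iff_not_dvd hM.1).mpr h
  have hb := Nat.gcd_eq_gcd_ab p n
  rw [hcop.gcd_eq_one] at hb
  have h1 : ((p : ℤ) : Cfsg.AlgInt) * ((Nat.gcdA p n : ℤ) : Cfsg.AlgInt)
      + ((n : ℤ) : Cfsg.AlgInt) * ((Nat.gcdB p n : ℤ) : Cfsg.AlgInt) = 1 := by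
    have := congrArg (Int.cast : ℤ → Cfsg.AlgInt) hb
    push_cast at this
    push_cast
    exact this.symm
  apply one_notMem hM
  rw [← h1]
  apply Ideal.add_mem
  · apply Ideal.mul_mem_right
    simpa using hM.2.2
  · apply Ideal.mul_mem_right
    simpa using hn

theorem memLocalIdeal_zero (hM : Cfsg.IsPModular p M) : Cfsg.MemLocalIdeal M 0 :=
  ⟨0, 1, M.zero_mem, one_notMem hM, by simp⟩

/-- `a / n` with `a ∈ M` an algebraic integer and `n` a natural number prime to `p`. -/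
theorem memLocalIdeal_div_nat (hM : Cfsg.IsPModular p M) (a : Cfsg.AlgInt) (ha : a ∈ M)
    {n : ℕ} (hn : ¬ p ∣ n) : Cfsg.MemLocalIdeal M ((a : ℂ) / (n : ℂ)) :=
  ⟨a, (n : Cfsg.AlgInt), ha, natCast_notMem hM hn, by simp⟩

end Cfsg.Agent.Lib.Helper24
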