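import Mathlib
import Cfsg.Prelude.Def_Blocks
import Cfsg.Agent.Lib.Helper24.LocalRing

/-!
# The local ring at a modular maximal ideal as a subring of `ℂ` (helper24)

`MemLocalRing M` / `MemLocalIdeal M` closure properties, the subring `Rloc hM : Subring ℂ`,
its maximal ideal `Mloc hM`, units, natural numbers, roots of unity of `p`-power order.
-/

set_option autoImplicit false

namespace Cfsg.Agent.Lib.Helper24

variable {p : ℕ} {M : Ideal Cfsg.AlgInt}

theorem isPrime_of_isPModular (hM : Cfsg.IsPModular p M) : M.IsPrime := hM.2.1.isPrime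

theorem coe_ne_zero_of_notMem {b : Cfsg.AlgInt} (hb : b ∉ M) : (b : ℂ) ≠ 0 := by
  intro h
  apply hb
  have : b = 0 := Subtype.ext h
  rw [this]
  exact M.zero_mem

theorem mul_notMem (hM : Cfsg.IsPModular p M) {b b' : Cfsg.AlgInt} (hb : b ∉ M) (hb' : b' ∉ M) :
    b * b' ∉ M := by
  intro h
  rcases (isPrime_of_isPModular hM).mem_or_mem h with h | h
  · exact hb h
  · exact hb' h

theorem memLocalRing_algInt (hM : Cfsg.IsPModular p M) (a : Cfsg.AlgInt) :
    Cfsg.MemLocalRing M (a : ℂ) :=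
  ⟨a, 1, one_notMem hM, by simp⟩

theorem memLocalRing_of_isIntegral (hM : Cfsg.IsPModular p M) {z : ℂ} (hz : IsIntegral ℤ z) :
    Cfsg.MemLocalRing M z :=
  memLocalRing_algInt hM ⟨z, hz⟩

theorem memLocalIdeal_algInt (hM : Cfsg.IsPModular p M) {a : Cfsg.AlgInt} (ha : a ∈ M) :
    Cfsg.MemLocalIdeal M (a : ℂ) :=
  ⟨a, 1, ha, one_notMem hM, by simp⟩

theorem memLocalRing_of_memLocalIdeal {z : ℂ} (h : Cfsg.MemLocalIdeal M z) : Cfsg.MemLocalRing M z := by
  obtain ⟨a, b, _, hb, hz⟩ := h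
  exact ⟨a, b, hb, hz⟩

theorem memLocalRing_zero (hM : Cfsg.IsPModular p M) : Cfsg.MemLocalRing M 0 :=
  memLocalRing_of_memLocalIdeal (memLocalIdeal_zero hM)

theorem memLocalRing_one (hM : Cfsg.IsPModular p M) : Cfsg.MemLocalRing M 1 :=
  ⟨1, 1, one_notMem hM, by simp⟩

theorem memLocalRing_add (hM : Cfsg.IsPModular p M) {z w : ℂ} (hz : Cfsg.MemLocalRing M z)
    (hw : Cfsg.MemLocalRing M w) : Cfsg.MemLocalRing M (z + w) := by
  obtain ⟨a, b, hb, rfl⟩ := hz
  obtain ⟨a', b', hb', rfl⟩ := hw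
  refine ⟨a * b' + a' * b, b * b', mul_notMem hM hb hb', ?_⟩
  have h1 := coe_ne_zero_of_notMem hb
  have h2 := coe_ne_zero_of_notMem hb'
  push_cast
  field_simp

theorem memLocalRing_mul (hM : Cfsg.IsPModular p M) {z w : ℂ} (hz : Cfsg.MemLocalRing M z)
    (hw : Cfsg.MemLocalRing M w) : Cfsg.MemLocalRing M (z * w) := by
  obtain ⟨a, b, hb, rfl⟩ := hz
  obtain ⟨a', b', hb', rfl⟩ := hw
  refine ⟨a * a', b * b', mul_notMem hM hb hb', ?_⟩
  have h1 := coe_ne_zero_of_notMem hb
  have h2 := coe_ne_zero_of_notMem hb'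
  push_cast
  field_simp

theorem memLocalRing_neg {z : ℂ} (hz : Cfsg.MemLocalRing M z) : Cfsg.MemLocalRing M (-z) := by
  obtain ⟨a, b, hb, rfl⟩ := hz
  refine ⟨-a, b, hb, ?_⟩
  push_cast
  ring

theorem memLocalRing_sub (hM : Cfsg.IsPModular p M) {z w : ℂ} (hz : Cfsg.MemLocalRing M z)
    (hw : Cfsg.MemLocalRing M w) : Cfsg.MemLocalRing M (z - w) := by
  rw [sub_eq_add_neg]
  exact memLocalRing_add hM hz (memLocalRing_neg hw)

theorem memLocalIdeal_add (hM : Cfsg.IsPModular p M) {z w : ℂ} (hz : Cfsg.MemLocalIdeal M z)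
    (hw : Cfsg.MemLocalIdeal M w) : Cfsg.MemLocalIdeal M (z + w) := by
  obtain ⟨a, b, ha, hb, rfl⟩ := hz
  obtain ⟨a', b', ha', hb', rfl⟩ := hw
  refine ⟨a * b' + a' * b, b * b', ?_, mul_notMem hM hb hb', ?_⟩
  · exact M.add_mem (M.mul_mem_right _ ha) (M.mul_mem_right _ ha')
  have h1 := coe_ne_zero_of_notMem hb
  have h2 := coe_ne_zero_of_notMem hb'
  push_cast
  field_simp

theorem memLocalIdeal_neg {z : ℂ} (hz : Cfsg.MemLocalIdeal M z) : Cfsg.MemLocalIdeal M (-z) := by
  obtain ⟨a, b, ha, hb, rfl⟩ := hz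
  refine ⟨-a, b, M.neg_mem ha, hb, ?_⟩
  push_cast
  ring

theorem memLocalIdeal_sub (hM : Cfsg.IsPModular p M) {z w : ℂ} (hz : Cfsg.MemLocalIdeal M z)
    (hw : Cfsg.MemLocalIdeal M w) : Cfsg.MemLocalIdeal M (z - w) := by
  rw [sub_eq_add_neg]
  exact memLocalIdeal_add hM hz (memLocalIdeal_neg hw)

theorem memLocalIdeal_mul_left (hM : Cfsg.IsPModular p M) {z w : ℂ} (hz : Cfsg.MemLocalRing M z)
    (hw : Cfsg.MemLocalIdeal M w) : Cfsg.MemLocalIdeal M (z * w) := by
  obtain ⟨a, b, hb, rfl⟩ := hz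
  obtain ⟨a', b', ha', hb', rfl⟩ := hw
  refine ⟨a * a', b * b', M.mul_mem_left _ ha', mul_notMem hM hb hb', ?_⟩
  have h1 := coe_ne_zero_of_notMem hb
  have h2 := coe_ne_zero_of_notMem hb'
  push_cast
  field_simp

theorem memLocalIdeal_mul_right (hM : Cfsg.IsPModular p M) {z w : ℂ} (hz : Cfsg.MemLocalIdeal M z)
    (hw : Cfsg.MemLocalRing M w) : Cfsg.MemLocalIdeal M (z * w) := by
  rw [mul_comm]
  exact memLocalIdeal_mul_left hM hw hz

/-- For an algebraic integer, lying in the local ideal is the same as lying in `M`. -/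
theorem memLocalIdeal_algInt_iff (hM : Cfsg.IsPModular p M) (a : Cfsg.AlgInt) :
    Cfsg.MemLocalIdeal M (a : ℂ) ↔ a ∈ M := by
  constructor
  · rintro ⟨a', b', ha', hb', h⟩
    have h2 := coe_ne_zero_of_notMem hb'
    have h3 : a' = a * b' := by
      apply Subtype.ext
      push_cast
      rw [← h]
      field_simp
    rw [h3] at ha'
    rcases (isPrime_of_isPModular hM).mem_or_mem ha' with h | h
    · exact h
    · exact absurd h hb'
  · exact memLocalIdeal_algInt hM

theorem not_memLocalIdeal_one (hM : Cfsg.IsPModular p M) : ¬ Cfsg.MemLocalIdeal M 1 := by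
  intro h
  have := (memLocalIdeal_algInt_iff hM 1).mp (by simpa using h)
  exact one_notMem hM this

/-- units: an element of the local ring outside the local ideal has its inverse in the local
ring. -/
theorem memLocalRing_inv (hM : Cfsg.IsPModular p M) {z : ℂ} (hz : Cfsg.MemLocalRing M z)
    (hz' : ¬ Cfsg.MemLocalIdeal M z) : Cfsg.MemLocalRing M z⁻¹ := by
  obtain ⟨a, b, hb, rfl⟩ := hz
  have ha : a ∉ M := fun h => hz' ⟨a, b, h, hb, rfl⟩
  exact ⟨b, a, ha, by rw [inv_div]⟩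

theorem inv_not_memLocalIdeal (hM : Cfsg.IsPModular p M) {z : ℂ} (hz : Cfsg.MemLocalRing M z)
    (hz' : ¬ Cfsg.MemLocalIdeal M z) : ¬ Cfsg.MemLocalIdeal M z⁻¹ := by
  intro h
  have hne : z ≠ 0 := by
    rintro rfl
    exact hz' (memLocalIdeal_zero hM)
  have := memLocalIdeal_mul_left hM hz h
  rw [mul_inv_cancel₀ hne] at this
  exact not_memLocalIdeal_one hM this

/-- primality of the local ideal -/
theorem memLocalIdeal_or_of_mul (hM : Cfsg.IsPModular p M) {z w : ℂ} (hz : Cfsg.MemLocalRing M z)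
    (hw : Cfsg.MemLocalRing M w) (h : Cfsg.MemLocalIdeal M (z * w)) :
    Cfsg.MemLocalIdeal M z ∨ Cfsg.MemLocalIdeal M w := by
  by_contra hcon
  push Not at hcon
  have h1 := memLocalRing_inv hM hz hcon.1
  have hne : z ≠ 0 := by
    rintro rfl
    exact hcon.1 (memLocalIdeal_zero hM)
  have := memLocalIdeal_mul_left hM h1 h
  rw [← mul_assoc, inv_mul_cancel₀ hne, one_mul] at this
  exact hcon.2 this

theorem memLocalRing_natCast (hM : Cfsg.IsPModular p M) (n : ℕ) : Cfsg.MemLocalRing M (n : ℂ) := by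
  have := memLocalRing_algInt hM (n : Cfsg.AlgInt)
  simpa using this

theorem memLocalRing_intCast (hM : Cfsg.IsPModular p M) (n : ℤ) : Cfsg.MemLocalRing M (n : ℂ) := by
  have := memLocalRing_algInt hM (n : Cfsg.AlgInt)
  simpa using this

theorem memLocalIdeal_natCast_iff (hM : Cfsg.IsPModular p M) (n : ℕ) :
    Cfsg.MemLocalIdeal M (n : ℂ) ↔ p ∣ n := by
  have h := memLocalIdeal_algInt_iff hM (n : Cfsg.AlgInt)
  have e : (((n : Cfsg.AlgInt) : ℂ)) = (n : ℂ) := by simp
  rw [e] at h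
  rw [h]
  constructor
  · intro hn
    by_contra hcon
    exact natCast_notMem hM hcon hn
  · exact natCast_mem hM

theorem memLocalRing_natCast_inv (hM : Cfsg.IsPModular p M) {n : ℕ} (hn : ¬ p ∣ n) :
    Cfsg.MemLocalRing M ((n : ℂ)⁻¹) :=
  memLocalRing_inv hM (memLocalRing_natCast hM n) (fun h => hn ((memLocalIdeal_natCast_iff hM n).mp h))

theorem memLocalRing_sum (hM : Cfsg.IsPModular p M) {ι : Type*} (s : Finset ι) (f : ι → ℂ)
    (h : ∀ i ∈ s, Cfsg.MemLocalRing M (f i)) : Cfsg.MemLocalRing M (∑ i ∈ s, f i) := by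
  classical
  induction s using Finset.induction_on with
  | empty => simpa using memLocalRing_zero hM
  | insert a s ha ih =>
    rw [Finset.sum_insert ha]
    exact memLocalRing_add hM (h a (Finset.mem_insert_self a s))
      (ih fun i hi => h i (Finset.mem_insert_of_mem hi))

theorem memLocalIdeal_sum (hM : Cfsg.IsPModular p M) {ι : Type*} (s : Finset ι) (f : ι → ℂ)
    (h : ∀ i ∈ s, Cfsg.MemLocalIdeal M (f i)) : Cfsg.MemLocalIdeal M (∑ i ∈ s, f i) := by
  classical
  induction s using Finset.induction_on with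
  | empty => simpa using memLocalIdeal_zero hM
  | insert a s ha ih =>
    rw [Finset.sum_insert ha]
    exact memLocalIdeal_add hM (h a (Finset.mem_insert_self a s))
      (ih fun i hi => h i (Finset.mem_insert_of_mem hi))

theorem memLocalRing_prod (hM : Cfsg.IsPModular p M) {ι : Type*} (s : Finset ι) (f : ι → ℂ)
    (h : ∀ i ∈ s, Cfsg.MemLocalRing M (f i)) : Cfsg.MemLocalRing M (∏ i ∈ s, f i) := by
  classical
  induction s using Finset.induction_on with
  | empty => simpa using memLocalRing_one hM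
  | insert a s ha ih =>
    rw [Finset.prod_insert ha]
    exact memLocalRing_mul hM (h a (Finset.mem_insert_self a s))
      (ih fun i hi => h i (Finset.mem_insert_of_mem hi))

theorem memLocalRing_pow (hM : Cfsg.IsPModular p M) {z : ℂ} (hz : Cfsg.MemLocalRing M z) (n : ℕ) :
    Cfsg.MemLocalRing M (z ^ n) := by
  induction n with
  | zero => simpa using memLocalRing_one hM
  | succ n ih => rw [pow_succ]; exact memLocalRing_mul hM ih hz

/-- The local ring as a subring of `ℂ`. -/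
def Rloc (hM : Cfsg.IsPModular p M) : Subring ℂ where
  carrier := {z | Cfsg.MemLocalRing M z}
  mul_mem' := fun hz hw => memLocalRing_mul hM hz hw
  one_mem' := memLocalRing_one hM
  add_mem' := fun hz hw => memLocalRing_add hM hz hw
  zero_mem' := memLocalRing_zero hM
  neg_mem' := fun hz => memLocalRing_neg hz

theorem mem_Rloc (hM : Cfsg.IsPModular p M) (z : ℂ) : z ∈ Rloc hM ↔ Cfsg.MemLocalRing M z :=
  Iff.rfl

/-- The maximal ideal of the local ring. -/
def Mloc (hM : Cfsg.IsPModular p M) : Ideal (Rloc hM) where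
  carrier := {z | Cfsg.MemLocalIdeal M (z : ℂ)}
  add_mem' := fun hz hw => by
    simpa using memLocalIdeal_add hM hz hw
  zero_mem' := by simpa using memLocalIdeal_zero hM
  smul_mem' := fun c z hz => by
    have := memLocalIdeal_mul_left hM c.2 hz
    simpa using this

theorem mem_Mloc (hM : Cfsg.IsPModular p M) (z : Rloc hM) :
    z ∈ Mloc hM ↔ Cfsg.MemLocalIdeal M (z : ℂ) := Iff.rfl

theorem Mloc_ne_top (hM : Cfsg.IsPModular p M) : Mloc hM ≠ ⊤ := by
  intro h
  have : (1 : Rloc hM) ∈ Mloc hM := by rw [h]; trivial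
  rw [mem_Mloc] at this
  exact not_memLocalIdeal_one hM (by simpa using this)

/-- a root of unity of `p`-power order is congruent to `1`. -/
theorem memLocalIdeal_sub_one_of_pow_eq_one (hM : Cfsg.IsPModular p M) {ζ : ℂ} {k : ℕ}
    (hζ : ζ ^ (p ^ k) = 1) : Cfsg.MemLocalIdeal M (ζ - 1) := by
  haveI : Fact p.Prime := ⟨hM.1⟩
  have hpk : 0 < p ^ k := pow_pos hM.1.pos k
  have hint : IsIntegral ℤ ζ := ⟨Polynomial.X ^ (p ^ k) - 1,
    Polynomial.monic_X_pow_sub_C 1 hpk.ne', by simp [hζ]⟩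
  let z : Cfsg.AlgInt := ⟨ζ, hint⟩
  have hz : z ^ (p ^ k) = 1 := by
    apply Subtype.ext
    push_cast
    exact hζ
  have key : z - 1 ∈ M := by
    haveI := hM.2.1
    letI : Field (Cfsg.AlgInt ⧸ M) := Ideal.Quotient.field M
    haveI : CharP (Cfsg.AlgInt ⧸ M) p := by
      have h0 : ((p : ℕ) : Cfsg.AlgInt ⧸ M) = 0 := by
        have : (Ideal.Quotient.mk M) (p : Cfsg.AlgInt) = 0 :=
          Ideal.Quotient.eq_zero_iff_mem.mpr hM.2.2
        simpa using this
      exact (CharP.charP_iff_prime_eq_zero hM.1).mpr h0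
    have h1 : ((Ideal.Quotient.mk M) z - 1) ^ (p ^ k) = 0 := by
      rw [sub_pow_char_pow, ← map_pow, hz, map_one, one_pow, sub_self]
    have h2 : (Ideal.Quotient.mk M) z - 1 = 0 := pow_eq_zero_iff (hpk.ne') |>.mp h1
    have h3 : (Ideal.Quotient.mk M) (z - 1) = 0 := by rw [map_sub, map_one, h2]
    exact Ideal.Quotient.eq_zero_iff_mem.mp h3
  have := memLocalIdeal_algInt hM key
  simpa [z] using this

end Cfsg.Agent.Lib.Helper24
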