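import Mathlib
import Cfsg.Prelude.Def_Blocks
import Cfsg.Agent.Lib.Helper2.Integrality
import Cfsg.Agent.Lib.Helper2.Column
import Cfsg.Agent.Lib.Helper2.Completeness
import Cfsg.Agent.Lib.Helper25.CharBasic
import Cfsg.Agent.Lib.Helper24.Loc

/-!
# Central elements of the group algebra as class functions (helper24)

`conv a b` is the convolution product of two functions `G → ℂ` (the product in the group
algebra), `omega χ a = (∑ g, a g * χ g) / χ 1` the central character of `χ` applied to the
element `∑ a g • g`.  For class functions `a`, `b` and irreducible `χ`, `omega χ` is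
multiplicative; it is jointly injective on class functions; `omega ψ (blockCoeff B)` is the
indicator of `B`; integrality.
-/

set_option autoImplicit false

namespace Cfsg.Agent.Lib.Helper24

open Cfsg.Agent.Lib.Helper2
open scoped ComplexConjugate

section

variable {G : Type*} [Group G] [Fintype G]

/-- convolution: the product of `∑ a g • g` and `∑ b g • g` in the group algebra. -/
noncomputable def conv (a b : G → ℂ) : G → ℂ := fun g => ∑ h : G, a h * b (h⁻¹ * g)

/-- the central character of `χ` at the element `∑ a g • g`. -/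
noncomputable def omega (χ a : G → ℂ) : ℂ := (∑ g : G, a g * χ g) / χ 1

theorem conv_apply (a b : G → ℂ) (g : G) : conv a b g = ∑ h : G, a h * b (h⁻¹ * g) := rfl

theorem repSum_conv {V : Type*} [AddCommGroup V] [Module ℂ V] (ρ : Representation ℂ G V)
    (a b : G → ℂ) : repSum ρ (conv a b) = repSum ρ a * repSum ρ b := by
  unfold repSum
  rw [Finset.sum_mul]
  simp only [conv_apply, Finset.sum_smul, Finset.mul_sum]
  rw [Finset.sum_comm]
  apply Finset.sum_congr rfl; intro h _
  rw [← Equiv.sum_comp (Equiv.mulLeft h)]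
  apply Finset.sum_congr rfl; intro k _
  simp only [Equiv.coe_mulLeft, inv_mul_cancel_left, map_mul]
  rw [smul_mul_smul_comm]

theorem conv_isClassFunction (a b : G → ℂ) (ha : Cfsg.IsClassFunction G a)
    (hb : Cfsg.IsClassFunction G b) : Cfsg.IsClassFunction G (conv a b) := by
  intro g x
  rw [conv_apply, conv_apply, ← Equiv.sum_comp (MulAut.conj x).toEquiv]
  apply Finset.sum_congr rfl; intro h _
  have e1 : (MulAut.conj x).toEquiv h = x * h * x⁻¹ := rfl
  rw [e1, ha h x]
  congr 1
  have e2 : (x * h * x⁻¹)⁻¹ * (x * g * x⁻¹) = x * (h⁻¹ * g) * x⁻¹ := by group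
  rw [e2, hb]

theorem omega_add (χ a b : G → ℂ) : omega χ (a + b) = omega χ a + omega χ b := by
  unfold omega
  simp only [Pi.add_apply, add_mul, Finset.sum_add_distrib, add_div]

theorem omega_smul (χ : G → ℂ) (c : ℂ) (a : G → ℂ) : omega χ (c • a) = c * omega χ a := by
  unfold omega
  simp only [Pi.smul_apply, smul_eq_mul, mul_assoc, ← Finset.mul_sum, mul_div_assoc]

theorem omega_neg (χ a : G → ℂ) : omega χ (-a) = - omega χ a := by
  unfold omega
  simp only [Pi.neg_apply, neg_mul, Finset.sum_neg_distrib, neg_div]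

theorem omega_sub (χ a b : G → ℂ) : omega χ (a - b) = omega χ a - omega χ b := by
  rw [sub_eq_add_neg, omega_add, omega_neg, sub_eq_add_neg]

theorem omega_zero (χ : G → ℂ) : omega χ 0 = 0 := by
  unfold omega
  simp

/-- the identity of the group algebra -/
noncomputable def deltaOne : G → ℂ := fun g => by classical exact if g = 1 then 1 else 0

theorem omega_deltaOne (χ : G → ℂ) (h : χ 1 ≠ 0) : omega χ deltaOne = 1 := by
  classical
  unfold omega deltaOne
  simp only [ite_mul, one_mul, zero_mul, Finset.sum_ite_eq', Finset.mem_univ, if_true]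
  exact div_self h

theorem deltaOne_isClassFunction : Cfsg.IsClassFunction G (deltaOne : G → ℂ) := by
  classical
  intro g x
  unfold deltaOne
  have : x * g * x⁻¹ = 1 ↔ g = 1 := by
    constructor
    · intro h
      have : g = x⁻¹ * (x * g * x⁻¹) * x := by group
      rw [this, h]; group
    · rintro rfl; group
  by_cases hg : g = 1
  · rw [if_pos hg, if_pos (this.mpr hg)]
  · rw [if_neg hg, if_neg (fun h => hg (this.mp h))]

theorem omega_conv (χ : Cfsg.IrrCharacter G) (a b : G → ℂ) (ha : Cfsg.IsClassFunction G a)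
    (hb : Cfsg.IsClassFunction G b) :
    omega (χ : G → ℂ) (conv a b) = omega (χ : G → ℂ) a * omega (χ : G → ℂ) b := by
  obtain ⟨n, ρ, hρ, hρχ⟩ := χ.2
  haveI := hρ
  have h1 := repSum_irreducible ρ a ha
  have h2 := repSum_irreducible ρ b hb
  have h3 := repSum_conv ρ a b
  have htr := trace_repSum ρ (conv a b)
  have hn : (Module.finrank ℂ (Fin n → ℂ) : ℂ) = (χ : G → ℂ) 1 := by
    rw [← hρχ, Representation.char_one]
  have hne : (χ : G → ℂ) 1 ≠ 0 := Cfsg.Agent.Lib.Helper25.irr_one_ne_zero χ.2
  rw [h3, h1, h2, hn, hρχ] at htr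
  rw [smul_mul_smul_comm, map_smul] at htr
  have e : (LinearMap.id : (Fin n → ℂ) →ₗ[ℂ] (Fin n → ℂ)) * LinearMap.id = LinearMap.id := rfl
  rw [e, LinearMap.trace_id, hn, smul_eq_mul] at htr
  unfold omega
  rw [← htr]
  field_simp

/-- joint injectivity of the central characters on class functions -/
theorem eq_zero_of_omega_eq_zero (a : G → ℂ) (ha : Cfsg.IsClassFunction G a)
    (h : ∀ χ : Cfsg.IrrCharacter G, omega (χ : G → ℂ) a = 0) : a = 0 := by
  apply eq_zero_of_sum_mul_irr_eq_zero a ha
  intro χ
  have hne : (χ : G → ℂ) 1 ≠ 0 := Cfsg.Agent.Lib.Helper25.irr_one_ne_zero χ.2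
  have := h χ
  unfold omega at this
  rcases div_eq_zero_iff.mp this with h | h
  · exact h
  · exact absurd h hne

theorem eq_of_omega_eq (a b : G → ℂ) (ha : Cfsg.IsClassFunction G a)
    (hb : Cfsg.IsClassFunction G b)
    (h : ∀ χ : Cfsg.IrrCharacter G, omega (χ : G → ℂ) a = omega (χ : G → ℂ) b) : a = b := by
  have := eq_zero_of_omega_eq_zero (a - b) (isClassFunction_sub ha hb) (by
    intro χ
    rw [omega_sub, h χ, sub_self])
  exact sub_eq_zero.mp this

end

end Cfsg.Agent.Lib.Helper24
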