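import Mathlib
import Cfsg.Prelude.Def_Blocks
import Cfsg.Agent.Lib.Helper24.CenterFn

/-!
# Block idempotents as class functions, integrality of central characters (helper24)
-/

set_option autoImplicit false

namespace Cfsg.Agent.Lib.Helper24

open Cfsg.Agent.Lib.Helper2
open scoped ComplexConjugate

section

variable {G : Type*} [Group G] [Fintype G]

theorem finsum_mem_eq_sum_ite {ι : Type*} [Fintype ι] (B : Set ι) [DecidablePred (· ∈ B)]
    (f : ι → ℂ) : ∑ᶠ i ∈ B, f i = ∑ i, if i ∈ B then f i else 0 := by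
  rw [finsum_mem_def, finsum_eq_sum_of_fintype]
  apply Finset.sum_congr rfl; intro i _
  by_cases h : i ∈ B
  · rw [Set.indicator_of_mem h, if_pos h]
  · rw [Set.indicator_of_notMem h, if_neg h]

theorem blockCoeff_eq_sum [Fintype (Cfsg.IrrCharacter G)] (B : Set (Cfsg.IrrCharacter G))
    [DecidablePred (· ∈ B)] (g : G) :
    Cfsg.blockCoeff B g = (Nat.card G : ℂ)⁻¹ *
      ∑ χ : Cfsg.IrrCharacter G, if χ ∈ B then (χ : G → ℂ) 1 * conj ((χ : G → ℂ) g) else 0 := by
  unfold Cfsg.blockCoeff
  rw [finsum_mem_eq_sum_ite]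

theorem blockCoeff_isClassFunction (B : Set (Cfsg.IrrCharacter G)) :
    Cfsg.IsClassFunction G (Cfsg.blockCoeff B) := by
  classical
  haveI : Fintype (Cfsg.IrrCharacter G) := Fintype.ofFinite _
  intro g x
  rw [blockCoeff_eq_sum, blockCoeff_eq_sum]
  congr 1
  apply Finset.sum_congr rfl; intro χ _
  rw [IrrCharacter.isClassFunction χ g x]

theorem omega_blockCoeff (B : Set (Cfsg.IrrCharacter G)) (ψ : Cfsg.IrrCharacter G)
    [Decidable (ψ ∈ B)] :
    omega (ψ : G → ℂ) (Cfsg.blockCoeff B) = if ψ ∈ B then 1 else 0 := by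
  classical
  haveI : Fintype (Cfsg.IrrCharacter G) := Fintype.ofFinite _
  have hne : (ψ : G → ℂ) 1 ≠ 0 := Cfsg.Agent.Lib.Helper25.irr_one_ne_zero ψ.2
  unfold omega
  have h1 : ∑ g : G, Cfsg.blockCoeff B g * (ψ : G → ℂ) g
      = ∑ χ : Cfsg.IrrCharacter G, if χ ∈ B then (χ : G → ℂ) 1 *
          Cfsg.classInner (ψ : G → ℂ) (χ : G → ℂ) else 0 := by
    simp only [blockCoeff_eq_sum, Finset.mul_sum, Finset.sum_mul]
    rw [Finset.sum_comm]
    apply Finset.sum_congr rfl; intro χ _
    by_cases hχ : χ ∈ B
    · simp only [if_pos hχ]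
      rw [classInner_def, Finset.mul_sum, Finset.mul_sum]
      apply Finset.sum_congr rfl; intro g _
      ring
    · simp only [if_neg hχ]
      simp
  rw [h1]
  have h2 : ∀ χ : Cfsg.IrrCharacter G, (if χ ∈ B then (χ : G → ℂ) 1 *
          Cfsg.classInner (ψ : G → ℂ) (χ : G → ℂ) else 0)
      = if χ = ψ then (if ψ ∈ B then (ψ : G → ℂ) 1 else 0) else 0 := by
    intro χ
    rw [classInner_irrCharacter]
    by_cases hχψ : χ = ψ
    · subst hχψ
      simp
    · have hne' : ¬ ψ = χ := fun h => hχψ h.symm
      simp [hχψ, hne']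
  rw [Finset.sum_congr rfl (fun χ _ => h2 χ), Finset.sum_ite_eq']
  simp only [Finset.mem_univ, if_true]
  split_ifs
  · exact div_self hne
  · simp

omit [Fintype G] in
theorem index_centralizer_conj [Finite G] (g x : G) :
    (Subgroup.centralizer ({x * g * x⁻¹} : Set G)).index
      = (Subgroup.centralizer ({g} : Set G)).index := by
  rw [index_centralizer_eq_card_conj, index_centralizer_eq_card_conj]
  have hc : IsConj g (x * g * x⁻¹) := isConj_iff.mpr ⟨x, rfl⟩
  apply Nat.card_congr
  apply Equiv.subtypeEquivRight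
  intro y
  exact ⟨fun h => hc.trans h, fun h => hc.symm.trans h⟩

omit [Fintype G] in
theorem index_centralizer_eq_of_isConj [Finite G] {g h : G} (hc : IsConj g h) :
    (Subgroup.centralizer ({g} : Set G)).index
      = (Subgroup.centralizer ({h} : Set G)).index := by
  obtain ⟨x, rfl⟩ := isConj_iff.mp hc
  exact (index_centralizer_conj g x).symm

omit [Fintype G] in
theorem index_centralizer_ne_zero [Finite G] (g : G) :
    ((Subgroup.centralizer ({g} : Set G)).index : ℂ) ≠ 0 := by
  have : (Subgroup.centralizer ({g} : Set G)).index ≠ 0 := Subgroup.index_ne_zero_of_finite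
  exact_mod_cast this

omit [Fintype G] in
theorem centralChar_isClassFunction [Finite G] (χ : G → ℂ) (hχ : Cfsg.IsClassFunction G χ) :
    Cfsg.IsClassFunction G (Cfsg.centralChar χ) := by
  intro g x
  unfold Cfsg.centralChar
  rw [index_centralizer_conj, hχ]

theorem centralChar_isIntegral (χ : Cfsg.IrrCharacter G) (g : G) :
    IsIntegral ℤ (Cfsg.centralChar (χ : G → ℂ) g) := by
  obtain ⟨n, ρ, hρ, hρχ⟩ := χ.2
  haveI := hρ
  have h := isIntegral_index_centralizer_mul_char_div ρ g
  have hn : (Module.finrank ℂ (Fin n → ℂ) : ℂ) = (χ : G → ℂ) 1 := by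
    rw [← hρχ, Representation.char_one]
  unfold Cfsg.centralChar
  rw [hn, hρχ] at h
  exact h

theorem omega_classIndicator (χ : G → ℂ) (hχ : Cfsg.IsClassFunction G χ) (h : G) :
    omega χ (classIndicator h) = Cfsg.centralChar χ h := by
  classical
  unfold omega Cfsg.centralChar
  congr 1
  have : ∀ x : G, classIndicator h x * χ x = if IsConj h x then χ h else 0 := by
    intro x
    unfold classIndicator
    by_cases hx : IsConj h x
    · rw [if_pos hx, if_pos hx, one_mul, IsClassFunction.eq_of_isConj hχ hx]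
    · rw [if_neg hx, if_neg hx, zero_mul]
  simp only [this]
  rw [← Finset.sum_filter, Finset.sum_const, nsmul_eq_mul, index_centralizer_eq_card_conj,
    Nat.card_eq_fintype_card, Fintype.card_subtype]

open Classical in
/-- each class has total weight one -/
theorem sum_class_weight (C : ConjClasses G) :
    ∑ q : G, (if ConjClasses.mk q = C then
      ((Subgroup.centralizer ({q} : Set G)).index : ℂ)⁻¹ else 0) = 1 := by
  obtain ⟨q0, rfl⟩ := ConjClasses.exists_rep C
  have h1 : ∀ q : G, ConjClasses.mk q = ConjClasses.mk q0 →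
      (Subgroup.centralizer ({q} : Set G)).index = (Subgroup.centralizer ({q0} : Set G)).index := by
    intro q hq
    exact index_centralizer_eq_of_isConj (ConjClasses.mk_eq_mk_iff_isConj.mp hq)
  have h2 : ∀ q : G, (if ConjClasses.mk q = ConjClasses.mk q0 then
      ((Subgroup.centralizer ({q} : Set G)).index : ℂ)⁻¹ else 0)
      = if ConjClasses.mk q = ConjClasses.mk q0 then
      ((Subgroup.centralizer ({q0} : Set G)).index : ℂ)⁻¹ else 0 := by
    intro q
    split_ifs with h
    · rw [h1 q h]
    · rfl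
  rw [Finset.sum_congr rfl (fun q _ => h2 q), ← Finset.sum_filter, Finset.sum_const,
    nsmul_eq_mul]
  have h3 : (Finset.univ.filter (fun q : G => ConjClasses.mk q = ConjClasses.mk q0)).card
      = (Subgroup.centralizer ({q0} : Set G)).index := by
    rw [index_centralizer_eq_card_conj, Nat.card_eq_fintype_card, Fintype.card_subtype]
    congr 1
    apply Finset.filter_congr
    intro q _
    rw [ConjClasses.mk_eq_mk_iff_isConj]
    exact ⟨fun h => h.symm, fun h => h.symm⟩
  rw [h3]
  exact mul_inv_cancel₀ (index_centralizer_ne_zero q0)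

/-- A sum `∑ g, f g / |class of g|` of a class function with values in an additive submonoid
lies in the submonoid. -/
theorem sum_mul_inv_index_mem (S : AddSubmonoid ℂ) (f : G → ℂ) (hf : Cfsg.IsClassFunction G f)
    (h : ∀ g, f g ∈ S) :
    ∑ g : G, f g * ((Subgroup.centralizer ({g} : Set G)).index : ℂ)⁻¹ ∈ S := by
  classical
  haveI : Fintype (ConjClasses G) := Fintype.ofFinite _
  have h1 : ∀ g : G, f g * ((Subgroup.centralizer ({g} : Set G)).index : ℂ)⁻¹
      = ∑ C : ConjClasses G, if ConjClasses.mk g = C then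
          f g * ((Subgroup.centralizer ({g} : Set G)).index : ℂ)⁻¹ else 0 := by
    intro g
    rw [Finset.sum_ite_eq]
    simp
  rw [Finset.sum_congr rfl (fun g _ => h1 g), Finset.sum_comm]
  apply AddSubmonoid.sum_mem
  intro C _
  obtain ⟨q0, rfl⟩ := ConjClasses.exists_rep C
  have h2 : ∀ g : G, (if ConjClasses.mk g = ConjClasses.mk q0 then
          f g * ((Subgroup.centralizer ({g} : Set G)).index : ℂ)⁻¹ else 0)
      = f q0 * (if ConjClasses.mk g = ConjClasses.mk q0 then
          ((Subgroup.centralizer ({g} : Set G)).index : ℂ)⁻¹ else 0) := by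
    intro g
    split_ifs with hg
    · rw [IsClassFunction.eq_of_isConj hf (ConjClasses.mk_eq_mk_iff_isConj.mp hg)]
    · simp
  rw [Finset.sum_congr rfl (fun g _ => h2 g), ← Finset.mul_sum, sum_class_weight, mul_one]
  exact h q0

theorem omega_eq_sum (χ a : G → ℂ) :
    omega χ a = ∑ g : G, (a g * Cfsg.centralChar χ g)
      * ((Subgroup.centralizer ({g} : Set G)).index : ℂ)⁻¹ := by
  unfold omega Cfsg.centralChar
  rw [Finset.sum_div]
  apply Finset.sum_congr rfl; intro g _
  have := index_centralizer_ne_zero g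
  field_simp

variable {p : ℕ} {M : Ideal Cfsg.AlgInt}

/-- the local ideal as an additive submonoid of `ℂ` -/
def MlocC (hM : Cfsg.IsPModular p M) : AddSubmonoid ℂ where
  carrier := {z | Cfsg.MemLocalIdeal M z}
  add_mem' := fun hz hw => memLocalIdeal_add hM hz hw
  zero_mem' := memLocalIdeal_zero hM

theorem centralChar_memLocalRing (hM : Cfsg.IsPModular p M) (χ : Cfsg.IrrCharacter G) (g : G) :
    Cfsg.MemLocalRing M (Cfsg.centralChar (χ : G → ℂ) g) :=
  memLocalRing_of_isIntegral hM (centralChar_isIntegral χ g)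

/-- central characters take local-integral values on central elements with local-integral
coefficients -/
theorem omega_memLocalRing (hM : Cfsg.IsPModular p M) (χ : Cfsg.IrrCharacter G) (a : G → ℂ)
    (ha : Cfsg.IsClassFunction G a) (hint : ∀ g, Cfsg.MemLocalRing M (a g)) :
    Cfsg.MemLocalRing M (omega (χ : G → ℂ) a) := by
  rw [omega_eq_sum]
  apply sum_mul_inv_index_mem (Rloc hM).toAddSubmonoid
  · intro g x
    simp only
    rw [ha, centralChar_isClassFunction _ (IrrCharacter.isClassFunction χ)]
  · intro g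
    exact memLocalRing_mul hM (hint g) (centralChar_memLocalRing hM χ g)

/-- characters in the same block have congruent central characters on all central elements with
local-integral coefficients -/
theorem omega_sub_memLocalIdeal (hM : Cfsg.IsPModular p M) (χ ψ : Cfsg.IrrCharacter G)
    (hsame : Cfsg.SameBlock M (χ : G → ℂ) (ψ : G → ℂ)) (a : G → ℂ)
    (ha : Cfsg.IsClassFunction G a) (hint : ∀ g, Cfsg.MemLocalRing M (a g)) :
    Cfsg.MemLocalIdeal M (omega (χ : G → ℂ) a - omega (ψ : G → ℂ) a) := by
  rw [omega_eq_sum, omega_eq_sum, ← Finset.sum_sub_distrib]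
  have e : ∀ g : G, (a g * Cfsg.centralChar (χ : G → ℂ) g)
      * ((Subgroup.centralizer ({g} : Set G)).index : ℂ)⁻¹
      - (a g * Cfsg.centralChar (ψ : G → ℂ) g)
      * ((Subgroup.centralizer ({g} : Set G)).index : ℂ)⁻¹
      = (a g * (Cfsg.centralChar (χ : G → ℂ) g - Cfsg.centralChar (ψ : G → ℂ) g))
      * ((Subgroup.centralizer ({g} : Set G)).index : ℂ)⁻¹ := by
    intro g; ring
  rw [Finset.sum_congr rfl (fun g _ => e g)]
  apply sum_mul_inv_index_mem (MlocC hM)
  · intro g x
    simp only
    rw [ha, centralChar_isClassFunction _ (IrrCharacter.isClassFunction χ),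
      centralChar_isClassFunction _ (IrrCharacter.isClassFunction ψ)]
  · intro g
    exact memLocalIdeal_mul_left hM (hint g) (hsame g)

end

end Cfsg.Agent.Lib.Helper24
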