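import Mathlib
import Cfsg.Prelude.Def_Blocks
import Cfsg.Agent.Lib.Helper24.BlockBasic

/-!
# Osima's theorem: block idempotents have local-integral coefficients (helper24)

Main results:
* `indicator_mem_of_separating`: an abstract lemma on subrings of a finite product of copies of
  `ℂ` whose coordinates lie in the local ring.
* `blockCoeff_mem_of_separating`: if a set `S` of class functions with local-integral values is
  closed under the algebra operations and separates blocks, it contains every block idempotent.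
* `blockCoeff_memLocalRing`: Osima: `MemLocalRing M (blockCoeff B g)` for a block `B`.
* `blockCoeff_eq_zero_of_notMem`: support of block idempotents in a normal subgroup `H`
  outside of which all central characters vanish mod `M`.
-/

set_option autoImplicit false

namespace Cfsg.Agent.Lib.Helper24

open Cfsg.Agent.Lib.Helper2
open scoped ComplexConjugate

section Abstract

variable {p : ℕ} {M : Ideal Cfsg.AlgInt}

theorem prod_sub_one_memLocalIdeal (hM : Cfsg.IsPModular p M) {ι : Type*} (s : Finset ι)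
    (f : ι → ℂ) (hf : ∀ i ∈ s, Cfsg.MemLocalRing M (f i))
    (h : ∀ i ∈ s, Cfsg.MemLocalIdeal M (f i - 1)) :
    Cfsg.MemLocalIdeal M (∏ i ∈ s, f i - 1) := by
  classical
  induction s using Finset.induction_on with
  | empty => simpa using memLocalIdeal_zero hM
  | insert a s ha ih =>
    rw [Finset.prod_insert ha]
    have h1 := ih (fun i hi => hf i (Finset.mem_insert_of_mem hi))
      (fun i hi => h i (Finset.mem_insert_of_mem hi))
    have h2 := h a (Finset.mem_insert_self a s)
    have h3 := hf a (Finset.mem_insert_self a s)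
    have e : f a * ∏ i ∈ s, f i - 1 = f a * (∏ i ∈ s, f i - 1) + (f a - 1) := by ring
    rw [e]
    exact memLocalIdeal_add hM (memLocalIdeal_mul_left hM h3 h1) h2

theorem prod_not_memLocalIdeal (hM : Cfsg.IsPModular p M) {ι : Type*} (s : Finset ι)
    (f : ι → ℂ) (hf : ∀ i ∈ s, Cfsg.MemLocalRing M (f i))
    (h : ∀ i ∈ s, ¬ Cfsg.MemLocalIdeal M (f i)) :
    ¬ Cfsg.MemLocalIdeal M (∏ i ∈ s, f i) := by
  classical
  induction s using Finset.induction_on with
  | empty => simpa using not_memLocalIdeal_one hM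
  | insert a s ha ih =>
    rw [Finset.prod_insert ha]
    intro hcon
    rcases memLocalIdeal_or_of_mul hM (hf a (Finset.mem_insert_self a s))
      (memLocalRing_prod hM s f (fun i hi => hf i (Finset.mem_insert_of_mem hi))) hcon with h1 | h1
    · exact h a (Finset.mem_insert_self a s) h1
    · exact ih (fun i hi => hf i (Finset.mem_insert_of_mem hi))
        (fun i hi => h i (Finset.mem_insert_of_mem hi)) h1

/-- Abstract idempotent lemma: a subring `Z` of `ι → ℂ` (`ι` finite) with local-integral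
coordinates, containing the local-integral constants; if `B ⊆ ι` is a class of the congruence
relation mod the local ideal defined by `Z`, then the indicator of `B` lies in `Z`. -/
theorem indicator_mem_of_separating (hM : Cfsg.IsPModular p M) {ι : Type*} [Fintype ι]
    (Z : Subring (ι → ℂ))
    (hR : ∀ z ∈ Z, ∀ i, Cfsg.MemLocalRing M (z i))
    (hconst : ∀ r : ℂ, Cfsg.MemLocalRing M r → (fun _ : ι => r) ∈ Z)
    (B : Set ι) [DecidablePred (· ∈ B)]
    (hB1 : ∀ i ∈ B, ∀ j ∈ B, ∀ z ∈ Z, Cfsg.MemLocalIdeal M (z i - z j))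
    (hB2 : ∀ i ∈ B, ∀ j, j ∉ B → ∃ z ∈ Z, ¬ Cfsg.MemLocalIdeal M (z i - z j)) :
    (fun i => if i ∈ B then (1 : ℂ) else 0) ∈ Z := by
  classical
  by_cases hemp : B = ∅
  · have : (fun i => if i ∈ B then (1 : ℂ) else 0) = 0 := by
      ext i
      simp [hemp]
    rw [this]
    exact Z.zero_mem
  obtain ⟨i₀, hi₀⟩ := Set.nonempty_iff_ne_empty.mpr hemp
  -- the separating elements
  have hex : ∀ j : ι, ∃ w ∈ Z, (j ∉ B → w j = 0 ∧ w i₀ = 1) := by
    intro j
    by_cases hj : j ∈ B
    · exact ⟨1, Z.one_mem, fun h => absurd hj h⟩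
    · obtain ⟨z, hz, hzne⟩ := hB2 i₀ hi₀ j hj
      have hunit : Cfsg.MemLocalRing M (z i₀ - z j)⁻¹ :=
        memLocalRing_inv hM (memLocalRing_sub hM (hR z hz i₀) (hR z hz j)) hzne
      have hne : z i₀ - z j ≠ 0 := by
        intro h0
        rw [h0] at hzne
        exact hzne (memLocalIdeal_zero hM)
      refine ⟨(z - fun _ => z j) * (fun _ => (z i₀ - z j)⁻¹), ?_, fun _ => ⟨?_, ?_⟩⟩
      · exact Z.mul_mem (Z.sub_mem hz (hconst _ (hR z hz j))) (hconst _ hunit)
      · simp
      · simp only [Pi.mul_apply, Pi.sub_apply]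
        exact mul_inv_cancel₀ hne
  choose w hwZ hw using hex
  -- u = product of the w j over j ∉ B
  set u : ι → ℂ := ∏ j ∈ Finset.univ.filter (fun j => j ∉ B), w j with hu
  have huZ : u ∈ Z := Z.prod_mem (fun j _ => hwZ j)
  have hu0 : ∀ j, j ∉ B → u j = 0 := by
    intro j hj
    rw [hu, Finset.prod_apply]
    apply Finset.prod_eq_zero (i := j)
    · simp [hj]
    · exact (hw j hj).1
  have hu1 : ∀ i ∈ B, Cfsg.MemLocalIdeal M (u i - 1) := by
    intro i hi
    rw [hu, Finset.prod_apply]
    apply prod_sub_one_memLocalIdeal hM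
    · intro j _
      exact hR _ (hwZ j) i
    · intro j hj
      have hjB : j ∉ B := by simpa using hj
      have := hB1 i hi i₀ hi₀ (w j) (hwZ j)
      rwa [(hw j hjB).2] at this
  have huR : ∀ i, Cfsg.MemLocalRing M (u i) := hR u huZ
  have hunot : ∀ i ∈ B, ¬ Cfsg.MemLocalIdeal M (u i) := by
    intro i hi hcon
    have := memLocalIdeal_sub hM hcon (hu1 i hi)
    rw [sub_sub_cancel] at this
    exact not_memLocalIdeal_one hM this
  -- v = product over i ∈ B of (u - u i)
  set v : ι → ℂ := ∏ i ∈ Finset.univ.filter (fun i => i ∈ B), (u - fun _ => u i) with hv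
  have hvZ : v ∈ Z := Z.prod_mem (fun i _ => Z.sub_mem huZ (hconst _ (huR i)))
  set κ : ℂ := ∏ i ∈ Finset.univ.filter (fun i => i ∈ B), (- u i) with hκ
  have hv0 : ∀ i ∈ B, v i = 0 := by
    intro i hi
    rw [hv, Finset.prod_apply]
    apply Finset.prod_eq_zero (i := i)
    · simp [hi]
    · simp
  have hv1 : ∀ j, j ∉ B → v j = κ := by
    intro j hj
    rw [hv, Finset.prod_apply, hκ]
    apply Finset.prod_congr rfl
    intro i _
    simp [hu0 j hj]
  have hκR : Cfsg.MemLocalRing M κ :=
    memLocalRing_prod hM _ _ (fun i _ => memLocalRing_neg (huR i))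
  have hκnot : ¬ Cfsg.MemLocalIdeal M κ := by
    apply prod_not_memLocalIdeal hM
    · intro i _
      exact memLocalRing_neg (huR i)
    · intro i hi hcon
      have hiB : i ∈ B := by simpa using hi
      have := memLocalIdeal_neg hcon
      rw [neg_neg] at this
      exact hunot i hiB this
  have hκne : κ ≠ 0 := by
    intro h0
    rw [h0] at hκnot
    exact hκnot (memLocalIdeal_zero hM)
  have hκinv : Cfsg.MemLocalRing M κ⁻¹ := memLocalRing_inv hM hκR hκnot
  have hfinal : (fun i => if i ∈ B then (1 : ℂ) else 0) = 1 - (fun _ => κ⁻¹) * v := by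
    ext i
    simp only [Pi.sub_apply, Pi.one_apply, Pi.mul_apply]
    by_cases hi : i ∈ B
    · rw [if_pos hi, hv0 i hi, mul_zero, sub_zero]
    · rw [if_neg hi, hv1 i hi, inv_mul_cancel₀ hκne, sub_self]
  rw [hfinal]
  exact Z.sub_mem Z.one_mem (Z.mul_mem (hconst _ hκinv) hvZ)

end Abstract

section Concrete

variable {G : Type*} [Group G] [Fintype G] {p : ℕ} {M : Ideal Cfsg.AlgInt}

omit [Fintype G] in
theorem sameBlock_symm (hM : Cfsg.IsPModular p M) {χ ψ : G → ℂ} (h : Cfsg.SameBlock M χ ψ) :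
    Cfsg.SameBlock M ψ χ := by
  intro g
  have := memLocalIdeal_neg (h g)
  rwa [neg_sub] at this

omit [Fintype G] in
theorem sameBlock_trans (hM : Cfsg.IsPModular p M) {χ ψ θ : G → ℂ} (h1 : Cfsg.SameBlock M χ ψ)
    (h2 : Cfsg.SameBlock M ψ θ) : Cfsg.SameBlock M χ θ := by
  intro g
  have := memLocalIdeal_add hM (h1 g) (h2 g)
  rwa [sub_add_sub_cancel] at this

omit [Fintype G] in
theorem sameBlock_refl (hM : Cfsg.IsPModular p M) (χ : G → ℂ) : Cfsg.SameBlock M χ χ := by
  intro g
  rw [sub_self]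
  exact memLocalIdeal_zero hM

/-- General form of Osima's theorem: a set `S` of class functions with local-integral values,
closed under the algebra operations and separating blocks, contains every block idempotent. -/
theorem blockCoeff_mem_of_separating (hM : Cfsg.IsPModular p M) (S : Set (G → ℂ))
    (hS_cf : ∀ a ∈ S, Cfsg.IsClassFunction G a)
    (hS_int : ∀ a ∈ S, ∀ g, Cfsg.MemLocalRing M (a g))
    (hS_add : ∀ a ∈ S, ∀ b ∈ S, a + b ∈ S)
    (hS_neg : ∀ a ∈ S, -a ∈ S)
    (hS_conv : ∀ a ∈ S, ∀ b ∈ S, conv a b ∈ S)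
    (hS_smul : ∀ r : ℂ, Cfsg.MemLocalRing M r → ∀ a ∈ S, r • a ∈ S)
    (hS_one : (deltaOne : G → ℂ) ∈ S)
    (hS_sep : ∀ χ ψ : Cfsg.IrrCharacter G, ¬ Cfsg.SameBlock M (χ : G → ℂ) (ψ : G → ℂ) →
      ∃ a ∈ S, ¬ Cfsg.MemLocalIdeal M (omega (χ : G → ℂ) a - omega (ψ : G → ℂ) a))
    (χ : Cfsg.IrrCharacter G) : Cfsg.blockCoeff (Cfsg.blockOf M (χ : G → ℂ)) ∈ S := by
  classical
  haveI : Fintype (Cfsg.IrrCharacter G) := Fintype.ofFinite _
  have hne1 : ∀ ψ : Cfsg.IrrCharacter G, (ψ : G → ℂ) 1 ≠ 0 :=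
    fun ψ => Cfsg.Agent.Lib.Helper25.irr_one_ne_zero ψ.2
  have hS_zero : (0 : G → ℂ) ∈ S := by
    have := hS_smul 0 (memLocalRing_zero hM) _ hS_one
    simpa using this
  let Z : Subring (Cfsg.IrrCharacter G → ℂ) :=
    { carrier := {z | ∃ a ∈ S, ∀ ψ : Cfsg.IrrCharacter G, z ψ = omega (ψ : G → ℂ) a}
      mul_mem' := by
        rintro z w ⟨a, ha, hza⟩ ⟨b, hb, hwb⟩
        refine ⟨conv a b, hS_conv a ha b hb, fun ψ => ?_⟩
        rw [omega_conv ψ a b (hS_cf a ha) (hS_cf b hb), Pi.mul_apply, hza, hwb]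
      one_mem' := ⟨deltaOne, hS_one, fun ψ => by rw [omega_deltaOne _ (hne1 ψ)]; rfl⟩
      add_mem' := by
        rintro z w ⟨a, ha, hza⟩ ⟨b, hb, hwb⟩
        refine ⟨a + b, hS_add a ha b hb, fun ψ => ?_⟩
        rw [omega_add, Pi.add_apply, hza, hwb]
      zero_mem' := ⟨0, hS_zero, fun ψ => by rw [omega_zero]; rfl⟩
      neg_mem' := by
        rintro z ⟨a, ha, hza⟩
        refine ⟨-a, hS_neg a ha, fun ψ => ?_⟩
        rw [omega_neg, Pi.neg_apply, hza] }
  have hmemZ : ∀ z, z ∈ Z ↔ ∃ a ∈ S, ∀ ψ : Cfsg.IrrCharacter G, z ψ = omega (ψ : G → ℂ) a :=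
    fun z => Iff.rfl
  set B := Cfsg.blockOf M (χ : G → ℂ) with hB
  have hmemB : ∀ ψ : Cfsg.IrrCharacter G, ψ ∈ B ↔ Cfsg.SameBlock M (χ : G → ℂ) (ψ : G → ℂ) :=
    fun ψ => Iff.rfl
  have hind := indicator_mem_of_separating hM Z
    (by
      rintro z ⟨a, ha, hza⟩ ψ
      rw [hza]
      exact omega_memLocalRing hM ψ a (hS_cf a ha) (hS_int a ha))
    (by
      intro r hr
      refine ⟨r • deltaOne, hS_smul r hr _ hS_one, fun ψ => ?_⟩
      rw [omega_smul, omega_deltaOne _ (hne1 ψ), mul_one])
    B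
    (by
      rintro ψ₁ h1 ψ₂ h2 z ⟨a, ha, hza⟩
      rw [hza, hza]
      have hsame : Cfsg.SameBlock M (ψ₁ : G → ℂ) (ψ₂ : G → ℂ) :=
        sameBlock_trans hM (sameBlock_symm hM ((hmemB ψ₁).mp h1)) ((hmemB ψ₂).mp h2)
      exact omega_sub_memLocalIdeal hM ψ₁ ψ₂ hsame a (hS_cf a ha) (hS_int a ha))
    (by
      intro ψ₁ h1 ψ₂ h2
      have hns : ¬ Cfsg.SameBlock M (ψ₁ : G → ℂ) (ψ₂ : G → ℂ) := by
        intro hs
        exact h2 ((hmemB ψ₂).mpr (sameBlock_trans hM ((hmemB ψ₁).mp h1) hs))
      obtain ⟨a, ha, hane⟩ := hS_sep ψ₁ ψ₂ hns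
      exact ⟨fun ψ => omega (ψ : G → ℂ) a, ⟨a, ha, fun _ => rfl⟩, hane⟩)
  obtain ⟨a, ha, hza⟩ := hind
  have : a = Cfsg.blockCoeff B := by
    apply eq_of_omega_eq a _ (hS_cf a ha) (blockCoeff_isClassFunction B)
    intro ψ
    rw [← hza ψ, omega_blockCoeff]
  rw [← this]
  exact ha

/-- **Osima's theorem** (integrality): the coefficients of a block idempotent are local
integers. -/
theorem blockCoeff_memLocalRing (hM : Cfsg.IsPModular p M) (B : Set (Cfsg.IrrCharacter G))
    (hB : Cfsg.IsPBlock M B) (g : G) : Cfsg.MemLocalRing M (Cfsg.blockCoeff B g) := by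
  obtain ⟨χ, rfl⟩ := hB
  have key := blockCoeff_mem_of_separating hM
    {a | Cfsg.IsClassFunction G a ∧ ∀ g, Cfsg.MemLocalRing M (a g)}
    (fun a ha => ha.1) (fun a ha => ha.2)
    (fun a ha b hb => ⟨isClassFunction_add ha.1 hb.1,
      fun g => memLocalRing_add hM (ha.2 g) (hb.2 g)⟩)
    (fun a ha => ⟨isClassFunction_neg ha.1, fun g => memLocalRing_neg (ha.2 g)⟩)
    (fun a ha b hb => ⟨conv_isClassFunction a b ha.1 hb.1, fun g =>
      memLocalRing_sum hM _ _ (fun h _ => memLocalRing_mul hM (ha.2 h) (hb.2 _))⟩)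
    (fun r hr a ha => ⟨isClassFunction_smul r ha.1, fun g => memLocalRing_mul hM hr (ha.2 g)⟩)
    ⟨deltaOne_isClassFunction, fun g => by
      classical
      unfold deltaOne
      split_ifs
      · exact memLocalRing_one hM
      · exact memLocalRing_zero hM⟩
    (by
      intro χ ψ hns
      unfold Cfsg.SameBlock at hns
      push Not at hns
      obtain ⟨g, hg⟩ := hns
      refine ⟨classIndicator g, ⟨classIndicator_isClassFunction g, fun x => ?_⟩, ?_⟩
      · classical
        unfold classIndicator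
        split_ifs
        · exact memLocalRing_one hM
        · exact memLocalRing_zero hM
      · rw [omega_classIndicator _ (IrrCharacter.isClassFunction χ),
          omega_classIndicator _ (IrrCharacter.isClassFunction ψ)]
        exact hg)
    χ
  exact key.2 g

/-- Support of block idempotents: if `H` is a normal subgroup outside of which every central
character vanishes modulo the local ideal, then block idempotents are supported on `H`. -/
theorem blockCoeff_eq_zero_of_notMem (hM : Cfsg.IsPModular p M) (H : Subgroup G) [H.Normal]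
    (hH : ∀ g : G, g ∉ H → ∀ χ : Cfsg.IrrCharacter G,
      Cfsg.MemLocalIdeal M (Cfsg.centralChar (χ : G → ℂ) g))
    (B : Set (Cfsg.IrrCharacter G)) (hB : Cfsg.IsPBlock M B) (g : G) (hg : g ∉ H) :
    Cfsg.blockCoeff B g = 0 := by
  obtain ⟨χ, rfl⟩ := hB
  have key := blockCoeff_mem_of_separating hM
    {a | Cfsg.IsClassFunction G a ∧ (∀ g, Cfsg.MemLocalRing M (a g)) ∧ ∀ g, g ∉ H → a g = 0}
    (fun a ha => ha.1) (fun a ha => ha.2.1)
    (fun a ha b hb => ⟨isClassFunction_add ha.1 hb.1,
      fun g => memLocalRing_add hM (ha.2.1 g) (hb.2.1 g),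
      fun g hg => by rw [Pi.add_apply, ha.2.2 g hg, hb.2.2 g hg, add_zero]⟩)
    (fun a ha => ⟨isClassFunction_neg ha.1, fun g => memLocalRing_neg (ha.2.1 g),
      fun g hg => by rw [Pi.neg_apply, ha.2.2 g hg, neg_zero]⟩)
    (fun a ha b hb => ⟨conv_isClassFunction a b ha.1 hb.1, fun g =>
      memLocalRing_sum hM _ _ (fun h _ => memLocalRing_mul hM (ha.2.1 h) (hb.2.1 _)),
      fun g hg => by
        rw [conv_apply]
        apply Finset.sum_eq_zero
        intro h _
        by_cases hh : h ∈ H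
        · have : h⁻¹ * g ∉ H := by
            intro hcon
            apply hg
            have := H.mul_mem hh hcon
            rwa [mul_inv_cancel_left] at this
          rw [hb.2.2 _ this, mul_zero]
        · rw [ha.2.2 h hh, zero_mul]⟩)
    (fun r hr a ha => ⟨isClassFunction_smul r ha.1, fun g => memLocalRing_mul hM hr (ha.2.1 g),
      fun g hg => by rw [Pi.smul_apply, ha.2.2 g hg, smul_zero]⟩)
    ⟨deltaOne_isClassFunction, fun g => by
      classical
      unfold deltaOne
      split_ifs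
      · exact memLocalRing_one hM
      · exact memLocalRing_zero hM, fun g hg => by
      classical
      unfold deltaOne
      rw [if_neg]
      rintro rfl
      exact hg H.one_mem⟩
    (by
      intro χ ψ hns
      unfold Cfsg.SameBlock at hns
      push Not at hns
      obtain ⟨g, hg⟩ := hns
      have hgH : g ∈ H := by
        by_contra hcon
        exact hg (memLocalIdeal_sub hM (hH g hcon χ) (hH g hcon ψ))
      refine ⟨classIndicator g, ⟨classIndicator_isClassFunction g, fun x => ?_, fun x hx => ?_⟩, ?_⟩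
      · classical
        unfold classIndicator
        split_ifs
        · exact memLocalRing_one hM
        · exact memLocalRing_zero hM
      · classical
        unfold classIndicator
        rw [if_neg]
        intro hc
        obtain ⟨y, rfl⟩ := isConj_iff.mp hc
        exact hx (‹H.Normal›.conj_mem g hgH y)
      · rw [omega_classIndicator _ (IrrCharacter.isClassFunction χ),
          omega_classIndicator _ (IrrCharacter.isClassFunction ψ)]
        exact hg)
    χ
  exact key.2.2 g hg

end Concrete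

end Cfsg.Agent.Lib.Helper24
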