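import Mathlib

/-!
# A trace-vanishing lemma for idempotent matrices over a local domain (helper24)

`trace_mul_eq_zero_of_twist`: `R` a commutative domain, `I` a proper ideal, `E` an idempotent
matrix commuting with `P`.  If a diagonal matrix `D ≡ 1 mod I` with inverse `D'` satisfies
`D P = ζ • P D` with `ζ` invertible and `ζ⁻¹ ≠ 1`, then `trace (P * E) = 0`.

(Used for: characters of projective modules vanish on `p`-singular elements; block
orthogonality.)
-/

set_option autoImplicit false

namespace Cfsg.Agent.Lib.Helper24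

open Matrix

theorem trace_mul_eq_zero_of_twist {R : Type*} [CommRing R] [IsDomain R] (I : Ideal R)
    (hI : I ≠ ⊤) {X : Type*} [Fintype X] [DecidableEq X]
    (E P : Matrix X X R) (hE : E * E = E) (hEP : E * P = P * E)
    (d d' : X → R) (hdd' : ∀ x, d x * d' x = 1) (hd : ∀ x, d x - 1 ∈ I)
    (ζ ζ' : R) (hζ : ζ * ζ' = 1) (hζ1 : ζ' ≠ 1)
    (hDP : Matrix.diagonal d * P = ζ • (P * Matrix.diagonal d)) :
    Matrix.trace (P * E) = 0 := by
  set D := Matrix.diagonal d with hD
  set D' := Matrix.diagonal d' with hD'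
  have hDD' : D * D' = 1 := by
    rw [hD, hD', Matrix.diagonal_mul_diagonal]
    have : (fun i => d i * d' i) = fun _ => (1 : R) := funext hdd'
    rw [this, Matrix.diagonal_one]
  have hD'D : D' * D = 1 := by
    rw [hD, hD', Matrix.diagonal_mul_diagonal]
    have : (fun i => d' i * d i) = fun _ => (1 : R) := by
      funext i; rw [mul_comm]; exact hdd' i
    rw [this, Matrix.diagonal_one]
  have hd' : ∀ x, d' x - 1 ∈ I := by
    intro x
    have : d' x - 1 = - (d' x * (d x - 1)) := by
      have := hdd' x
      linear_combination this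
    rw [this]
    exact I.neg_mem (I.mul_mem_left _ (hd x))
  -- D' P = ζ' • (P D')
  have hD'P : D' * P = ζ' • (P * D') := by
    have h1 : D' * (D * P) * D' = D' * (ζ • (P * D)) * D' := by rw [hDP]
    have h2 : D' * (D * P) * D' = P * D' := by
      rw [← Matrix.mul_assoc, hD'D, Matrix.one_mul]
    have h3 : D' * (ζ • (P * D)) * D' = ζ • (D' * P) := by
      rw [Matrix.mul_smul, Matrix.smul_mul, Matrix.mul_assoc, Matrix.mul_assoc, hDD',
        Matrix.mul_one]
    rw [h2, h3] at h1
    rw [h1, smul_smul, mul_comm ζ' ζ, hζ, one_smul]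
  set E' := D * E * D' with hE'
  have hE'idem : E' * E' = E' := by
    rw [hE']
    calc D * E * D' * (D * E * D') = D * E * (D' * D) * E * D' := by
          simp only [Matrix.mul_assoc]
      _ = D * E * D' := by rw [hD'D, Matrix.mul_one, Matrix.mul_assoc D E E, hE]
  have hE'P : E' * P = P * E' := by
    rw [hE']
    calc D * E * D' * P = D * E * (D' * P) := by simp only [Matrix.mul_assoc]
      _ = D * E * (ζ' • (P * D')) := by rw [hD'P]
      _ = ζ' • (D * (E * P) * D') := by
          rw [Matrix.mul_smul]; simp only [Matrix.mul_assoc]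
      _ = ζ' • (D * (P * E) * D') := by rw [hEP]
      _ = ζ' • ((D * P) * E * D') := by simp only [Matrix.mul_assoc]
      _ = ζ' • ((ζ • (P * D)) * E * D') := by rw [hDP]
      _ = (ζ' * ζ) • (P * (D * E * D')) := by
          rw [Matrix.smul_mul, Matrix.smul_mul, smul_smul]; simp only [Matrix.mul_assoc]
      _ = P * (D * E * D') := by rw [mul_comm ζ' ζ, hζ, one_smul]
  -- entries of E' - E lie in I
  have hN : ∀ x y, (E' - E) x y ∈ I := by
    intro x y
    have : (E' - E) x y = (d x - 1) * (E x y * d' y) + E x y * (d' y - 1) := by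
      rw [Matrix.sub_apply, hE', hD, hD', Matrix.mul_diagonal, Matrix.diagonal_mul]
      ring
    rw [this]
    exact I.add_mem (I.mul_mem_right _ (hd x)) (I.mul_mem_left _ (hd' y))
  set U := E' * E + (1 - E') * (1 - E) with hU
  have hE'U : E' * U = E' * E := by
    have h1 : E' * (1 - E') = 0 := by rw [Matrix.mul_sub, Matrix.mul_one, hE'idem, sub_self]
    rw [hU, Matrix.mul_add, ← Matrix.mul_assoc E' E' E, hE'idem,
      ← Matrix.mul_assoc E' (1 - E') (1 - E), h1, Matrix.zero_mul, add_zero]
  have hUE : U * E = E' * E := by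
    have h1 : (1 - E) * E = 0 := by rw [Matrix.sub_mul, Matrix.one_mul, hE, sub_self]
    rw [hU, Matrix.add_mul, Matrix.mul_assoc E' E E, hE,
      Matrix.mul_assoc (1 - E') (1 - E) E, h1, Matrix.mul_zero, add_zero]
  have hUP : U * P = P * U := by
    rw [hU, Matrix.add_mul, Matrix.mul_add]
    congr 1
    · rw [Matrix.mul_assoc, hEP, ← Matrix.mul_assoc, hE'P, Matrix.mul_assoc]
    · have h1 : (1 - E) * P = P * (1 - E) := by
        rw [Matrix.sub_mul, Matrix.mul_sub, Matrix.one_mul, Matrix.mul_one, hEP]
      have h2 : (1 - E') * P = P * (1 - E') := by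
        rw [Matrix.sub_mul, Matrix.mul_sub, Matrix.one_mul, Matrix.mul_one, hE'P]
      rw [Matrix.mul_assoc, h1, ← Matrix.mul_assoc, h2, Matrix.mul_assoc]
  -- U ≡ 1 mod I
  have hU1 : U - 1 = 2 • ((E' - E) * E) - (E' - E) := by
    rw [hU]
    have : E' * E + (1 - E') * (1 - E) - 1 = 2 • (E' * E) - E - E' := by
      noncomm_ring
    rw [this, Matrix.sub_mul, hE]
    noncomm_ring
  have hUmap : U.map (Ideal.Quotient.mk I) = 1 := by
    ext x y
    rw [Matrix.map_apply]
    have h1 : (U - 1) x y ∈ I := by
      rw [hU1, Matrix.sub_apply, Matrix.smul_apply, Matrix.mul_apply]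
      apply I.sub_mem
      · rw [nsmul_eq_mul]
        apply I.mul_mem_left
        apply I.sum_mem
        intro z _
        exact I.mul_mem_right _ (hN x z)
      · exact hN x y
    rw [Matrix.sub_apply] at h1
    have h2 := Ideal.Quotient.eq.mpr h1
    rw [h2]
    by_cases hxy : x = y
    · subst hxy; simp
    · simp [Matrix.one_apply_ne hxy]
  have hdet : U.det ≠ 0 := by
    intro h0
    have h1 : (Ideal.Quotient.mk I) U.det = 1 := by
      rw [RingHom.map_det, RingHom.mapMatrix_apply, hUmap, Matrix.det_one]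
    rw [h0, map_zero] at h1
    have : (1 : R) ∈ I := by
      rw [← Ideal.Quotient.eq_zero_iff_mem, map_one]
      exact h1.symm
    exact hI ((Ideal.eq_top_iff_one I).mpr this)
  -- trace computations
  have htr1 : Matrix.trace (P * E') = ζ' * Matrix.trace (P * E) := by
    rw [hE']
    calc Matrix.trace (P * (D * E * D')) = Matrix.trace ((P * D * E) * D') := by
          simp only [Matrix.mul_assoc]
      _ = Matrix.trace (D' * (P * D * E)) := Matrix.trace_mul_comm _ _
      _ = Matrix.trace ((D' * P) * D * E) := by simp only [Matrix.mul_assoc]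
      _ = Matrix.trace ((ζ' • (P * D')) * D * E) := by rw [hD'P]
      _ = Matrix.trace (ζ' • (P * (D' * D) * E)) := by
          rw [Matrix.smul_mul, Matrix.smul_mul]; simp only [Matrix.mul_assoc]
      _ = ζ' * Matrix.trace (P * E) := by
          rw [hD'D, Matrix.mul_one, Matrix.trace_smul, smul_eq_mul]
  have hconj : (P * E') * U = U * (P * E) := by
    rw [Matrix.mul_assoc, hE'U, ← hUE, ← Matrix.mul_assoc, ← hUP, Matrix.mul_assoc]
  have htr2 : U.det * Matrix.trace (P * E') = U.det * Matrix.trace (P * E) := by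
    have h1 : (P * E') * U * U.adjugate = U * (P * E) * U.adjugate := by rw [hconj]
    rw [Matrix.mul_assoc, Matrix.mul_adjugate] at h1
    have h2 := congrArg Matrix.trace h1
    rw [Matrix.mul_smul, Matrix.mul_one, Matrix.trace_smul, smul_eq_mul] at h2
    rw [h2, Matrix.mul_assoc, Matrix.trace_mul_comm, Matrix.mul_assoc, Matrix.adjugate_mul,
      Matrix.mul_smul, Matrix.mul_one, Matrix.trace_smul, smul_eq_mul]
  rw [htr1] at htr2
  have h3 : U.det * ((ζ' - 1) * Matrix.trace (P * E)) = 0 := by
    linear_combination htr2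
  rcases mul_eq_zero.mp h3 with h | h
  · exact absurd h hdet
  · rcases mul_eq_zero.mp h with h | h
    · exact absurd (sub_eq_zero.mp h) hζ1
    · exact h

end Cfsg.Agent.Lib.Helper24
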