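import Mathlib
import Cfsg.Prelude.Def_Blocks
import Cfsg.Agent.Lib.Helper24.Osima
import Cfsg.Agent.Lib.Helper24.TwistTrace
import Cfsg.Agent.Lib.Helper25.GenOrtho
import Cfsg.Agent.Lib.Helper2.PermLemma

/-!
# Block orthogonality (helper24)

For a block `B` and `x y : G` such that `x ^ k * g = g * y ^ k` forces `p ∣ k`
(for instance: `x` is `p`-regular and `y` is `p`-singular, or more generally the `p`-parts of
`x` and `y` are not conjugate), `∑_{χ ∈ B} χ x * conj (χ y) = 0`.
-/

set_option autoImplicit false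

namespace Cfsg.Agent.Lib.Helper24

open Cfsg.Agent.Lib.Helper2
open scoped ComplexConjugate

/-- a function twisting a permutation all of whose cycle lengths are divisible by `n` -/
theorem exists_twist {X : Type*} [Finite X] (σ : Equiv.Perm X) (n : ℕ) (ζ : ℂ) (hζ : ζ ^ n = 1)
    (h : ∀ (x : X) (k : ℕ), (σ ^ k) x = x → n ∣ k) :
    ∃ f : X → ℂ, (∀ x, (f x) ^ n = 1) ∧ ∀ x, f (σ x) = ζ * f x := by
  classical
  let s := Equiv.Perm.SameCycle.setoid σ
  let rep : X → X := fun x => (Quotient.mk s x).out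
  have hrep : ∀ x, Equiv.Perm.SameCycle σ (rep x) x := fun x => Quotient.mk_out (s := s) x
  have hex : ∀ x, ∃ i : ℕ, (σ ^ i) (rep x) = x := fun x => (hrep x).exists_nat_pow_eq
  choose e he using hex
  have key : ∀ (r : X) (i j : ℕ), (σ ^ i) r = (σ ^ j) r → ζ ^ i = ζ ^ j := by
    have aux : ∀ (r : X) (i m : ℕ), (σ ^ i) r = (σ ^ (i + m)) r → ζ ^ i = ζ ^ (i + m) := by
      intro r i m hij
      have h1 : (σ ^ m) ((σ ^ i) r) = (σ ^ i) r := by
        rw [← Equiv.Perm.mul_apply, ← pow_add, add_comm, ← hij]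
      obtain ⟨c, rfl⟩ := h _ _ h1
      rw [pow_add, pow_mul, hζ, one_pow, mul_one]
    intro r i j hij
    rcases le_total i j with hle | hle
    · obtain ⟨m, rfl⟩ := Nat.exists_eq_add_of_le hle
      exact aux r i m hij
    · obtain ⟨m, rfl⟩ := Nat.exists_eq_add_of_le hle
      exact (aux r j m hij.symm).symm
  refine ⟨fun x => ζ ^ (e x), fun x => ?_, fun x => ?_⟩
  · simp only
    rw [← pow_mul, mul_comm, pow_mul, hζ, one_pow]
  · simp only
    have hr : rep (σ x) = rep x := by
      simp only [rep]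
      congr 1
      apply Quotient.sound
      show Equiv.Perm.SameCycle σ (σ x) x
      exact (Equiv.Perm.SameCycle.refl σ x).apply_left
    have h1 : (σ ^ (e (σ x))) (rep x) = (σ ^ (e x + 1)) (rep x) := by
      rw [← hr, he (σ x), pow_succ', Equiv.Perm.mul_apply, hr, he x]
    rw [key _ _ _ h1, pow_succ']

section

variable {G : Type*} [Group G] [Fintype G] {p : ℕ} {M : Ideal Cfsg.AlgInt}

/-- block idempotents are idempotent for convolution -/
theorem conv_blockCoeff_self (B : Set (Cfsg.IrrCharacter G)) :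
    conv (Cfsg.blockCoeff B) (Cfsg.blockCoeff B) = Cfsg.blockCoeff B := by
  classical
  apply eq_of_omega_eq _ _ (conv_isClassFunction _ _ (blockCoeff_isClassFunction B)
    (blockCoeff_isClassFunction B)) (blockCoeff_isClassFunction B)
  intro ψ
  rw [omega_conv ψ _ _ (blockCoeff_isClassFunction B) (blockCoeff_isClassFunction B),
    omega_blockCoeff]
  split_ifs <;> simp

theorem sum_blockCoeff_twisted_eq_zero (hM : Cfsg.IsPModular p M) (B : Set (Cfsg.IrrCharacter G))
    (hB : Cfsg.IsPBlock M B) (x y : G)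
    (hxy : ∀ (g : G) (k : ℕ), x ^ k * g = g * y ^ k → p ∣ k) :
    ∑ g : G, Cfsg.blockCoeff B (x⁻¹ * (g * y * g⁻¹)) = 0 := by
  classical
  haveI : Fact p.Prime := ⟨hM.1⟩
  set R := Rloc hM with hR
  let eR : G → R := fun g => ⟨Cfsg.blockCoeff B g, blockCoeff_memLocalRing hM B hB g⟩
  have hcf := blockCoeff_isClassFunction B
  -- the permutation g ↦ x g y⁻¹
  let σ : Equiv.Perm G := (Equiv.mulLeft x).trans (Equiv.mulRight y⁻¹)
  have hσ : ∀ g, σ g = x * g * y⁻¹ := fun g => rfl
  have hσpow : ∀ (k : ℕ) (g : G), (σ ^ k) g = x ^ k * g * (y ^ k)⁻¹ := by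
    intro k
    induction k with
    | zero => intro g; simp
    | succ k ih =>
      intro g
      rw [pow_succ', Equiv.Perm.mul_apply, ih, hσ, pow_succ' x, pow_succ y, mul_inv_rev]
      group
  -- the root of unity
  have hp0 : p ≠ 0 := hM.1.ne_zero
  set ζ : ℂ := Complex.exp (2 * Real.pi * Complex.I / p) with hζdef
  have hprim : IsPrimitiveRoot ζ p := Complex.isPrimitiveRoot_exp p hp0
  have hζp : ζ ^ p = 1 := hprim.pow_eq_one
  have hζ1 : ζ ≠ 1 := hprim.ne_one hM.1.one_lt
  have hζ0 : ζ ≠ 0 := by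
    intro h0
    rw [h0, zero_pow hp0] at hζp
    exact zero_ne_one hζp
  obtain ⟨f, hf1, hf2⟩ := exists_twist σ p ζ hζp (by
    intro g k hk
    rw [hσpow] at hk
    apply hxy g k
    have : x ^ k * g = (x ^ k * g * (y ^ k)⁻¹) * y ^ k := by group
    rw [this, hk])
  -- integrality of roots of unity
  have hroot : ∀ z : ℂ, z ^ p = 1 → Cfsg.MemLocalRing M z := by
    intro z hz
    apply memLocalRing_of_isIntegral hM
    exact ⟨Polynomial.X ^ p - 1, Polynomial.monic_X_pow_sub_C 1 hp0, by simp [hz]⟩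
  have hrootI : ∀ z : ℂ, z ^ p = 1 → Cfsg.MemLocalIdeal M (z - 1) := by
    intro z hz
    apply memLocalIdeal_sub_one_of_pow_eq_one hM (k := 1)
    rw [pow_one]; exact hz
  have hfinv : ∀ g, ((f g)⁻¹) ^ p = 1 := by
    intro g
    rw [inv_pow, hf1, inv_one]
  have hf0 : ∀ g, f g ≠ 0 := by
    intro g h0
    have := hf1 g
    rw [h0, zero_pow hp0] at this
    exact zero_ne_one this
  let d : G → R := fun g => ⟨f g, hroot _ (hf1 g)⟩
  let d' : G → R := fun g => ⟨(f g)⁻¹, hroot _ (hfinv g)⟩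
  let ζR : R := ⟨ζ, hroot _ hζp⟩
  have hζinv : (ζ⁻¹) ^ p = 1 := by rw [inv_pow, hζp, inv_one]
  let ζR' : R := ⟨ζ⁻¹, hroot _ hζinv⟩
  let E : Matrix G G R := Matrix.of fun g' g => eR (g' * g⁻¹)
  let P : Matrix G G R := Matrix.of fun g' g => if g' = x * g * y⁻¹ then 1 else 0
  have hEE : E * E = E := by
    ext g'' g
    rw [Matrix.mul_apply]
    rw [AddSubmonoidClass.coe_finset_sum]
    simp only [E, Matrix.of_apply, eR, Subring.coe_mul]
    have h1 := congrFun (conv_blockCoeff_self B) (g'' * g⁻¹)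
    rw [conv_apply] at h1
    rw [← h1]
    apply Fintype.sum_equiv ((Equiv.inv G).trans (Equiv.mulLeft g''))
    intro g'
    simp only [Equiv.trans_apply, Equiv.inv_apply, Equiv.coe_mulLeft]
    congr 2
    group
  have hEP : E * P = P * E := by
    ext g' g
    rw [Matrix.mul_apply, Matrix.mul_apply]
    simp only [E, P, Matrix.of_apply, mul_ite, mul_one, mul_zero, ite_mul, one_mul, zero_mul]
    rw [Finset.sum_ite_eq' Finset.univ (x * g * y⁻¹) (fun h => eR (g' * h⁻¹))]
    have h2 : ∀ h : G, (g' = x * h * y⁻¹) ↔ (h = x⁻¹ * g' * y) := by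
      intro h
      constructor
      · rintro rfl; group
      · rintro rfl; group
    simp only [h2]
    rw [Finset.sum_ite_eq' Finset.univ (x⁻¹ * g' * y) (fun h => eR (h * g⁻¹))]
    simp only [Finset.mem_univ, if_true]
    simp only [eR]
    have := hcf (g' * (x * g * y⁻¹)⁻¹) x⁻¹
    rw [← this]
    congr 1
    group
  have hmain := trace_mul_eq_zero_of_twist (Mloc hM) (Mloc_ne_top hM) E P hEE hEP d d'
    (by
      intro g
      apply Subtype.ext
      simp only [d, d', Subring.coe_mul, Subring.coe_one]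
      exact mul_inv_cancel₀ (hf0 g))
    (by
      intro g
      rw [mem_Mloc]
      simp only [d, AddSubgroupClass.coe_sub, OneMemClass.coe_one]
      exact hrootI _ (hf1 g))
    ζR ζR'
    (by
      apply Subtype.ext
      simp only [ζR, ζR', Subring.coe_mul, Subring.coe_one]
      exact mul_inv_cancel₀ hζ0)
    (by
      intro h1
      have := congrArg Subtype.val h1
      simp only [ζR', Subring.coe_one] at this
      exact hζ1 (inv_eq_one.mp this))
    (by
      ext g' g
      rw [Matrix.diagonal_mul, Matrix.smul_apply, Matrix.mul_diagonal]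
      simp only [P, Matrix.of_apply]
      by_cases hg : g' = x * g * y⁻¹
      · rw [if_pos hg, mul_one, one_mul, smul_eq_mul]
        simp only [d, ζR, Subring.coe_mul]
        rw [hg, ← hσ, hf2]
      · rw [if_neg hg, mul_zero, zero_mul, smul_zero])
  -- compute the trace
  have htr : ((Matrix.trace (P * E) : R) : ℂ)
      = ∑ g : G, Cfsg.blockCoeff B (x⁻¹ * (g * y * g⁻¹)) := by
    unfold Matrix.trace
    rw [AddSubmonoidClass.coe_finset_sum]
    apply Finset.sum_congr rfl
    intro g _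
    rw [Matrix.diag_apply, Matrix.mul_apply]
    simp only [E, P, Matrix.of_apply, ite_mul, one_mul, zero_mul]
    have h2 : ∀ h : G, (g = x * h * y⁻¹) ↔ (h = x⁻¹ * g * y) := by
      intro h
      constructor
      · rintro rfl; group
      · rintro rfl; group
    simp only [h2]
    rw [Finset.sum_ite_eq' Finset.univ (x⁻¹ * g * y) (fun h => eR (h * g⁻¹))]
    simp only [Finset.mem_univ, if_true, eR]
    congr 1
    group
  rw [← htr, hmain]
  rfl

/-- **Block orthogonality**: `∑_{χ ∈ B} χ x * conj (χ y) = 0` whenever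
`x ^ k * g = g * y ^ k` forces `p ∣ k`. -/
theorem block_orthogonality (hM : Cfsg.IsPModular p M) (B : Set (Cfsg.IrrCharacter G))
    (hB : Cfsg.IsPBlock M B) (x y : G)
    (hxy : ∀ (g : G) (k : ℕ), x ^ k * g = g * y ^ k → p ∣ k) :
    ∑ᶠ χ ∈ B, (χ : G → ℂ) x * conj ((χ : G → ℂ) y) = 0 := by
  classical
  haveI : Fintype (Cfsg.IrrCharacter G) := Fintype.ofFinite _
  have h0 := sum_blockCoeff_twisted_eq_zero hM B hB x y hxy
  have hG : (Nat.card G : ℂ) ≠ 0 := card_ne_zero_complex
  rw [finsum_mem_eq_sum_ite]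
  have h1 : ∑ g : G, Cfsg.blockCoeff B (x⁻¹ * (g * y * g⁻¹))
      = ∑ χ : Cfsg.IrrCharacter G,
          if χ ∈ B then (χ : G → ℂ) x * conj ((χ : G → ℂ) y) else 0 := by
    simp only [blockCoeff_eq_sum, Finset.mul_sum]
    rw [Finset.sum_comm]
    apply Finset.sum_congr rfl; intro χ _
    by_cases hχ : χ ∈ B
    · simp only [if_pos hχ]
      have hne : (χ : G → ℂ) 1 ≠ 0 := Cfsg.Agent.Lib.Helper25.irr_one_ne_zero χ.2
      have h2 := Cfsg.Agent.Lib.Helper25.sum_char_mul_conj χ.2 x⁻¹ y
      have h3 : ∑ g : G, conj ((χ : G → ℂ) (x⁻¹ * (g * y * g⁻¹)))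
          = conj ((Nat.card G : ℂ) * (χ : G → ℂ) x⁻¹ * (χ : G → ℂ) y / (χ : G → ℂ) 1) := by
        rw [← h2, map_sum]
      have h4 : conj ((χ : G → ℂ) 1) = (χ : G → ℂ) 1 := by
        obtain ⟨n, hn⟩ := Cfsg.Agent.Lib.Helper25.char_one_eq
          (Cfsg.Agent.Lib.Helper25.isCharacter_of_irr χ.2)
        rw [hn, Complex.conj_natCast]
      rw [← Finset.mul_sum, ← Finset.mul_sum, h3, map_div₀, map_mul, map_mul,
        IrrCharacter.apply_inv, Complex.conj_conj, Complex.conj_natCast, h4]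
      field_simp
    · simp only [if_neg hχ]
      simp
  rw [← h1, h0]

/-- **Osima, second part**: block idempotents vanish at `p`-singular elements. -/
theorem blockCoeff_eq_zero_of_singular (hM : Cfsg.IsPModular p M)
    (B : Set (Cfsg.IrrCharacter G)) (hB : Cfsg.IsPBlock M B) (y : G) (hy : p ∣ orderOf y) :
    Cfsg.blockCoeff B y = 0 := by
  have h := block_orthogonality hM B hB 1 y (by
    intro g k hk
    rw [one_pow, one_mul] at hk
    have h1 : y ^ k = 1 := by
      have := mul_left_cancel (a := g) (b := 1) (c := y ^ k) (by rw [mul_one]; exact hk)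
      exact this.symm
    exact dvd_trans hy (orderOf_dvd_of_pow_eq_one h1))
  unfold Cfsg.blockCoeff
  rw [h, mul_zero]

/-- **Weak block orthogonality**: for `x` `p`-regular and `y` `p`-singular,
`∑_{χ ∈ B} χ x * conj (χ y) = 0`. -/
theorem weak_block_orthogonality (hM : Cfsg.IsPModular p M)
    (B : Set (Cfsg.IrrCharacter G)) (hB : Cfsg.IsPBlock M B) (x y : G) (hx : ¬ p ∣ orderOf x)
    (hy : p ∣ orderOf y) :
    ∑ᶠ χ ∈ B, (χ : G → ℂ) x * conj ((χ : G → ℂ) y) = 0 := by
  apply block_orthogonality hM B hB x y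
  intro g k hk
  by_contra hpk
  have hp := hM.1
  -- y ^ k is conjugate to x ^ k
  have h1 : y ^ k = g⁻¹ * x ^ k * g := by
    rw [mul_assoc, hk]; group
  have h2 : orderOf (y ^ k) = orderOf (x ^ k) := by
    rw [h1]
    have := (MulAut.conj g⁻¹).orderOf_eq (x ^ k)
    simpa using this
  have h3 : orderOf (x ^ k) ∣ orderOf x := orderOf_pow_dvd k
  have h4 : orderOf (y ^ k) = orderOf y / Nat.gcd (orderOf y) k := orderOf_pow y
  have hoy : 0 < orderOf y := orderOf_pos y
  have h5 : p ∣ orderOf y / Nat.gcd (orderOf y) k := by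
    have hg : Nat.gcd (orderOf y) k ∣ orderOf y := Nat.gcd_dvd_left _ _
    have hpg : ¬ p ∣ Nat.gcd (orderOf y) k := fun h => hpk (dvd_trans h (Nat.gcd_dvd_right _ _))
    obtain ⟨c, hc⟩ := hg
    have hgpos : 0 < Nat.gcd (orderOf y) k := Nat.gcd_pos_of_pos_left _ hoy
    have : orderOf y / Nat.gcd (orderOf y) k = c := Nat.div_eq_of_eq_mul_right hgpos hc
    rw [this]
    have hy' : p ∣ Nat.gcd (orderOf y) k * c := by rw [← hc]; exact hy
    rcases (Nat.Prime.dvd_mul hp).mp hy' with h | h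
    · exact absurd h hpg
    · exact h
  apply hx
  rw [← h4, h2] at h5
  exact dvd_trans h5 h3

end

end Cfsg.Agent.Lib.Helper24
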