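import Mathlib
import Cfsg.Prelude.Def_Blocks
import Cfsg.Agent.Lib.Helper24.BlockOrtho

/-!
# Defect classes and defect groups: existence, conjugation (helper24)
-/

set_option autoImplicit false

namespace Cfsg.Agent.Lib.Helper24

open Cfsg.Agent.Lib.Helper2
open scoped ComplexConjugate

section

variable {G : Type*} [Group G] [Fintype G] {p : ℕ} {M : Ideal Cfsg.AlgInt}

omit [Fintype G] in
theorem mem_blockOf_self (hM : Cfsg.IsPModular p M) (χ : Cfsg.IrrCharacter G) :
    χ ∈ Cfsg.blockOf M (χ : G → ℂ) := sameBlock_refl hM _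

omit [Fintype G] in
theorem isPBlock_nonempty (hM : Cfsg.IsPModular p M) {B : Set (Cfsg.IrrCharacter G)}
    (hB : Cfsg.IsPBlock M B) : ∃ χ, χ ∈ B := by
  obtain ⟨χ, rfl⟩ := hB
  exact ⟨χ, mem_blockOf_self hM χ⟩

omit [Fintype G] in
theorem sameBlock_of_mem (hM : Cfsg.IsPModular p M) {B : Set (Cfsg.IrrCharacter G)}
    (hB : Cfsg.IsPBlock M B) {χ ψ : Cfsg.IrrCharacter G} (hχ : χ ∈ B) (hψ : ψ ∈ B) :
    Cfsg.SameBlock M (χ : G → ℂ) (ψ : G → ℂ) := by
  obtain ⟨χ₀, rfl⟩ := hB
  exact sameBlock_trans hM (sameBlock_symm hM hχ) hψ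

omit [Fintype G] in
theorem eq_blockOf_of_mem (hM : Cfsg.IsPModular p M) {B : Set (Cfsg.IrrCharacter G)}
    (hB : Cfsg.IsPBlock M B) {χ : Cfsg.IrrCharacter G} (hχ : χ ∈ B) :
    B = Cfsg.blockOf M (χ : G → ℂ) := by
  obtain ⟨χ₀, rfl⟩ := hB
  ext ψ
  constructor
  · intro hψ
    exact sameBlock_trans hM (sameBlock_symm hM hχ) hψ
  · intro hψ
    exact sameBlock_trans hM hχ hψ

/-- every block has a defect class -/
theorem exists_isDefectClass (hM : Cfsg.IsPModular p M) (B : Set (Cfsg.IrrCharacter G))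
    (hB : Cfsg.IsPBlock M B) : ∃ g : G, Cfsg.IsDefectClass M B g := by
  classical
  obtain ⟨χ, hχ⟩ := isPBlock_nonempty hM hB
  have hcf := blockCoeff_isClassFunction B
  have hone : omega (χ : G → ℂ) (Cfsg.blockCoeff B) = 1 := by
    rw [omega_blockCoeff, if_pos hχ]
  by_contra hcon
  push Not at hcon
  have hall : ∀ g : G, Cfsg.MemLocalIdeal M
      (Cfsg.blockCoeff B g * Cfsg.centralChar (χ : G → ℂ) g) := by
    intro g
    by_cases h1 : Cfsg.MemLocalIdeal M (Cfsg.blockCoeff B g)
    · exact memLocalIdeal_mul_right hM h1 (centralChar_memLocalRing hM χ g)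
    · by_cases h2 : Cfsg.MemLocalIdeal M (Cfsg.centralChar (χ : G → ℂ) g)
      · exact memLocalIdeal_mul_left hM (blockCoeff_memLocalRing hM B hB g) h2
      · exfalso
        apply hcon g
        refine ⟨blockCoeff_memLocalRing hM B hB g, h1, ?_⟩
        intro ψ hψ hψM
        apply h2
        have := sameBlock_of_mem hM hB hχ hψ g
        have h3 := memLocalIdeal_add hM this hψM
        rwa [sub_add_cancel] at h3
  have hmem : Cfsg.MemLocalIdeal M (omega (χ : G → ℂ) (Cfsg.blockCoeff B)) := by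
    rw [omega_eq_sum]
    apply sum_mul_inv_index_mem (MlocC hM)
    · intro g x
      simp only
      rw [hcf, centralChar_isClassFunction _ (IrrCharacter.isClassFunction χ)]
    · exact hall
  rw [hone] at hmem
  exact not_memLocalIdeal_one hM hmem

omit [Fintype G] in
theorem isDefectClass_conj [Finite G] {B : Set (Cfsg.IrrCharacter G)} {g : G}
    (h : Cfsg.IsDefectClass M B g) (x : G) : Cfsg.IsDefectClass M B (x * g * x⁻¹) := by
  haveI : Fintype G := Fintype.ofFinite G
  obtain ⟨h1, h2, h3⟩ := h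
  have hcf := blockCoeff_isClassFunction B
  refine ⟨by rw [hcf]; exact h1, by rw [hcf]; exact h2, ?_⟩
  intro χ hχ
  rw [centralChar_isClassFunction _ (IrrCharacter.isClassFunction χ)]
  exact h3 χ hχ

/-- defect classes consist of `p`-regular elements -/
theorem isDefectClass_regular (hM : Cfsg.IsPModular p M) {B : Set (Cfsg.IrrCharacter G)}
    (hB : Cfsg.IsPBlock M B) {g : G} (h : Cfsg.IsDefectClass M B g) : ¬ p ∣ orderOf g := by
  intro hg
  have := blockCoeff_eq_zero_of_singular hM B hB g hg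
  apply h.2.1
  rw [this]
  exact memLocalIdeal_zero hM

/-- every block has a defect group -/
theorem exists_isDefectGroup (hM : Cfsg.IsPModular p M) (B : Set (Cfsg.IrrCharacter G))
    (hB : Cfsg.IsPBlock M B) : ∃ D : Subgroup G, Cfsg.IsDefectGroup p M B D := by
  haveI : Fact p.Prime := ⟨hM.1⟩
  obtain ⟨g, hg⟩ := exists_isDefectClass hM B hB
  obtain ⟨P⟩ : Nonempty (Sylow p (Subgroup.centralizer ({g} : Set G))) := inferInstance
  exact ⟨_, g, hg, P, rfl⟩

omit [Fintype G] in
/-- a criterion for being a defect group -/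
theorem isDefectGroup_of_le_centralizer [Finite G] [Fact p.Prime] {B : Set (Cfsg.IrrCharacter G)}
    {g : G} (hg : Cfsg.IsDefectClass M B g) (S : Subgroup G)
    (hS : S ≤ Subgroup.centralizer ({g} : Set G))
    (hcard : Nat.card S = p ^ (Nat.card (Subgroup.centralizer ({g} : Set G))).factorization p) :
    Cfsg.IsDefectGroup p M B S := by
  set C := Subgroup.centralizer ({g} : Set G) with hC
  have h1 : Nat.card (S.subgroupOf C) = p ^ (Nat.card C).factorization p := by
    rw [← hcard]
    exact Nat.card_congr (Subgroup.subgroupOfEquivOfLe hS).toEquiv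
  refine ⟨g, hg, Sylow.ofCard (S.subgroupOf C) h1, ?_⟩
  rw [Sylow.coe_ofCard, Subgroup.subgroupOf_map_subtype, inf_of_le_left hS]

omit [Fintype G] in
/-- unpacking a defect group -/
theorem exists_of_isDefectGroup [Finite G] [Fact p.Prime] {B : Set (Cfsg.IrrCharacter G)}
    {D : Subgroup G} (h : Cfsg.IsDefectGroup p M B D) :
    ∃ g : G, Cfsg.IsDefectClass M B g ∧ D ≤ Subgroup.centralizer ({g} : Set G) ∧
      Nat.card D = p ^ (Nat.card (Subgroup.centralizer ({g} : Set G))).factorization p := by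
  obtain ⟨g, hg, P, rfl⟩ := h
  refine ⟨g, hg, ?_, ?_⟩
  · rintro _ ⟨y, _, rfl⟩
    exact y.2
  · rw [Subgroup.card_map_of_injective (Subgroup.subtype_injective _)]
    exact P.card_eq_multiplicity

end

end Cfsg.Agent.Lib.Helper24
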