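import Mathlib

/-!
# Nilpotency of the augmentation ideal of a `p`-group in characteristic `p` (helper24 library)

`prod_sub_one_eq_zero`: if a finite `p`-group `Q` acts linearly on a finite-dimensional
`ZMod p`-space `W`, then any product of at least `dim W` operators `ρ u - 1` vanishes.
-/

set_option autoImplicit false

namespace Cfsg.Agent.Lib.Helper24

universe u v

section

variable {p : ℕ} [Fact p.Prime] {Q : Type v} [Group Q] [Finite Q]

/-- restriction of an action to an invariant submodule commutes with products -/
theorem restrict_prod {W : Type u} [AddCommGroup W] [Module (ZMod p) W]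
    (W' : Submodule (ZMod p) W) (f : Q → Module.End (ZMod p) W)
    (hf : ∀ u, ∀ w ∈ W', f u w ∈ W') (l : List Q) (w : W') :
    (((l.map (fun u => (f u).restrict (hf u))).prod w : W')  : W) = (l.map f).prod (w : W) := by
  induction l generalizing w with
  | nil => simp
  | cons u l ih =>
    rw [List.map_cons, List.prod_cons, List.map_cons, List.prod_cons, Module.End.mul_apply,
      Module.End.mul_apply, LinearMap.restrict_coe_apply, ih]

theorem prod_sub_one_eq_zero (hQ : IsPGroup p Q) :
    ∀ (d : ℕ) (W : Type u) [AddCommGroup W] [Module (ZMod p) W] [FiniteDimensional (ZMod p) W]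
      (ρ : Q →* Module.End (ZMod p) W), Module.finrank (ZMod p) W = d →
      ∀ l : List Q, d ≤ l.length → (l.map (fun u => ρ u - 1)).prod = 0 := by
  intro d
  induction d with
  | zero =>
    intro W _ _ _ ρ hd l _
    haveI : Subsingleton W := Module.finrank_zero_iff.mp hd
    apply LinearMap.ext; intro w; exact Subsingleton.elim _ _
  | succ d ih =>
    intro W _ _ _ ρ hd l hl
    -- a nonzero invariant functional
    letI : MulAction Q (Module.Dual (ZMod p) W) :=
      MulAction.compHom (Module.Dual (ZMod p) W) (Representation.dual ρ)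
    haveI : Finite (Module.Dual (ZMod p) W) := Module.finite_of_finite (ZMod p)
    have hcard : p ∣ Nat.card (Module.Dual (ZMod p) W) := by
      rw [Module.natCard_eq_pow_finrank (K := ZMod p), Subspace.dual_finrank_eq, hd,
        Nat.card_eq_fintype_card, ZMod.card, pow_succ]
      exact dvd_mul_left _ _
    have h0 : (0 : Module.Dual (ZMod p) W) ∈ MulAction.fixedPoints Q (Module.Dual (ZMod p) W) := by
      intro u
      show (Representation.dual ρ u) 0 = 0
      rw [map_zero]
    obtain ⟨φ, hφfix, hφne⟩ :=
      hQ.exists_fixed_point_of_prime_dvd_card_of_fixed_point (Module.Dual (ZMod p) W) hcard h0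
    have hφ : ∀ (u : Q) (w : W), φ (ρ u w) = φ w := by
      intro u w
      have h1 := hφfix u⁻¹
      have h2 : (Representation.dual ρ u⁻¹) φ = φ := h1
      rw [Representation.dual_apply, inv_inv] at h2
      have h3 := congrArg (fun ψ : Module.Dual (ZMod p) W => ψ w) h2
      simpa [Module.Dual.transpose_apply] using h3
    set W' := LinearMap.ker φ with hW'
    have hdim : Module.finrank (ZMod p) W' = d := by
      have := Module.Dual.finrank_ker_add_one_of_ne_zero (f := φ) (Ne.symm hφne)
      rw [← hW'] at this
      omega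
    have hinv : ∀ (u : Q), ∀ w ∈ W', (ρ u - 1) w ∈ W' := by
      intro u w hw
      rw [hW', LinearMap.mem_ker] at hw ⊢
      rw [LinearMap.sub_apply, map_sub, hφ, Module.End.one_apply, sub_self]
    have hinv' : ∀ (u : Q), ∀ w ∈ W', ρ u w ∈ W' := by
      intro u w hw
      rw [hW', LinearMap.mem_ker] at hw ⊢
      rw [hφ, hw]
    let ρ' : Q →* Module.End (ZMod p) W' :=
      { toFun := fun u => (ρ u).restrict (hinv' u)
        map_one' := by
          apply LinearMap.ext; intro w; apply Subtype.ext
          simp
        map_mul' := fun u v => by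
          apply LinearMap.ext; intro w; apply Subtype.ext
          simp }
    rcases List.eq_nil_or_concat l with hnil | ⟨l', u, hl'⟩
    · subst hnil; simp at hl
    · subst hl'
      have hlen : d ≤ l'.length := by
        rw [List.length_concat] at hl; omega
      have hIH := ih W' ρ' hdim l' hlen
      rw [List.concat_eq_append, List.map_append, List.prod_append, List.map_cons, List.map_nil,
        List.prod_cons, List.prod_nil, mul_one]
      apply LinearMap.ext; intro w
      rw [Module.End.mul_apply, LinearMap.zero_apply]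
      have hw' : (ρ u - 1) w ∈ W' := by
        rw [hW', LinearMap.mem_ker, LinearMap.sub_apply, map_sub, hφ, Module.End.one_apply,
          sub_self]
      have h1 := restrict_prod W' (fun v => ρ v - 1) hinv l' ⟨(ρ u - 1) w, hw'⟩
      rw [← h1]
      have h2 : (l'.map (fun v => (ρ v - 1).restrict (hinv v))) = l'.map (fun v => ρ' v - 1) := by
        apply List.map_congr_left
        intro v _
        apply LinearMap.ext; intro x; apply Subtype.ext
        simp [ρ']
      rw [h2, hIH, LinearMap.zero_apply, Submodule.coe_zero]

end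

section GroupRing

variable {p : ℕ} [Fact p.Prime] {G : Type*} [Group G] [Finite G]

/-- In `(ZMod p)[G]`, a product of at least `|G|` factors `u - 1` with `u` in a `p`-subgroup
vanishes. -/
theorem prod_of_sub_one_eq_zero (Q : Subgroup G) (hQ : IsPGroup p Q) (l : List Q)
    (hl : Nat.card G ≤ l.length) :
    (l.map (fun u : Q => MonoidAlgebra.of (ZMod p) G (u : G) - 1)).prod = 0 := by
  classical
  haveI : Fintype G := Fintype.ofFinite G
  let A := MonoidAlgebra (ZMod p) G
  let ρ : Q →* Module.End (ZMod p) A :=
    ((Algebra.lmul (ZMod p) A : A →ₐ[ZMod p] Module.End (ZMod p) A) : A →* Module.End (ZMod p) A).comp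
      ((MonoidAlgebra.of (ZMod p) G).comp Q.subtype)
  haveI : FiniteDimensional (ZMod p) A :=
    Module.Finite.of_basis (MonoidAlgebra.basis G (ZMod p))
  have hdim : Module.finrank (ZMod p) A = Nat.card G := by
    rw [Module.finrank_eq_card_basis (MonoidAlgebra.basis G (ZMod p)), Nat.card_eq_fintype_card]
  have h := prod_sub_one_eq_zero hQ (Nat.card G) A ρ hdim l hl
  have h2 : (l.map (fun u => ρ u - 1)).prod
      = Algebra.lmul (ZMod p) A
          ((l.map (fun u : Q => MonoidAlgebra.of (ZMod p) G (u : G) - 1)).prod) := by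
    rw [map_list_prod, List.map_map]
    congr 1
    apply List.map_congr_left
    intro u _
    simp only [ρ, Function.comp_apply, map_sub, map_one]
    rfl
  rw [h2] at h
  have h3 := congrArg (fun f : Module.End (ZMod p) A => f 1) h
  simpa using h3

/-- An element of `ℤ[G]` whose reduction mod `p` vanishes is divisible by `p`. -/
theorem exists_eq_mul_of_map_eq_zero (x : MonoidAlgebra ℤ G)
    (hx : MonoidAlgebra.mapRingHom G (Int.castRingHom (ZMod p)) x = 0) :
    ∃ Y : MonoidAlgebra ℤ G, x = (p : MonoidAlgebra ℤ G) * Y := by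
  classical
  have hdiv : ∀ g : G, (p : ℤ) ∣ x.coeff g := by
    intro g
    have h1 := congrArg (fun y : MonoidAlgebra (ZMod p) G => y.coeff g) hx
    simp only [MonoidAlgebra.coeff_mapRingHom, MonoidAlgebra.coeff_zero, Finsupp.coe_zero,
      Pi.zero_apply] at h1
    exact (ZMod.intCast_zmod_eq_zero_iff_dvd _ _).mp h1
  refine ⟨MonoidAlgebra.ofCoeff (x.coeff.mapRange (fun n => n / (p : ℤ)) (by simp)), ?_⟩
  apply MonoidAlgebra.coeff_injective
  ext g
  have h2 : ((p : MonoidAlgebra ℤ G)) = (p : ℤ) • (1 : MonoidAlgebra ℤ G) := by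
    rw [← Int.cast_natCast, zsmul_eq_mul, mul_one]
  rw [h2, smul_mul_assoc, one_mul, MonoidAlgebra.coeff_smul_apply, MonoidAlgebra.coeff_ofCoeff,
    Finsupp.mapRange_apply, smul_eq_mul, Int.mul_ediv_cancel' (hdiv g)]

/-- In `ℤ[G]`, a product of at least `|G|` factors `u - 1` with `u` in a `p`-subgroup is
divisible by `p`. -/
theorem prod_of_sub_one_int (Q : Subgroup G) (hQ : IsPGroup p Q) (l : List Q)
    (hl : Nat.card G ≤ l.length) :
    ∃ Y : MonoidAlgebra ℤ G,
      (l.map (fun u : Q => MonoidAlgebra.of ℤ G (u : G) - 1)).prod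
        = (p : MonoidAlgebra ℤ G) * Y := by
  apply exists_eq_mul_of_map_eq_zero
  rw [map_list_prod, List.map_map]
  have := prod_of_sub_one_eq_zero (p := p) Q hQ l hl
  rw [← this]
  congr 1
  apply List.map_congr_left
  intro u _
  simp [MonoidAlgebra.of_apply]

end GroupRing

end Cfsg.Agent.Lib.Helper24
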