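import Mathlib
import Cfsg.Agent.Lib.Helper24.AugNilpotent

/-!
# Powers of central elements of `ℤ[G]` lying in the augmentation ideal of a normal `p`-subgroup
(helper24 library)

`central_pow_mem`: if `X` is central in `ℤ[G]` and lies in the left ideal generated by `p` and the
`u - 1` (`u ∈ Q`, `Q` a `p`-subgroup), then `X ^ |G|` is divisible by `p`.
-/

set_option autoImplicit false

namespace Cfsg.Agent.Lib.Helper24

section

variable {G : Type*} [Group G] (p : ℕ) (Q : Subgroup G)

/-- `u - 1` in the integral group ring -/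
noncomputable def augD (u : Q) : MonoidAlgebra ℤ G := MonoidAlgebra.of ℤ G (u : G) - 1

/-- the filtration by left ideals -/
noncomputable def augJ : ℕ → Ideal (MonoidAlgebra ℤ G)
  | 0 => ⊤
  | (k + 1) => Ideal.span {w | ∃ b ∈ augJ k, ∃ u : Q, w = b * augD Q u}
      ⊔ Ideal.span {(p : MonoidAlgebra ℤ G)}

theorem augJ_succ (k : ℕ) : augJ p Q (k + 1)
    = Ideal.span {w | ∃ b ∈ augJ p Q k, ∃ u : Q, w = b * augD Q u}
      ⊔ Ideal.span {(p : MonoidAlgebra ℤ G)} := rfl

theorem mul_natCast_mem (a x : MonoidAlgebra ℤ G)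
    (hx : x ∈ Ideal.span {(p : MonoidAlgebra ℤ G)}) :
    x * a ∈ Ideal.span {(p : MonoidAlgebra ℤ G)} := by
  rw [Ideal.mem_span_singleton'] at hx ⊢
  obtain ⟨c, rfl⟩ := hx
  refine ⟨c * a, ?_⟩
  rw [mul_assoc, mul_assoc, Nat.cast_comm]

theorem pow_mem_augJ (X : MonoidAlgebra ℤ G) (hcen : ∀ a, X * a = a * X)
    (hX : X ∈ augJ p Q 1) : ∀ k, X ^ k ∈ augJ p Q k := by
  intro k
  induction k with
  | zero => exact Submodule.mem_top
  | succ k ih =>
    have hcenk : ∀ a, X ^ k * a = a * X ^ k := by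
      intro a
      exact (Commute.pow_left (hcen a) k)
    have key : ∀ W ∈ augJ p Q 1, X ^ k * W ∈ augJ p Q (k + 1) := by
      intro W hW
      rw [augJ_succ] at hW
      obtain ⟨W1, hW1, W2, hW2, rfl⟩ := Submodule.mem_sup.mp hW
      clear hW
      rw [mul_add]
      apply Ideal.add_mem
      · rw [augJ_succ]
        apply Ideal.mem_sup_left
        induction hW1 using Submodule.span_induction with
        | mem w hw =>
          obtain ⟨b, _, u, rfl⟩ := hw
          apply Ideal.subset_span
          refine ⟨X ^ k * b, ?_, u, by rw [mul_assoc]⟩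
          rw [hcenk b]
          exact Ideal.mul_mem_left _ _ ih
        | zero => rw [mul_zero]; exact Ideal.zero_mem _
        | add x y _ _ hx hy => rw [mul_add]; exact Ideal.add_mem _ hx hy
        | smul a x _ hx =>
          rw [smul_eq_mul, ← mul_assoc, hcenk a, mul_assoc]
          exact Ideal.mul_mem_left _ _ hx
      · rw [augJ_succ]
        apply Ideal.mem_sup_right
        exact Ideal.mul_mem_left _ _ hW2
    rw [pow_succ]
    exact key X hX

theorem augJ_mul_prod_mem [Finite G] [Fact p.Prime] (hQ : IsPGroup p Q) :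
    ∀ k, ∀ b ∈ augJ p Q k, ∀ l : List Q, Nat.card G ≤ k + l.length →
      b * (l.map (augD Q)).prod ∈ Ideal.span {(p : MonoidAlgebra ℤ G)} := by
  intro k
  induction k with
  | zero =>
    intro b _ l hl
    obtain ⟨Y, hY⟩ := prod_of_sub_one_int (p := p) Q hQ l (by omega)
    have : (l.map (augD Q)).prod = (p : MonoidAlgebra ℤ G) * Y := hY
    rw [this, Ideal.mem_span_singleton']
    refine ⟨b * Y, ?_⟩
    rw [mul_assoc, ← Nat.cast_comm]
  | succ k ih =>
    intro b hb l hl
    rw [augJ_succ] at hb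
    obtain ⟨b1, hb1, b2, hb2, rfl⟩ := Submodule.mem_sup.mp hb
    clear hb
    rw [add_mul]
    apply Ideal.add_mem
    · induction hb1 using Submodule.span_induction with
      | mem w hw =>
        obtain ⟨b', hb', u, rfl⟩ := hw
        have := ih b' hb' (u :: l) (by rw [List.length_cons]; omega)
        rw [List.map_cons, List.prod_cons, ← mul_assoc] at this
        exact this
      | zero => rw [zero_mul]; exact Ideal.zero_mem _
      | add x y _ _ hx hy => rw [add_mul]; exact Ideal.add_mem _ hx hy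
      | smul a x _ hx =>
        rw [smul_eq_mul, mul_assoc]
        exact Ideal.mul_mem_left _ _ hx
    · exact mul_natCast_mem p _ _ hb2

/-- The main consequence. -/
theorem central_pow_mem [Finite G] [Fact p.Prime] (hQ : IsPGroup p Q) (X : MonoidAlgebra ℤ G)
    (hcen : ∀ a, X * a = a * X) (hX : X ∈ augJ p Q 1) :
    ∃ Y : MonoidAlgebra ℤ G, X ^ Nat.card G = (p : MonoidAlgebra ℤ G) * Y := by
  have h1 := pow_mem_augJ p Q X hcen hX (Nat.card G)
  have h2 := augJ_mul_prod_mem p Q hQ (Nat.card G) _ h1 [] (by simp)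
  rw [List.map_nil, List.prod_nil, mul_one, Ideal.mem_span_singleton'] at h2
  obtain ⟨Y, hY⟩ := h2
  exact ⟨Y, by rw [← hY, Nat.cast_comm]⟩

/-- membership criterion for `augJ 1` -/
theorem mul_augD_mem (a : MonoidAlgebra ℤ G) (u : Q) : a * augD Q u ∈ augJ p Q 1 := by
  rw [augJ_succ]
  apply Ideal.mem_sup_left
  apply Ideal.subset_span
  exact ⟨a, Submodule.mem_top, u, rfl⟩

theorem natCast_mul_mem (a : MonoidAlgebra ℤ G) : (p : MonoidAlgebra ℤ G) * a ∈ augJ p Q 1 := by
  rw [augJ_succ]
  apply Ideal.mem_sup_right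
  rw [Ideal.mem_span_singleton']
  exact ⟨a, Nat.cast_comm _ _ |>.symm⟩

end

end Cfsg.Agent.Lib.Helper24
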