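import Mathlib

/-!
# Sums over a fixed-point-free `p`-group action vanish modulo `p` (helper24 library)
-/

set_option autoImplicit false

namespace Cfsg.Agent.Lib.Helper24

open Classical in
/-- If a finite `p`-group `Q` acts on a finite set `K` without fixed points, and `f : K → A` is
`Q`-invariant with values in an abelian group killed by `p`, then `∑ f = 0`. -/
theorem sum_eq_zero_of_no_fixed {p : ℕ} [Fact p.Prime] {Q : Type*} [Group Q] [Finite Q]
    (hQ : IsPGroup p Q) {K : Type*} [Fintype K] [MulAction Q K] {A : Type*} [AddCommGroup A]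
    (hp : ∀ a : A, p • a = 0) (f : K → A) (hf : ∀ (u : Q) (x : K), f (u • x) = f x)
    (hfix : ∀ x : K, ∃ u : Q, u • x ≠ x) : ∑ x, f x = 0 := by
  haveI : Fintype (Quotient (MulAction.orbitRel Q K)) := Fintype.ofFinite _
  rw [← Finset.sum_fiberwise Finset.univ (fun x => (Quotient.mk (MulAction.orbitRel Q K) x)) f]
  apply Finset.sum_eq_zero
  intro ω _
  induction ω using Quotient.inductionOn with
  | h x0 =>
  have hconst : ∀ x ∈ Finset.univ.filter
      (fun x => Quotient.mk (MulAction.orbitRel Q K) x = Quotient.mk _ x0), f x = f x0 := by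
    intro x hx
    rw [Finset.mem_filter] at hx
    have h1 : x ∈ MulAction.orbit Q x0 := by
      have := Quotient.exact hx.2
      exact (MulAction.orbitRel_apply).mp this
    obtain ⟨u, rfl⟩ := h1
    exact hf u x0
  rw [Finset.sum_congr rfl hconst, Finset.sum_const]
  have hcard : (Finset.univ.filter
      (fun x => Quotient.mk (MulAction.orbitRel Q K) x = Quotient.mk _ x0)).card
      = Nat.card (MulAction.orbit Q x0) := by
    rw [Nat.card_eq_fintype_card, ← Fintype.card_subtype]
    apply Fintype.card_congr
    apply Equiv.subtypeEquivRight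
    intro x
    constructor
    · intro h; exact (MulAction.orbitRel_apply).mp (Quotient.exact h)
    · intro h; exact Quotient.sound ((MulAction.orbitRel_apply).mpr h)
  obtain ⟨n, hn⟩ := hQ.card_orbit x0
  have hn1 : n ≠ 0 := by
    intro h0
    rw [h0, pow_zero] at hn
    obtain ⟨u, hu⟩ := hfix x0
    haveI : Subsingleton (MulAction.orbit Q x0) := (Nat.card_eq_one_iff_unique.mp hn).1
    have h1 : (⟨u • x0, MulAction.mem_orbit x0 u⟩ : MulAction.orbit Q x0)
        = ⟨x0, MulAction.mem_orbit_self x0⟩ := Subsingleton.elim _ _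
    exact hu (congrArg Subtype.val h1)
  rw [hcard, hn]
  obtain ⟨m, rfl⟩ := Nat.exists_eq_succ_of_ne_zero hn1
  rw [pow_succ, mul_smul, hp, smul_zero]

/-- Version with values in an abelian group modulo a subgroup. -/
theorem sum_mem_of_no_fixed {p : ℕ} [Fact p.Prime] {Q : Type*} [Group Q] [Finite Q]
    (hQ : IsPGroup p Q) {K : Type*} [Fintype K] [MulAction Q K] {A : Type*} [AddCommGroup A]
    (S : AddSubgroup A) (hp : ∀ a : A, p • a ∈ S) (f : K → A)
    (hf : ∀ (u : Q) (x : K), f (u • x) - f x ∈ S)
    (hfix : ∀ x : K, ∃ u : Q, u • x ≠ x) : ∑ x, f x ∈ S := by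
  have h := sum_eq_zero_of_no_fixed hQ (A := A ⧸ S)
    (by
      intro a
      induction a using QuotientAddGroup.induction_on with
      | H a =>
        rw [← QuotientAddGroup.mk_nsmul]
        exact (QuotientAddGroup.eq_zero_iff _).mpr (hp a))
    (fun x => (QuotientAddGroup.mk (f x) : A ⧸ S))
    (by
      intro u x
      rw [QuotientAddGroup.eq_iff_sub_mem]
      exact hf u x)
    hfix
  rw [← QuotientAddGroup.mk_sum] at h
  exact (QuotientAddGroup.eq_zero_iff _).mp h

end Cfsg.Agent.Lib.Helper24
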