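import Mathlib
import Cfsg.Prelude.Def_Blocks
import Cfsg.Agent.Lib.Helper24.CentralPow
import Cfsg.Agent.Lib.Helper24.OrbitSum
import Cfsg.Agent.Lib.Helper24.Loc
import Cfsg.Agent.Lib.Helper24.BlockBasic

/-!
# Central characters vanish mod `M` on classes outside the centralizer of a normal `p`-subgroup
(helper24)

`centralChar_memLocalIdeal_of_notMem_centralizer`: if `Q` is a normal `p`-subgroup of `G` and
`g ∉ C_G(Q)`, then `|K| χ(g) / χ(1)` lies in the local ideal for every irreducible `χ`.
-/

set_option autoImplicit false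

namespace Cfsg.Agent.Lib.Helper24

section ClassSum

variable {G : Type*} [Group G] [Fintype G] (p : ℕ) [Fact p.Prime] (Q : Subgroup G) [Q.Normal]

/-- conjugation action of `Q` on a conjugacy class -/
def conjActionOn (g : G) : MulAction Q {x : G // IsConj g x} where
  smul u x := ⟨u * x * (u : G)⁻¹, x.2.trans (isConj_iff.mpr ⟨u, rfl⟩)⟩
  one_smul x := by
    apply Subtype.ext
    show ((1 : Q) : G) * x * ((1 : Q) : G)⁻¹ = x
    simp
  mul_smul u v x := by
    apply Subtype.ext
    show ((u * v : Q) : G) * x * ((u * v : Q) : G)⁻¹ = u * (v * x * (v : G)⁻¹) * (u : G)⁻¹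
    rw [Subgroup.coe_mul]; group

open Classical in
/-- the class sum in the integral group ring -/
noncomputable def classSumZ (g : G) : MonoidAlgebra ℤ G :=
  ∑ x : {x : G // IsConj g x}, MonoidAlgebra.of ℤ G (x : G)

open Classical in
theorem classSumZ_central (g : G) (a : MonoidAlgebra ℤ G) :
    classSumZ g * a = a * classSumZ g := by
  induction a using MonoidAlgebra.induction_on with
  | of y =>
    unfold classSumZ
    rw [Finset.sum_mul, Finset.mul_sum]
    let e : {x : G // IsConj g x} ≃ {x : G // IsConj g x} :=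
      { toFun := fun x => ⟨y * x * y⁻¹, x.2.trans (isConj_iff.mpr ⟨y, rfl⟩)⟩
        invFun := fun x => ⟨y⁻¹ * x * y, x.2.trans (isConj_iff.mpr ⟨y⁻¹, by simp⟩)⟩
        left_inv := fun x => Subtype.ext (by simp; group)
        right_inv := fun x => Subtype.ext (by simp; group) }
    symm
    apply Fintype.sum_equiv e
    intro x
    show MonoidAlgebra.of ℤ G y * MonoidAlgebra.of ℤ G (x : G)
      = MonoidAlgebra.of ℤ G (y * x * y⁻¹) * MonoidAlgebra.of ℤ G y
    rw [← map_mul, ← map_mul]
    congr 1
    group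
  | add a b ha hb => rw [mul_add, add_mul, ha, hb]
  | smul r a ha => rw [mul_smul_comm, smul_mul_assoc, ha]

open Classical in
theorem classSumZ_mem (hQ : IsPGroup p Q) (g : G)
    (hg : g ∉ Subgroup.centralizer (Q : Set G)) : classSumZ g ∈ augJ p Q 1 := by
  letI := conjActionOn Q g
  unfold classSumZ
  apply sum_mem_of_no_fixed hQ (augJ p Q 1).toAddSubgroup
  · intro a
    show p • a ∈ augJ p Q 1
    rw [nsmul_eq_mul]
    exact natCast_mul_mem p Q a
  · intro u x
    show MonoidAlgebra.of ℤ G (u * x * (u : G)⁻¹) - MonoidAlgebra.of ℤ G (x : G)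
      ∈ augJ p Q 1
    have hmem : (x : G)⁻¹ * u * x * (u : G)⁻¹ ∈ Q := by
      apply Q.mul_mem
      · have := (inferInstance : Q.Normal).conj_mem u u.2 (x : G)⁻¹
        simpa [mul_assoc] using this
      · exact Q.inv_mem u.2
    have h1 : MonoidAlgebra.of ℤ G (u * x * (u : G)⁻¹) - MonoidAlgebra.of ℤ G (x : G)
        = MonoidAlgebra.of ℤ G (x : G) * augD Q ⟨_, hmem⟩ := by
      unfold augD
      rw [mul_sub, mul_one, ← map_mul]
      have : (x : G) * ((x : G)⁻¹ * u * x * (u : G)⁻¹) = u * x * (u : G)⁻¹ := by group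
      rw [this]
    rw [h1]
    exact mul_augD_mem p Q _ _
  · intro x
    by_contra hcon
    push Not at hcon
    apply hg
    obtain ⟨c, hc⟩ := isConj_iff.mp x.2
    rw [Subgroup.mem_centralizer_iff]
    intro v hv
    have hv' : c * v * c⁻¹ ∈ Q := (inferInstance : Q.Normal).conj_mem v hv c
    have h1 := hcon ⟨c * v * c⁻¹, hv'⟩
    have h2 : (c * v * c⁻¹) * (x : G) * (c * v * c⁻¹)⁻¹ = x := congrArg Subtype.val h1
    rw [← hc] at h2
    have h3 : v * g * v⁻¹ = g := by
      have : c * (v * g * v⁻¹) * c⁻¹ = c * g * c⁻¹ := by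
        rw [← h2]; group
      exact mul_left_cancel (mul_right_cancel this)
    calc v * g = (v * g * v⁻¹) * v := by group
      _ = g * v := by rw [h3]

end ClassSum

section Rep

variable {G : Type*} [Group G] [Fintype G]
variable {V : Type*} [AddCommGroup V] [Module ℂ V] [FiniteDimensional ℂ V]

open Classical in
theorem sum_class_rep' (ρ : Representation ℂ G V) [ρ.IsIrreducible] (g : G) :
    ∑ x : {x : G // IsConj g x}, ρ (x : G)
      = (((Subgroup.centralizer ({g} : Set G)).index : ℂ) * ρ.character g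
          / (Module.finrank ℂ V : ℂ)) • LinearMap.id := by
  have h1 : ∑ x : {x : G // IsConj g x}, ρ (x : G)
      = Cfsg.Agent.Lib.Helper2.repSum ρ (Cfsg.Agent.Lib.Helper2.classIndicator g) := by
    unfold Cfsg.Agent.Lib.Helper2.repSum Cfsg.Agent.Lib.Helper2.classIndicator
    rw [← Finset.sum_subtype (Finset.univ.filter (fun x => IsConj g x)) (by simp)
      (fun x : G => ρ x), Finset.sum_filter]
    apply Finset.sum_congr rfl
    intro x _
    split_ifs with h
    · rw [one_smul]
    · rw [zero_smul]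
  rw [h1, Cfsg.Agent.Lib.Helper2.repSum_irreducible ρ _
    (Cfsg.Agent.Lib.Helper2.classIndicator_isClassFunction g)]
  congr 1
  have h2 : ∑ x : G, Cfsg.Agent.Lib.Helper2.classIndicator g x * ρ.character x
      = ((Subgroup.centralizer ({g} : Set G)).index : ℂ) * ρ.character g := by
    have : ∀ x : G, Cfsg.Agent.Lib.Helper2.classIndicator g x * ρ.character x
        = if IsConj g x then ρ.character g else 0 := by
      intro x
      unfold Cfsg.Agent.Lib.Helper2.classIndicator
      split_ifs with hx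
      · obtain ⟨y, hy⟩ := isConj_iff.mp hx
        rw [← hy, Representation.char_conj, one_mul]
      · rw [zero_mul]
    rw [Finset.sum_congr rfl (fun x _ => this x), ← Finset.sum_filter, Finset.sum_const,
      nsmul_eq_mul, Cfsg.Agent.Lib.Helper2.index_centralizer_eq_card_conj,
      Nat.card_eq_fintype_card, Fintype.card_subtype]
  rw [h2]
  field_simp

open Classical in
theorem lift_classSumZ (ρ : Representation ℂ G V) [ρ.IsIrreducible] (g : G) :
    MonoidAlgebra.lift ℤ (Module.End ℂ V) G ρ (classSumZ g)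
      = (((Subgroup.centralizer ({g} : Set G)).index : ℂ) * ρ.character g
          / (Module.finrank ℂ V : ℂ)) • LinearMap.id := by
  unfold classSumZ
  rw [map_sum]
  have : ∀ x : {x : G // IsConj g x},
      MonoidAlgebra.lift ℤ (Module.End ℂ V) G ρ (MonoidAlgebra.of ℤ G (x : G)) = ρ (x : G) := by
    intro x
    rw [MonoidAlgebra.of_apply, MonoidAlgebra.lift_single, one_smul]
  rw [Finset.sum_congr rfl (fun x _ => this x), sum_class_rep']

open Classical in
theorem centralChar_pow_div_isIntegral (p : ℕ) [Fact p.Prime] (Q : Subgroup G) [Q.Normal]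
    (hQ : IsPGroup p Q) (ρ : Representation ℂ G V) [ρ.IsIrreducible]
    (g : G) (hg : g ∉ Subgroup.centralizer (Q : Set G)) :
    IsIntegral ℤ ((((Subgroup.centralizer ({g} : Set G)).index : ℂ) * ρ.character g
          / (Module.finrank ℂ V : ℂ)) ^ Nat.card G / (p : ℂ)) := by
  set c : ℂ := ((Subgroup.centralizer ({g} : Set G)).index : ℂ) * ρ.character g
          / (Module.finrank ℂ V : ℂ) with hc
  have hV : Nontrivial V := Cfsg.Agent.Lib.Helper2.nontrivial_of_isIrreducible ρ
  obtain ⟨Y, hY⟩ := central_pow_mem p Q hQ (classSumZ g) (classSumZ_central g)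
    (classSumZ_mem p Q hQ g hg)
  set φ := MonoidAlgebra.lift ℤ (Module.End ℂ V) G ρ with hφ
  have h1 := congrArg φ hY
  rw [map_pow, map_mul, map_natCast, lift_classSumZ, ← hc] at h1
  have hYint : IsIntegral ℤ (φ Y) := (IsIntegral.of_finite ℤ Y).map φ
  have hp0 : (p : ℂ) ≠ 0 := by
    exact_mod_cast (Fact.out : p.Prime).ne_zero
  have h2 : φ Y = (c ^ Nat.card G / (p : ℂ)) • LinearMap.id := by
    have h3 : (c • (LinearMap.id : V →ₗ[ℂ] V)) ^ Nat.card G
        = (c ^ Nat.card G) • LinearMap.id := by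
      rw [smul_pow]
      congr 1
      exact one_pow _
    rw [h3] at h1
    have h4 : ((p : Module.End ℂ V)) * φ Y = (p : ℂ) • φ Y := by
      rw [Nat.cast_smul_eq_nsmul ℂ, nsmul_eq_mul]
    rw [h4] at h1
    rw [div_eq_mul_inv, mul_comm, mul_smul, h1, smul_smul, inv_mul_cancel₀ hp0, one_smul]
  rw [h2] at hYint
  exact Cfsg.Agent.Lib.Helper2.isIntegral_of_smul_id _ hYint

/-- If `Q` is a normal `p`-subgroup and `g ∉ C_G(Q)`, every central character vanishes modulo
the local ideal at the class of `g`. -/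
theorem centralChar_memLocalIdeal_of_notMem_centralizer {p : ℕ} [Fact p.Prime]
    {M : Ideal Cfsg.AlgInt} (hM : Cfsg.IsPModular p M) (Q : Subgroup G) [Q.Normal]
    (hQ : IsPGroup p Q) (g : G) (hg : g ∉ Subgroup.centralizer (Q : Set G))
    (χ : Cfsg.IrrCharacter G) : Cfsg.MemLocalIdeal M (Cfsg.centralChar (χ : G → ℂ) g) := by
  obtain ⟨χ, n, ρ, hirr, rfl⟩ := χ
  haveI := hirr
  have h2 := centralChar_pow_div_isIntegral p Q hQ ρ g hg
  have h1 := Cfsg.Agent.Lib.Helper2.isIntegral_index_centralizer_mul_char_div ρ g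
  simp only
  unfold Cfsg.centralChar
  rw [Representation.char_one]
  set c : ℂ := ((Subgroup.centralizer ({g} : Set G)).index : ℂ) * ρ.character g
        / (Module.finrank ℂ (Fin n → ℂ) : ℂ) with hc
  let a : Cfsg.AlgInt := ⟨c, h1⟩
  let b : Cfsg.AlgInt := ⟨c ^ Nat.card G / (p : ℂ), h2⟩
  have hp0 : (p : ℂ) ≠ 0 := by
    exact_mod_cast (Fact.out : p.Prime).ne_zero
  have hab : a ^ Nat.card G = (p : Cfsg.AlgInt) * b := by
    apply Subtype.ext
    simp only [a, b]
    push_cast
    field_simp
  have hmem : a ^ Nat.card G ∈ M := by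
    rw [hab]
    exact Ideal.mul_mem_right _ _ hM.2.2
  have haM : a ∈ M := hM.2.1.isPrime.mem_of_pow_mem _ hmem
  exact memLocalIdeal_algInt hM haM

end Rep

end Cfsg.Agent.Lib.Helper24
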