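import Mathlib
import Cfsg.Prelude.Def_Blocks
import Cfsg.Prelude.Def_BrauerPairs
import Cfsg.Agent.Lib.Helper24.Osima
import Cfsg.Agent.Lib.Helper24.OrbitSum

/-!
# The Brauer map is multiplicative modulo the local ideal (helper24)

For a `p`-subgroup `P` of `G` with centralizer `C`, and `P`-invariant functions `a b : G → ℂ`
with local-integral values, the restriction to `C` of the group algebra product `conv a b` is
congruent, coefficientwise modulo the local ideal, to the product of the restrictions.
-/

set_option autoImplicit false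

namespace Cfsg.Agent.Lib.Helper24

open Cfsg.Agent.Lib.Helper2
open scoped ComplexConjugate

section

variable {G : Type*} [Group G]

/-- restriction of a function on `G` to a subgroup -/
def restrictTo (H : Subgroup G) (a : G → ℂ) : H → ℂ := fun h => a h

theorem restrictTo_apply (H : Subgroup G) (a : G → ℂ) (h : H) : restrictTo H a h = a h := rfl

theorem restrictTo_isClassFunction (H : Subgroup G) (a : G → ℂ) (ha : Cfsg.IsClassFunction G a) :
    Cfsg.IsClassFunction H (restrictTo H a) := by
  intro g x
  simp only [restrictTo_apply, Subgroup.coe_mul, Subgroup.coe_inv]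
  exact ha g x

theorem restrictTo_add (H : Subgroup G) (a b : G → ℂ) :
    restrictTo H (a + b) = restrictTo H a + restrictTo H b := rfl

theorem restrictTo_sub (H : Subgroup G) (a b : G → ℂ) :
    restrictTo H (a - b) = restrictTo H a - restrictTo H b := rfl

theorem restrictTo_smul (H : Subgroup G) (c : ℂ) (a : G → ℂ) :
    restrictTo H (c • a) = c • restrictTo H a := rfl

theorem restrictTo_sum (H : Subgroup G) {ι : Type*} (s : Finset ι) (f : ι → G → ℂ) :
    restrictTo H (∑ i ∈ s, f i) = ∑ i ∈ s, restrictTo H (f i) := by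
  ext h
  simp [restrictTo_apply, Finset.sum_apply]

/-- conjugation action of a subgroup `P` on the complement of its centralizer -/
def conjActionCompl (P : Subgroup G) :
    MulAction P {x : G // x ∉ Subgroup.centralizer (P : Set G)} where
  smul u x := ⟨u * x * (u : G)⁻¹, by
    intro hmem
    apply x.2
    rw [Subgroup.mem_centralizer_iff] at hmem ⊢
    intro w hw
    have hv : (u : G)⁻¹ * w * u ∈ P := by
      have := P.mul_mem (P.mul_mem (P.inv_mem u.2) hw) u.2
      exact this
    have h1 := hmem _ (show (u : G) * w * (u : G)⁻¹ ∈ P from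
      P.mul_mem (P.mul_mem u.2 hw) (P.inv_mem u.2))
    -- (u w u⁻¹)(u x u⁻¹) = (u x u⁻¹)(u w u⁻¹)
    have h2 : (u : G) * (w * x) * (u : G)⁻¹ = (u : G) * (x * w) * (u : G)⁻¹ := by
      calc (u : G) * (w * x) * (u : G)⁻¹
          = ((u : G) * w * (u : G)⁻¹) * ((u : G) * x * (u : G)⁻¹) := by group
        _ = ((u : G) * x * (u : G)⁻¹) * ((u : G) * w * (u : G)⁻¹) := h1
        _ = (u : G) * (x * w) * (u : G)⁻¹ := by group
    exact mul_left_cancel (mul_right_cancel h2)⟩
  one_smul x := by
    apply Subtype.ext
    show ((1 : P) : G) * x * ((1 : P) : G)⁻¹ = x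
    simp
  mul_smul u v x := by
    apply Subtype.ext
    show ((u * v : P) : G) * x * ((u * v : P) : G)⁻¹ = u * (v * x * (v : G)⁻¹) * (u : G)⁻¹
    rw [Subgroup.coe_mul]; group

end

section

variable {G : Type*} [Group G] [Fintype G] {p : ℕ} {M : Ideal Cfsg.AlgInt}

theorem brauerOmega_eq_omega (P : Subgroup G) [Fintype (Subgroup.centralizer (P : Set G))]
    (β : G → ℂ) (ξ : Subgroup.centralizer (P : Set G) → ℂ) :
    Cfsg.brauerOmega P β ξ = omega ξ (restrictTo (Subgroup.centralizer (P : Set G)) β) := by
  classical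
  unfold Cfsg.brauerOmega omega
  rw [finsum_eq_sum_of_fintype, Finset.sum_div]
  rfl

/-- central characters map class functions with coefficients in the local ideal into the local
ideal -/
theorem omega_memLocalIdeal_of_coeff (hM : Cfsg.IsPModular p M) (ξ : Cfsg.IrrCharacter G)
    (a : G → ℂ) (ha : Cfsg.IsClassFunction G a) (hint : ∀ g, Cfsg.MemLocalIdeal M (a g)) :
    Cfsg.MemLocalIdeal M (omega (ξ : G → ℂ) a) := by
  rw [omega_eq_sum]
  apply sum_mul_inv_index_mem (MlocC hM)
  · intro g x
    simp only
    rw [ha, centralChar_isClassFunction _ (IrrCharacter.isClassFunction ξ)]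
  · intro g
    exact memLocalIdeal_mul_right hM (hint g) (centralChar_memLocalRing hM ξ g)

/-- **The Brauer map is multiplicative modulo the local ideal.** -/
theorem conv_restrict_sub_memLocalIdeal (hM : Cfsg.IsPModular p M) (P : Subgroup G)
    [Fintype (Subgroup.centralizer (P : Set G))] (hP : IsPGroup p P) (a b : G → ℂ)
    (ha : ∀ g, Cfsg.MemLocalRing M (a g)) (hb : ∀ g, Cfsg.MemLocalRing M (b g))
    (haP : ∀ u ∈ P, ∀ g, a (u * g * u⁻¹) = a g) (hbP : ∀ u ∈ P, ∀ g, b (u * g * u⁻¹) = b g)
    (c : Subgroup.centralizer (P : Set G)) :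
    Cfsg.MemLocalIdeal M (conv a b c
      - conv (restrictTo (Subgroup.centralizer (P : Set G)) a)
          (restrictTo (Subgroup.centralizer (P : Set G)) b) c) := by
  classical
  haveI : Fact p.Prime := ⟨hM.1⟩
  let F : G → ℂ := fun h => a h * b (h⁻¹ * c)
  have hsplit := Fintype.sum_subtype_add_sum_subtype (fun x : G => x ∈ Subgroup.centralizer (P : Set G)) F
  have h1 : conv a b c = ∑ h : G, F h := rfl
  have h2 : conv (restrictTo (Subgroup.centralizer (P : Set G)) a)
        (restrictTo (Subgroup.centralizer (P : Set G)) b) c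
      = ∑ h : Subgroup.centralizer (P : Set G), F h := by
    rw [conv_apply]
    rfl
  have h3 : (∑ h : Subgroup.centralizer (P : Set G), F h)
      = @Finset.sum _ _ _ (@Finset.univ _ (Subtype.fintype _))
        (fun i : {x : G // x ∈ Subgroup.centralizer (P : Set G)} => F i) :=
    @Fintype.sum_equiv _ _ _ _ (Subtype.fintype _) _ (Equiv.refl _) _ _ (fun h => rfl)
  rw [h1, ← hsplit, h2, h3, add_sub_cancel_left]
  -- the sum over the complement
  letI := conjActionCompl P
  have hFR : ∀ h : G, Cfsg.MemLocalRing M (F h) := fun h => memLocalRing_mul hM (ha h) (hb _)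
  let f : {x : G // x ∉ Subgroup.centralizer (P : Set G)} → Rloc hM := fun x => ⟨F x, hFR x⟩
  have key := sum_mem_of_no_fixed (Q := P) hP (Mloc hM).toAddSubgroup
    (by
      intro z
      show p • z ∈ Mloc hM
      rw [nsmul_eq_mul]
      apply Ideal.mul_mem_right
      rw [mem_Mloc]
      have : ((p : Rloc hM) : ℂ) = (p : ℂ) := by simp
      rw [this]
      exact (memLocalIdeal_natCast_iff hM p).mpr dvd_rfl)
    f
    (by
      intro u x
      have hinv : F ((u : G) * x * (u : G)⁻¹) = F x := by
        simp only [F]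
        rw [haP u u.2]
        have hcu : (c : G) * (u : G)⁻¹ = (u : G)⁻¹ * c := by
          have hc := c.2
          rw [Subgroup.mem_centralizer_iff] at hc
          have := hc _ (P.inv_mem u.2)
          exact this.symm
        have : ((u : G) * x * (u : G)⁻¹)⁻¹ * (c : G) = (u : G) * ((x : G)⁻¹ * c) * (u : G)⁻¹ := by
          calc ((u : G) * x * (u : G)⁻¹)⁻¹ * (c : G)
              = (u : G) * (x : G)⁻¹ * ((u : G)⁻¹ * c) := by group
            _ = (u : G) * (x : G)⁻¹ * ((c : G) * (u : G)⁻¹) := by rw [hcu]
            _ = (u : G) * ((x : G)⁻¹ * c) * (u : G)⁻¹ := by group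
        rw [this, hbP u u.2]
      have : f (u • x) - f x = 0 := by
        apply Subtype.ext
        show F ((u : G) * x * (u : G)⁻¹) - F x = 0
        rw [hinv, sub_self]
      rw [this]
      exact (Mloc hM).toAddSubgroup.zero_mem)
    (by
      intro x
      by_contra hcon
      push Not at hcon
      apply x.2
      rw [Subgroup.mem_centralizer_iff]
      intro w hw
      have h3 := congrArg Subtype.val (hcon ⟨w, hw⟩)
      have h4 : w * (x : G) * w⁻¹ = x := h3
      calc w * (x : G) = (w * (x : G) * w⁻¹) * w := by group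
        _ = x * w := by rw [h4])
  have hcoe : ((∑ x, f x : Rloc hM) : ℂ) = ∑ i : {x : G // x ∉ Subgroup.centralizer (P : Set G)}, F i := by
    rw [AddSubmonoidClass.coe_finset_sum]
  rw [← hcoe]
  exact key

/-- the Brauer map composed with a central character is multiplicative modulo the local ideal -/
theorem omega_restrict_conv (hM : Cfsg.IsPModular p M) (P : Subgroup G)
    [Fintype (Subgroup.centralizer (P : Set G))] (hP : IsPGroup p P)
    (a b : G → ℂ) (ha : ∀ g, Cfsg.MemLocalRing M (a g)) (hb : ∀ g, Cfsg.MemLocalRing M (b g))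
    (haP : ∀ u ∈ P, ∀ g, a (u * g * u⁻¹) = a g) (hbP : ∀ u ∈ P, ∀ g, b (u * g * u⁻¹) = b g)
    (hac : Cfsg.IsClassFunction (Subgroup.centralizer (P : Set G))
      (restrictTo (Subgroup.centralizer (P : Set G)) a))
    (hbc : Cfsg.IsClassFunction (Subgroup.centralizer (P : Set G))
      (restrictTo (Subgroup.centralizer (P : Set G)) b))
    (habc : Cfsg.IsClassFunction (Subgroup.centralizer (P : Set G))
      (restrictTo (Subgroup.centralizer (P : Set G)) (conv a b)))
    (ξ : Cfsg.IrrCharacter (Subgroup.centralizer (P : Set G))) :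
    Cfsg.MemLocalIdeal M
      (omega (ξ : _ → ℂ) (restrictTo (Subgroup.centralizer (P : Set G)) (conv a b))
        - omega (ξ : _ → ℂ) (restrictTo (Subgroup.centralizer (P : Set G)) a)
          * omega (ξ : _ → ℂ) (restrictTo (Subgroup.centralizer (P : Set G)) b)) := by
  classical
  rw [← omega_conv ξ _ _ hac hbc, ← omega_sub]
  apply omega_memLocalIdeal_of_coeff hM ξ
  · exact isClassFunction_sub habc (conv_isClassFunction _ _ hac hbc)
  · intro c
    have := conv_restrict_sub_memLocalIdeal hM P hP a b ha hb haP hbP c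
    exact this

end

end Cfsg.Agent.Lib.Helper24
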