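import Mathlib
import Cfsg.Prelude.Def_Blocks
import Cfsg.Prelude.Def_BrauerPairs
import Cfsg.Agent.Lib.Helper24.BrauerMap
import Cfsg.Agent.Lib.Helper24.Defect

/-!
# Brauer pairs: orthogonal idempotents modulo the local ideal (helper24)
-/

set_option autoImplicit false

namespace Cfsg.Agent.Lib.Helper24

open Cfsg.Agent.Lib.Helper2
open scoped ComplexConjugate

section Abstract

variable {p : ℕ} {M : Ideal Cfsg.AlgInt}

/-- an element of the local ring that is idempotent modulo the local ideal is congruent to `0`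
or to `1` -/
theorem memLocalIdeal_or_sub_one_of_idem (hM : Cfsg.IsPModular p M) {v : ℂ}
    (hv : Cfsg.MemLocalRing M v) (hidem : Cfsg.MemLocalIdeal M (v * v - v)) :
    Cfsg.MemLocalIdeal M v ∨ Cfsg.MemLocalIdeal M (v - 1) := by
  apply memLocalIdeal_or_of_mul hM hv (memLocalRing_sub hM hv (memLocalRing_one hM))
  have : v * (v - 1) = v * v - v := by ring
  rw [this]
  exact hidem

/-- Orthogonal idempotents modulo the local ideal that sum to `1`: exactly one of them is
congruent to `1`. -/
theorem exists_unique_of_orthogonal_idempotents (hM : Cfsg.IsPModular p M) {ι : Type*}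
    (s : Finset ι) (v : ι → ℂ)
    (hv : ∀ i ∈ s, Cfsg.MemLocalRing M (v i))
    (hidem : ∀ i ∈ s, Cfsg.MemLocalIdeal M (v i * v i - v i))
    (horth : ∀ i ∈ s, ∀ j ∈ s, i ≠ j → Cfsg.MemLocalIdeal M (v i * v j))
    (hsum : Cfsg.MemLocalIdeal M (∑ i ∈ s, v i - 1)) :
    ∃ i ∈ s, Cfsg.MemLocalIdeal M (v i - 1) ∧
      ∀ j ∈ s, Cfsg.MemLocalIdeal M (v j - 1) → j = i := by
  classical
  have hex : ∃ i ∈ s, Cfsg.MemLocalIdeal M (v i - 1) := by
    by_contra hcon
    push Not at hcon
    have hall : ∀ i ∈ s, Cfsg.MemLocalIdeal M (v i) := by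
      intro i hi
      rcases memLocalIdeal_or_sub_one_of_idem hM (hv i hi) (hidem i hi) with h | h
      · exact h
      · exact absurd h (hcon i hi)
    have h1 := memLocalIdeal_sum hM s v hall
    have h2 := memLocalIdeal_sub hM h1 hsum
    have : (∑ i ∈ s, v i) - (∑ i ∈ s, v i - 1) = 1 := by ring
    rw [this] at h2
    exact not_memLocalIdeal_one hM h2
  obtain ⟨i, hi, hvi⟩ := hex
  refine ⟨i, hi, hvi, ?_⟩
  intro j hj hvj
  by_contra hne
  have h1 := horth j hj i hi hne
  -- v j * v i = (v j - 1) * v i + (v i - 1) + 1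
  have h2 : Cfsg.MemLocalIdeal M ((v j - 1) * v i + (v i - 1)) :=
    memLocalIdeal_add hM (memLocalIdeal_mul_right hM hvj (hv i hi)) hvi
  have h3 := memLocalIdeal_sub hM h1 h2
  have : v j * v i - ((v j - 1) * v i + (v i - 1)) = 1 := by ring
  rw [this] at h3
  exact not_memLocalIdeal_one hM h3

end Abstract

section Blocks

variable {G : Type*} [Group G] [Fintype G] {p : ℕ} {M : Ideal Cfsg.AlgInt}

theorem omega_sum (χ : G → ℂ) {ι : Type*} (s : Finset ι) (a : ι → G → ℂ) :
    omega χ (∑ i ∈ s, a i) = ∑ i ∈ s, omega χ (a i) := by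
  classical
  induction s using Finset.induction_on with
  | empty => simp [omega_zero]
  | insert i s hi ih => rw [Finset.sum_insert hi, Finset.sum_insert hi, omega_add, ih]

/-- block idempotents of disjoint sets of characters are orthogonal -/
theorem conv_blockCoeff_of_disjoint (B B' : Set (Cfsg.IrrCharacter G)) (h : Disjoint B B') :
    conv (Cfsg.blockCoeff B) (Cfsg.blockCoeff B') = 0 := by
  classical
  apply eq_zero_of_omega_eq_zero _
    (conv_isClassFunction _ _ (blockCoeff_isClassFunction B) (blockCoeff_isClassFunction B'))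
  intro χ
  rw [omega_conv χ _ _ (blockCoeff_isClassFunction B) (blockCoeff_isClassFunction B'),
    omega_blockCoeff, omega_blockCoeff]
  by_cases h1 : χ ∈ B
  · have h2 : χ ∉ B' := fun h2 => Set.disjoint_left.mp h h1 h2
    rw [if_neg h2, mul_zero]
  · rw [if_neg h1, zero_mul]

/-- the finite set of all blocks -/
noncomputable def blocksFinset (M : Ideal Cfsg.AlgInt) (G : Type*) [Group G] [Fintype G] :
    Finset (Set (Cfsg.IrrCharacter G)) := by
  classical
  haveI : Fintype (Cfsg.IrrCharacter G) := Fintype.ofFinite _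
  exact Finset.univ.image (fun χ : Cfsg.IrrCharacter G => Cfsg.blockOf M (χ : G → ℂ))

theorem mem_blocksFinset (B : Set (Cfsg.IrrCharacter G)) :
    B ∈ blocksFinset M G ↔ Cfsg.IsPBlock M B := by
  classical
  unfold blocksFinset Cfsg.IsPBlock
  simp only [Finset.mem_image, Finset.mem_univ, true_and]
  constructor
  · rintro ⟨χ, rfl⟩; exact ⟨χ, rfl⟩
  · rintro ⟨χ, rfl⟩; exact ⟨χ, rfl⟩

/-- distinct blocks are disjoint -/
theorem disjoint_of_isPBlock_of_ne (hM : Cfsg.IsPModular p M) {B B' : Set (Cfsg.IrrCharacter G)}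
    (hB : Cfsg.IsPBlock M B) (hB' : Cfsg.IsPBlock M B') (hne : B ≠ B') : Disjoint B B' := by
  rw [Set.disjoint_left]
  intro χ h1 h2
  apply hne
  rw [eq_blockOf_of_mem hM hB h1, eq_blockOf_of_mem hM hB' h2]

/-- the block idempotents sum to the identity of the group algebra -/
theorem sum_blockCoeff_blocksFinset (hM : Cfsg.IsPModular p M) :
    ∑ B ∈ blocksFinset M G, Cfsg.blockCoeff B = (deltaOne : G → ℂ) := by
  classical
  apply eq_of_omega_eq
  · apply isClassFunction_sum
    intro B _
    exact blockCoeff_isClassFunction B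
  · exact deltaOne_isClassFunction
  intro χ
  rw [omega_sum, omega_deltaOne _ (Cfsg.Agent.Lib.Helper25.irr_one_ne_zero χ.2)]
  have h1 : ∀ B ∈ blocksFinset M G, omega (χ : G → ℂ) (Cfsg.blockCoeff B)
      = if B = Cfsg.blockOf M (χ : G → ℂ) then 1 else 0 := by
    intro B hB
    rw [mem_blocksFinset] at hB
    rw [omega_blockCoeff]
    by_cases h : χ ∈ B
    · rw [if_pos h, if_pos (eq_blockOf_of_mem hM hB h)]
    · rw [if_neg h, if_neg]
      intro h2
      apply h
      rw [h2]
      exact mem_blockOf_self hM χ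
  rw [Finset.sum_congr rfl h1, Finset.sum_ite_eq']
  rw [if_pos]
  rw [mem_blocksFinset]
  exact ⟨χ, rfl⟩

end Blocks

section Pairs

variable {G : Type*} [Group G] [Fintype G] {p : ℕ} {M : Ideal Cfsg.AlgInt}

theorem brauerOmega_memLocalRing (hM : Cfsg.IsPModular p M) (P : Subgroup G)
    (a : G → ℂ)
    (hac : Cfsg.IsClassFunction (Subgroup.centralizer (P : Set G))
      (restrictTo (Subgroup.centralizer (P : Set G)) a))
    (ha : ∀ g, Cfsg.MemLocalRing M (a g))
    (ξ : Cfsg.IrrCharacter (Subgroup.centralizer (P : Set G))) :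
    Cfsg.MemLocalRing M (Cfsg.brauerOmega P a ξ.1) := by
  classical
  haveI : Fintype (Subgroup.centralizer (P : Set G)) := Fintype.ofFinite _
  rw [brauerOmega_eq_omega]
  exact omega_memLocalRing hM ξ _ hac (fun c => ha c)

theorem brauerOmega_congr (hM : Cfsg.IsPModular p M) (P : Subgroup G)
    (a : G → ℂ)
    (hac : Cfsg.IsClassFunction (Subgroup.centralizer (P : Set G))
      (restrictTo (Subgroup.centralizer (P : Set G)) a))
    (ha : ∀ g, Cfsg.MemLocalRing M (a g))
    (ξ ξ' : Cfsg.IrrCharacter (Subgroup.centralizer (P : Set G)))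
    (h : Cfsg.SameBlock M ξ.1 ξ'.1) :
    Cfsg.MemLocalIdeal M (Cfsg.brauerOmega P a ξ.1 - Cfsg.brauerOmega P a ξ'.1) := by
  classical
  haveI : Fintype (Subgroup.centralizer (P : Set G)) := Fintype.ofFinite _
  rw [brauerOmega_eq_omega, brauerOmega_eq_omega]
  exact omega_sub_memLocalIdeal hM ξ ξ' h _ hac (fun c => ha c)

theorem brauerOmega_conv (hM : Cfsg.IsPModular p M) (P : Subgroup G) (hP : IsPGroup p P)
    (a b : G → ℂ) (ha : ∀ g, Cfsg.MemLocalRing M (a g)) (hb : ∀ g, Cfsg.MemLocalRing M (b g))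
    (haP : ∀ u ∈ P, ∀ g, a (u * g * u⁻¹) = a g) (hbP : ∀ u ∈ P, ∀ g, b (u * g * u⁻¹) = b g)
    (hac : Cfsg.IsClassFunction (Subgroup.centralizer (P : Set G))
      (restrictTo (Subgroup.centralizer (P : Set G)) a))
    (hbc : Cfsg.IsClassFunction (Subgroup.centralizer (P : Set G))
      (restrictTo (Subgroup.centralizer (P : Set G)) b))
    (habc : Cfsg.IsClassFunction (Subgroup.centralizer (P : Set G))
      (restrictTo (Subgroup.centralizer (P : Set G)) (conv a b)))
    (ξ : Cfsg.IrrCharacter (Subgroup.centralizer (P : Set G))) :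
    Cfsg.MemLocalIdeal M (Cfsg.brauerOmega P (conv a b) ξ.1
      - Cfsg.brauerOmega P a ξ.1 * Cfsg.brauerOmega P b ξ.1) := by
  classical
  haveI : Fintype (Subgroup.centralizer (P : Set G)) := Fintype.ofFinite _
  rw [brauerOmega_eq_omega, brauerOmega_eq_omega, brauerOmega_eq_omega]
  exact omega_restrict_conv hM P hP a b ha hb haP hbP hac hbc habc ξ

theorem brauerOmega_add (P : Subgroup G) (a b : G → ℂ)
    (ξ : Subgroup.centralizer (P : Set G) → ℂ) :
    Cfsg.brauerOmega P (a + b) ξ = Cfsg.brauerOmega P a ξ + Cfsg.brauerOmega P b ξ := by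
  classical
  haveI : Fintype (Subgroup.centralizer (P : Set G)) := Fintype.ofFinite _
  rw [brauerOmega_eq_omega, brauerOmega_eq_omega, brauerOmega_eq_omega, restrictTo_add, omega_add]

theorem brauerOmega_sub (P : Subgroup G) (a b : G → ℂ)
    (ξ : Subgroup.centralizer (P : Set G) → ℂ) :
    Cfsg.brauerOmega P (a - b) ξ = Cfsg.brauerOmega P a ξ - Cfsg.brauerOmega P b ξ := by
  classical
  haveI : Fintype (Subgroup.centralizer (P : Set G)) := Fintype.ofFinite _
  rw [brauerOmega_eq_omega, brauerOmega_eq_omega, brauerOmega_eq_omega, restrictTo_sub, omega_sub]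

theorem brauerOmega_smul (P : Subgroup G) (c : ℂ) (a : G → ℂ)
    (ξ : Subgroup.centralizer (P : Set G) → ℂ) :
    Cfsg.brauerOmega P (c • a) ξ = c * Cfsg.brauerOmega P a ξ := by
  classical
  haveI : Fintype (Subgroup.centralizer (P : Set G)) := Fintype.ofFinite _
  rw [brauerOmega_eq_omega, brauerOmega_eq_omega, restrictTo_smul, omega_smul]

theorem brauerOmega_zero (P : Subgroup G) (ξ : Subgroup.centralizer (P : Set G) → ℂ) :
    Cfsg.brauerOmega P 0 ξ = 0 := by
  classical
  haveI : Fintype (Subgroup.centralizer (P : Set G)) := Fintype.ofFinite _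
  rw [brauerOmega_eq_omega]
  exact omega_zero _

theorem brauerOmega_sum (P : Subgroup G) {ι : Type*} (s : Finset ι) (a : ι → G → ℂ)
    (ξ : Subgroup.centralizer (P : Set G) → ℂ) :
    Cfsg.brauerOmega P (∑ i ∈ s, a i) ξ = ∑ i ∈ s, Cfsg.brauerOmega P (a i) ξ := by
  classical
  induction s using Finset.induction_on with
  | empty => simp [brauerOmega_zero]
  | insert i s hi ih => rw [Finset.sum_insert hi, Finset.sum_insert hi, brauerOmega_add, ih]

theorem brauerOmega_deltaOne (P : Subgroup G) (ξ : Subgroup.centralizer (P : Set G) → ℂ)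
    (h : ξ 1 ≠ 0) : Cfsg.brauerOmega P (deltaOne : G → ℂ) ξ = 1 := by
  classical
  haveI : Fintype (Subgroup.centralizer (P : Set G)) := Fintype.ofFinite _
  rw [brauerOmega_eq_omega]
  have : restrictTo (Subgroup.centralizer (P : Set G)) (deltaOne : G → ℂ) = deltaOne := by
    ext c
    unfold restrictTo deltaOne
    by_cases hc : c = 1
    · subst hc; simp
    · have : (c : G) ≠ 1 := fun h' => hc (Subtype.ext h')
      simp [hc, this]
  rw [this]
  exact omega_deltaOne _ h

/-- **Every Brauer pair belongs to a unique block.** -/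
theorem existsUnique_block_of_brauerPair (hM : Cfsg.IsPModular p M) (P : Subgroup G)
    (e : Set (Cfsg.IrrCharacter (Subgroup.centralizer (P : Set G))))
    (hPe : Cfsg.IsBrauerPair p M P e) :
    ∃! B : Set (Cfsg.IrrCharacter G), Cfsg.IsBrauerPairOf p M B P e := by
  classical
  obtain ⟨hP, he⟩ := hPe
  obtain ⟨ξ₀, hξ₀⟩ := isPBlock_nonempty hM he
  have hcf : ∀ B : Set (Cfsg.IrrCharacter G),
      Cfsg.IsClassFunction (Subgroup.centralizer (P : Set G))
        (restrictTo (Subgroup.centralizer (P : Set G)) (Cfsg.blockCoeff B)) := fun B =>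
    restrictTo_isClassFunction _ _ (blockCoeff_isClassFunction B)
  have hinv : ∀ B : Set (Cfsg.IrrCharacter G), ∀ u ∈ P, ∀ g,
      Cfsg.blockCoeff B (u * g * u⁻¹) = Cfsg.blockCoeff B g := fun B u _ g =>
    blockCoeff_isClassFunction B g u
  have key := exists_unique_of_orthogonal_idempotents hM (blocksFinset M G)
    (fun B => Cfsg.brauerOmega P (Cfsg.blockCoeff B) ξ₀.1)
    (by
      intro B hB
      rw [mem_blocksFinset] at hB
      exact brauerOmega_memLocalRing hM P _ (hcf B) (blockCoeff_memLocalRing hM B hB) ξ₀)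
    (by
      intro B hB
      rw [mem_blocksFinset] at hB
      have := brauerOmega_conv hM P hP (Cfsg.blockCoeff B) (Cfsg.blockCoeff B)
        (blockCoeff_memLocalRing hM B hB) (blockCoeff_memLocalRing hM B hB)
        (hinv B) (hinv B) (hcf B) (hcf B)
        (by rw [conv_blockCoeff_self]; exact hcf B) ξ₀
      rw [conv_blockCoeff_self] at this
      have h2 := memLocalIdeal_neg this
      rw [neg_sub] at h2
      exact h2)
    (by
      intro B hB B' hB' hne
      rw [mem_blocksFinset] at hB hB'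
      have hz := conv_blockCoeff_of_disjoint B B' (disjoint_of_isPBlock_of_ne hM hB hB' hne)
      have := brauerOmega_conv hM P hP (Cfsg.blockCoeff B) (Cfsg.blockCoeff B')
        (blockCoeff_memLocalRing hM B hB) (blockCoeff_memLocalRing hM B' hB')
        (hinv B) (hinv B') (hcf B) (hcf B')
        (by
          rw [hz]
          intro g x
          rfl) ξ₀
      rw [hz, brauerOmega_zero, zero_sub] at this
      have h2 := memLocalIdeal_neg this
      rw [neg_neg] at h2
      exact h2)
    (by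
      rw [← brauerOmega_sum, sum_blockCoeff_blocksFinset hM,
        brauerOmega_deltaOne P _ (Cfsg.Agent.Lib.Helper25.irr_one_ne_zero ξ₀.2), sub_self]
      exact memLocalIdeal_zero hM)
  obtain ⟨B, hB, hB1, hBuniq⟩ := key
  rw [mem_blocksFinset] at hB
  have hto : ∀ B' : Set (Cfsg.IrrCharacter G), Cfsg.IsPBlock M B' →
      (Cfsg.MemLocalIdeal M (Cfsg.brauerOmega P (Cfsg.blockCoeff B') ξ₀.1 - 1) ↔
        Cfsg.IsBrauerPairOf p M B' P e) := by
    intro B' hB'
    constructor
    · intro h
      refine ⟨⟨hP, he⟩, hB', ?_⟩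
      intro ξ hξ
      have hc := brauerOmega_congr hM P _ (hcf B') (blockCoeff_memLocalRing hM B' hB') ξ ξ₀
        (sameBlock_of_mem hM he hξ hξ₀)
      have := memLocalIdeal_add hM hc h
      rw [sub_add_sub_cancel] at this
      exact this
    · intro h
      exact h.2.2 ξ₀ hξ₀
  refine ⟨B, (hto B hB).mp hB1, ?_⟩
  intro B' hB'
  have hB'blk : Cfsg.IsPBlock M B' := hB'.2.1
  exact hBuniq B' ((mem_blocksFinset B').mpr hB'blk) ((hto B' hB'blk).mpr hB')

end Pairs

end Cfsg.Agent.Lib.Helper24
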