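import Mathlib
import Cfsg.Agent.Lib.Helper24.OrbitSum

/-!
# Sums over a `p`-group action modulo `p`: reduction to fixed points (helper24 library)
-/

set_option autoImplicit false

namespace Cfsg.Agent.Lib.Helper24

/-- the action on the set of non-fixed points -/
def nonFixedAction (Q : Type*) [Group Q] (K : Type*) [MulAction Q K] :
    MulAction Q {x : K // ¬ ∀ u : Q, u • x = x} where
  smul u x := ⟨u • x.1, by
    intro hfix
    apply x.2
    intro w
    have := hfix (u * w * u⁻¹)
    rw [← mul_smul, inv_mul_cancel_right, mul_smul] at this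
    exact smul_left_cancel u this⟩
  one_smul x := Subtype.ext (one_smul Q x.1)
  mul_smul u v x := Subtype.ext (mul_smul u v x.1)

/-- If a finite `p`-group `Q` acts on a finite set `K` and `f : K → A` is `Q`-invariant modulo a
subgroup `S` containing `p A`, then `∑ f` is congruent modulo `S` to the sum over the fixed
points. -/
theorem sum_sub_sum_fixed_mem {p : ℕ} [Fact p.Prime] {Q : Type*} [Group Q] [Finite Q]
    (hQ : IsPGroup p Q) {K : Type*} [Fintype K] [MulAction Q K] {A : Type*} [AddCommGroup A]
    (S : AddSubgroup A) (hp : ∀ a : A, p • a ∈ S) (f : K → A)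
    (hf : ∀ (u : Q) (x : K), f (u • x) - f x ∈ S)
    [DecidablePred (fun x : K => ∀ u : Q, u • x = x)] :
    ∑ x, f x - ∑ x ∈ Finset.univ.filter (fun x : K => ∀ u : Q, u • x = x), f x ∈ S := by
  classical
  rw [← Finset.sum_filter_add_sum_filter_not Finset.univ (fun x : K => ∀ u : Q, u • x = x) f,
    add_sub_cancel_left]
  letI := nonFixedAction Q K
  have key := sum_mem_of_no_fixed hQ S hp (fun x : {x : K // ¬ ∀ u : Q, u • x = x} => f x.1)
    (fun u x => hf u x.1)
    (by
      intro x
      by_contra hcon
      push Not at hcon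
      apply x.2
      intro u
      exact congrArg Subtype.val (hcon u))
  have : ∑ x ∈ Finset.univ.filter (fun x : K => ¬ ∀ u : Q, u • x = x), f x
      = ∑ x : {x : K // ¬ ∀ u : Q, u • x = x}, f x.1 := by
    rw [Finset.sum_subtype (Finset.univ.filter (fun x : K => ¬ ∀ u : Q, u • x = x))
      (p := fun x => ¬ ∀ u : Q, u • x = x) (by intro x; simp)]
  rw [this]
  exact key

end Cfsg.Agent.Lib.Helper24
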