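import Mathlib
import Cfsg.Prelude.Def_Blocks
import Cfsg.Prelude.Def_BrauerPairs
import Cfsg.Agent.Lib.Helper24.BrauerPairs
import Cfsg.Agent.Lib.Helper7.Induced
import Cfsg.Agent.Lib.Helper11.Frobenius

/-!
# Central elements of subgroup algebras under the Brauer map (helper24)

Functions on a subgroup `K` are extended by zero to `G`; the Brauer map at a `p`-subgroup `P`
normalizing `K` with `C_G(P) ≤ K` composed with a central character of `C_G(P)` kills every
`P`-invariant central element of `K` all of whose central character values lie in the local ideal.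
-/

set_option autoImplicit false

namespace Cfsg.Agent.Lib.Helper24

open Cfsg.Agent.Lib.Helper2 Cfsg.Agent.Lib.Helper7
open scoped ComplexConjugate

section Ext

variable {G : Type*} [Group G]

theorem extZ_add (K : Subgroup G) (a b : K → ℂ) :
    Cfsg.extendByZero K (a + b) = Cfsg.extendByZero K a + Cfsg.extendByZero K b := by
  ext g
  by_cases hg : g ∈ K
  · simp [extendByZero_apply_mem K _ hg]
  · simp [extendByZero_apply_not_mem K _ hg]

theorem extZ_sub (K : Subgroup G) (a b : K → ℂ) :
    Cfsg.extendByZero K (a - b) = Cfsg.extendByZero K a - Cfsg.extendByZero K b := by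
  ext g
  by_cases hg : g ∈ K
  · simp [extendByZero_apply_mem K _ hg]
  · simp [extendByZero_apply_not_mem K _ hg]

theorem extZ_smul (K : Subgroup G) (c : ℂ) (a : K → ℂ) :
    Cfsg.extendByZero K (c • a) = c • Cfsg.extendByZero K a := by
  ext g
  by_cases hg : g ∈ K
  · simp [extendByZero_apply_mem K _ hg]
  · simp [extendByZero_apply_not_mem K _ hg]

theorem extZ_zero (K : Subgroup G) : Cfsg.extendByZero K (0 : K → ℂ) = 0 := by
  ext g
  by_cases hg : g ∈ K
  · simp [extendByZero_apply_mem K _ hg]
  · simp [extendByZero_apply_not_mem K _ hg]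

theorem extZ_deltaOne (K : Subgroup G) :
    Cfsg.extendByZero K (deltaOne : K → ℂ) = (deltaOne : G → ℂ) := by
  classical
  ext g
  by_cases hg : g ∈ K
  · rw [extendByZero_apply_mem K _ hg]
    unfold deltaOne
    by_cases h1 : g = 1
    · subst h1; simp
    · have : (⟨g, hg⟩ : K) ≠ 1 := fun h => h1 (congrArg Subtype.val h)
      simp [h1, this]
  · rw [extendByZero_apply_not_mem K _ hg]
    unfold deltaOne
    have : g ≠ 1 := fun h => hg (h ▸ K.one_mem)
    simp [this]

theorem subgroupBlockCoeff_eq_extZ (K : Subgroup G) (f : Set (Cfsg.IrrCharacter K)) :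
    Cfsg.subgroupBlockCoeff K f = Cfsg.extendByZero K (Cfsg.blockCoeff f) := by
  classical
  ext g
  unfold Cfsg.subgroupBlockCoeff
  by_cases hg : g ∈ K
  · rw [extendByZero_apply_mem K _ hg]
    simp [hg]
  · rw [extendByZero_apply_not_mem K _ hg]
    simp [hg]

theorem restrictTo_extZ_of_le {C K : Subgroup G} (h : C ≤ K) (a : K → ℂ) :
    restrictTo C (Cfsg.extendByZero K a) = fun c : C => a ⟨c, h c.2⟩ := by
  ext c
  rw [restrictTo_apply, extendByZero_apply_mem K _ (h c.2)]

theorem restrictTo_extZ_isClassFunction {C K : Subgroup G} (h : C ≤ K) (a : K → ℂ)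
    (ha : Cfsg.IsClassFunction K a) :
    Cfsg.IsClassFunction C (restrictTo C (Cfsg.extendByZero K a)) := by
  rw [restrictTo_extZ_of_le h]
  intro g x
  have := ha ⟨g, h g.2⟩ ⟨x, h x.2⟩
  exact this

theorem restrictTo_self_extZ (K : Subgroup G) (a : K → ℂ) :
    restrictTo K (Cfsg.extendByZero K a) = a := by
  ext c
  rw [restrictTo_apply, extendByZero_apply_coe]

/-- truncation to `K` does not change the restriction to a subgroup of `K` -/
theorem restrictTo_extZ_restrictTo {C K : Subgroup G} (h : C ≤ K) (a : G → ℂ) :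
    restrictTo C (Cfsg.extendByZero K (restrictTo K a)) = restrictTo C a := by
  rw [restrictTo_extZ_of_le h]
  rfl

end Ext

section Conv

variable {G : Type*} [Group G] [Fintype G]

theorem conv_extZ (K : Subgroup G) [Fintype K] (a b : K → ℂ) :
    conv (Cfsg.extendByZero K a) (Cfsg.extendByZero K b) = Cfsg.extendByZero K (conv a b) := by
  classical
  ext g
  rw [conv_apply, Cfsg.Agent.Lib.Helper11.sum_extendByZero_mul K a (fun y => Cfsg.extendByZero K b (y⁻¹ * g))]
  by_cases hg : g ∈ K
  · rw [extendByZero_apply_mem K _ hg, conv_apply]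
    apply Finset.sum_congr rfl
    intro h _
    have hm : (h : G)⁻¹ * g ∈ K := K.mul_mem (K.inv_mem h.2) hg
    rw [extendByZero_apply_mem K _ hm]
    rfl
  · rw [extendByZero_apply_not_mem K _ hg]
    apply Finset.sum_eq_zero
    intro h _
    have hm : (h : G)⁻¹ * g ∉ K := by
      intro hm
      apply hg
      have := K.mul_mem h.2 hm
      simpa using this
    rw [extendByZero_apply_not_mem K _ hm, mul_zero]

/-- the convolution of two functions invariant under conjugation by `u` is invariant -/
theorem conv_conj_invariant (a b : G → ℂ) (u : G) (ha : ∀ g, a (u * g * u⁻¹) = a g)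
    (hb : ∀ g, b (u * g * u⁻¹) = b g) (g : G) : conv a b (u * g * u⁻¹) = conv a b g := by
  rw [conv_apply, conv_apply]
  apply Fintype.sum_equiv (MulAut.conj u⁻¹).toEquiv
  intro h
  simp only [MulEquiv.toEquiv_eq_coe, MulEquiv.coe_toEquiv, MulAut.conj_apply, inv_inv]
  have h1 : a (u⁻¹ * h * u) = a h := by
    have := ha (u⁻¹ * h * u)
    rw [← this]; congr 1; group
  have h2 : b ((u⁻¹ * h * u)⁻¹ * g) = b (h⁻¹ * (u * g * u⁻¹)) := by
    have := hb ((u⁻¹ * h * u)⁻¹ * g)
    rw [← this]; congr 1; group
  rw [h1, h2]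

variable {p : ℕ} {M : Ideal Cfsg.AlgInt}

theorem conv_memLocalRing (hM : Cfsg.IsPModular p M) (a b : G → ℂ)
    (ha : ∀ g, Cfsg.MemLocalRing M (a g)) (hb : ∀ g, Cfsg.MemLocalRing M (b g)) (g : G) :
    Cfsg.MemLocalRing M (conv a b g) := by
  rw [conv_apply]
  apply memLocalRing_sum hM
  intro h _
  exact memLocalRing_mul hM (ha h) (hb _)

theorem extZ_memLocalRing (hM : Cfsg.IsPModular p M) (K : Subgroup G) (a : K → ℂ)
    (ha : ∀ k, Cfsg.MemLocalRing M (a k)) (g : G) :
    Cfsg.MemLocalRing M (Cfsg.extendByZero K a g) := by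
  by_cases hg : g ∈ K
  · rw [extendByZero_apply_mem K _ hg]; exact ha _
  · rw [extendByZero_apply_not_mem K _ hg]; exact memLocalRing_zero hM

theorem deltaOne_memLocalRing (hM : Cfsg.IsPModular p M) (g : G) :
    Cfsg.MemLocalRing M ((deltaOne : G → ℂ) g) := by
  classical
  unfold deltaOne
  by_cases h : g = 1
  · simp only [h, if_true]; exact memLocalRing_one hM
  · simp only [h, if_false]; exact memLocalRing_zero hM

theorem memLocalIdeal_of_pow (hM : Cfsg.IsPModular p M) {z : ℂ} (hz : Cfsg.MemLocalRing M z)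
    (n : ℕ) (h : Cfsg.MemLocalIdeal M (z ^ n)) : Cfsg.MemLocalIdeal M z := by
  induction n with
  | zero =>
    exfalso
    rw [pow_zero] at h
    exact not_memLocalIdeal_one hM h
  | succ n ih =>
    rw [pow_succ] at h
    rcases memLocalIdeal_or_of_mul hM (memLocalRing_pow hM hz n) hz h with h1 | h1
    · exact ih h1
    · exact h1

end Conv

section Nil

/-- the product over a list of irreducible characters `χ` of `a - ω_χ(a)` -/
noncomputable def prodL {K : Type*} [Group K] [Fintype K] (a : K → ℂ) :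
    List (Cfsg.IrrCharacter K) → (K → ℂ)
  | [] => deltaOne
  | χ :: l => conv (a - (omega χ.1 a) • (deltaOne : K → ℂ)) (prodL a l)

variable {G : Type*} [Group G] [Fintype G] {p : ℕ} {M : Ideal Cfsg.AlgInt}

theorem prodL_props (hM : Cfsg.IsPModular p M) (P K : Subgroup G) [Fintype K]
    (hP : IsPGroup p P) (hCK : Subgroup.centralizer (P : Set G) ≤ K)
    (a : K → ℂ) (hac : Cfsg.IsClassFunction K a) (ha : ∀ k, Cfsg.MemLocalRing M (a k))
    (haP : ∀ u ∈ P, ∀ g, Cfsg.extendByZero K a (u * g * u⁻¹) = Cfsg.extendByZero K a g)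
    (hω : ∀ χ : Cfsg.IrrCharacter K, Cfsg.MemLocalIdeal M (omega χ.1 a))
    (ξ : Cfsg.IrrCharacter (Subgroup.centralizer (P : Set G)))
    (l : List (Cfsg.IrrCharacter K)) :
    Cfsg.IsClassFunction K (prodL a l) ∧ (∀ k, Cfsg.MemLocalRing M (prodL a l k)) ∧
    (∀ u ∈ P, ∀ g, Cfsg.extendByZero K (prodL a l) (u * g * u⁻¹)
      = Cfsg.extendByZero K (prodL a l) g) ∧
    (∀ ψ : Cfsg.IrrCharacter K, omega ψ.1 (prodL a l)
      = (l.map (fun χ : Cfsg.IrrCharacter K => omega ψ.1 a - omega χ.1 a)).prod) ∧
    Cfsg.MemLocalIdeal M (Cfsg.brauerOmega P (Cfsg.extendByZero K (prodL a l)) ξ.1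
      - (Cfsg.brauerOmega P (Cfsg.extendByZero K a) ξ.1) ^ l.length) := by
  classical
  have hξ1 : ξ.1 1 ≠ 0 := Cfsg.Agent.Lib.Helper25.irr_one_ne_zero ξ.2
  have hlam : Cfsg.MemLocalRing M (Cfsg.brauerOmega P (Cfsg.extendByZero K a) ξ.1) :=
    brauerOmega_memLocalRing hM P _ (restrictTo_extZ_isClassFunction hCK a hac)
      (extZ_memLocalRing hM K a ha) ξ
  induction l with
  | nil =>
    refine ⟨deltaOne_isClassFunction, deltaOne_memLocalRing hM, ?_, ?_, ?_⟩
    · intro u _ g
      show Cfsg.extendByZero K (deltaOne : K → ℂ) _ = Cfsg.extendByZero K (deltaOne : K → ℂ) _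
      rw [extZ_deltaOne]
      exact deltaOne_isClassFunction g u
    · intro ψ
      show omega ψ.1 (deltaOne : K → ℂ) = _
      rw [omega_deltaOne _ (Cfsg.Agent.Lib.Helper25.irr_one_ne_zero ψ.2)]
      simp
    · show Cfsg.MemLocalIdeal M (Cfsg.brauerOmega P (Cfsg.extendByZero K (deltaOne : K → ℂ)) ξ.1 - _)
      rw [extZ_deltaOne, brauerOmega_deltaOne P _ hξ1]
      simp only [List.length_nil, pow_zero, sub_self]
      exact memLocalIdeal_zero hM
  | cons χ l ih =>
    obtain ⟨ih1, ih2, ih3, ih4, ih5⟩ := ih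
    set c := omega χ.1 a with hc
    have hcM : Cfsg.MemLocalIdeal M c := hω χ
    have hcR : Cfsg.MemLocalRing M c := memLocalRing_of_memLocalIdeal hcM
    set x : K → ℂ := a - c • (deltaOne : K → ℂ) with hx
    set y : K → ℂ := prodL a l with hy
    have hxy : prodL a (χ :: l) = conv x y := rfl
    have hxc : Cfsg.IsClassFunction K x :=
      isClassFunction_sub hac (isClassFunction_smul c deltaOne_isClassFunction)
    have hxR : ∀ k, Cfsg.MemLocalRing M (x k) := by
      intro k
      show Cfsg.MemLocalRing M (a k - c * (deltaOne : K → ℂ) k)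
      exact memLocalRing_sub hM (ha k) (memLocalRing_mul hM hcR (deltaOne_memLocalRing hM k))
    have hxext : Cfsg.extendByZero K x = Cfsg.extendByZero K a - c • (deltaOne : G → ℂ) := by
      rw [hx, extZ_sub, extZ_smul, extZ_deltaOne]
    have hxP : ∀ u ∈ P, ∀ g, Cfsg.extendByZero K x (u * g * u⁻¹) = Cfsg.extendByZero K x g := by
      intro u hu g
      rw [hxext]
      show Cfsg.extendByZero K a (u * g * u⁻¹) - c * (deltaOne : G → ℂ) (u * g * u⁻¹)
        = Cfsg.extendByZero K a g - c * (deltaOne : G → ℂ) g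
      rw [haP u hu g, deltaOne_isClassFunction g u]
    have hconvext : Cfsg.extendByZero K (conv x y)
        = conv (Cfsg.extendByZero K x) (Cfsg.extendByZero K y) := (conv_extZ K x y).symm
    refine ⟨?_, ?_, ?_, ?_, ?_⟩
    · rw [hxy]; exact conv_isClassFunction x y hxc ih1
    · rw [hxy]; exact conv_memLocalRing hM x y hxR ih2
    · intro u hu g
      rw [hxy, hconvext]
      exact conv_conj_invariant _ _ u (hxP u hu) (ih3 u hu) g
    · intro ψ
      rw [hxy, omega_conv ψ x y hxc ih1, ih4 ψ, List.map_cons, List.prod_cons]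
      congr 1
      rw [hx, omega_sub, omega_smul, omega_deltaOne _ (Cfsg.Agent.Lib.Helper25.irr_one_ne_zero ψ.2),
        mul_one]
    · rw [hxy, hconvext]
      have hmul := brauerOmega_conv hM P hP (Cfsg.extendByZero K x) (Cfsg.extendByZero K y)
        (extZ_memLocalRing hM K x hxR) (extZ_memLocalRing hM K y ih2) hxP ih3
        (restrictTo_extZ_isClassFunction hCK x hxc) (restrictTo_extZ_isClassFunction hCK y ih1)
        (by
          rw [← hconvext]
          exact restrictTo_extZ_isClassFunction hCK _ (conv_isClassFunction x y hxc ih1)) ξ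
      have hbx : Cfsg.brauerOmega P (Cfsg.extendByZero K x) ξ.1
          = Cfsg.brauerOmega P (Cfsg.extendByZero K a) ξ.1 - c := by
        rw [hxext, brauerOmega_sub, brauerOmega_smul, brauerOmega_deltaOne P _ hξ1, mul_one]
      rw [hbx] at hmul
      set lam := Cfsg.brauerOmega P (Cfsg.extendByZero K a) ξ.1 with hlamdef
      set by' := Cfsg.brauerOmega P (Cfsg.extendByZero K y) ξ.1 with hby
      -- (lam - c) * by' - lam^(n+1) = (lam - c) * (by' - lam^n) - c * lam^n
      have h1 : Cfsg.MemLocalIdeal M ((lam - c) * (by' - lam ^ l.length)) :=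
        memLocalIdeal_mul_left hM (memLocalRing_sub hM hlam hcR) ih5
      have h2 : Cfsg.MemLocalIdeal M (c * lam ^ l.length) :=
        memLocalIdeal_mul_right hM hcM (memLocalRing_pow hM hlam _)
      have h3 := memLocalIdeal_add hM hmul (memLocalIdeal_sub hM h1 h2)
      have : (Cfsg.brauerOmega P (conv (Cfsg.extendByZero K x) (Cfsg.extendByZero K y)) ξ.1
            - (lam - c) * by')
          + ((lam - c) * (by' - lam ^ l.length) - c * lam ^ l.length)
          = Cfsg.brauerOmega P (conv (Cfsg.extendByZero K x) (Cfsg.extendByZero K y)) ξ.1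
            - lam ^ (χ :: l).length := by
        rw [List.length_cons, pow_succ]; ring
      rw [this] at h3
      exact h3

/-- **Nilpotent elements are killed by the Brauer map composed with central characters.**
A `P`-invariant central element of the group algebra of `K ≥ C_G(P)` with local-integral
coefficients, all of whose central character values lie in the local ideal, has all its
Brauer-map central character values in the local ideal. -/
theorem brauerOmega_memLocalIdeal_of_omega (hM : Cfsg.IsPModular p M) (P K : Subgroup G)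
    [Fintype K] (hP : IsPGroup p P) (hCK : Subgroup.centralizer (P : Set G) ≤ K)
    (a : K → ℂ) (hac : Cfsg.IsClassFunction K a) (ha : ∀ k, Cfsg.MemLocalRing M (a k))
    (haP : ∀ u ∈ P, ∀ g, Cfsg.extendByZero K a (u * g * u⁻¹) = Cfsg.extendByZero K a g)
    (hω : ∀ χ : Cfsg.IrrCharacter K, Cfsg.MemLocalIdeal M (omega χ.1 a))
    (ξ : Cfsg.IrrCharacter (Subgroup.centralizer (P : Set G))) :
    Cfsg.MemLocalIdeal M (Cfsg.brauerOmega P (Cfsg.extendByZero K a) ξ.1) := by
  classical
  haveI : Fintype (Cfsg.IrrCharacter K) := Fintype.ofFinite _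
  obtain ⟨h1, h2, h3, h4, h5⟩ := prodL_props hM P K hP hCK a hac ha haP hω ξ
    (Finset.univ : Finset (Cfsg.IrrCharacter K)).toList
  have hzero : prodL a (Finset.univ : Finset (Cfsg.IrrCharacter K)).toList = 0 := by
    apply eq_zero_of_omega_eq_zero _ h1
    intro ψ
    rw [h4 ψ]
    apply List.prod_eq_zero
    rw [List.mem_map]
    exact ⟨ψ, Finset.mem_toList.mpr (Finset.mem_univ ψ), sub_self _⟩
  rw [hzero, extZ_zero, brauerOmega_zero, zero_sub] at h5
  have h6 := memLocalIdeal_neg h5
  rw [neg_neg] at h6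
  exact memLocalIdeal_of_pow hM
    (brauerOmega_memLocalRing hM P _ (restrictTo_extZ_isClassFunction hCK a hac)
      (extZ_memLocalRing hM K a ha) ξ) _ h6

end Nil

end Cfsg.Agent.Lib.Helper24
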