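import Mathlib
import Cfsg.Prelude.Def_Blocks
import Cfsg.Prelude.Def_BlockLocal
import Cfsg.Prelude.Def_BrauerPairs
import Cfsg.Agent.Lib.Helper24.BrauerGood
import Cfsg.Agent.Lib.Helper11.Clifford2

/-!
# Conjugation of irreducible characters and blocks of a subgroup by its normalizer (helper24)
-/

set_option autoImplicit false

namespace Cfsg.Agent.Lib.Helper24

open Cfsg.Agent.Lib.Helper2 Cfsg.Agent.Lib.Helper7
open scoped ComplexConjugate

section

variable {G : Type*} [Group G] (K : Subgroup G)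

/-- the conjugate of an irreducible character of `K` by an element normalizing `K`:
`(n • χ)(k) = χ(n⁻¹ k n)` -/
noncomputable def conjIrr [Finite K] (n : Subgroup.normalizer (K : Set G))
    (χ : Cfsg.IrrCharacter K) : Cfsg.IrrCharacter K :=
  ⟨χ.1 ∘ (K.normalizerMonoidHom n⁻¹),
    Cfsg.Agent.Lib.Helper11.isIrrCharacter_comp_equiv (K.normalizerMonoidHom n⁻¹) χ.2⟩

theorem conjIrr_apply [Finite K] (n : Subgroup.normalizer (K : Set G))
    (χ : Cfsg.IrrCharacter K) (k : K) :
    (conjIrr K n χ).1 k = χ.1 (K.normalizerMonoidHom n⁻¹ k) := rfl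

theorem normalizerMonoidHom_inv_coe (n : Subgroup.normalizer (K : Set G)) (k : K) :
    ((K.normalizerMonoidHom n⁻¹ k : K) : G) = (n : G)⁻¹ * k * n := by
  show ((n⁻¹ : Subgroup.normalizer (K : Set G)) : G) * k
    * ((n⁻¹ : Subgroup.normalizer (K : Set G)) : G)⁻¹ = _
  simp

theorem conjIrr_apply_of_eq [Finite K] (n : Subgroup.normalizer (K : Set G))
    (χ : Cfsg.IrrCharacter K) (k k' : K) (h : (k' : G) = n * k * (n : G)⁻¹) :
    (conjIrr K n χ).1 k' = χ.1 k := by
  rw [conjIrr_apply]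
  apply congrArg
  apply Subtype.ext
  rw [normalizerMonoidHom_inv_coe, h]
  group

theorem isConjCharOf_conjIrr [Finite K] (n : Subgroup.normalizer (K : Set G))
    (χ : Cfsg.IrrCharacter K) : Cfsg.IsConjCharOf K (n : G) χ.1 (conjIrr K n χ).1 := by
  intro k k' h
  exact conjIrr_apply_of_eq K n χ k k' h

theorem eq_conjIrr_of_isConjCharOf [Finite K] (n : Subgroup.normalizer (K : Set G))
    (χ χ' : Cfsg.IrrCharacter K) (h : Cfsg.IsConjCharOf K (n : G) χ.1 χ'.1) :
    χ' = conjIrr K n χ := by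
  apply Subtype.ext
  funext k'
  rw [conjIrr_apply]
  apply h
  rw [normalizerMonoidHom_inv_coe]
  group

theorem conjIrr_one [Finite K] (χ : Cfsg.IrrCharacter K) : conjIrr K 1 χ = χ := by
  apply Subtype.ext
  funext k
  rw [conjIrr_apply]
  simp

theorem conjIrr_mul [Finite K] (n m : Subgroup.normalizer (K : Set G))
    (χ : Cfsg.IrrCharacter K) : conjIrr K (n * m) χ = conjIrr K n (conjIrr K m χ) := by
  apply Subtype.ext
  funext k
  rw [conjIrr_apply, conjIrr_apply, conjIrr_apply, mul_inv_rev, map_mul]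
  rfl

theorem conjIrr_inv_conjIrr [Finite K] (n : Subgroup.normalizer (K : Set G))
    (χ : Cfsg.IrrCharacter K) : conjIrr K n⁻¹ (conjIrr K n χ) = χ := by
  rw [← conjIrr_mul, inv_mul_cancel, conjIrr_one]

theorem conjIrr_conjIrr_inv [Finite K] (n : Subgroup.normalizer (K : Set G))
    (χ : Cfsg.IrrCharacter K) : conjIrr K n (conjIrr K n⁻¹ χ) = χ := by
  rw [← conjIrr_mul, mul_inv_cancel, conjIrr_one]

theorem conjIrr_injective [Finite K] (n : Subgroup.normalizer (K : Set G)) :
    Function.Injective (conjIrr K n) := by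
  intro χ ψ h
  have := congrArg (conjIrr K n⁻¹) h
  rwa [conjIrr_inv_conjIrr, conjIrr_inv_conjIrr] at this

theorem index_centralizer_mulAut [Finite K] (φ : MulAut K) (k : K) :
    (Subgroup.centralizer ({φ k} : Set K)).index = (Subgroup.centralizer ({k} : Set K)).index := by
  have h : Subgroup.centralizer ({k} : Set K)
      = (Subgroup.centralizer ({φ k} : Set K)).comap (φ : K →* K) := by
    ext x
    simp only [Subgroup.mem_centralizer_iff, Set.mem_singleton_iff, forall_eq, Subgroup.mem_comap,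
      MonoidHom.coe_coe]
    constructor
    · intro h
      rw [← map_mul, ← map_mul, h]
    · intro h
      rw [← map_mul, ← map_mul] at h
      exact φ.injective h
  rw [h, Subgroup.index_comap_of_surjective _ φ.surjective]

theorem centralChar_conjIrr [Finite K] (n : Subgroup.normalizer (K : Set G))
    (χ : Cfsg.IrrCharacter K) (k : K) :
    Cfsg.centralChar (conjIrr K n χ).1 k
      = Cfsg.centralChar χ.1 (K.normalizerMonoidHom n⁻¹ k) := by
  unfold Cfsg.centralChar
  rw [conjIrr_apply, conjIrr_apply, index_centralizer_mulAut, map_one]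

theorem sameBlock_conjIrr [Finite K] {M : Ideal Cfsg.AlgInt}
    (n : Subgroup.normalizer (K : Set G)) (χ ψ : Cfsg.IrrCharacter K)
    (h : Cfsg.SameBlock M χ.1 ψ.1) : Cfsg.SameBlock M (conjIrr K n χ).1 (conjIrr K n ψ).1 := by
  intro k
  rw [centralChar_conjIrr, centralChar_conjIrr]
  exact h _

theorem blockOf_conjIrr [Finite K] {M : Ideal Cfsg.AlgInt}
    (n : Subgroup.normalizer (K : Set G)) (χ : Cfsg.IrrCharacter K) :
    Cfsg.blockOf M (conjIrr K n χ).1 = conjIrr K n '' Cfsg.blockOf M χ.1 := by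
  ext ψ
  constructor
  · intro h
    refine ⟨conjIrr K n⁻¹ ψ, ?_, conjIrr_conjIrr_inv K n ψ⟩
    have := sameBlock_conjIrr K n⁻¹ _ _ h
    rwa [conjIrr_inv_conjIrr] at this
  · rintro ⟨ψ', h, rfl⟩
    exact sameBlock_conjIrr K n _ _ h

theorem isPBlock_image_conjIrr [Finite K] {M : Ideal Cfsg.AlgInt}
    (n : Subgroup.normalizer (K : Set G)) {f : Set (Cfsg.IrrCharacter K)}
    (hf : Cfsg.IsPBlock M f) : Cfsg.IsPBlock M (conjIrr K n '' f) := by
  obtain ⟨χ, rfl⟩ := hf
  exact ⟨conjIrr K n χ, (blockOf_conjIrr K n χ).symm⟩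

theorem blockCoeff_image_conjIrr [Finite K] (n : Subgroup.normalizer (K : Set G))
    (f : Set (Cfsg.IrrCharacter K)) (k : K) :
    Cfsg.blockCoeff (conjIrr K n '' f) k = Cfsg.blockCoeff f (K.normalizerMonoidHom n⁻¹ k) := by
  unfold Cfsg.blockCoeff
  rw [finsum_mem_image (conjIrr_injective K n).injOn]
  congr 1
  apply finsum_congr
  intro χ
  apply finsum_congr
  intro _
  rw [conjIrr_apply, conjIrr_apply, map_one]

/-- `u` stabilizes `f` iff it normalizes `K` and conjugation by `u` maps `f` into itself -/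
theorem stabilizesBlock_iff [Finite K] (f : Set (Cfsg.IrrCharacter K)) (u : G) :
    Cfsg.StabilizesBlock K f u ↔
      ∃ hu : u ∈ Subgroup.normalizer (K : Set G), conjIrr K ⟨u, hu⟩ '' f ⊆ f := by
  constructor
  · rintro ⟨hu, h⟩
    refine ⟨hu, ?_⟩
    rintro _ ⟨χ, hχ, rfl⟩
    obtain ⟨χ', hχ', hc⟩ := h χ hχ
    rw [← eq_conjIrr_of_isConjCharOf K ⟨u, hu⟩ χ χ' hc]
    exact hχ'
  · rintro ⟨hu, h⟩
    refine ⟨hu, ?_⟩
    intro χ hχ
    exact ⟨conjIrr K ⟨u, hu⟩ χ, h ⟨χ, hχ, rfl⟩, isConjCharOf_conjIrr K ⟨u, hu⟩ χ⟩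

/-- for finite `f`, a stabilizing element maps `f` onto itself -/
theorem image_conjIrr_eq_of_stabilizes [Finite K] (f : Set (Cfsg.IrrCharacter K)) (u : G)
    (hu : u ∈ Subgroup.normalizer (K : Set G)) (h : conjIrr K ⟨u, hu⟩ '' f ⊆ f) :
    conjIrr K ⟨u, hu⟩ '' f = f := by
  have hfin : f.Finite := Set.toFinite f
  apply Set.eq_of_subset_of_ncard_le h _ hfin
  rw [Set.ncard_image_of_injective _ (conjIrr_injective K ⟨u, hu⟩)]

/-- the idempotent of a block stabilized by `u`, extended by zero, is invariant under conjugation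
by `u` -/
theorem subgroupBlockCoeff_conj_of_stabilizes [Finite K] (f : Set (Cfsg.IrrCharacter K)) (u : G)
    (h : Cfsg.StabilizesBlock K f u) (g : G) :
    Cfsg.subgroupBlockCoeff K f (u * g * u⁻¹) = Cfsg.subgroupBlockCoeff K f g := by
  classical
  obtain ⟨hu, hsub⟩ := (stabilizesBlock_iff K f u).mp h
  have himg := image_conjIrr_eq_of_stabilizes K f u hu hsub
  rw [subgroupBlockCoeff_eq_extZ]
  by_cases hg : g ∈ K
  · have hg' : u * g * u⁻¹ ∈ K := (Subgroup.mem_set_normalizer_iff.mp hu g).mp hg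
    rw [extendByZero_apply_mem K _ hg, extendByZero_apply_mem K _ hg']
    conv_lhs => rw [← himg]
    rw [blockCoeff_image_conjIrr]
    congr 1
    apply Subtype.ext
    rw [normalizerMonoidHom_inv_coe]
    show u⁻¹ * (u * g * u⁻¹) * u = g
    group
  · have hg' : u * g * u⁻¹ ∉ K := fun h' => hg ((Subgroup.mem_set_normalizer_iff.mp hu g).mpr h')
    rw [extendByZero_apply_not_mem K _ hg, extendByZero_apply_not_mem K _ hg']

end

end Cfsg.Agent.Lib.Helper24
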