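import Mathlib
import Cfsg.Prelude.Def_Blocks
import Cfsg.Prelude.Def_BlockLocal
import Cfsg.Prelude.Def_BrauerPairs
import Cfsg.Agent.Lib.Helper24.ConjIrr

/-!
# Transfer of Brauer-map central character values along inclusions of Brauer pairs (helper24)
-/

set_option autoImplicit false

namespace Cfsg.Agent.Lib.Helper24

open Cfsg.Agent.Lib.Helper2 Cfsg.Agent.Lib.Helper7
open scoped ComplexConjugate

section

variable {G : Type*} [Group G]

theorem centralizer_le_centralizer_of_le {Q P : Subgroup G} (h : Q ≤ P) :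
    Subgroup.centralizer (P : Set G) ≤ Subgroup.centralizer (Q : Set G) :=
  Subgroup.centralizer_le (by exact_mod_cast h)

theorem conj_mem_centralizer_of_mem_normalizer (Q : Subgroup G) {u : G}
    (hu : u ∈ Subgroup.normalizer (Q : Set G)) {c : G}
    (hc : c ∈ Subgroup.centralizer (Q : Set G)) :
    u * c * u⁻¹ ∈ Subgroup.centralizer (Q : Set G) := by
  rw [Subgroup.mem_centralizer_iff] at hc ⊢
  intro q hq
  have hq' : u⁻¹ * q * u ∈ (Q : Set G) := (Subgroup.mem_set_normalizer_iff''.mp hu q).mp hq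
  have := hc _ hq'
  calc q * (u * c * u⁻¹) = u * ((u⁻¹ * q * u) * c) * u⁻¹ := by group
    _ = u * (c * (u⁻¹ * q * u)) * u⁻¹ := by rw [this]
    _ = u * c * u⁻¹ * q := by group

theorem normalizer_le_normalizer_centralizer (Q : Subgroup G) :
    Subgroup.normalizer (Q : Set G)
      ≤ Subgroup.normalizer ((Subgroup.centralizer (Q : Set G) : Subgroup G) : Set G) := by
  intro u hu
  rw [Subgroup.mem_set_normalizer_iff]
  intro c
  constructor
  · intro hc
    exact conj_mem_centralizer_of_mem_normalizer Q hu hc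
  · intro hc
    have := conj_mem_centralizer_of_mem_normalizer Q
      ((Subgroup.normalizer (Q : Set G)).inv_mem hu) hc
    have h2 : u⁻¹ * (u * c * u⁻¹) * u⁻¹⁻¹ = c := by group
    rwa [h2] at this

end

section Step

variable {G : Type*} [Group G] [Fintype G] {p : ℕ} {M : Ideal Cfsg.AlgInt}

/-- brauerOmega only depends on the restriction to the centralizer -/
theorem brauerOmega_congr_restrict (P : Subgroup G) (a b : G → ℂ)
    (h : restrictTo (Subgroup.centralizer (P : Set G)) a
      = restrictTo (Subgroup.centralizer (P : Set G)) b)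
    (ξ : Subgroup.centralizer (P : Set G) → ℂ) :
    Cfsg.brauerOmega P a ξ = Cfsg.brauerOmega P b ξ := by
  classical
  haveI : Fintype (Subgroup.centralizer (P : Set G)) := Fintype.ofFinite _
  rw [brauerOmega_eq_omega, brauerOmega_eq_omega, h]

/-- **Normal step.**  For a normal inclusion `(Q, f) ⊴ (P, e)` of Brauer pairs and a `P`-invariant
function `a` with local-integral values whose truncation to `C_G(Q)` is central, the value of the
central character of `e` at the Brauer-map image at `P` of `a` is congruent to the value of the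
central character of `f` at the Brauer-map image at `Q`. -/
theorem brauerOmega_congr_of_normalSubpair (hM : Cfsg.IsPModular p M) {Q P : Subgroup G}
    {f : Set (Cfsg.IrrCharacter (Subgroup.centralizer (Q : Set G)))}
    {e : Set (Cfsg.IrrCharacter (Subgroup.centralizer (P : Set G)))}
    (h : Cfsg.IsNormalSubpair p M Q f P e)
    (a : G → ℂ) (ha : ∀ g, Cfsg.MemLocalRing M (a g))
    (haP : ∀ u ∈ P, ∀ g, a (u * g * u⁻¹) = a g)
    (hac : Cfsg.IsClassFunction (Subgroup.centralizer (Q : Set G))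
      (restrictTo (Subgroup.centralizer (Q : Set G)) a))
    (ξ : Cfsg.IrrCharacter (Subgroup.centralizer (P : Set G))) (hξ : ξ ∈ e)
    (ζ : Cfsg.IrrCharacter (Subgroup.centralizer (Q : Set G))) (hζ : ζ ∈ f) :
    Cfsg.MemLocalIdeal M (Cfsg.brauerOmega P a ξ.1 - Cfsg.brauerOmega Q a ζ.1) := by
  classical
  obtain ⟨⟨hQ, hf⟩, ⟨hP, he⟩, hQP, hPN, hstab, hone⟩ := h
  haveI : Fintype (Subgroup.centralizer (Q : Set G)) := Fintype.ofFinite _
  have hCK : Subgroup.centralizer (P : Set G) ≤ Subgroup.centralizer (Q : Set G) :=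
    centralizer_le_centralizer_of_le hQP
  have hξ1 : ξ.1 1 ≠ 0 := Cfsg.Agent.Lib.Helper25.irr_one_ne_zero ξ.2
  set aK : (Subgroup.centralizer (Q : Set G)) → ℂ := restrictTo (Subgroup.centralizer (Q : Set G)) a with haK
  have haKR : ∀ k, Cfsg.MemLocalRing M (aK k) := fun k => ha k
  set c := omega ζ.1 aK with hc
  have hcR : Cfsg.MemLocalRing M c := omega_memLocalRing hM ζ aK hac haKR
  have hcQ : Cfsg.brauerOmega Q a ζ.1 = c := brauerOmega_eq_omega Q a ζ.1
  set ef : (Subgroup.centralizer (Q : Set G)) → ℂ := Cfsg.blockCoeff f with hef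
  have hefc : Cfsg.IsClassFunction (Subgroup.centralizer (Q : Set G)) ef := blockCoeff_isClassFunction f
  have hefR : ∀ k, Cfsg.MemLocalRing M (ef k) := blockCoeff_memLocalRing hM f hf
  set x : (Subgroup.centralizer (Q : Set G)) → ℂ := aK - c • (deltaOne : (Subgroup.centralizer (Q : Set G)) → ℂ) with hx
  have hxc : Cfsg.IsClassFunction (Subgroup.centralizer (Q : Set G)) x :=
    isClassFunction_sub hac (isClassFunction_smul c deltaOne_isClassFunction)
  have hxR : ∀ k, Cfsg.MemLocalRing M (x k) := by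
    intro k
    show Cfsg.MemLocalRing M (aK k - c * (deltaOne : (Subgroup.centralizer (Q : Set G)) → ℂ) k)
    exact memLocalRing_sub hM (haKR k) (memLocalRing_mul hM hcR (deltaOne_memLocalRing hM k))
  -- invariance
  have hNK : ∀ u ∈ P, ∀ g, g ∈ (Subgroup.centralizer (Q : Set G)) ↔ u * g * u⁻¹ ∈ (Subgroup.centralizer (Q : Set G)) := by
    intro u hu g
    have := normalizer_le_normalizer_centralizer Q (hPN hu)
    exact Subgroup.mem_set_normalizer_iff.mp this g
  have haKP : ∀ u ∈ P, ∀ g, Cfsg.extendByZero (Subgroup.centralizer (Q : Set G)) aK (u * g * u⁻¹) = Cfsg.extendByZero (Subgroup.centralizer (Q : Set G)) aK g := by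
    intro u hu g
    by_cases hg : g ∈ (Subgroup.centralizer (Q : Set G))
    · have hg' := (hNK u hu g).mp hg
      rw [extendByZero_apply_mem (Subgroup.centralizer (Q : Set G)) _ hg, extendByZero_apply_mem (Subgroup.centralizer (Q : Set G)) _ hg']
      exact haP u hu g
    · have hg' : u * g * u⁻¹ ∉ (Subgroup.centralizer (Q : Set G)) := fun h' => hg ((hNK u hu g).mpr h')
      rw [extendByZero_apply_not_mem (Subgroup.centralizer (Q : Set G)) _ hg, extendByZero_apply_not_mem (Subgroup.centralizer (Q : Set G)) _ hg']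
  have hxext : Cfsg.extendByZero (Subgroup.centralizer (Q : Set G)) x = Cfsg.extendByZero (Subgroup.centralizer (Q : Set G)) aK - c • (deltaOne : G → ℂ) := by
    rw [hx, extZ_sub, extZ_smul, extZ_deltaOne]
  have hxP : ∀ u ∈ P, ∀ g, Cfsg.extendByZero (Subgroup.centralizer (Q : Set G)) x (u * g * u⁻¹) = Cfsg.extendByZero (Subgroup.centralizer (Q : Set G)) x g := by
    intro u hu g
    rw [hxext]
    show Cfsg.extendByZero (Subgroup.centralizer (Q : Set G)) aK (u * g * u⁻¹) - c * (deltaOne : G → ℂ) (u * g * u⁻¹)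
      = Cfsg.extendByZero (Subgroup.centralizer (Q : Set G)) aK g - c * (deltaOne : G → ℂ) g
    rw [haKP u hu g, deltaOne_isClassFunction g u]
  have hefP : ∀ u ∈ P, ∀ g, Cfsg.extendByZero (Subgroup.centralizer (Q : Set G)) ef (u * g * u⁻¹) = Cfsg.extendByZero (Subgroup.centralizer (Q : Set G)) ef g := by
    intro u hu g
    have := subgroupBlockCoeff_conj_of_stabilizes (Subgroup.centralizer (Q : Set G)) f u (hstab u hu) g
    rw [subgroupBlockCoeff_eq_extZ] at this
    exact this
  set z : (Subgroup.centralizer (Q : Set G)) → ℂ := conv x ef with hz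
  have hzc : Cfsg.IsClassFunction (Subgroup.centralizer (Q : Set G)) z := conv_isClassFunction x ef hxc hefc
  have hzR : ∀ k, Cfsg.MemLocalRing M (z k) := conv_memLocalRing hM x ef hxR hefR
  have hzext : Cfsg.extendByZero (Subgroup.centralizer (Q : Set G)) z = conv (Cfsg.extendByZero (Subgroup.centralizer (Q : Set G)) x) (Cfsg.extendByZero (Subgroup.centralizer (Q : Set G)) ef) :=
    (conv_extZ (Subgroup.centralizer (Q : Set G)) x ef).symm
  have hzP : ∀ u ∈ P, ∀ g, Cfsg.extendByZero (Subgroup.centralizer (Q : Set G)) z (u * g * u⁻¹) = Cfsg.extendByZero (Subgroup.centralizer (Q : Set G)) z g := by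
    intro u hu g
    rw [hzext]
    exact conv_conj_invariant _ _ u (hxP u hu) (hefP u hu) g
  have hzω : ∀ χ : Cfsg.IrrCharacter (Subgroup.centralizer (Q : Set G)), Cfsg.MemLocalIdeal M (omega χ.1 z) := by
    intro χ
    rw [hz, omega_conv χ x ef hxc hefc, hef, omega_blockCoeff]
    by_cases hχ : χ ∈ f
    · rw [if_pos hχ, mul_one, hx, omega_sub, omega_smul,
        omega_deltaOne _ (Cfsg.Agent.Lib.Helper25.irr_one_ne_zero χ.2), mul_one]
      exact omega_sub_memLocalIdeal hM χ ζ (sameBlock_of_mem hM hf hχ hζ) aK hac haKR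
    · rw [if_neg hχ, mul_zero]
      exact memLocalIdeal_zero hM
  have hN := brauerOmega_memLocalIdeal_of_omega hM P (Subgroup.centralizer (Q : Set G)) hP hCK z hzc hzR hzP hzω ξ
  rw [hzext] at hN
  have hmul := brauerOmega_conv hM P hP (Cfsg.extendByZero (Subgroup.centralizer (Q : Set G)) x) (Cfsg.extendByZero (Subgroup.centralizer (Q : Set G)) ef)
    (extZ_memLocalRing hM (Subgroup.centralizer (Q : Set G)) x hxR) (extZ_memLocalRing hM (Subgroup.centralizer (Q : Set G)) ef hefR) hxP hefP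
    (restrictTo_extZ_isClassFunction hCK x hxc) (restrictTo_extZ_isClassFunction hCK ef hefc)
    (by
      rw [← hzext]
      exact restrictTo_extZ_isClassFunction hCK _ hzc) ξ
  have hbx : Cfsg.brauerOmega P (Cfsg.extendByZero (Subgroup.centralizer (Q : Set G)) x) ξ.1 = Cfsg.brauerOmega P a ξ.1 - c := by
    rw [hxext, brauerOmega_sub, brauerOmega_smul, brauerOmega_deltaOne P _ hξ1, mul_one]
    congr 1
    apply brauerOmega_congr_restrict
    exact restrictTo_extZ_restrictTo hCK a
  have hbe : Cfsg.brauerOmega P (Cfsg.extendByZero (Subgroup.centralizer (Q : Set G)) ef) ξ.1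
      = Cfsg.brauerOmega P (Cfsg.subgroupBlockCoeff (Subgroup.centralizer (Q : Set G)) f) ξ.1 := by
    rw [subgroupBlockCoeff_eq_extZ]
  rw [hbx, hbe] at hmul
  have hv := hone ξ hξ
  set lam := Cfsg.brauerOmega P a ξ.1 with hlam
  set v := Cfsg.brauerOmega P (Cfsg.subgroupBlockCoeff (Subgroup.centralizer (Q : Set G)) f) ξ.1 with hvdef
  have hlamR : Cfsg.MemLocalRing M lam := by
    apply brauerOmega_memLocalRing hM P a _ ha ξ
    intro g y
    have := hac ⟨g, hCK g.2⟩ ⟨y, hCK y.2⟩
    exact this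
  -- (lam - c) * v ∈ M̃
  have h1 : Cfsg.MemLocalIdeal M ((lam - c) * v) := by
    have := memLocalIdeal_sub hM hN hmul
    rw [sub_sub_cancel] at this
    exact this
  have h2 : Cfsg.MemLocalIdeal M ((lam - c) * (v - 1)) :=
    memLocalIdeal_mul_left hM (memLocalRing_sub hM hlamR hcR) hv
  have h3 := memLocalIdeal_sub hM h1 h2
  have : (lam - c) * v - (lam - c) * (v - 1) = lam - c := by ring
  rw [this] at h3
  rw [hcQ]
  exact h3

/-- **Chain version.**  Along an inclusion of Brauer pairs `x ≤ y`, the Brauer-map central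
character values of a suitable function `a` are congruent. -/
theorem brauerOmega_congr_of_reflTransGen (hM : Cfsg.IsPModular p M)
    (a : G → ℂ) (ha : ∀ g, Cfsg.MemLocalRing M (a g)) (Q₀ P₀ : Subgroup G)
    (haP : ∀ u ∈ P₀, ∀ g, a (u * g * u⁻¹) = a g)
    (hac : ∀ R : Subgroup G, Q₀ ≤ R → Cfsg.IsClassFunction (Subgroup.centralizer (R : Set G))
      (restrictTo (Subgroup.centralizer (R : Set G)) a))
    {x y : Cfsg.BrauerPairIdx G}
    (h : Relation.ReflTransGen (Cfsg.NormalSubpairRel p M) x y)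
    (hx : Cfsg.IsBrauerPair p M x.1 x.2) (hQ₀ : Q₀ ≤ x.1) (hP₀ : y.1 ≤ P₀) :
    x.1 ≤ y.1 ∧ Cfsg.IsBrauerPair p M y.1 y.2 ∧
    ∀ ξ ∈ y.2, ∀ ζ ∈ x.2, Cfsg.MemLocalIdeal M
      (Cfsg.brauerOmega y.1 a ξ.1 - Cfsg.brauerOmega x.1 a ζ.1) := by
  induction h with
  | refl =>
    refine ⟨le_refl _, hx, ?_⟩
    intro ξ hξ ζ hζ
    exact brauerOmega_congr hM x.1 a (hac x.1 hQ₀) ha ξ ζ (sameBlock_of_mem hM hx.2 hξ hζ)
  | tail hab hbc ih =>
    rename_i b c
    have hbc' : Cfsg.IsNormalSubpair p M b.1 b.2 c.1 c.2 := hbc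
    have hbcle : b.1 ≤ c.1 := hbc'.2.2.1
    obtain ⟨ih1, ih2, ih3⟩ := ih (le_trans hbcle hP₀)
    refine ⟨le_trans ih1 hbcle, hbc'.2.1, ?_⟩
    intro ξ hξ ζ hζ
    obtain ⟨ζ', hζ'⟩ := isPBlock_nonempty hM ih2.2
    have h1 := brauerOmega_congr_of_normalSubpair hM hbc' a ha
      (fun u hu g => haP u (hP₀ hu) g) (hac b.1 (le_trans hQ₀ ih1)) ξ hξ ζ' hζ'
    have h2 := ih3 ζ' hζ' ζ hζ
    have := memLocalIdeal_add hM h1 h2
    rw [sub_add_sub_cancel] at this
    exact this

/-- a Brauer pair lying below a Brauer pair of `B` is a Brauer pair of `B`, and conversely -/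
theorem isBrauerPairOf_iff_of_subpairLE (hM : Cfsg.IsPModular p M) {P Q : Subgroup G}
    {e : Set (Cfsg.IrrCharacter (Subgroup.centralizer (P : Set G)))}
    {f : Set (Cfsg.IrrCharacter (Subgroup.centralizer (Q : Set G)))}
    (hPe : Cfsg.IsBrauerPair p M P e) (hQf : Cfsg.IsBrauerPair p M Q f)
    (hle : Cfsg.SubpairLE p M Q f P e) (B : Set (Cfsg.IrrCharacter G))
    (hB : Cfsg.IsPBlock M B) :
    Cfsg.IsBrauerPairOf p M B P e ↔ Cfsg.IsBrauerPairOf p M B Q f := by
  have key := brauerOmega_congr_of_reflTransGen hM (Cfsg.blockCoeff B)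
    (blockCoeff_memLocalRing hM B hB) ⊥ ⊤
    (fun u _ g => blockCoeff_isClassFunction B g u)
    (fun R _ => restrictTo_isClassFunction _ _ (blockCoeff_isClassFunction B))
    (x := ⟨Q, f⟩) (y := ⟨P, e⟩) hle hQf bot_le le_top
  obtain ⟨_, _, hcong⟩ := key
  obtain ⟨ξ₀, hξ₀⟩ := isPBlock_nonempty hM hPe.2
  obtain ⟨ζ₀, hζ₀⟩ := isPBlock_nonempty hM hQf.2
  constructor
  · rintro ⟨_, _, h⟩
    refine ⟨hQf, hB, ?_⟩
    intro ζ hζ
    have h1 := hcong ξ₀ hξ₀ ζ hζ
    have h2 := h ξ₀ hξ₀
    have := memLocalIdeal_sub hM h2 h1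
    rw [sub_sub_sub_cancel_left] at this
    exact this
  · rintro ⟨_, _, h⟩
    refine ⟨hPe, hB, ?_⟩
    intro ξ hξ
    have h1 := hcong ξ hξ ζ₀ hζ₀
    have h2 := h ζ₀ hζ₀
    have := memLocalIdeal_add hM h1 h2
    rw [sub_add_sub_cancel] at this
    exact this

end Step

end Cfsg.Agent.Lib.Helper24
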