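import Mathlib
import Cfsg.Prelude.Def_Blocks
import Cfsg.Prelude.Def_BlockLocal
import Cfsg.Prelude.Def_BrauerPairs
import Cfsg.Agent.Lib.Helper24.SubpairStep
import Cfsg.Agent.Lib.Helper24.OrbitSum2

/-!
# Existence and uniqueness of normal subpairs (helper24)
-/

set_option autoImplicit false

namespace Cfsg.Agent.Lib.Helper24

open Cfsg.Agent.Lib.Helper2 Cfsg.Agent.Lib.Helper7
open scoped ComplexConjugate

section

variable {G : Type*} [Group G]

theorem extZ_sum (K : Subgroup G) {ι : Type*} (s : Finset ι) (a : ι → K → ℂ) :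
    Cfsg.extendByZero K (∑ i ∈ s, a i) = ∑ i ∈ s, Cfsg.extendByZero K (a i) := by
  classical
  induction s using Finset.induction_on with
  | empty => simp [extZ_zero]
  | insert i s hi ih => rw [Finset.sum_insert hi, Finset.sum_insert hi, extZ_add, ih]

/-- action of `P ≤ N_G(K)` on the blocks of `K` -/
noncomputable def blockAction (M : Ideal Cfsg.AlgInt) (K P : Subgroup G) [Finite K]
    (hPK : P ≤ Subgroup.normalizer (K : Set G)) :
    MulAction P {f : Set (Cfsg.IrrCharacter K) // Cfsg.IsPBlock M f} where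
  smul u f := ⟨conjIrr K ⟨u, hPK u.2⟩ '' f.1, isPBlock_image_conjIrr K _ f.2⟩
  one_smul f := by
    apply Subtype.ext
    show conjIrr K ⟨((1 : P) : G), _⟩ '' f.1 = f.1
    have : (⟨((1 : P) : G), hPK (1 : P).2⟩ : Subgroup.normalizer (K : Set G)) = 1 :=
      Subtype.ext rfl
    rw [this]
    have h2 : conjIrr K (1 : Subgroup.normalizer (K : Set G)) = id := funext (conjIrr_one K)
    rw [h2, Set.image_id]
  mul_smul u v f := by
    apply Subtype.ext
    show conjIrr K ⟨((u * v : P) : G), _⟩ '' f.1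
      = conjIrr K ⟨(u : G), _⟩ '' (conjIrr K ⟨(v : G), _⟩ '' f.1)
    have : (⟨((u * v : P) : G), hPK (u * v).2⟩ : Subgroup.normalizer (K : Set G))
        = ⟨u, hPK u.2⟩ * ⟨v, hPK v.2⟩ := Subtype.ext rfl
    rw [this, Set.image_image]
    apply Set.image_congr
    intro χ _
    exact conjIrr_mul K _ _ χ

theorem blockAction_smul_coe (M : Ideal Cfsg.AlgInt) (K P : Subgroup G) [Finite K]
    (hPK : P ≤ Subgroup.normalizer (K : Set G)) (u : P)
    (f : {f : Set (Cfsg.IrrCharacter K) // Cfsg.IsPBlock M f}) :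
    (letI := blockAction M K P hPK; (u • f).1) = conjIrr K ⟨u, hPK u.2⟩ '' f.1 := rfl

end

section Main

variable {G : Type*} [Group G] [Fintype G] {p : ℕ} {M : Ideal Cfsg.AlgInt}

/-- **Unique stable block.** For a `p`-subgroup `P` normalizing `K ≥ C_G(P)` and a block `e` of
`C_G(P)`: exactly one `P`-stable block `f` of `K` has `e` occurring in the Brauer-map image of its
idempotent. -/
theorem existsUnique_stable_block (hM : Cfsg.IsPModular p M) (P K : Subgroup G)
    (hP : IsPGroup p P) (hCK : Subgroup.centralizer (P : Set G) ≤ K)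
    (hPK : P ≤ Subgroup.normalizer (K : Set G))
    (e : Set (Cfsg.IrrCharacter (Subgroup.centralizer (P : Set G)))) (he : Cfsg.IsPBlock M e) :
    ∃! f : Set (Cfsg.IrrCharacter K), Cfsg.IsPBlock M f ∧
      (∀ u ∈ P, Cfsg.StabilizesBlock K f u) ∧
      ∀ ξ ∈ e, Cfsg.MemLocalIdeal M
        (Cfsg.brauerOmega P (Cfsg.subgroupBlockCoeff K f) ξ.1 - 1) := by
  classical
  haveI : Fact p.Prime := ⟨hM.1⟩
  haveI : Fintype K := Fintype.ofFinite _
  haveI : Fintype (Cfsg.IrrCharacter K) := Fintype.ofFinite _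
  obtain ⟨ξ₀, hξ₀⟩ := isPBlock_nonempty hM he
  have hξ1 : ξ₀.1 1 ≠ 0 := Cfsg.Agent.Lib.Helper25.irr_one_ne_zero ξ₀.2
  haveI : Fintype {f : Set (Cfsg.IrrCharacter K) // Cfsg.IsPBlock M f} := Fintype.ofFinite _
  letI := blockAction M K P hPK
  -- basic properties of the idempotents
  have hcl : ∀ f : Set (Cfsg.IrrCharacter K),
      Cfsg.IsClassFunction (Subgroup.centralizer (P : Set G))
        (restrictTo (Subgroup.centralizer (P : Set G)) (Cfsg.subgroupBlockCoeff K f)) := by
    intro f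
    rw [subgroupBlockCoeff_eq_extZ]
    exact restrictTo_extZ_isClassFunction hCK _ (blockCoeff_isClassFunction f)
  have hR : ∀ f : Set (Cfsg.IrrCharacter K), Cfsg.IsPBlock M f →
      ∀ g, Cfsg.MemLocalRing M (Cfsg.subgroupBlockCoeff K f g) := by
    intro f hf g
    rw [subgroupBlockCoeff_eq_extZ]
    exact extZ_memLocalRing hM K _ (blockCoeff_memLocalRing hM f hf) g
  set v : Set (Cfsg.IrrCharacter K) → ℂ :=
    fun f => Cfsg.brauerOmega P (Cfsg.subgroupBlockCoeff K f) ξ₀.1 with hv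
  have hvR : ∀ f, Cfsg.IsPBlock M f → Cfsg.MemLocalRing M (v f) := fun f hf =>
    brauerOmega_memLocalRing hM P _ (hcl f) (hR f hf) ξ₀
  -- invariance of v
  have hvinv : ∀ (u : P) (f : {f : Set (Cfsg.IrrCharacter K) // Cfsg.IsPBlock M f}),
      v (u • f).1 = v f.1 := by
    intro u f
    apply brauerOmega_congr_restrict
    ext c
    rw [restrictTo_apply, restrictTo_apply, subgroupBlockCoeff_eq_extZ, subgroupBlockCoeff_eq_extZ,
      extendByZero_apply_mem K _ (hCK c.2), extendByZero_apply_mem K _ (hCK c.2)]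
    show Cfsg.blockCoeff (conjIrr K ⟨u, hPK u.2⟩ '' f.1) _ = _
    rw [blockCoeff_image_conjIrr]
    congr 1
    apply Subtype.ext
    rw [normalizerMonoidHom_inv_coe]
    show (u : G)⁻¹ * (c : G) * (u : G) = c
    have hc := c.2
    rw [Subgroup.mem_centralizer_iff] at hc
    have := hc u u.2
    rw [mul_assoc, ← this, inv_mul_cancel_left]
  -- the sum of all v is 1
  have hsum : ∑ f : {f : Set (Cfsg.IrrCharacter K) // Cfsg.IsPBlock M f}, v f.1 = 1 := by
    rw [← Finset.sum_subtype (blocksFinset M K) (fun B => mem_blocksFinset B) v]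
    show ∑ B ∈ blocksFinset M K, Cfsg.brauerOmega P (Cfsg.subgroupBlockCoeff K B) ξ₀.1 = 1
    rw [← brauerOmega_sum]
    have : ∑ B ∈ blocksFinset M K, Cfsg.subgroupBlockCoeff K B = (deltaOne : G → ℂ) := by
      have h1 : ∀ B ∈ blocksFinset M K, Cfsg.subgroupBlockCoeff K B
          = Cfsg.extendByZero K (Cfsg.blockCoeff B) := fun B _ => subgroupBlockCoeff_eq_extZ K B
      rw [Finset.sum_congr rfl h1, ← extZ_sum, sum_blockCoeff_blocksFinset hM, extZ_deltaOne]
    rw [this, brauerOmega_deltaOne P _ hξ1]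
  -- reduction to fixed points
  have hfixmem := sum_sub_sum_fixed_mem (Q := P) hP (Mloc hM).toAddSubgroup
    (by
      intro z
      show p • z ∈ Mloc hM
      rw [nsmul_eq_mul]
      apply Ideal.mul_mem_right
      rw [mem_Mloc]
      have : ((p : Rloc hM) : ℂ) = (p : ℂ) := by simp
      rw [this]
      exact (memLocalIdeal_natCast_iff hM p).mpr dvd_rfl)
    (fun f : {f : Set (Cfsg.IrrCharacter K) // Cfsg.IsPBlock M f} =>
      (⟨v f.1, hvR f.1 f.2⟩ : Rloc hM))
    (by
      intro u f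
      have : (⟨v (u • f).1, hvR (u • f).1 (u • f).2⟩ : Rloc hM) - ⟨v f.1, hvR f.1 f.2⟩ = 0 := by
        apply Subtype.ext
        show v (u • f).1 - v f.1 = 0
        rw [hvinv u f, sub_self]
      rw [this]
      exact (Mloc hM).toAddSubgroup.zero_mem)
  set s : Finset {f : Set (Cfsg.IrrCharacter K) // Cfsg.IsPBlock M f} :=
    Finset.univ.filter (fun f => ∀ u : P, u • f = f) with hs
  have hfix2 : Cfsg.MemLocalIdeal M (∑ f ∈ s, v f.1 - 1) := by
    have h1 := (mem_Mloc hM _).mp hfixmem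
    rw [AddSubgroupClass.coe_sub, AddSubmonoidClass.coe_finset_sum, AddSubmonoidClass.coe_finset_sum] at h1
    have h2 : (∑ f : {f : Set (Cfsg.IrrCharacter K) // Cfsg.IsPBlock M f},
        ((⟨v f.1, hvR f.1 f.2⟩ : Rloc hM) : ℂ)) = 1 := hsum
    rw [h2] at h1
    have h3 := memLocalIdeal_neg h1
    rw [neg_sub] at h3
    exact h3
  -- fixed points are the stable blocks
  have hfixiff : ∀ f : {f : Set (Cfsg.IrrCharacter K) // Cfsg.IsPBlock M f},
      f ∈ s ↔ ∀ u ∈ P, Cfsg.StabilizesBlock K f.1 u := by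
    intro f
    rw [hs, Finset.mem_filter]
    simp only [Finset.mem_univ, true_and]
    constructor
    · intro h u hu
      rw [stabilizesBlock_iff]
      refine ⟨hPK hu, ?_⟩
      have := congrArg Subtype.val (h ⟨u, hu⟩)
      have h2 : conjIrr K ⟨u, hPK hu⟩ '' f.1 = f.1 := this
      rw [h2]
    · intro h u
      obtain ⟨hu, hsub⟩ := (stabilizesBlock_iff K f.1 u).mp (h u u.2)
      apply Subtype.ext
      exact image_conjIrr_eq_of_stabilizes K f.1 u hu hsub
  have hinvP : ∀ f : {f : Set (Cfsg.IrrCharacter K) // Cfsg.IsPBlock M f}, f ∈ s →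
      ∀ u ∈ P, ∀ g, Cfsg.subgroupBlockCoeff K f.1 (u * g * u⁻¹)
        = Cfsg.subgroupBlockCoeff K f.1 g := by
    intro f hf u hu g
    exact subgroupBlockCoeff_conj_of_stabilizes K f.1 u ((hfixiff f).mp hf u hu) g
  have hconv : ∀ f f' : Set (Cfsg.IrrCharacter K),
      conv (Cfsg.subgroupBlockCoeff K f) (Cfsg.subgroupBlockCoeff K f')
        = Cfsg.extendByZero K (conv (Cfsg.blockCoeff f) (Cfsg.blockCoeff f')) := by
    intro f f'
    rw [subgroupBlockCoeff_eq_extZ, subgroupBlockCoeff_eq_extZ, conv_extZ]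
  have key := exists_unique_of_orthogonal_idempotents hM s (fun f => v f.1)
    (fun f _ => hvR f.1 f.2)
    (by
      intro f hf
      have := brauerOmega_conv hM P hP (Cfsg.subgroupBlockCoeff K f.1)
        (Cfsg.subgroupBlockCoeff K f.1) (hR f.1 f.2) (hR f.1 f.2) (hinvP f hf) (hinvP f hf)
        (hcl f.1) (hcl f.1)
        (by
          rw [hconv, conv_blockCoeff_self, ← subgroupBlockCoeff_eq_extZ]
          exact hcl f.1) ξ₀
      rw [hconv, conv_blockCoeff_self, ← subgroupBlockCoeff_eq_extZ] at this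
      have h2 := memLocalIdeal_neg this
      rw [neg_sub] at h2
      exact h2)
    (by
      intro f hf f' hf' hne
      have hne' : f.1 ≠ f'.1 := fun h => hne (Subtype.ext h)
      have hz := conv_blockCoeff_of_disjoint f.1 f'.1
        (disjoint_of_isPBlock_of_ne hM f.2 f'.2 hne')
      have := brauerOmega_conv hM P hP (Cfsg.subgroupBlockCoeff K f.1)
        (Cfsg.subgroupBlockCoeff K f'.1) (hR f.1 f.2) (hR f'.1 f'.2) (hinvP f hf) (hinvP f' hf')
        (hcl f.1) (hcl f'.1)
        (by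
          rw [hconv, hz, extZ_zero]
          intro g x
          rfl) ξ₀
      rw [hconv, hz, extZ_zero, brauerOmega_zero, zero_sub] at this
      have h2 := memLocalIdeal_neg this
      rw [neg_neg] at h2
      exact h2)
    hfix2
  obtain ⟨f, hfs, hf1, hfuniq⟩ := key
  have hto : ∀ f' : Set (Cfsg.IrrCharacter K), Cfsg.IsPBlock M f' →
      (Cfsg.MemLocalIdeal M (v f' - 1) ↔ ∀ ξ ∈ e, Cfsg.MemLocalIdeal M
        (Cfsg.brauerOmega P (Cfsg.subgroupBlockCoeff K f') ξ.1 - 1)) := by
    intro f' hf'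
    constructor
    · intro h ξ hξ
      have hc := brauerOmega_congr hM P _ (hcl f') (hR f' hf') ξ ξ₀ (sameBlock_of_mem hM he hξ hξ₀)
      have := memLocalIdeal_add hM hc h
      rw [sub_add_sub_cancel] at this
      exact this
    · intro h
      exact h ξ₀ hξ₀
  refine ⟨f.1, ⟨f.2, (hfixiff f).mp hfs, (hto f.1 f.2).mp hf1⟩, ?_⟩
  rintro f' ⟨hf'blk, hf'stab, hf'one⟩
  have := hfuniq ⟨f', hf'blk⟩ ((hfixiff ⟨f', hf'blk⟩).mpr hf'stab) ((hto f' hf'blk).mpr hf'one)
  exact congrArg Subtype.val this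

/-- **Existence and uniqueness of normal subpairs.** -/
theorem existsUnique_normalSubpair (hM : Cfsg.IsPModular p M) (P Q : Subgroup G)
    (e : Set (Cfsg.IrrCharacter (Subgroup.centralizer (P : Set G))))
    (hPe : Cfsg.IsBrauerPair p M P e) (hQP : Q ≤ P)
    (hPN : P ≤ Subgroup.normalizer (Q : Set G)) :
    ∃! f : Set (Cfsg.IrrCharacter (Subgroup.centralizer (Q : Set G))),
      Cfsg.IsNormalSubpair p M Q f P e := by
  obtain ⟨hP, he⟩ := hPe
  have hQ : IsPGroup p Q := hP.to_le hQP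
  obtain ⟨f, ⟨hf1, hf2, hf3⟩, huniq⟩ := existsUnique_stable_block hM P
    (Subgroup.centralizer (Q : Set G)) hP (centralizer_le_centralizer_of_le hQP)
    (le_trans hPN (normalizer_le_normalizer_centralizer Q)) e he
  refine ⟨f, ⟨⟨hQ, hf1⟩, ⟨hP, he⟩, hQP, hPN, hf2, hf3⟩, ?_⟩
  rintro f' ⟨⟨_, hf'1⟩, _, _, _, hf'2, hf'3⟩
  exact huniq f' ⟨hf'1, hf'2, hf'3⟩

end Main

end Cfsg.Agent.Lib.Helper24
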