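import Mathlib
import Cfsg.Prelude.Def_Blocks
import Cfsg.Prelude.Def_BrauerPairs
import Cfsg.Agent.Lib.Helper24.NormalSubpair
import Cfsg.Agent.Lib.Helper24.NormalPCentral
import Cfsg.Agent.Lib.Helper7.DefectClass
import Cfsg.Agent.Lib.Helper7.Covering

/-!
# Central idempotents with local-integral coefficients are sums of block idempotents (helper24)
-/

set_option autoImplicit false

namespace Cfsg.Agent.Lib.Helper24

open Cfsg.Agent.Lib.Helper2 Cfsg.Agent.Lib.Helper7
open scoped ComplexConjugate

section Idem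

variable {G : Type*} [Group G] [Fintype G] {p : ℕ} {M : Ideal Cfsg.AlgInt}

theorem omega_eq_zero_or_one_of_idem (a : G → ℂ) (hac : Cfsg.IsClassFunction G a)
    (hid : conv a a = a) (χ : Cfsg.IrrCharacter G) : omega χ.1 a = 0 ∨ omega χ.1 a = 1 := by
  have h := omega_conv χ a a hac hac
  rw [hid] at h
  have h2 : omega χ.1 a * (omega χ.1 a - 1) = 0 := by linear_combination -h
  rcases mul_eq_zero.mp h2 with h0 | h1
  · left; exact h0
  · right; exact sub_eq_zero.mp h1

/-- the set of irreducible characters on which a central idempotent acts as the identity -/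
def idemSet (a : G → ℂ) : Set (Cfsg.IrrCharacter G) := {χ | omega χ.1 a = 1}

theorem eq_blockCoeff_idemSet (a : G → ℂ) (hac : Cfsg.IsClassFunction G a)
    (hid : conv a a = a) : a = Cfsg.blockCoeff (idemSet a) := by
  classical
  apply eq_of_omega_eq a _ hac (blockCoeff_isClassFunction _)
  intro χ
  rw [omega_blockCoeff]
  by_cases h : χ ∈ idemSet a
  · rw [if_pos h]; exact h
  · rw [if_neg h]
    rcases omega_eq_zero_or_one_of_idem a hac hid χ with h0 | h1
    · exact h0
    · exact absurd h1 h

theorem blockCoeff_injective {S S' : Set (Cfsg.IrrCharacter G)}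
    (h : Cfsg.blockCoeff S = Cfsg.blockCoeff S') : S = S' := by
  classical
  ext χ
  have h1 := congrArg (omega χ.1) h
  rw [omega_blockCoeff, omega_blockCoeff] at h1
  by_cases h2 : χ ∈ S <;> by_cases h3 : χ ∈ S' <;> simp [h2, h3] at h1 ⊢

theorem blockCoeff_empty : Cfsg.blockCoeff (∅ : Set (Cfsg.IrrCharacter G)) = 0 := by
  classical
  apply eq_of_omega_eq _ _ (blockCoeff_isClassFunction _)
  · intro g x; rfl
  intro χ
  rw [omega_blockCoeff, omega_zero]
  simp

theorem conv_blockCoeff_blockCoeff (S S' : Set (Cfsg.IrrCharacter G)) :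
    conv (Cfsg.blockCoeff S) (Cfsg.blockCoeff S') = Cfsg.blockCoeff (S ∩ S') := by
  classical
  apply eq_of_omega_eq _ _
    (conv_isClassFunction _ _ (blockCoeff_isClassFunction S) (blockCoeff_isClassFunction S'))
    (blockCoeff_isClassFunction _)
  intro χ
  rw [omega_conv χ _ _ (blockCoeff_isClassFunction S) (blockCoeff_isClassFunction S'),
    omega_blockCoeff, omega_blockCoeff, omega_blockCoeff]
  by_cases h2 : χ ∈ S <;> by_cases h3 : χ ∈ S' <;> simp [h2, h3]

/-- **Block idempotents are primitive.** A nonzero central idempotent with local-integral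
coefficients that is absorbed by the idempotent of a block equals it. -/
theorem eq_blockCoeff_of_idem_of_conv (hM : Cfsg.IsPModular p M) (a : G → ℂ)
    (hac : Cfsg.IsClassFunction G a) (haR : ∀ g, Cfsg.MemLocalRing M (a g))
    (hid : conv a a = a) (hne : a ≠ 0) (e : Set (Cfsg.IrrCharacter G))
    (he : Cfsg.IsPBlock M e) (hae : conv a (Cfsg.blockCoeff e) = a) :
    a = Cfsg.blockCoeff e := by
  classical
  have h1 := eq_blockCoeff_idemSet a hac hid
  set S := idemSet a with hS
  have hSne : S.Nonempty := by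
    by_contra hcon
    rw [Set.not_nonempty_iff_eq_empty] at hcon
    rw [hcon, blockCoeff_empty] at h1
    exact hne h1
  obtain ⟨χ, hχ⟩ := hSne
  have hunion : Cfsg.blockOf M (χ : G → ℂ) ⊆ S :=
    blockOf_subset_of_memLocalRing hM S (by rw [← h1]; exact haR) χ hχ
  have hsub : S ⊆ e := by
    have h2 : Cfsg.blockCoeff (S ∩ e) = Cfsg.blockCoeff S := by
      rw [← conv_blockCoeff_blockCoeff, ← h1, hae]
    have h3 := blockCoeff_injective h2
    intro ψ hψ
    have : ψ ∈ S ∩ e := by rw [h3]; exact hψ
    exact this.2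
  have heq : e = Cfsg.blockOf M (χ : G → ℂ) := eq_blockOf_of_mem hM he (hsub hχ)
  have : S = e := Set.Subset.antisymm hsub (by rw [heq]; exact hunion)
  rw [h1, this]

end Idem

section RestrictIn

variable {G : Type*} [Group G]

/-- restriction of a function on the subgroup `T` to a smaller subgroup `K` -/
def restrictIn {K T : Subgroup G} (h : K ≤ T) (a : T → ℂ) : K → ℂ := fun k => a ⟨k, h k.2⟩

theorem restrictIn_apply {K T : Subgroup G} (h : K ≤ T) (a : T → ℂ) (k : K) :
    restrictIn h a k = a ⟨k, h k.2⟩ := rfl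

theorem extZ_eq_extZ_restrictIn {K T : Subgroup G} (h : K ≤ T) (a : T → ℂ)
    (hsupp : ∀ t : T, (t : G) ∉ K → a t = 0) :
    Cfsg.extendByZero T a = Cfsg.extendByZero K (restrictIn h a) := by
  ext g
  by_cases hg : g ∈ K
  · rw [extendByZero_apply_mem K _ hg, extendByZero_apply_mem T _ (h hg)]
    rfl
  · rw [extendByZero_apply_not_mem K _ hg]
    by_cases hgT : g ∈ T
    · rw [extendByZero_apply_mem T _ hgT]
      exact hsupp ⟨g, hgT⟩ hg
    · rw [extendByZero_apply_not_mem T _ hgT]

theorem restrictIn_isClassFunction {K T : Subgroup G} (h : K ≤ T) (a : T → ℂ)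
    (ha : Cfsg.IsClassFunction T a) : Cfsg.IsClassFunction K (restrictIn h a) := by
  intro g x
  exact ha ⟨g, h g.2⟩ ⟨x, h x.2⟩

theorem eq_of_restrictIn_eq {K T : Subgroup G} (h : K ≤ T) (a b : T → ℂ)
    (ha : ∀ t : T, (t : G) ∉ K → a t = 0) (hb : ∀ t : T, (t : G) ∉ K → b t = 0)
    (hab : restrictIn h a = restrictIn h b) : a = b := by
  ext t
  by_cases ht : (t : G) ∈ K
  · have := congrFun hab ⟨t, ht⟩
    exact this
  · rw [ha t ht, hb t ht]

end RestrictIn

section ConvIn

variable {G : Type*} [Group G] [Fintype G]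

/-- convolution of functions on `T` supported on `K ≤ T` is computed inside `K` -/
theorem conv_restrictIn {K T : Subgroup G} [Fintype K] [Fintype T] (h : K ≤ T) (a b : T → ℂ)
    (ha : ∀ t : T, (t : G) ∉ K → a t = 0) (hb : ∀ t : T, (t : G) ∉ K → b t = 0) :
    restrictIn h (conv a b) = conv (restrictIn h a) (restrictIn h b) ∧
      ∀ t : T, (t : G) ∉ K → conv a b t = 0 := by
  have key : Cfsg.extendByZero T (conv a b)
      = Cfsg.extendByZero K (conv (restrictIn h a) (restrictIn h b)) := by
    rw [← conv_extZ T a b, extZ_eq_extZ_restrictIn h a ha, extZ_eq_extZ_restrictIn h b hb,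
      conv_extZ K]
  constructor
  · ext k
    have := congrFun key (k : G)
    rw [extendByZero_apply_mem T _ (h k.2), extendByZero_apply_mem K _ k.2] at this
    exact this
  · intro t ht
    have := congrFun key (t : G)
    rw [extendByZero_apply_mem T _ t.2, extendByZero_apply_not_mem K _ ht] at this
    exact this

end ConvIn

end Cfsg.Agent.Lib.Helper24
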