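import Mathlib
import Cfsg.Prelude.Def_Blocks
import Cfsg.Agent.Lib.Helper24.IdemBlocks
import Cfsg.Agent.Lib.Helper7.MinMax
import Cfsg.Agent.Lib.Helper7.DefectOrder

/-!
# Numerical min-max and counting blocks against classes (helper24)
-/

set_option autoImplicit false

namespace Cfsg.Agent.Lib.Helper24

open Cfsg.Agent.Lib.Helper2 Cfsg.Agent.Lib.Helper7
open scoped ComplexConjugate

section Num

variable {G : Type*} [Group G] [Fintype G] {p : ℕ} {M : Ideal Cfsg.AlgInt}

theorem card_sylow_centralizer_map [Fact p.Prime] (h : G)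
    (Q : Sylow p (Subgroup.centralizer ({h} : Set G))) :
    Nat.card ((Q : Subgroup (Subgroup.centralizer ({h} : Set G))).map
      (Subgroup.centralizer ({h} : Set G)).subtype)
      = p ^ (Nat.card (Subgroup.centralizer ({h} : Set G))).factorization p := by
  rw [Subgroup.card_map_of_injective (Subgroup.subtype_injective _), Sylow.card_eq_multiplicity]

theorem factorization_le_of_sylCentLe [Fact p.Prime] (h l : G)
    (Q : Sylow p (Subgroup.centralizer ({h} : Set G)))
    (hs : SylCentLe p ((Q : Subgroup (Subgroup.centralizer ({h} : Set G))).map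
      (Subgroup.centralizer ({h} : Set G)).subtype) l) :
    (Nat.card (Subgroup.centralizer ({l} : Set G))).factorization p
      ≤ (Nat.card (Subgroup.centralizer ({h} : Set G))).factorization p := by
  obtain ⟨x, Q', hQ'⟩ := hs
  have h1 := Subgroup.card_le_of_le hQ'
  rw [card_sylow_centralizer_map,
    Subgroup.card_map_of_injective (MulAut.conj x).injective, card_sylow_centralizer_map] at h1
  exact (Nat.pow_le_pow_iff_right (Fact.out : p.Prime).one_lt).mp h1

/-- numerical max: a class on which the block idempotent is a unit has defect at most that of the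
block -/
theorem factorization_le_blockDefect [Fact p.Prime] (hM : Cfsg.IsPModular p M)
    (B : Set (Cfsg.IrrCharacter G)) (hB : Cfsg.IsPBlock M B) (l : G)
    (hl : ¬ Cfsg.MemLocalIdeal M (Cfsg.blockCoeff B l)) :
    (Nat.card (Subgroup.centralizer ({l} : Set G))).factorization p ≤ Cfsg.blockDefect p B := by
  obtain ⟨g, hg⟩ := exists_isDefectClass hM B hB
  obtain ⟨χ, hχ⟩ := isPBlock_nonempty hM hB
  obtain ⟨Q⟩ : Nonempty (Sylow p (Subgroup.centralizer ({g} : Set G))) := inferInstance
  rw [blockDefect_eq_of_isDefectClass hM B hB g hg]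
  exact factorization_le_of_sylCentLe g l Q (minmax hM B hB g l Q χ hχ (hg.2.2 χ hχ) hl)

/-- numerical min: a class on which the central character of the block is a unit has defect at
least that of the block -/
theorem blockDefect_le_factorization [Fact p.Prime] (hM : Cfsg.IsPModular p M)
    (B : Set (Cfsg.IrrCharacter G)) (hB : Cfsg.IsPBlock M B) (χ : Cfsg.IrrCharacter G)
    (hχ : χ ∈ B) (h : G) (hh : ¬ Cfsg.MemLocalIdeal M (Cfsg.centralChar χ.1 h)) :
    Cfsg.blockDefect p B ≤ (Nat.card (Subgroup.centralizer ({h} : Set G))).factorization p := by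
  obtain ⟨g, hg⟩ := exists_isDefectClass hM B hB
  obtain ⟨Q⟩ : Nonempty (Sylow p (Subgroup.centralizer ({h} : Set G))) := inferInstance
  rw [blockDefect_eq_of_isDefectClass hM B hB g hg]
  exact factorization_le_of_sylCentLe h g Q (minmax hM B hB h g Q χ hχ hh hg.2.1)

end Num

section ClassSum

variable {G : Type*} [Group G] [Fintype G]

/-- a sum `∑ g, f g / |class of g|` of a class function is the sum over the classes -/
theorem sum_mul_inv_index_eq (f : G → ℂ) (hf : Cfsg.IsClassFunction G f)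
    [Fintype (ConjClasses G)] (rep : ConjClasses G → G)
    (hrep : ∀ C, ConjClasses.mk (rep C) = C) :
    ∑ g : G, f g * ((Subgroup.centralizer ({g} : Set G)).index : ℂ)⁻¹
      = ∑ C : ConjClasses G, f (rep C) := by
  classical
  have h1 : ∀ g : G, f g * ((Subgroup.centralizer ({g} : Set G)).index : ℂ)⁻¹
      = ∑ C : ConjClasses G, if ConjClasses.mk g = C then
          f g * ((Subgroup.centralizer ({g} : Set G)).index : ℂ)⁻¹ else 0 := by
    intro g
    rw [Finset.sum_ite_eq]
    simp
  rw [Finset.sum_congr rfl (fun g _ => h1 g), Finset.sum_comm]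
  apply Finset.sum_congr rfl
  intro C _
  have h2 : ∀ g : G, (if ConjClasses.mk g = C then
          f g * ((Subgroup.centralizer ({g} : Set G)).index : ℂ)⁻¹ else 0)
      = f (rep C) * (if ConjClasses.mk g = C then
          ((Subgroup.centralizer ({g} : Set G)).index : ℂ)⁻¹ else 0) := by
    intro g
    split_ifs with hg
    · rw [IsClassFunction.eq_of_isConj hf
        (ConjClasses.mk_eq_mk_iff_isConj.mp (hg.trans (hrep C).symm))]
    · simp
  rw [Finset.sum_congr rfl (fun g _ => h2 g), ← Finset.mul_sum, sum_class_weight, mul_one]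

end ClassSum

section Matrix

theorem card_le_card_of_mul_eq_one {R : Type*} [CommRing R] [Nontrivial R] {α β : Type*}
    [Fintype α] [Fintype β] [DecidableEq α] [DecidableEq β] (A : Matrix α β R) (C : Matrix β α R)
    (h : A * C = 1) : Fintype.card α ≤ Fintype.card β := by
  apply card_le_of_injective R (Matrix.mulVecLin C)
  intro v w hvw
  have h1 : A.mulVec (C.mulVec v) = A.mulVec (C.mulVec w) := by
    simp only [Matrix.mulVecLin_apply] at hvw
    rw [hvw]
  rw [Matrix.mulVec_mulVec, Matrix.mulVec_mulVec, h, Matrix.one_mulVec, Matrix.one_mulVec] at h1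
  exact h1

end Matrix

section Count

variable {G : Type*} [Group G] [Fintype G] {p : ℕ} {M : Ideal Cfsg.AlgInt}

/-- **Counting blocks against classes.**  If, for a family `𝔅` of blocks and a family `𝔎` of
classes, the products `e_{B'}(g) ω_B(g)` lie in the local ideal for all `B, B' ∈ 𝔅` and all `g`
whose class is outside `𝔎`, then `|𝔅| ≤ |𝔎|`. -/
theorem card_blocks_le_card_classes (hM : Cfsg.IsPModular p M)
    (𝔅 : Set (Set (Cfsg.IrrCharacter G))) (h𝔅 : ∀ B ∈ 𝔅, Cfsg.IsPBlock M B)
    (𝔎 : Set (ConjClasses G))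
    (hkey : ∀ B ∈ 𝔅, ∀ B' ∈ 𝔅, ∀ χ : Cfsg.IrrCharacter G, χ ∈ B → ∀ g : G,
      ConjClasses.mk g ∉ 𝔎 →
      Cfsg.MemLocalIdeal M (Cfsg.blockCoeff B' g * Cfsg.centralChar χ.1 g)) :
    Nat.card 𝔅 ≤ Nat.card 𝔎 := by
  classical
  haveI : Fintype (ConjClasses G) := Fintype.ofFinite _
  haveI : Fintype 𝔅 := Fintype.ofFinite _
  haveI : Fintype 𝔎 := Fintype.ofFinite _
  rw [Nat.card_eq_fintype_card, Nat.card_eq_fintype_card]
  haveI : Nontrivial (Rloc hM ⧸ Mloc hM) := Ideal.Quotient.nontrivial_iff.mpr (Mloc_ne_top hM)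
  -- choices
  have hχex : ∀ B : 𝔅, ∃ χ : Cfsg.IrrCharacter G, χ ∈ B.1 := fun B =>
    isPBlock_nonempty hM (h𝔅 B.1 B.2)
  choose χB hχB using hχex
  let rep : ConjClasses G → G := fun K => Quotient.out K
  have hrep : ∀ K, ConjClasses.mk (rep K) = K := fun K => Quotient.out_eq K
  let A : Matrix 𝔅 𝔎 (Rloc hM ⧸ Mloc hM) := fun B K =>
    Ideal.Quotient.mk (Mloc hM) ⟨Cfsg.centralChar (χB B).1 (rep K.1),
      centralChar_memLocalRing hM (χB B) (rep K.1)⟩
  let Cm : Matrix 𝔎 𝔅 (Rloc hM ⧸ Mloc hM) := fun K B' =>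
    Ideal.Quotient.mk (Mloc hM) ⟨Cfsg.blockCoeff B'.1 (rep K.1),
      blockCoeff_memLocalRing hM B'.1 (h𝔅 B'.1 B'.2) (rep K.1)⟩
  apply card_le_card_of_mul_eq_one A Cm
  ext B B'
  rw [Matrix.mul_apply, Matrix.one_apply]
  simp only [A, Cm]
  simp_rw [← map_mul]
  rw [← map_sum]
  have hδ : (if B = B' then (1 : Rloc hM ⧸ Mloc hM) else 0)
      = Ideal.Quotient.mk (Mloc hM) (if B = B' then 1 else 0) := by
    split_ifs <;> simp
  rw [hδ, Ideal.Quotient.eq, mem_Mloc]
  -- the complex number
  have hcoe : ((∑ K : 𝔎, (⟨Cfsg.centralChar (χB B).1 (rep K.1),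
        centralChar_memLocalRing hM (χB B) (rep K.1)⟩ : Rloc hM)
      * ⟨Cfsg.blockCoeff B'.1 (rep K.1),
        blockCoeff_memLocalRing hM B'.1 (h𝔅 B'.1 B'.2) (rep K.1)⟩
      - (if B = B' then 1 else 0) : Rloc hM) : ℂ)
      = ∑ K : 𝔎, Cfsg.centralChar (χB B).1 (rep K.1) * Cfsg.blockCoeff B'.1 (rep K.1)
        - (if B = B' then 1 else 0) := by
    rw [AddSubgroupClass.coe_sub, AddSubmonoidClass.coe_finset_sum]
    congr 1
    split_ifs <;> simp
  rw [hcoe]
  -- δ as a class sum
  have hδ2 : (if B = B' then (1 : ℂ) else 0) = omega (χB B).1 (Cfsg.blockCoeff B'.1) := by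
    rw [omega_blockCoeff]
    by_cases hBB : B = B'
    · rw [if_pos hBB, if_pos (hBB ▸ hχB B)]
    · rw [if_neg hBB, if_neg]
      intro hmem
      apply hBB
      apply Subtype.ext
      rw [eq_blockOf_of_mem hM (h𝔅 B.1 B.2) (hχB B), eq_blockOf_of_mem hM (h𝔅 B'.1 B'.2) hmem]
  rw [hδ2, omega_eq_sum]
  have hcl : Cfsg.IsClassFunction G
      (fun g => Cfsg.blockCoeff B'.1 g * Cfsg.centralChar (χB B).1 g) := by
    intro g x
    simp only
    rw [blockCoeff_isClassFunction B'.1 g x,
      centralChar_isClassFunction _ (IrrCharacter.isClassFunction (χB B)) g x]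
  rw [sum_mul_inv_index_eq _ hcl rep hrep]
  rw [← Finset.sum_filter_add_sum_filter_not Finset.univ (fun K : ConjClasses G => K ∈ 𝔎)]
  rw [Finset.sum_subtype (Finset.univ.filter (fun K : ConjClasses G => K ∈ 𝔎))
    (p := fun K => K ∈ 𝔎) (by intro x; simp)]
  have hfirst : ∑ K : 𝔎, Cfsg.centralChar (χB B).1 (rep K.1) * Cfsg.blockCoeff B'.1 (rep K.1)
      = ∑ K : {K // K ∈ 𝔎}, Cfsg.blockCoeff B'.1 (rep K.1) * Cfsg.centralChar (χB B).1 (rep K.1) := by
    apply Finset.sum_congr rfl
    intro K _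
    ring
  rw [hfirst, sub_add_cancel_left]
  apply memLocalIdeal_neg
  apply memLocalIdeal_sum hM
  intro K hK
  rw [Finset.mem_filter] at hK
  apply hkey B.1 B.2 B'.1 B'.2 (χB B) (hχB B)
  rw [hrep]
  exact hK.2

end Count

end Cfsg.Agent.Lib.Helper24
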