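import Mathlib
import Cfsg.Prelude.Def_Blocks
import Cfsg.Prelude.Def_BlockLocal
import Cfsg.Prelude.Def_BrauerPairs
import Cfsg.Agent.Lib.Helper24.IdemBlocks

/-!
# Blocks of a normal subgroup under conjugation by the whole group; normal `p`-subgroups (helper24)
-/

set_option autoImplicit false

namespace Cfsg.Agent.Lib.Helper24

open Cfsg.Agent.Lib.Helper2 Cfsg.Agent.Lib.Helper7
open scoped ComplexConjugate

section Prim

variable {G : Type*} [Group G] [Fintype G] {p : ℕ} {M : Ideal Cfsg.AlgInt}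

/-- a nonzero central idempotent of `T` supported on `K ≤ T` that is absorbed by a function whose
restriction to `K` is a block idempotent of `K` equals that function -/
theorem eq_of_supported_of_conv (hM : Cfsg.IsPModular p M) {K T : Subgroup G} [Fintype K]
    [Fintype T] (h : K ≤ T) (ε a : T → ℂ)
    (hεs : ∀ t : T, (t : G) ∉ K → ε t = 0) (has : ∀ t : T, (t : G) ∉ K → a t = 0)
    (hεc : Cfsg.IsClassFunction T ε) (hεR : ∀ t, Cfsg.MemLocalRing M (ε t))
    (hεid : conv ε ε = ε) (hεne : ε ≠ 0) (hεa : conv ε a = ε)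
    (e : Set (Cfsg.IrrCharacter K)) (he : Cfsg.IsPBlock M e)
    (hae : restrictIn h a = Cfsg.blockCoeff e) : ε = a := by
  have h1 := (conv_restrictIn h ε ε hεs hεs).1
  rw [hεid] at h1
  have h2 := (conv_restrictIn h ε a hεs has).1
  rw [hεa, hae] at h2
  have hne : restrictIn h ε ≠ 0 := by
    intro h0
    apply hεne
    apply eq_of_restrictIn_eq h ε 0 hεs (fun _ _ => rfl)
    rw [h0]
    rfl
  have h3 := eq_blockCoeff_of_idem_of_conv hM (restrictIn h ε)
    (restrictIn_isClassFunction h ε hεc) (fun k => hεR _) h1.symm hne e he h2.symm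
  exact eq_of_restrictIn_eq h ε a hεs has (h3.trans hae.symm)

end Prim

section OmegaConj

variable {G : Type*} [Group G] (K : Subgroup G) [Fintype K]

theorem omega_conjIrr (n : Subgroup.normalizer (K : Set G)) (ψ : Cfsg.IrrCharacter K)
    (a : K → ℂ) :
    omega (conjIrr K n ψ).1 a = omega ψ.1 (fun k => a (K.normalizerMonoidHom n k)) := by
  unfold omega
  rw [conjIrr_apply, map_one]
  congr 1
  apply Fintype.sum_equiv (K.normalizerMonoidHom n⁻¹).toEquiv
  intro k
  rw [conjIrr_apply]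
  simp only [MulEquiv.toEquiv_eq_coe, MulEquiv.coe_toEquiv]
  congr 2
  rw [map_inv]
  simp

theorem omega_conjIrr_of_invariant (n : Subgroup.normalizer (K : Set G))
    (ψ : Cfsg.IrrCharacter K) (a : K → ℂ)
    (ha : ∀ k, a (K.normalizerMonoidHom n k) = a k) :
    omega (conjIrr K n ψ).1 a = omega ψ.1 a := by
  rw [omega_conjIrr]
  congr 1
  funext k
  exact ha k

end OmegaConj

section NormalConj

variable {G : Type*} [Group G] (C : Subgroup G) [C.Normal]

/-- an element of `G` as an element of the normalizer of a normal subgroup -/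
def nrm (x : G) : Subgroup.normalizer (C : Set G) :=
  ⟨x, by rw [Subgroup.normalizer_eq_top]; trivial⟩

theorem nrm_one : nrm C 1 = 1 := rfl

theorem nrm_mul (x y : G) : nrm C (x * y) = nrm C x * nrm C y := rfl

theorem nrm_inv (x : G) : nrm C x⁻¹ = (nrm C x)⁻¹ := rfl

/-- conjugation of a set of irreducible characters of a normal subgroup by a group element -/
noncomputable def cs [Finite C] (x : G) (f : Set (Cfsg.IrrCharacter C)) :
    Set (Cfsg.IrrCharacter C) := conjIrr C (nrm C x) '' f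

theorem cs_one [Finite C] (f : Set (Cfsg.IrrCharacter C)) : cs C 1 f = f := by
  unfold cs
  rw [nrm_one]
  have : conjIrr C (1 : Subgroup.normalizer (C : Set G)) = id := funext (conjIrr_one C)
  rw [this, Set.image_id]

theorem cs_mul [Finite C] (x y : G) (f : Set (Cfsg.IrrCharacter C)) :
    cs C (x * y) f = cs C x (cs C y f) := by
  unfold cs
  rw [nrm_mul, Set.image_image]
  apply Set.image_congr
  intro χ _
  exact conjIrr_mul C _ _ χ

theorem cs_isPBlock [Finite C] {M : Ideal Cfsg.AlgInt} (x : G) {f : Set (Cfsg.IrrCharacter C)}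
    (hf : Cfsg.IsPBlock M f) : Cfsg.IsPBlock M (cs C x f) :=
  isPBlock_image_conjIrr C _ hf

theorem stabilizesBlock_iff_cs [Finite C] (f : Set (Cfsg.IrrCharacter C)) (x : G) :
    Cfsg.StabilizesBlock C f x ↔ cs C x f = f := by
  rw [stabilizesBlock_iff]
  constructor
  · rintro ⟨hu, h⟩
    exact image_conjIrr_eq_of_stabilizes C f x hu h
  · intro h
    refine ⟨(nrm C x).2, ?_⟩
    have : conjIrr C ⟨x, (nrm C x).2⟩ '' f = f := h
    rw [this]

theorem blockCoeff_cs [Finite C] (x : G) (f : Set (Cfsg.IrrCharacter C)) (c : C) :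
    Cfsg.blockCoeff (cs C x f) c
      = Cfsg.blockCoeff f ⟨x⁻¹ * c * x, by
          have := (inferInstance : C.Normal).conj_mem c c.2 x⁻¹
          simpa using this⟩ := by
  unfold cs
  rw [blockCoeff_image_conjIrr]
  congr 1
  apply Subtype.ext
  rw [normalizerMonoidHom_inv_coe]
  rfl

/-- the union of the conjugates of `e` -/
def orbU [Finite C] (e : Set (Cfsg.IrrCharacter C)) : Set (Cfsg.IrrCharacter C) :=
  {ψ | ∃ x : G, ψ ∈ cs C x e}

theorem subset_orbU [Finite C] (e : Set (Cfsg.IrrCharacter C)) : e ⊆ orbU C e := by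
  intro ψ hψ
  exact ⟨1, by rw [cs_one]; exact hψ⟩

theorem cs_orbU [Finite C] (e : Set (Cfsg.IrrCharacter C)) (y : G) :
    cs C y (orbU C e) = orbU C e := by
  ext ψ
  constructor
  · rintro ⟨ψ', ⟨x, hx⟩, rfl⟩
    refine ⟨y * x, ?_⟩
    rw [cs_mul]
    exact ⟨ψ', hx, rfl⟩
  · rintro ⟨x, hx⟩
    have : ψ ∈ cs C y (cs C (y⁻¹ * x) e) := by
      rw [← cs_mul, mul_inv_cancel_left]; exact hx
    obtain ⟨ψ', hψ', rfl⟩ := this
    exact ⟨ψ', ⟨y⁻¹ * x, hψ'⟩, rfl⟩

end NormalConj

section Count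

variable {G : Type*} [Group G] [Fintype G] (C : Subgroup G) [C.Normal] [Fintype C]
variable {p : ℕ} {M : Ideal Cfsg.AlgInt}

theorem blockOf_subset_orbU (hM : Cfsg.IsPModular p M) (e : Set (Cfsg.IrrCharacter C))
    (he : Cfsg.IsPBlock M e) (ψ : Cfsg.IrrCharacter C) (hψ : ψ ∈ orbU C e) :
    Cfsg.blockOf M (ψ : C → ℂ) ⊆ orbU C e := by
  obtain ⟨x, hx⟩ := hψ
  have hb : Cfsg.IsPBlock M (cs C x e) := cs_isPBlock C x he
  rw [← eq_blockOf_of_mem hM hb hx]
  intro ψ' hψ'
  exact ⟨x, hψ'⟩

theorem mem_cs_iff_of_mem (hM : Cfsg.IsPModular p M) (e : Set (Cfsg.IrrCharacter C))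
    (he : Cfsg.IsPBlock M e) (T : Subgroup G)
    (hT : ∀ x : G, x ∈ T ↔ Cfsg.StabilizesBlock C e x) (ψ : Cfsg.IrrCharacter C) (y : G)
    (hy : ψ ∈ cs C y e) (x : G) : ψ ∈ cs C x e ↔ y⁻¹ * x ∈ T := by
  rw [hT, stabilizesBlock_iff_cs]
  constructor
  · intro hx
    have h1 : cs C x e = cs C y e := by
      rw [eq_blockOf_of_mem hM (cs_isPBlock C x he) hx,
        eq_blockOf_of_mem hM (cs_isPBlock C y he) hy]
    rw [cs_mul, h1, ← cs_mul, inv_mul_cancel, cs_one]
  · intro h
    have h2 : cs C x e = cs C y e := by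
      have := congrArg (cs C y) h
      rw [← cs_mul, mul_inv_cancel_left] at this
      exact this
    rw [h2]
    exact hy

/-- counting lemma: the sum of all conjugates of the idempotent of `e` is `|T|` times the
idempotent of the orbit union -/
theorem sum_blockCoeff_cs (hM : Cfsg.IsPModular p M) (e : Set (Cfsg.IrrCharacter C))
    (he : Cfsg.IsPBlock M e) (T : Subgroup G)
    (hT : ∀ x : G, x ∈ T ↔ Cfsg.StabilizesBlock C e x) :
    (∑ x : G, Cfsg.blockCoeff (cs C x e)) = (Nat.card T : ℂ) • Cfsg.blockCoeff (orbU C e) := by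
  classical
  apply eq_of_omega_eq
  · apply isClassFunction_sum
    intro x _
    exact blockCoeff_isClassFunction _
  · exact isClassFunction_smul _ (blockCoeff_isClassFunction _)
  intro ψ
  rw [omega_sum, omega_smul, omega_blockCoeff]
  simp_rw [omega_blockCoeff]
  by_cases hψ : ψ ∈ orbU C e
  · obtain ⟨y, hy⟩ := hψ
    rw [if_pos ⟨y, hy⟩, mul_one]
    have h1 : ∀ x ∈ (Finset.univ : Finset G), (if ψ ∈ cs C x e then (1 : ℂ) else 0)
        = if y⁻¹ * x ∈ T then 1 else 0 := by
      intro x _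
      have hiff := mem_cs_iff_of_mem C hM e he T hT ψ y hy x
      by_cases hx : ψ ∈ cs C x e
      · rw [if_pos hx, if_pos (hiff.mp hx)]
      · rw [if_neg hx, if_neg (fun h => hx (hiff.mpr h))]
    rw [Finset.sum_congr rfl h1]
    rw [Fintype.sum_equiv (Equiv.mulLeft y⁻¹) (fun x => if y⁻¹ * x ∈ T then (1 : ℂ) else 0)
      (fun z => if z ∈ T then (1 : ℂ) else 0) (fun x => rfl)]
    rw [Finset.sum_boole]
    congr 1
    rw [Nat.card_eq_fintype_card, Fintype.card_subtype]
  · rw [if_neg hψ, mul_zero]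
    apply Finset.sum_eq_zero
    intro x _
    rw [if_neg]
    intro h
    exact hψ ⟨x, h⟩

end Count

section NormalP

variable {G : Type*} [Group G] [Fintype G] {p : ℕ} {M : Ideal Cfsg.AlgInt}

/-- block idempotents vanish off the centralizer of a normal `p`-subgroup -/
theorem blockCoeff_eq_zero_of_notMem_centralizer [Fact p.Prime] (hM : Cfsg.IsPModular p M)
    (P : Subgroup G) [P.Normal] (hP : IsPGroup p P) (B : Set (Cfsg.IrrCharacter G))
    (hB : Cfsg.IsPBlock M B) (g : G) (hg : g ∉ Subgroup.centralizer (P : Set G)) :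
    Cfsg.blockCoeff B g = 0 :=
  blockCoeff_eq_zero_of_notMem hM (Subgroup.centralizer (P : Set G))
    (fun g hg χ => centralChar_memLocalIdeal_of_notMem_centralizer hM P hP g hg χ) B hB g hg

/-- inner automorphisms fix irreducible characters -/
theorem conjIrr_of_mem {K : Subgroup G} [Finite K] (n : Subgroup.normalizer (K : Set G))
    (hn : (n : G) ∈ K) (ψ : Cfsg.IrrCharacter K) : conjIrr K n ψ = ψ := by
  apply Subtype.ext
  funext k
  rw [conjIrr_apply]
  have hcl := IrrCharacter.isClassFunction ψ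
  have h1 : K.normalizerMonoidHom n⁻¹ k = (⟨(n : G), hn⟩ : K)⁻¹ * k * (⟨(n : G), hn⟩ : K)⁻¹⁻¹ := by
    apply Subtype.ext
    rw [normalizerMonoidHom_inv_coe]
    simp
  rw [h1]
  exact hcl k _

/-- elements acting trivially on `K` by conjugation fix irreducible characters -/
theorem conjIrr_of_centralizes {K : Subgroup G} [Finite K] (n : Subgroup.normalizer (K : Set G))
    (hn : ∀ k ∈ K, (n : G) * k = k * (n : G)) (ψ : Cfsg.IrrCharacter K) : conjIrr K n ψ = ψ := by
  apply Subtype.ext
  funext k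
  rw [conjIrr_apply]
  apply congrArg
  apply Subtype.ext
  rw [normalizerMonoidHom_inv_coe]
  have := hn k k.2
  calc (n : G)⁻¹ * (k : G) * (n : G) = (n : G)⁻¹ * ((k : G) * (n : G)) := by group
    _ = (n : G)⁻¹ * ((n : G) * k) := by rw [this]
    _ = k := by group

end NormalP

end Cfsg.Agent.Lib.Helper24
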