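import Mathlib
import Cfsg.Prelude.Def_GeometricClasses

/-!
# Hub corollaries, helper24's part (b): a field subalgebra of `Mat_n(F)` of degree `r` has `r ∣ n`
(`F^n` is a vector space over it).  Exact shape of `notes/HubCorSkel_helper9.lean.txt`.
-/

set_option autoImplicit false

namespace Cfsg.Agent.Lib.Helper24.HubCor

open Cfsg Cfsg.Geo
open scoped MatrixGroups Matrix

variable {F : Type*} [Field F]

/-- (A2) C3 divisibility. -/
theorem dvd_of_isFieldSubalgebra {n r : ℕ} (K : Subalgebra F (Matrix (Fin n) (Fin n) F))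
    (hK : IsFieldSubalgebra r K) (hn : 0 < n) : r ∣ n := by
  haveI : Nonempty (Fin n) := ⟨⟨0, hn⟩⟩
  have hfield : IsField ↥K :=
    { exists_pair_ne := by
        refine ⟨0, 1, ?_⟩
        intro h
        have := congrArg Subtype.val h
        exact zero_ne_one this
      mul_comm := fun a b => Subtype.ext (hK.comm a a.2 b b.2)
      mul_inv_cancel := by
        intro a ha
        have ha' : (a : Matrix (Fin n) (Fin n) F) ≠ 0 := fun h => ha (Subtype.ext h)
        obtain ⟨y, hy, hxy⟩ := hK.inv a a.2 ha'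
        exact ⟨⟨y, hy⟩, Subtype.ext hxy⟩ }
  letI : Field ↥K := hfield.toField
  letI : Module ↥K (Fin n → F) :=
    Module.compHom (Fin n → F)
      (((Matrix.toLinAlgEquiv' (R := F) (n := Fin n)).toAlgHom.comp K.val).toRingHom)
  have htower : IsScalarTower F ↥K (Fin n → F) := by
    refine ⟨fun c a v => ?_⟩
    change ((c • a : ↥K) : Matrix (Fin n) (Fin n) F) *ᵥ v = c • ((a : Matrix (Fin n) (Fin n) F) *ᵥ v)
    rw [Subalgebra.coe_smul, Matrix.smul_mulVec]
  have h := @Module.finrank_mul_finrank F ↥K (Fin n → F) _ _ _ _ _ _ htower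
  rw [Module.finrank_fin_fun, hK.finrank_eq] at h
  exact ⟨_, h.symm⟩

end Cfsg.Agent.Lib.Helper24.HubCor
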