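import Mathlib
import Cfsg.Prelude.Def_GeometricClasses

/-!
# Hub corollaries (S5775 ... S5862), helper24's part (b): monomial groups over small fields

For a decomposition of `F^n` into `n` lines, `|F| = 2, 3, 4`, the stabiliser of the decomposition lies in
a point stabiliser (`S1`), in the similarity group of the quadratic form `∑ xᵢ²` (`S2`), in the similarity
group of the unitary form `∑ xᵢ yᵢ²` (`S3`).  Exact shapes of `notes/HubCorSkel_helper9.lean.txt`.
-/

set_option autoImplicit false

namespace Cfsg.Agent.Lib.Helper24.HubCor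

open Cfsg Cfsg.Geo
open scoped MatrixGroups Matrix

variable {F : Type*} [Field F]

section setup
variable {n : ℕ} (D : Fin n → Submodule F (Fin n → F))

/-- a basis adapted to a decomposition into lines -/
theorem exists_adapted_basis (hD : IsMDecomposition 1 D) :
    ∃ b : Module.Basis (Fin n) F (Fin n → F), ∀ i, D i = Submodule.span F {b i} := by
  have hgen : ∀ i, ∃ v : Fin n → F, v ≠ 0 ∧ D i = Submodule.span F {v} := by
    intro i
    have h1 := hD.finrank_eq i
    obtain ⟨⟨v, hv⟩, hv0, hsp⟩ := finrank_eq_one_iff'.1 h1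
    refine ⟨v, fun h => hv0 (Subtype.ext h), le_antisymm ?_ ?_⟩
    · intro w hw
      obtain ⟨c, hc⟩ := hsp ⟨w, hw⟩
      have : c • v = w := congrArg Subtype.val hc
      rw [← this]
      exact Submodule.smul_mem _ _ (Submodule.mem_span_singleton_self v)
    · rw [Submodule.span_singleton_le_iff_mem]
      exact hv
  choose d hd0 hd using hgen
  have hli : LinearIndependent F d :=
    hD.indep.linearIndependent D
      (fun i => by rw [hd i]; exact Submodule.mem_span_singleton_self _) hd0
  have hsp : ⊤ ≤ Submodule.span F (Set.range d) := by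
    rw [← hD.iSup_eq_top, iSup_le_iff]
    intro i
    rw [hd i, Submodule.span_singleton_le_iff_mem]
    exact Submodule.subset_span ⟨i, rfl⟩
  refine ⟨Module.Basis.mk hli hsp, fun i => ?_⟩
  rw [Module.Basis.mk_apply]
  exact hd i

/-- elements of the stabiliser are monomial in the adapted basis -/
theorem exists_monomial (b : Module.Basis (Fin n) F (Fin n → F))
    (hb : ∀ i, D i = Submodule.span F {b i}) (g : GL (Fin n) F)
    (hg : g ∈ decompositionStabilizer D) :
    ∃ (σ : Equiv.Perm (Fin n)) (c : Fin n → F), (∀ i, c i ≠ 0) ∧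
      (∀ i, (g : Matrix (Fin n) (Fin n) F) *ᵥ b i = c i • b (σ i)) ∧
      ∀ v i, b.repr ((g : Matrix (Fin n) (Fin n) F) *ᵥ v) (σ i) = c i * b.repr v i := by
  obtain ⟨σ, hσ⟩ := hg
  have h1 : ∀ i, ∃ c : F, c • b (σ i) = (g : Matrix (Fin n) (Fin n) F) *ᵥ b i := by
    intro i
    have hmem : (g : Matrix (Fin n) (Fin n) F) *ᵥ b i ∈ D (σ i) := by
      rw [← hσ i]
      refine ⟨b i, ?_, Matrix.toLin'_apply _ _⟩
      rw [hb i]
      exact Submodule.mem_span_singleton_self _
    rw [hb (σ i)] at hmem
    exact Submodule.mem_span_singleton.1 hmem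
  choose c hc using h1
  have hc0 : ∀ i, c i ≠ 0 := by
    intro i h0
    have h2 := hc i
    rw [h0, zero_smul] at h2
    have h3 := congrArg (fun z => ((g⁻¹ : GL (Fin n) F) : Matrix (Fin n) (Fin n) F) *ᵥ z) h2
    simp only [Matrix.mulVec_mulVec, ← Units.val_mul, inv_mul_cancel, Units.val_one,
      Matrix.one_mulVec, Matrix.mulVec_zero] at h3
    exact b.ne_zero i h3.symm
  refine ⟨σ, c, hc0, fun i => (hc i).symm, ?_⟩
  intro v i
  have hlin : (b.coord (σ i)) ∘ₗ (Matrix.toLin' (g : Matrix (Fin n) (Fin n) F)) = c i • b.coord i := by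
    apply b.ext
    intro j
    simp only [LinearMap.comp_apply, Matrix.toLin'_apply, Module.Basis.coord_apply,
      LinearMap.smul_apply, smul_eq_mul]
    rw [← hc j, map_smul, Finsupp.smul_apply, smul_eq_mul, Module.Basis.repr_self_apply,
      Module.Basis.repr_self_apply]
    by_cases hji : j = i
    · subst hji
      simp
    · have : σ j ≠ σ i := fun h => hji (σ.injective h)
      simp [hji, this]
  have := congrArg (fun L => L v) hlin
  simpa [LinearMap.comp_apply, Matrix.toLin'_apply, Module.Basis.coord_apply] using this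

theorem exists_repr_ne_zero (b : Module.Basis (Fin n) F (Fin n → F)) {v : Fin n → F} (hv : v ≠ 0) :
    ∃ i, b.repr v i ≠ 0 := by
  by_contra hcon
  push Not at hcon
  apply hv
  have : b.repr v = 0 := by
    ext i
    simpa using hcon i
  exact (LinearEquiv.map_eq_zero_iff b.repr).1 this

end setup

variable [Fintype F]

/-- (S1) C2, m = 1, q = 2. -/
theorem S1 {n : ℕ} (hn : 2 ≤ n) (hq : Fintype.card F = 2) (D : Fin n → Submodule F (Fin n → F))
    (hD : IsMDecomposition 1 D) :
    ∃ W : Submodule F (Fin n → F), W ≠ ⊥ ∧ W ≠ ⊤ ∧ decompositionStabilizer D ≤ subspaceStabilizer W := by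
  obtain ⟨b, hb⟩ := exists_adapted_basis D hD
  set s : Fin n → F := ∑ i, b i with hs
  have hs0 : s ≠ 0 := by
    intro h0
    have h1 : b.repr s ⟨0, by omega⟩ = 1 := by
      rw [hs, map_sum, Finsupp.finset_sum_apply]
      simp [Module.Basis.repr_self_apply]
    rw [h0] at h1
    simp at h1
  refine ⟨Submodule.span F {s}, ?_, ?_, ?_⟩
  · intro h
    rw [Submodule.span_singleton_eq_bot] at h
    exact hs0 h
  · intro h
    have h1 : Module.finrank F (Submodule.span F {s}) = 1 := finrank_span_singleton hs0
    rw [h, finrank_top, Module.finrank_fin_fun] at h1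
    omega
  · intro g hg
    obtain ⟨σ, c, hc0, hc, -⟩ := exists_monomial D b hb g hg
    have hc1 : ∀ i, c i = 1 := by
      intro i
      have := FiniteField.pow_card_sub_one_eq_one (c i) (hc0 i)
      rw [hq] at this
      simpa using this
    have hgs : (g : Matrix (Fin n) (Fin n) F) *ᵥ s = s := by
      rw [hs, Matrix.mulVec_sum]
      simp only [hc, hc1, one_smul]
      exact Equiv.sum_comp σ (fun i => b i)
    intro x
    change x ∈ Submodule.span F {s} ↔ (g : Matrix (Fin n) (Fin n) F) *ᵥ x ∈ Submodule.span F {s}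
    rw [Submodule.mem_span_singleton, Submodule.mem_span_singleton]
    constructor
    · rintro ⟨a, rfl⟩
      exact ⟨a, by rw [Matrix.mulVec_smul, hgs]⟩
    · rintro ⟨a, ha⟩
      refine ⟨a, ?_⟩
      have h2 : (g : Matrix (Fin n) (Fin n) F) *ᵥ (a • s) = (g : Matrix (Fin n) (Fin n) F) *ᵥ x := by
        rw [Matrix.mulVec_smul, hgs, ha]
      have h3 := congrArg (fun z => ((g⁻¹ : GL (Fin n) F) : Matrix (Fin n) (Fin n) F) *ᵥ z) h2
      simpa only [Matrix.mulVec_mulVec, ← Units.val_mul, inv_mul_cancel, Units.val_one,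
        Matrix.one_mulVec] using h3

/-- (S2) C2, m = 1, q = 3. -/
theorem S2 {n : ℕ} (hq : Fintype.card F = 3) (D : Fin n → Submodule F (Fin n → F))
    (hD : IsMDecomposition 1 D) :
    ∃ Q : (Fin n → F) → F, IsNondegenerateQuadraticForm Q ∧
      decompositionStabilizer D ≤ quadSimilarityGroup Q := by
  obtain ⟨b, hb⟩ := exists_adapted_basis D hD
  have h2 : (2 : F) ≠ 0 := by
    apply Ring.two_ne_zero
    intro hch
    have := FiniteField.even_card_iff_char_two.1 hch
    rw [hq] at this
    omega
  set Q : (Fin n → F) → F := fun v => ∑ i, (b.repr v i) ^ 2 with hQ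
  have hpolar : ∀ v w, QuadraticMap.polar Q v w = 2 * ∑ i, b.repr v i * b.repr w i := by
    intro v w
    simp only [QuadraticMap.polar, hQ, map_add, Finsupp.add_apply]
    rw [Finset.mul_sum, ← Finset.sum_sub_distrib, ← Finset.sum_sub_distrib]
    apply Finset.sum_congr rfl
    intro i _
    ring
  refine ⟨Q, ⟨?_, ⟨?_, ?_, ?_, ?_⟩, ?_⟩, ?_⟩
  · intro c v
    simp only [hQ, map_smul, Finsupp.smul_apply, smul_eq_mul, mul_pow]
    rw [Finset.mul_sum]
  · intro x y v
    rw [hpolar, hpolar, hpolar, ← mul_add, ← Finset.sum_add_distrib]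
    congr 1
    apply Finset.sum_congr rfl
    intro i _
    rw [map_add, Finsupp.add_apply]
    ring
  · intro c x v
    rw [hpolar, hpolar, mul_left_comm]
    congr 1
    rw [Finset.mul_sum]
    apply Finset.sum_congr rfl
    intro i _
    rw [map_smul, Finsupp.smul_apply, smul_eq_mul]
    ring
  · intro v x y
    rw [hpolar, hpolar, hpolar, ← mul_add, ← Finset.sum_add_distrib]
    congr 1
    apply Finset.sum_congr rfl
    intro i _
    rw [map_add, Finsupp.add_apply]
    ring
  · intro c v x
    rw [hpolar, hpolar, mul_left_comm]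
    congr 1
    rw [Finset.mul_sum]
    apply Finset.sum_congr rfl
    intro i _
    rw [map_smul, Finsupp.smul_apply, smul_eq_mul]
    ring
  · intro v hv
    obtain ⟨i, hi⟩ := exists_repr_ne_zero b hv
    have hval : QuadraticMap.polar Q (b i) v = 2 * b.repr v i := by
      rw [hpolar]
      congr 1
      simp [Module.Basis.repr_self, Finsupp.single_apply]
    refine ⟨⟨b i, ?_⟩, ⟨b i, ?_⟩⟩
    · rw [hval]
      exact mul_ne_zero h2 hi
    · rw [QuadraticMap.polar_comm, hval]
      exact mul_ne_zero h2 hi
  · intro g hg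
    obtain ⟨σ, c, hc0, -, hrep⟩ := exists_monomial D b hb g hg
    have hc1 : ∀ i, c i ^ 2 = 1 := by
      intro i
      have := FiniteField.pow_card_sub_one_eq_one (c i) (hc0 i)
      rw [hq] at this
      simpa using this
    refine ⟨1, fun v => ?_⟩
    rw [Units.val_one, one_mul]
    show ∑ i, (b.repr ((g : Matrix (Fin n) (Fin n) F) *ᵥ v) i) ^ 2 = ∑ i, (b.repr v i) ^ 2
    rw [← Equiv.sum_comp σ]
    apply Finset.sum_congr rfl
    intro i _
    rw [hrep, mul_pow, hc1, one_mul]

/-- (S3) C2, m = 1, q = 4. -/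
theorem S3 {n : ℕ} (hq : Fintype.card F = 4) (D : Fin n → Submodule F (Fin n → F))
    (hD : IsMDecomposition 1 D) :
    ∃ (σ : F ≃+* F) (f : (Fin n → F) → (Fin n → F) → F), IsUnitaryForm σ f ∧
      decompositionStabilizer D ≤ similarityGroup f := by
  classical
  obtain ⟨b, hb⟩ := exists_adapted_basis D hD
  have h2 : (2 : F) = 0 := by
    have hch : ringChar F = 2 := FiniteField.even_card_iff_char_two.2 (by rw [hq])
    have := ringChar.Nat.cast_ringChar (R := F)
    rw [hch] at this
    exact_mod_cast this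
  have h4 : ∀ x : F, x ^ 4 = x := by
    intro x
    have := FiniteField.pow_card x
    rwa [hq] at this
  have hadd : ∀ x y : F, (x + y) ^ 2 = x ^ 2 + y ^ 2 := by
    intro x y
    have : (x + y) ^ 2 = x ^ 2 + y ^ 2 + 2 * (x * y) := by ring
    rw [this, h2, zero_mul, add_zero]
  let σ : F ≃+* F :=
    { toFun := fun x => x ^ 2
      invFun := fun x => x ^ 2
      left_inv := fun x => by
        show (x ^ 2) ^ 2 = x
        rw [← pow_mul]; exact h4 x
      right_inv := fun x => by
        show (x ^ 2) ^ 2 = x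
        rw [← pow_mul]; exact h4 x
      map_mul' := fun x y => mul_pow x y 2
      map_add' := fun x y => hadd x y }
  have hσ : ∀ x : F, σ x = x ^ 2 := fun _ => rfl
  set f : (Fin n → F) → (Fin n → F) → F := fun v w => ∑ i, b.repr v i * (b.repr w i) ^ 2 with hf
  refine ⟨σ, f, ⟨?_, ?_, ?_, ?_, ?_, ?_⟩, ?_⟩
  · intro hrefl
    have hall : ∀ x : F, x ^ 2 = x := by
      intro x
      have := congrArg (fun τ : F ≃+* F => τ x) hrefl
      simpa [hσ] using this
    have hsub : (Finset.univ : Finset F) ⊆ {0, 1} := by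
      intro x _
      have hx := hall x
      have : x * (x - 1) = 0 := by ring_nf; rw [hx]; ring
      rcases mul_eq_zero.1 this with h | h
      · simp [h]
      · have : x = 1 := by linear_combination h
        simp [this]
    have := Finset.card_le_card hsub
    rw [Finset.card_univ, hq] at this
    have h3 : ({0, 1} : Finset F).card ≤ 2 := Finset.card_le_two
    omega
  · intro a
    rw [hσ, hσ, ← pow_mul]
    exact h4 a
  · intro x y v
    simp only [hf, map_add, Finsupp.add_apply, add_mul]
    rw [Finset.sum_add_distrib]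
  · intro c x v
    simp only [hf, map_smul, Finsupp.smul_apply, smul_eq_mul]
    rw [Finset.mul_sum]
    apply Finset.sum_congr rfl
    intro i _
    ring
  · intro v w
    simp only [hf]
    rw [map_sum]
    apply Finset.sum_congr rfl
    intro i _
    rw [map_mul, map_pow, hσ, hσ, ← pow_mul, h4]
    ring
  · intro v hv
    obtain ⟨i, hi⟩ := exists_repr_ne_zero b hv
    refine ⟨⟨b i, ?_⟩, ⟨b i, ?_⟩⟩
    · have : f (b i) v = (b.repr v i) ^ 2 := by
        simp [hf, Module.Basis.repr_self, Finsupp.single_apply]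
      rw [this]
      exact pow_ne_zero 2 hi
    · have : f v (b i) = b.repr v i := by
        simp [hf, Module.Basis.repr_self, Finsupp.single_apply]
      rw [this]
      exact hi
  · intro g hg
    obtain ⟨τ, c, hc0, -, hrep⟩ := exists_monomial D b hb g hg
    have hc1 : ∀ i, c i ^ 3 = 1 := by
      intro i
      have := FiniteField.pow_card_sub_one_eq_one (c i) (hc0 i)
      rw [hq] at this
      simpa using this
    refine ⟨1, fun u v => ?_⟩
    rw [Units.val_one, one_mul]
    show ∑ i, b.repr ((g : Matrix (Fin n) (Fin n) F) *ᵥ u) i *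
        (b.repr ((g : Matrix (Fin n) (Fin n) F) *ᵥ v) i) ^ 2 = ∑ i, b.repr u i * (b.repr v i) ^ 2
    rw [← Equiv.sum_comp τ]
    apply Finset.sum_congr rfl
    intro i _
    rw [hrep, hrep]
    have : c i * b.repr u i * (c i * b.repr v i) ^ 2 = c i ^ 3 * (b.repr u i * (b.repr v i) ^ 2) := by
      ring
    rw [this, hc1, one_mul]

end Cfsg.Agent.Lib.Helper24.HubCor
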