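import Cfsg.Agent.Lib.Helper24.CovData

/-!
# Stem extensions of alternating groups from permutation-group certificates
-/

set_option autoImplicit false

namespace Cfsg.Agent.Lib.Helper24.Cov

open Cfsg.Agent.Lib.Helper28.BSGS

section Restrict

variable {N k : ℕ} (hk : k ≤ N) (Γ : Subgroup (Equiv.Perm (Fin N)))
  (hinv : ∀ g ∈ Γ, ∀ x : Fin N, x.val < k → (g x).val < k)

theorem perm_inv_apply_self {α : Type*} (g : Equiv.Perm α) (x : α) : g⁻¹ (g x) = x :=
  Equiv.Perm.inv_eq_iff_eq.mpr rfl

theorem perm_apply_inv_self {α : Type*} (g : Equiv.Perm α) (x : α) : g (g⁻¹ x) = x :=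
  (Equiv.eq_symm_apply g).mp rfl

theorem castLE_mk_apply (g : Equiv.Perm (Fin N)) (x : Fin N) (h : (g x).val < k) :
    Fin.castLE hk ⟨(g x).val, h⟩ = g x := Fin.ext rfl

/-- restriction of a permutation preserving the first `k` points -/
def resPerm (g : Γ) : Equiv.Perm (Fin k) where
  toFun i := ⟨(g.1 (Fin.castLE hk i)).val, hinv g.1 g.2 _ i.2⟩
  invFun i := ⟨(g.1⁻¹ (Fin.castLE hk i)).val, hinv g.1⁻¹ (Γ.inv_mem g.2) _ i.2⟩
  left_inv i := by
    apply Fin.ext
    show (g.1⁻¹ (Fin.castLE hk ⟨(g.1 (Fin.castLE hk i)).val, _⟩)).val = i.val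
    rw [castLE_mk_apply hk g.1 _ (hinv g.1 g.2 _ i.2), perm_inv_apply_self]
    rfl
  right_inv i := by
    apply Fin.ext
    show (g.1 (Fin.castLE hk ⟨(g.1⁻¹ (Fin.castLE hk i)).val, _⟩)).val = i.val
    rw [castLE_mk_apply hk g.1⁻¹ _ (hinv g.1⁻¹ (Γ.inv_mem g.2) _ i.2), perm_apply_inv_self]
    rfl

/-- the restriction homomorphism -/
def resHom : Γ →* Equiv.Perm (Fin k) where
  toFun := resPerm hk Γ hinv
  map_one' := by
    apply Equiv.ext
    intro i
    apply Fin.ext
    rfl
  map_mul' g h := by
    apply Equiv.ext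
    intro i
    apply Fin.ext
    show ((g.1 * h.1) (Fin.castLE hk i)).val =
      (g.1 (Fin.castLE hk ⟨(h.1 (Fin.castLE hk i)).val, _⟩)).val
    rw [castLE_mk_apply hk h.1 _ (hinv h.1 h.2 _ i.2)]
    rfl

theorem resHom_apply_val (g : Γ) (i : Fin k) :
    ((resHom hk Γ hinv g) i).val = (g.1 (Fin.castLE hk i)).val := rfl

theorem resHom_eq_one_iff (g : Γ) :
    resHom hk Γ hinv g = 1 ↔ ∀ x : Fin N, x.val < k → g.1 x = x := by
  constructor
  · intro h x hx
    have h1 := resHom_apply_val hk Γ hinv g ⟨x.val, hx⟩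
    rw [h] at h1
    apply Fin.ext
    have h2 : Fin.castLE hk ⟨x.val, hx⟩ = x := Fin.ext rfl
    rw [h2] at h1
    exact h1.symm
  · intro h
    apply Equiv.ext
    intro i
    apply Fin.ext
    rw [resHom_apply_val, h _ i.2]
    rfl

end Restrict

end Cfsg.Agent.Lib.Helper24.Cov

namespace Cfsg.Agent.Lib.Helper24.Cov

open Cfsg.Agent.Lib.Helper28.BSGS

/-- closure induction without the inverse case, in a finite group -/
theorem closure_induction_finite {G : Type*} [Group G] [Finite G] {S : Set G} {p : G → Prop}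
    (mem : ∀ x ∈ S, p x) (one : p 1) (mul : ∀ x y, p x → p y → p (x * y)) {x : G}
    (hx : x ∈ Subgroup.closure S) : p x := by
  induction hx using Subgroup.closure_induction with
  | mem s hs => exact mem s hs
  | one => exact one
  | mul g h _ _ ihg ihh => exact mul g h ihg ihh
  | inv g _ ih =>
    have hpow : ∀ j : ℕ, p (g ^ j) := by
      intro j
      induction j with
      | zero => rw [pow_zero]; exact one
      | succ j ihj => rw [pow_succ]; exact mul _ _ ihj ih
    have hinv : g⁻¹ = g ^ (orderOf g - 1) := by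
      apply inv_eq_of_mul_eq_one_right
      rw [← pow_succ', Nat.sub_add_cancel (orderOf_pos g), pow_orderOf_eq_one]
    rw [hinv]
    exact hpow _

/-- Boolean certificate for the restriction to the first `k` points -/
def altCert (N w k od : ℕ) (gens : List (ℕ × ℕ)) : Bool :=
  (gens.all fun g => (List.range k).all fun a => decide (look w g.1 a < k)) &&
  (gens.all fun g => wordId N w (List.replicate od g.1) ||
    (List.range k).all fun a => look w g.1 a == a)

variable (N w : ℕ) [NeZero N]

theorem cover_alt (k m od : ℕ) (hm : 0 < m) (hkN : k ≤ N) (hk2 : 2 ≤ k) (hod : Odd od)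
    (gens : List (ℕ × ℕ)) (levels : List CLevel) (tz tzi : ℕ)
    (ta tai tb tbi tc tci td tdi : ℕ)
    (h : dataCert N w k m gens levels tz tzi ta tai tb tbi tc tci td tdi = true)
    (h' : altCert N w k od gens = true)
    (hsize : codeSize levels * 2 = m * k.factorial) :
    ∃ (Γ : Type) (_ : Group Γ) (_ : Finite Γ) (σ : Γ →* alternatingGroup (Fin k)),
      Cfsg.IsStemExtension σ ∧ Nonempty (σ.ker ≃* Multiplicative (ZMod m)) := by
  obtain ⟨hcard, hz, hcent, hcomm, hord, hzfix, hkerz⟩ :=
    dataCert_sound N w k m hm hkN gens levels tz tzi ta tai tb tbi tc tci td tdi h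
  have hg : gensOK N w gens = true := by
    unfold dataCert at h
    simp only [Bool.and_eq_true] at h
    exact h.1.1.1.1.1.1.1.1.1.1.1.1.1.1.1.1.1
  unfold altCert at h'
  rw [Bool.and_eq_true] at h'
  obtain ⟨hpres, hevn⟩ := h'
  rw [List.all_eq_true] at hpres hevn
  -- invariance of the first k points
  have hinv : ∀ g ∈ genGroup N w gens, ∀ x : Fin N, x.val < k → (g x).val < k := by
    intro g hgm
    unfold genGroup at hgm
    refine closure_induction_finite (p := fun g => ∀ x : Fin N, x.val < k → (g x).val < k)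
      ?_ ?_ ?_ hgm
    · intro s hs x hx
      have hs' : s ∈ List.map (fun g => permOf N w g.1 g.2) gens := hs
      rw [List.mem_map] at hs'
      obtain ⟨g0, hg0, rfl⟩ := hs'
      rw [permOf_apply (gensOK_spec N w hg g0 hg0)]
      have h1 := hpres g0 hg0
      rw [List.all_eq_true] at h1
      exact of_decide_eq_true (h1 x.val (List.mem_range.mpr hx))
    · intro x hx; exact hx
    · intro a b ha hb x hx
      exact ha _ (hb x hx)
  have hNe : NeZero k := ⟨by omega⟩
  have hnt : Nontrivial (Fin k) := Fin.nontrivial_iff_two_le.mpr hk2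
  -- evenness
  have heven : ∀ g : genGroup N w gens,
      Equiv.Perm.sign (resHom hkN (genGroup N w gens) hinv g) = 1 := by
    rintro ⟨g, hgm⟩
    unfold genGroup at hgm
    induction hgm using Subgroup.closure_induction with
    | mem s hs =>
      have hs' : s ∈ List.map (fun g => permOf N w g.1 g.2) gens := hs
      rw [List.mem_map] at hs'
      obtain ⟨g0, hg0, rfl⟩ := hs'
      have hp0 := gensOK_spec N w hg g0 hg0
      have h1 := hevn g0 hg0
      rw [Bool.or_eq_true] at h1
      rcases h1 with h1 | h1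
      · have h2 : permOf N w g0.1 g0.2 ^ od = 1 :=
          eq_one_of_wordId N w (actsByW_pow N w (permOf_apply hp0) od) h1
        have h3 : (⟨permOf N w g0.1 g0.2, Subgroup.subset_closure hs⟩ : genGroup N w gens) ^ od = 1 := by
          apply Subtype.ext
          rw [Subgroup.coe_pow]; exact h2
        have h4 : Equiv.Perm.sign (resHom hkN (genGroup N w gens) hinv
            ⟨permOf N w g0.1 g0.2, Subgroup.subset_closure hs⟩) ^ od = 1 := by
          rw [← map_pow, ← map_pow, h3, map_one, map_one]
        rcases Int.units_eq_one_or (Equiv.Perm.sign (resHom hkN (genGroup N w gens) hinv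
            ⟨permOf N w g0.1 g0.2, Subgroup.subset_closure hs⟩)) with h5 | h5
        · exact h5
        · rw [h5, Odd.neg_one_pow hod] at h4
          exact absurd h4 (by decide)
      · rw [List.all_eq_true] at h1
        have h2 : resHom hkN (genGroup N w gens) hinv
            ⟨permOf N w g0.1 g0.2, Subgroup.subset_closure hs⟩ = 1 := by
          rw [resHom_eq_one_iff]
          intro x hx
          apply Fin.ext
          show (permOf N w g0.1 g0.2 x).val = x.val
          rw [permOf_apply hp0]
          exact beq_iff_eq.mp (h1 x.val (List.mem_range.mpr hx))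
        rw [h2, map_one]
    | one =>
      have : (⟨1, Subgroup.one_mem _⟩ : genGroup N w gens) = 1 := rfl
      rw [this, map_one, map_one]
    | mul a b ha hb iha ihb =>
      have : (⟨a * b, Subgroup.mul_mem _ ha hb⟩ : genGroup N w gens) = ⟨a, ha⟩ * ⟨b, hb⟩ := rfl
      rw [this, map_mul, map_mul, iha, ihb, one_mul]
    | inv a ha iha =>
      have : (⟨a⁻¹, Subgroup.inv_mem _ ha⟩ : genGroup N w gens) = (⟨a, ha⟩)⁻¹ := rfl
      rw [this, map_inv, map_inv, iha, inv_one]
  let σ : genGroup N w gens →* alternatingGroup (Fin k) :=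
    (resHom hkN (genGroup N w gens) hinv).codRestrict (alternatingGroup (Fin k))
      (fun g => Equiv.Perm.mem_alternatingGroup.mpr (heven g))
  have hker : σ.ker = Subgroup.zpowers
      (⟨permOf N w tz tzi, hz⟩ : genGroup N w gens) := by
    have hk1 : σ.ker = (resHom hkN (genGroup N w gens) hinv).ker := MonoidHom.ker_codRestrict _ _ _
    rw [hk1]
    apply le_antisymm
    · intro g hgk
      rw [MonoidHom.mem_ker, resHom_eq_one_iff] at hgk
      apply hkerz g
      intro a ha
      exact hgk (pt N a) (by rw [pt_val N (lt_of_lt_of_le ha hkN)]; exact ha)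
    · rw [Subgroup.zpowers_le, MonoidHom.mem_ker, resHom_eq_one_iff]
      intro x hx
      have := hzfix x.val hx
      rwa [pt_of_val] at this
  have hcardG : Nat.card (genGroup N w gens) = m * Nat.card (alternatingGroup (Fin k)) := by
    have h2 : 2 * Nat.card (alternatingGroup (Fin k)) = Nat.card (Equiv.Perm (Fin k)) :=
      two_mul_nat_card_alternatingGroup
    rw [Nat.card_perm, Nat.card_fin] at h2
    rw [hcard]
    apply Nat.eq_of_mul_eq_mul_right (show 0 < 2 by norm_num)
    rw [hsize, ← h2]; ring
  exact ⟨genGroup N w gens, inferInstance, inferInstance, σ,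
    stem_of_central_cyclic σ _ m hker hord hcardG hcent hcomm⟩

end Cfsg.Agent.Lib.Helper24.Cov
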