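import Mathlib
import Cfsg.Prelude.Def_Classical

set_option autoImplicit false

/-! S3589 farm-out FO-3: an isometry of order 8 of the 6-dimensional minus-type quadratic form
in characteristic 2. -/

namespace Cfsg.Agent.Lib.Helper24.S3589

open Sum

variable {F : Type*} [Field F]

/-- a vector given by its six coordinates -/
def mk6 (x0 x1 y0 y1 z1 z2 : F) : ((Fin 2 ⊕ Fin 2) ⊕ Fin 2) → F :=
  Sum.elim (Sum.elim ![x0, x1] ![y0, y1]) ![z1, z2]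

theorem mk6_X0 (x0 x1 y0 y1 z1 z2 : F) : mk6 x0 x1 y0 y1 z1 z2 (inl (inl 0)) = x0 := rfl
theorem mk6_X1 (x0 x1 y0 y1 z1 z2 : F) : mk6 x0 x1 y0 y1 z1 z2 (inl (inl 1)) = x1 := rfl
theorem mk6_Y0 (x0 x1 y0 y1 z1 z2 : F) : mk6 x0 x1 y0 y1 z1 z2 (inl (inr 0)) = y0 := rfl
theorem mk6_Y1 (x0 x1 y0 y1 z1 z2 : F) : mk6 x0 x1 y0 y1 z1 z2 (inl (inr 1)) = y1 := rfl
theorem mk6_Z1 (x0 x1 y0 y1 z1 z2 : F) : mk6 x0 x1 y0 y1 z1 z2 (inr 0) = z1 := rfl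
theorem mk6_Z2 (x0 x1 y0 y1 z1 z2 : F) : mk6 x0 x1 y0 y1 z1 z2 (inr 1) = z2 := rfl

theorem ext6 {u v : ((Fin 2 ⊕ Fin 2) ⊕ Fin 2) → F}
    (h0 : u (inl (inl 0)) = v (inl (inl 0))) (h1 : u (inl (inl 1)) = v (inl (inl 1)))
    (h2 : u (inl (inr 0)) = v (inl (inr 0))) (h3 : u (inl (inr 1)) = v (inl (inr 1)))
    (h4 : u (inr 0) = v (inr 0)) (h5 : u (inr 1) = v (inr 1)) : u = v := by
  funext i
  rcases i with (i | i) | i <;> fin_cases i <;> assumption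

/-- the element of order 8 -/
def gl (a b c : F) : (((Fin 2 ⊕ Fin 2) ⊕ Fin 2) → F) →ₗ[F] (((Fin 2 ⊕ Fin 2) ⊕ Fin 2) → F) where
  toFun v := mk6
    (v (inl (inl 0)) + a * v (inl (inl 1)) + b * v (inr 1) + b ^ 2 * c ^ 2 * v (inl (inr 0)))
    (v (inl (inl 1)) + v (inr 0) + b * c ^ 2 * v (inl (inr 1)))
    (v (inl (inr 0)))
    (v (inl (inr 1)) + a * v (inl (inr 0)))
    (v (inr 0) + a * v (inr 1) + v (inl (inr 1)) + (a + b * c) * v (inl (inr 0)))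
    (v (inr 1) + c * v (inl (inr 1)) + v (inl (inr 0)))
  map_add' u v := by
    apply ext6 <;>
    simp only [mk6_X0, mk6_X1, mk6_Y0, mk6_Y1, mk6_Z1, mk6_Z2, Pi.add_apply] <;> ring
  map_smul' r v := by
    apply ext6 <;>
    simp only [mk6_X0, mk6_X1, mk6_Y0, mk6_Y1, mk6_Z1, mk6_Z2, Pi.smul_apply, smul_eq_mul,
      RingHom.id_apply] <;> ring

/-- its square -/
def g2l (a b : F) : (((Fin 2 ⊕ Fin 2) ⊕ Fin 2) → F) →ₗ[F] (((Fin 2 ⊕ Fin 2) ⊕ Fin 2) → F) where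
  toFun v := mk6
    (v (inl (inl 0)) + b * v (inl (inr 0)) + a * v (inr 0))
    (v (inl (inl 1)) + a * v (inl (inr 0)) + v (inl (inr 1)) + a * v (inr 1))
    (v (inl (inr 0)))
    (v (inl (inr 1)))
    (v (inr 0) + v (inl (inr 1)))
    (v (inr 1) + v (inl (inr 0)))
  map_add' u v := by
    apply ext6 <;>
    simp only [mk6_X0, mk6_X1, mk6_Y0, mk6_Y1, mk6_Z1, mk6_Z2, Pi.add_apply] <;> ring
  map_smul' r v := by
    apply ext6 <;>
    simp only [mk6_X0, mk6_X1, mk6_Y0, mk6_Y1, mk6_Z1, mk6_Z2, Pi.smul_apply, smul_eq_mul,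
      RingHom.id_apply] <;> ring

/-- its fourth power -/
def g4l (a : F) : (((Fin 2 ⊕ Fin 2) ⊕ Fin 2) → F) →ₗ[F] (((Fin 2 ⊕ Fin 2) ⊕ Fin 2) → F) where
  toFun v := mk6
    (v (inl (inl 0)) + a * v (inl (inr 1)))
    (v (inl (inl 1)) + a * v (inl (inr 0)))
    (v (inl (inr 0)))
    (v (inl (inr 1)))
    (v (inr 0))
    (v (inr 1))
  map_add' u v := by
    apply ext6 <;>
    simp only [mk6_X0, mk6_X1, mk6_Y0, mk6_Y1, mk6_Z1, mk6_Z2, Pi.add_apply] <;> ring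
  map_smul' r v := by
    apply ext6 <;>
    simp only [mk6_X0, mk6_X1, mk6_Y0, mk6_Y1, mk6_Z1, mk6_Z2, Pi.smul_apply, smul_eq_mul,
      RingHom.id_apply] <;> ring

theorem gl_apply (a b c : F) (v : ((Fin 2 ⊕ Fin 2) ⊕ Fin 2) → F) : gl a b c v = mk6
    (v (inl (inl 0)) + a * v (inl (inl 1)) + b * v (inr 1) + b ^ 2 * c ^ 2 * v (inl (inr 0)))
    (v (inl (inl 1)) + v (inr 0) + b * c ^ 2 * v (inl (inr 1)))
    (v (inl (inr 0)))
    (v (inl (inr 1)) + a * v (inl (inr 0)))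
    (v (inr 0) + a * v (inr 1) + v (inl (inr 1)) + (a + b * c) * v (inl (inr 0)))
    (v (inr 1) + c * v (inl (inr 1)) + v (inl (inr 0))) := rfl

theorem g2l_apply (a b : F) (v : ((Fin 2 ⊕ Fin 2) ⊕ Fin 2) → F) : g2l a b v = mk6
    (v (inl (inl 0)) + b * v (inl (inr 0)) + a * v (inr 0))
    (v (inl (inl 1)) + a * v (inl (inr 0)) + v (inl (inr 1)) + a * v (inr 1))
    (v (inl (inr 0)))
    (v (inl (inr 1)))
    (v (inr 0) + v (inl (inr 1)))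
    (v (inr 1) + v (inl (inr 0))) := rfl

theorem g4l_apply (a : F) (v : ((Fin 2 ⊕ Fin 2) ⊕ Fin 2) → F) : g4l a v = mk6
    (v (inl (inl 0)) + a * v (inl (inr 1)))
    (v (inl (inl 1)) + a * v (inl (inr 0)))
    (v (inl (inr 0)))
    (v (inl (inr 1)))
    (v (inr 0))
    (v (inr 1)) := rfl

theorem gl_gl (a b c : F) (h2 : (2 : F) = 0) (hac : a * c = 1)
    (v : ((Fin 2 ⊕ Fin 2) ⊕ Fin 2) → F) : gl a b c (gl a b c v) = g2l a b v := by
  rw [gl_apply a b c (gl a b c v), gl_apply a b c v, g2l_apply]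
  simp only [mk6_X0, mk6_X1, mk6_Y0, mk6_Y1, mk6_Z1, mk6_Z2]
  generalize v (inl (inl 0)) = X0
  generalize v (inl (inl 1)) = X1
  generalize v (inl (inr 0)) = Y0
  generalize v (inl (inr 1)) = Y1
  generalize v (inr 0) = z1
  generalize v (inr 1) = z2
  apply ext6 <;> simp only [mk6_X0, mk6_X1, mk6_Y0, mk6_Y1, mk6_Z1, mk6_Z2]
  · linear_combination ( X1 * a + Y0 * b^2 * c^2 + Y1 * b * c + z2 * b ) * h2 + ( Y1 * b * c ) * hac
  · linear_combination ( Y0 * b * c + Y1 * b * c^2 + z1 ) * h2 + ( Y0 * b * c ) * hac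
  · linear_combination ( Y0 * a ) * h2
  · linear_combination ( (2) * Y0 * a + Y0 * b * c + Y1 + z2 * a ) * h2 + ( Y1 ) * hac
  · linear_combination ( Y0 + Y1 * c ) * h2 + ( Y0 ) * hac

theorem g2l_g2l (a b : F) (h2 : (2 : F) = 0)
    (v : ((Fin 2 ⊕ Fin 2) ⊕ Fin 2) → F) : g2l a b (g2l a b v) = g4l a v := by
  rw [g2l_apply a b (g2l a b v), g2l_apply a b v, g4l_apply]
  simp only [mk6_X0, mk6_X1, mk6_Y0, mk6_Y1, mk6_Z1, mk6_Z2]
  generalize v (inl (inl 0)) = X0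
  generalize v (inl (inl 1)) = X1
  generalize v (inl (inr 0)) = Y0
  generalize v (inl (inr 1)) = Y1
  generalize v (inr 0) = z1
  generalize v (inr 1) = z2
  apply ext6 <;> simp only [mk6_X0, mk6_X1, mk6_Y0, mk6_Y1, mk6_Z1, mk6_Z2]
  · linear_combination ( Y0 * b + z1 * a ) * h2
  · linear_combination ( Y0 * a + Y1 + z2 * a ) * h2
  · linear_combination ( Y1 ) * h2
  · linear_combination ( Y0 ) * h2

theorem g4l_g4l (a : F) (h2 : (2 : F) = 0)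
    (v : ((Fin 2 ⊕ Fin 2) ⊕ Fin 2) → F) : g4l a (g4l a v) = v := by
  rw [g4l_apply a (g4l a v), g4l_apply a v]
  simp only [mk6_X0, mk6_X1, mk6_Y0, mk6_Y1, mk6_Z1, mk6_Z2]
  apply ext6 <;> simp only [mk6_X0, mk6_X1, mk6_Y0, mk6_Y1, mk6_Z1, mk6_Z2]
  · linear_combination ( v (inl (inr 1)) * a ) * h2
  · linear_combination ( v (inl (inr 0)) * a ) * h2

theorem quad_gl (a b c : F) (h2 : (2 : F) = 0) (hac : a * c = 1)
    (v : ((Fin 2 ⊕ Fin 2) ⊕ Fin 2) → F) :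
    Cfsg.quadFormMinus 2 F a b (gl a b c v) = Cfsg.quadFormMinus 2 F a b v := by
  unfold Cfsg.quadFormMinus
  rw [Fin.sum_univ_two, Fin.sum_univ_two, gl_apply]
  simp only [mk6_X0, mk6_X1, mk6_Y0, mk6_Y1, mk6_Z1, mk6_Z2]
  generalize v (inl (inl 0)) = X0
  generalize v (inl (inl 1)) = X1
  generalize v (inl (inr 0)) = Y0
  generalize v (inl (inr 1)) = Y1
  generalize v (inr 0) = z1
  generalize v (inr 1) = z2
  linear_combination ( X1 * Y0 * a + Y0^2 * a^2 + Y0^2 * b^2 * c^2 + (2) * Y0^2 * b + (2) * Y0 * Y1 * a + (3) * Y0 * Y1 * b * c + (2) * Y0 * z1 * a + Y0 * z1 * b * c + (2) * Y0 * z2 * a^2 + (3) * Y0 * z2 * b + Y1^2 * b * c^2 + Y1^2 + (2) * Y1 * z1 + (2) * Y1 * z2 * a + Y1 * z2 * b * c + z1 * z2 * a + z2^2 * a^2 ) * h2 + ( (3) * Y0^2 * b + Y0 * Y1 * a + (2) * Y0 * Y1 * b * c + (3) * Y0 * z2 * b + Y1^2 + Y1 * z1 + Y1 * z2 * a ) * hac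

theorem gl_pow_two (a b c : F) (h2 : (2 : F) = 0) (hac : a * c = 1) : gl a b c ^ 2 = g2l a b := by
  apply LinearMap.ext
  intro v
  rw [pow_two, Module.End.mul_apply]
  exact gl_gl a b c h2 hac v

theorem gl_pow_four (a b c : F) (h2 : (2 : F) = 0) (hac : a * c = 1) : gl a b c ^ 4 = g4l a := by
  have : gl a b c ^ 4 = (gl a b c ^ 2) ^ 2 := by rw [← pow_mul]
  rw [this, gl_pow_two a b c h2 hac]
  apply LinearMap.ext
  intro v
  rw [pow_two, Module.End.mul_apply]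
  exact g2l_g2l a b h2 v

theorem gl_pow_eight (a b c : F) (h2 : (2 : F) = 0) (hac : a * c = 1) : gl a b c ^ 8 = 1 := by
  have : gl a b c ^ 8 = (gl a b c ^ 4) ^ 2 := by rw [← pow_mul]
  rw [this, gl_pow_four a b c h2 hac]
  apply LinearMap.ext
  intro v
  rw [pow_two, Module.End.mul_apply, Module.End.one_apply]
  exact g4l_g4l a h2 v

/-- FO-3.  An isometry of order 8 of `x₀y₀ + x₁y₁ + (z₁² + a z₁z₂ + b z₂²)`, any `a ≠ 0`. -/
theorem exists_order_eight [Fintype F] [CharP F 2] (a b : F) (ha : a ≠ 0) :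
    ∃ g : (((Fin 2 ⊕ Fin 2) ⊕ Fin 2) → F) ≃ₗ[F] (((Fin 2 ⊕ Fin 2) ⊕ Fin 2) → F),
      (∀ v, Cfsg.quadFormMinus 2 F a b (g v) = Cfsg.quadFormMinus 2 F a b v) ∧ g ^ 8 = 1 ∧ g ^ 4 ≠ 1 := by
  have h2 : (2 : F) = 0 := CharTwo.two_eq_zero
  have hac : a * a⁻¹ = 1 := mul_inv_cancel₀ ha
  have h8 := gl_pow_eight a b a⁻¹ h2 hac
  have hinv1 : gl a b a⁻¹ * gl a b a⁻¹ ^ 7 = 1 := by rw [← pow_succ', h8]
  have hinv2 : gl a b a⁻¹ ^ 7 * gl a b a⁻¹ = 1 := by rw [← pow_succ, h8]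
  let u : (Module.End F (((Fin 2 ⊕ Fin 2) ⊕ Fin 2) → F))ˣ :=
    ⟨gl a b a⁻¹, gl a b a⁻¹ ^ 7, hinv1, hinv2⟩
  have hu8 : u ^ 8 = 1 := by
    apply Units.ext
    rw [Units.val_pow_eq_pow_val, Units.val_one]
    exact h8
  have hu4 : u ^ 4 ≠ 1 := by
    intro h
    have h' : gl a b a⁻¹ ^ 4 = 1 := by
      have := congrArg Units.val h
      rw [Units.val_pow_eq_pow_val, Units.val_one] at this
      exact this
    rw [gl_pow_four a b a⁻¹ h2 hac] at h'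
    have h'' := congrArg (fun φ : Module.End F (((Fin 2 ⊕ Fin 2) ⊕ Fin 2) → F) =>
      φ (mk6 0 0 0 1 0 0) (inl (inl 0))) h'
    simp only [g4l_apply, mk6_X0, mk6_Y1, Module.End.one_apply, zero_add, mul_one] at h''
    exact ha h''
  refine ⟨LinearMap.GeneralLinearGroup.generalLinearEquiv F _ u, ?_, ?_, ?_⟩
  · intro v
    exact quad_gl a b a⁻¹ h2 hac v
  · rw [← map_pow, hu8, map_one]
  · intro h
    rw [← map_pow] at h
    exact hu4 ((LinearMap.GeneralLinearGroup.generalLinearEquiv F _).injective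
      (h.trans (map_one _).symm))

end Cfsg.Agent.Lib.Helper24.S3589
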