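import Mathlib
import Cfsg.Prelude.Def_GeometricClasses

/-!
# S5876 (fixed spaces in primitive soluble linear groups): shared definitions
-/

set_option autoImplicit false

namespace Cfsg.Agent.Lib.Helper24.S5876

open Matrix Module

variable {F : Type*} [Field F] {n : ℕ}

/-- the fixed space of a matrix group element -/
abbrev fixS (g : GL (Fin n) F) : Submodule F (Fin n → F) :=
  Module.End.eigenspace (Matrix.toLin' (g : Matrix (Fin n) (Fin n) F)) 1

theorem mem_fixS {g : GL (Fin n) F} {v : Fin n → F} :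
    v ∈ fixS g ↔ (g : Matrix (Fin n) (Fin n) F) *ᵥ v = v := by
  unfold fixS
  rw [Module.End.mem_eigenspace_iff, Matrix.toLin'_apply, one_smul]

/-- `N` is normalised by `G` -/
def NormBy (G N : Subgroup (GL (Fin n) F)) : Prop :=
  ∀ g ∈ G, ∀ x ∈ N, g * x * g⁻¹ ∈ N

/-- every abelian subgroup of `G` normalised by `G` acts semiregularly on the nonzero vectors -/
def SemiReg (G : Subgroup (GL (Fin n) F)) : Prop :=
  ∀ A : Subgroup (GL (Fin n) F), A ≤ G → NormBy G A → (∀ a ∈ A, ∀ b ∈ A, a * b = b * a) →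
    ∀ a ∈ A, a ≠ 1 → fixS a = ⊥

end Cfsg.Agent.Lib.Helper24.S5876
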