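import Mathlib
import Cfsg.Prelude.Def_Blocks
import Cfsg.Prelude.Def_BlockRank
import Cfsg.Agent.Lib.Helper24.BlockOrtho

/-!
# `p`-regular parts of characters and blocks (helper24)

* `sum_pRegularPart_mul_conj_eq_zero`: for `ψ ∉ B'` and `θ₀ ∈ B'` (a block),
  `∑_y ψ⁰(y) conj θ₀(y) = 0`: the `p`-regular part of a character only involves characters of
  its own block.
* `pRegularPart_eq_sum_block`: `ψ⁰ = ∑_{χ ∈ B} ⟨ψ⁰, χ⟩ χ` for `ψ ∈ B`.
-/

set_option autoImplicit false

namespace Cfsg.Agent.Lib.Helper24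

open Cfsg.Agent.Lib.Helper2
open scoped ComplexConjugate

section

variable {G : Type*} [Group G] {p : ℕ}

theorem pRegularPart_of_regular (χ : G → ℂ) {g : G} (h : ¬ p ∣ orderOf g) :
    Cfsg.pRegularPart p χ g = χ g := by
  unfold Cfsg.pRegularPart
  rw [if_pos]
  exact h

theorem pRegularPart_of_singular (χ : G → ℂ) {g : G} (h : p ∣ orderOf g) :
    Cfsg.pRegularPart p χ g = 0 := by
  unfold Cfsg.pRegularPart
  rw [if_neg]
  intro h'
  exact h' h

theorem orderOf_conj_eq (g x : G) : orderOf (x * g * x⁻¹) = orderOf g := by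
  have := (MulAut.conj x).orderOf_eq g
  simpa using this

theorem pRegularPart_isClassFunction (χ : G → ℂ) (hχ : Cfsg.IsClassFunction G χ) :
    Cfsg.IsClassFunction G (Cfsg.pRegularPart p χ) := by
  intro g x
  by_cases hg : p ∣ orderOf g
  · rw [pRegularPart_of_singular χ hg, pRegularPart_of_singular]
    rw [orderOf_conj_eq]; exact hg
  · rw [pRegularPart_of_regular χ hg, pRegularPart_of_regular, hχ]
    rw [orderOf_conj_eq]; exact hg

theorem pRegularPart_pRegularPart (χ : G → ℂ) :
    Cfsg.pRegularPart p (Cfsg.pRegularPart p χ) = Cfsg.pRegularPart p χ := by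
  ext g
  by_cases hg : p ∣ orderOf g
  · rw [pRegularPart_of_singular _ hg, pRegularPart_of_singular _ hg]
  · rw [pRegularPart_of_regular _ hg]

theorem pRegularPart_add (χ ψ : G → ℂ) :
    Cfsg.pRegularPart p (χ + ψ) = Cfsg.pRegularPart p χ + Cfsg.pRegularPart p ψ := by
  ext g
  by_cases hg : p ∣ orderOf g
  · rw [Pi.add_apply, pRegularPart_of_singular _ hg, pRegularPart_of_singular _ hg,
      pRegularPart_of_singular _ hg, add_zero]
  · rw [Pi.add_apply, pRegularPart_of_regular _ hg, pRegularPart_of_regular _ hg,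
      pRegularPart_of_regular _ hg, Pi.add_apply]

theorem pRegularPart_smul (c : ℂ) (χ : G → ℂ) :
    Cfsg.pRegularPart p (c • χ) = c • Cfsg.pRegularPart p χ := by
  ext g
  by_cases hg : p ∣ orderOf g
  · rw [Pi.smul_apply, pRegularPart_of_singular _ hg, pRegularPart_of_singular _ hg, smul_zero]
  · rw [Pi.smul_apply, pRegularPart_of_regular _ hg, pRegularPart_of_regular _ hg, Pi.smul_apply]

/-- `pRegularPart` as a linear map -/
noncomputable def pRegLin (p : ℕ) (G : Type*) [Group G] : (G → ℂ) →ₗ[ℂ] (G → ℂ) where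
  toFun := Cfsg.pRegularPart p
  map_add' := pRegularPart_add
  map_smul' := fun c χ => by rw [pRegularPart_smul]; rfl

theorem pRegLin_apply (χ : G → ℂ) : pRegLin p G χ = Cfsg.pRegularPart p χ := rfl

end

section

variable {G : Type*} [Group G] [Fintype G] {p : ℕ} {M : Ideal Cfsg.AlgInt}

/-- The `p`-regular part of a character outside a block is orthogonal to the block. -/
theorem sum_pRegularPart_mul_conj_eq_zero (hM : Cfsg.IsPModular p M)
    (B' : Set (Cfsg.IrrCharacter G)) (hB' : Cfsg.IsPBlock M B') (ψ : Cfsg.IrrCharacter G)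
    (hψ : ψ ∉ B') (θ₀ : Cfsg.IrrCharacter G) (hθ₀ : θ₀ ∈ B') :
    ∑ y : G, Cfsg.pRegularPart p (ψ : G → ℂ) y * conj ((θ₀ : G → ℂ) y) = 0 := by
  classical
  haveI : Fintype (Cfsg.IrrCharacter G) := Fintype.ofFinite _
  -- the kernel
  set K : G → G → ℂ := fun g y => ∑ θ : Cfsg.IrrCharacter G,
    if θ ∈ B' then (θ : G → ℂ) g * conj ((θ : G → ℂ) y) else 0 with hK
  have hK1 : ∀ g y : G, ¬ p ∣ orderOf g → p ∣ orderOf y → K g y = 0 := by
    intro g y hg hy
    have := weak_block_orthogonality hM B' hB' g y hg hy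
    rw [finsum_mem_eq_sum_ite] at this
    exact this
  have hK2 : ∀ g y : G, p ∣ orderOf g → ¬ p ∣ orderOf y → K g y = 0 := by
    intro g y hg hy
    have h1 := hK1 y g hy hg
    have h2 : K g y = conj (K y g) := by
      simp only [hK, map_sum]
      apply Finset.sum_congr rfl; intro θ _
      split_ifs
      · rw [map_mul, Complex.conj_conj, mul_comm]
      · simp
    rw [h2, h1, map_zero]
  -- the coefficients
  set S : Cfsg.IrrCharacter G → ℂ := fun θ =>
    ∑ y : G, Cfsg.pRegularPart p (ψ : G → ℂ) y * conj ((θ : G → ℂ) y) with hS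
  have hF : ∀ g : G, ∑ θ : Cfsg.IrrCharacter G, (if θ ∈ B' then S θ else 0) * (θ : G → ℂ) g
      = ∑ y : G, Cfsg.pRegularPart p (ψ : G → ℂ) y * K g y := by
    intro g
    simp only [hK, hS, Finset.mul_sum, ite_mul, zero_mul, Finset.sum_mul]
    rw [Finset.sum_comm]
    apply Finset.sum_congr rfl; intro θ _
    split_ifs
    · apply Finset.sum_congr rfl; intro y _; ring
    · simp
  have hzero : ∀ g : G,
      ∑ θ : Cfsg.IrrCharacter G, (if θ ∈ B' then S θ else 0) * (θ : G → ℂ) g = 0 := by
    intro g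
    rw [hF]
    by_cases hg : p ∣ orderOf g
    · apply Finset.sum_eq_zero
      intro y _
      by_cases hy : p ∣ orderOf y
      · rw [pRegularPart_of_singular _ hy, zero_mul]
      · rw [hK2 g y hg hy, mul_zero]
    · have h1 : ∀ y : G, Cfsg.pRegularPart p (ψ : G → ℂ) y * K g y = (ψ : G → ℂ) y * K g y := by
        intro y
        by_cases hy : p ∣ orderOf y
        · rw [hK1 g y hg hy, mul_zero, mul_zero]
        · rw [pRegularPart_of_regular _ hy]
      rw [Finset.sum_congr rfl (fun y _ => h1 y)]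
      simp only [hK, Finset.mul_sum]
      rw [Finset.sum_comm]
      apply Finset.sum_eq_zero
      intro θ _
      by_cases hθ : θ ∈ B'
      · simp only [if_pos hθ]
        have hne : ψ ≠ θ := fun h => hψ (h ▸ hθ)
        have h2 := classInner_irrCharacter_ne hne
        rw [classInner_def] at h2
        have hG : (Nat.card G : ℂ)⁻¹ ≠ 0 := inv_ne_zero card_ne_zero_complex
        have h3 : ∑ y : G, (ψ : G → ℂ) y * conj ((θ : G → ℂ) y) = 0 := by
          rcases mul_eq_zero.mp h2 with h | h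
          · exact absurd h hG
          · exact h
        have h4 : ∀ y : G, (ψ : G → ℂ) y * ((θ : G → ℂ) g * conj ((θ : G → ℂ) y))
            = (θ : G → ℂ) g * ((ψ : G → ℂ) y * conj ((θ : G → ℂ) y)) := by
          intro y; ring
        rw [Finset.sum_congr rfl (fun y _ => h4 y), ← Finset.mul_sum, h3, mul_zero]
      · simp only [if_neg hθ]
        simp
  have hlin := linearIndependent_irrCharacter (G := G)
  have h5 : ∑ θ : Cfsg.IrrCharacter G, (if θ ∈ B' then S θ else 0) • (θ : G → ℂ) = 0 := by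
    ext g
    rw [Finset.sum_apply]
    simp only [Pi.smul_apply, smul_eq_mul, Pi.zero_apply]
    exact hzero g
  have h6 := Fintype.linearIndependent_iff.mp hlin _ h5 θ₀
  rw [if_pos hθ₀] at h6
  exact h6

/-- the expansion of the `p`-regular part of a member of a block only involves the block -/
theorem pRegularPart_eq_sum_block (hM : Cfsg.IsPModular p M)
    (B : Set (Cfsg.IrrCharacter G)) (hB : Cfsg.IsPBlock M B) (ψ : Cfsg.IrrCharacter G)
    (hψ : ψ ∈ B) [Fintype (Cfsg.IrrCharacter G)] [DecidablePred (· ∈ B)] :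
    Cfsg.pRegularPart p (ψ : G → ℂ) = ∑ χ : Cfsg.IrrCharacter G,
      if χ ∈ B then Cfsg.classInner (Cfsg.pRegularPart p (ψ : G → ℂ)) (χ : G → ℂ) • (χ : G → ℂ)
      else 0 := by
  have hexp := classFunction_expansion (Cfsg.pRegularPart p (ψ : G → ℂ))
    (pRegularPart_isClassFunction _ (IrrCharacter.isClassFunction ψ))
  conv_lhs => rw [hexp]
  apply Finset.sum_congr rfl
  intro χ _
  by_cases hχ : χ ∈ B
  · rw [if_pos hχ]
  · rw [if_neg hχ]
    have hB' : Cfsg.IsPBlock M (Cfsg.blockOf M (χ : G → ℂ)) := ⟨χ, rfl⟩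
    have hχB' : χ ∈ Cfsg.blockOf M (χ : G → ℂ) := sameBlock_refl hM _
    have hψB' : ψ ∉ Cfsg.blockOf M (χ : G → ℂ) := by
      intro hcon
      apply hχ
      obtain ⟨χ₀, rfl⟩ := hB
      exact sameBlock_trans hM hψ (sameBlock_symm hM hcon)
    have := sum_pRegularPart_mul_conj_eq_zero hM _ hB' ψ hψB' χ hχB'
    rw [classInner_def, this, mul_zero, zero_smul]

end

end Cfsg.Agent.Lib.Helper24
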