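import Mathlib
import Cfsg.Prelude.Def_Blocks
import Cfsg.Agent.Lib.Helper2.Regular
import Cfsg.Agent.Lib.Helper25.Irred
import Cfsg.Agent.S4475

/-!
# Frobenius–Schur indicator, real characters (helper24 library)

For an irreducible complex character `χ` of a finite group `G`:
* `(1/|G|) ∑ χ(g)^2` is `1` if `χ` is real-valued and `0` otherwise (`irr_sq_sum`);
* the Frobenius–Schur indicator `(1/|G|) ∑ χ(g^2)` is `0`, `1` or `-1`, and it is `0` unless
  `χ` is real-valued (`irr_fsIndicator`);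
* the trivial character is irreducible (`isIrrCharacter_one`);
* the number of real-valued irreducible characters (`card_real_irr`);
* the number of square roots of `1` is `∑ ν(χ) χ(1)` (`sum_fs_degree`).
-/

set_option autoImplicit false

namespace Cfsg.Agent.Lib.Helper24

open Cfsg.Agent.S4475
open scoped ComplexConjugate

section Rep

variable {G : Type*} [Group G] [Fintype G] {n : ℕ} (ρ : Representation ℂ G (Fin n → ℂ))

theorem norm_sq_sum (hirr : ρ.IsIrreducible) :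
    (Nat.card G : ℂ)⁻¹ * ∑ s : G, ρ.character s * conj (ρ.character s) = 1 := by
  have h := Cfsg.Agent.Lib.Helper2.classInner_irr_self ρ
  rw [Cfsg.Agent.Lib.Helper2.classInner_def] at h
  exact h

theorem sq_sum_eq_finrank :
    (Nat.card G : ℂ)⁻¹ * ∑ s : G, ρ.character s * ρ.character s
      = (Module.finrank ℂ (Inv ρ) : ℂ) := by
  rw [← trace_P]
  exact (P_isProj ρ).trace

/-- `1 - d = (2/|G|) ∑ (im χ(s))^2`. -/
theorem one_sub_finrank (hirr : ρ.IsIrreducible) :
    (1 : ℝ) - (Module.finrank ℂ (Inv ρ) : ℝ)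
      = (Nat.card G : ℝ)⁻¹ * ∑ s : G, 2 * ((ρ.character s).im) ^ 2 := by
  have h1 := congrArg Complex.re (norm_sq_sum ρ hirr)
  have h2 := congrArg Complex.re (sq_sum_eq_finrank ρ)
  have hinv : ((Nat.card G : ℂ)⁻¹) = (((Nat.card G : ℝ)⁻¹ : ℝ) : ℂ) := by
    push_cast; rfl
  rw [hinv, Complex.re_ofReal_mul, Complex.re_sum] at h1 h2
  rw [Complex.one_re] at h1
  rw [Complex.natCast_re] at h2
  rw [← h1, ← h2, ← mul_sub, ← Finset.sum_sub_distrib]
  congr 1
  apply Finset.sum_congr rfl; intro s _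
  rw [Complex.mul_re, Complex.mul_re, Complex.conj_re, Complex.conj_im]
  ring

theorem finrank_Inv_le_one (hirr : ρ.IsIrreducible) : Module.finrank ℂ (Inv ρ) ≤ 1 := by
  have h := one_sub_finrank ρ hirr
  have hnn : 0 ≤ (Nat.card G : ℝ)⁻¹ * ∑ s : G, 2 * ((ρ.character s).im) ^ 2 := by
    apply mul_nonneg
    · exact inv_nonneg.mpr (Nat.cast_nonneg _)
    · apply Finset.sum_nonneg; intro s _; positivity
  rw [← h] at hnn
  have : (Module.finrank ℂ (Inv ρ) : ℝ) ≤ 1 := by linarith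
  exact_mod_cast this

theorem finrank_Inv_eq_one_iff (hirr : ρ.IsIrreducible) :
    Module.finrank ℂ (Inv ρ) = 1 ↔ ∀ g : G, (ρ.character g).im = 0 := by
  have h := one_sub_finrank ρ hirr
  have hpos : (0 : ℝ) < (Nat.card G : ℝ)⁻¹ := by
    apply inv_pos.mpr; exact_mod_cast Nat.card_pos
  constructor
  · intro h1 g
    rw [h1, Nat.cast_one, sub_self] at h
    have h2 : ∑ s : G, 2 * ((ρ.character s).im) ^ 2 = 0 := by
      rcases mul_eq_zero.mp h.symm with h3 | h3
      · exact absurd h3 hpos.ne'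
      · exact h3
    have h3 := (Finset.sum_eq_zero_iff_of_nonneg (fun s _ => by positivity)).mp h2 g
      (Finset.mem_univ g)
    have h4 : ((ρ.character g).im) ^ 2 = 0 := by linarith
    exact pow_eq_zero_iff (two_ne_zero) |>.mp h4
  · intro hreal
    have h2 : ∑ s : G, 2 * ((ρ.character s).im) ^ 2 = 0 := by
      apply Finset.sum_eq_zero; intro s _; rw [hreal s]; ring
    rw [h2, mul_zero] at h
    have : (Module.finrank ℂ (Inv ρ) : ℝ) = 1 := by linarith
    exact_mod_cast this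

/-- The Frobenius–Schur indicator vanishes when `χ` is not real-valued. -/
theorem fs_eq_zero_of_finrank_eq_zero (h0 : Module.finrank ℂ (Inv ρ) = 0) :
    (Nat.card G : ℂ)⁻¹ * ∑ s : G, ρ.character (s * s) = 0 := by
  rw [← trace_TP]
  have hbot : Inv ρ = ⊥ := Submodule.finrank_eq_zero.mp h0
  have hP : P ρ = 0 := by
    apply LinearMap.ext; intro A
    have := P_mem ρ A
    rw [hbot, Submodule.mem_bot] at this
    rw [this, LinearMap.zero_apply]
  rw [hP, LinearMap.comp_zero, map_zero]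

/-- The Frobenius–Schur indicator is `±1` when `χ` is real-valued. -/
theorem fs_of_finrank_eq_one (h1 : Module.finrank ℂ (Inv ρ) = 1) :
    (Nat.card G : ℂ)⁻¹ * ∑ s : G, ρ.character (s * s) = 1 ∨
    (Nat.card G : ℂ)⁻¹ * ∑ s : G, ρ.character (s * s) = -1 := by
  obtain ⟨⟨M₀, hM₀mem⟩, hM₀ne, hM₀span⟩ := finrank_eq_one_iff'.mp h1
  have hM₀ne' : M₀ ≠ 0 := by
    intro h; apply hM₀ne; exact Subtype.ext h
  have hspan : ∀ A ∈ Inv ρ, ∃ c : ℂ, c • M₀ = A := by
    intro A hA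
    obtain ⟨c, hc⟩ := hM₀span ⟨A, hA⟩
    exact ⟨c, congrArg Subtype.val hc⟩
  obtain ⟨ε, hε⟩ := hspan _ (transpose_mem ρ M₀ hM₀mem)
  have hall : ∀ A ∈ Inv ρ, A.transpose = ε • A := by
    intro A hA
    obtain ⟨c, rfl⟩ := hspan A hA
    rw [Matrix.transpose_smul, ← hε, smul_comm]
  have hTP : T ∘ₗ P ρ = ε • P ρ := by
    apply LinearMap.ext; intro A
    rw [LinearMap.comp_apply, T_apply, LinearMap.smul_apply]
    exact hall _ (P_mem ρ A)
  have hε' : ε = (Nat.card G : ℂ)⁻¹ * ∑ s : G, ρ.character (s * s) := by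
    have h := trace_TP ρ
    rw [hTP, map_smul, (P_isProj ρ).trace, h1, Nat.cast_one, smul_eq_mul, mul_one] at h
    exact h
  rw [← hε']
  have hsq : ε * ε = 1 := by
    have h2 : M₀.transpose.transpose = (ε * ε) • M₀ := by
      rw [hall M₀ hM₀mem, Matrix.transpose_smul, hall M₀ hM₀mem, smul_smul]
    rw [Matrix.transpose_transpose] at h2
    have h3 : ((ε * ε) - 1) • M₀ = 0 := by
      rw [sub_smul, one_smul, ← h2, sub_self]
    rcases smul_eq_zero.mp h3 with h4 | h4
    · exact sub_eq_zero.mp h4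
    · exact absurd h4 hM₀ne'
  exact mul_self_eq_one_iff.mp hsq

end Rep

section Irr

variable {G : Type*} [Group G] [Fintype G]

/-- `(1/|G|) ∑ χ(g)^2` is `1` or `0` according as `χ` is real-valued or not. -/
theorem irr_sq_sum (χ : Cfsg.IrrCharacter G) [Decidable (∀ g : G, ((χ : G → ℂ) g).im = 0)] :
    (Nat.card G : ℂ)⁻¹ * ∑ s : G, (χ : G → ℂ) s * (χ : G → ℂ) s
      = if ∀ g : G, ((χ : G → ℂ) g).im = 0 then 1 else 0 := by
  obtain ⟨χ, n, ρ, hirr, rfl⟩ := χ
  simp only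
  rw [sq_sum_eq_finrank]
  have hle := finrank_Inv_le_one ρ hirr
  have hiff := finrank_Inv_eq_one_iff ρ hirr
  split_ifs with h
  · rw [hiff.mpr h, Nat.cast_one]
  · have : Module.finrank ℂ (Inv ρ) = 0 := by
      rcases Nat.le_one_iff_eq_zero_or_eq_one.mp hle with h0 | h1
      · exact h0
      · exact absurd (hiff.mp h1) h
    rw [this, Nat.cast_zero]

/-- The Frobenius–Schur indicator of an irreducible character is an integer `ε` with `|ε| ≤ 1`,
and it is `0` unless `χ` is real-valued. -/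
theorem irr_fsIndicator (χ : Cfsg.IrrCharacter G) :
    ∃ ε : ℤ, |ε| ≤ 1 ∧ (ε : ℂ) = (Nat.card G : ℂ)⁻¹ * ∑ s : G, (χ : G → ℂ) (s * s) ∧
      (ε ≠ 0 → ∀ g : G, ((χ : G → ℂ) g).im = 0) := by
  obtain ⟨χ, n, ρ, hirr, rfl⟩ := χ
  simp only
  have hle := finrank_Inv_le_one ρ hirr
  have hiff := finrank_Inv_eq_one_iff ρ hirr
  rcases Nat.le_one_iff_eq_zero_or_eq_one.mp hle with h0 | h1
  · refine ⟨0, by simp, ?_, fun h => absurd rfl h⟩
    rw [fs_eq_zero_of_finrank_eq_zero ρ h0, Int.cast_zero]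
  · rcases fs_of_finrank_eq_one ρ h1 with h | h
    · refine ⟨1, by simp, ?_, fun _ => hiff.mp h1⟩
      rw [h, Int.cast_one]
    · refine ⟨-1, by simp, ?_, fun _ => hiff.mp h1⟩
      rw [h, Int.cast_neg, Int.cast_one]

theorem irr_inv (χ : Cfsg.IrrCharacter G) (g : G) :
    (χ : G → ℂ) g⁻¹ = conj ((χ : G → ℂ) g) := by
  obtain ⟨χ, n, ρ, hirr, rfl⟩ := χ
  exact Cfsg.Agent.Lib.Helper2.char_inv ρ g

/-- The trivial character is irreducible. -/
theorem isIrrCharacter_one (G : Type*) [Group G] : Cfsg.IsIrrCharacter G (fun _ => (1 : ℂ)) := by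
  refine ⟨1, Representation.trivial ℂ G (Fin 1 → ℂ), ?_, ?_⟩
  · rw [Cfsg.Agent.Lib.Helper25.isIrreducible_iff]
    refine ⟨inferInstance, ?_⟩
    intro W _
    have h1 : Module.finrank ℂ (Fin 1 → ℂ) = 1 := by simp
    haveI : IsSimpleOrder (Submodule ℂ (Fin 1 → ℂ)) := (isSimpleModule_iff_finrank_eq_one.mpr h1).1
    exact eq_bot_or_eq_top W
  · ext g
    simp [Representation.character]

/-- The trivial character as an element of `Irr(G)`. -/
def trivIrr (G : Type*) [Group G] : Cfsg.IrrCharacter G := ⟨fun _ => 1, isIrrCharacter_one G⟩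

theorem trivIrr_apply (g : G) : (trivIrr G : G → ℂ) g = 1 := rfl

/-- The number of real-valued irreducible characters. -/
theorem card_real_irr [Fintype (Cfsg.IrrCharacter G)]
    [DecidablePred (fun χ : Cfsg.IrrCharacter G => ∀ g : G, ((χ : G → ℂ) g).im = 0)]
    [DecidablePred (fun g : G => IsConj g g⁻¹)] :
    ((Finset.univ.filter
        (fun χ : Cfsg.IrrCharacter G => ∀ g : G, ((χ : G → ℂ) g).im = 0)).card : ℂ)
      = (Nat.card G : ℂ)⁻¹ * ∑ g : G, if IsConj g g⁻¹ then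
          (Nat.card (Subgroup.centralizer ({g} : Set G)) : ℂ) else 0 := by
  classical
  rw [Finset.card_filter, Nat.cast_sum]
  have h1 : ∀ χ : Cfsg.IrrCharacter G,
      ((if ∀ g : G, ((χ : G → ℂ) g).im = 0 then 1 else 0 : ℕ) : ℂ)
        = (Nat.card G : ℂ)⁻¹ * ∑ s : G, (χ : G → ℂ) s * (χ : G → ℂ) s := by
    intro χ
    rw [irr_sq_sum]
    split_ifs <;> simp
  rw [Finset.sum_congr rfl (fun χ _ => h1 χ), ← Finset.mul_sum, Finset.sum_comm]
  congr 1
  apply Finset.sum_congr rfl; intro g _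
  rw [← Cfsg.Agent.Lib.Helper2.column_orthogonality g g⁻¹]
  apply Finset.sum_congr rfl; intro χ _
  rw [irr_inv, Complex.conj_conj]

/-- `∑ χ(1) ν(χ)` counts the square roots of `1`. -/
theorem sum_fs_degree [Fintype (Cfsg.IrrCharacter G)] [DecidableEq G] :
    ∑ χ : Cfsg.IrrCharacter G, (χ : G → ℂ) 1 *
        ((Nat.card G : ℂ)⁻¹ * ∑ s : G, (χ : G → ℂ) (s * s))
      = ((Finset.univ.filter (fun s : G => s * s = 1)).card : ℂ) := by
  have h1 : ∀ χ : Cfsg.IrrCharacter G, (χ : G → ℂ) 1 *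
        ((Nat.card G : ℂ)⁻¹ * ∑ s : G, (χ : G → ℂ) (s * s))
      = (Nat.card G : ℂ)⁻¹ * ∑ s : G, (χ : G → ℂ) 1 * (χ : G → ℂ) (s * s) := by
    intro χ
    rw [Finset.mul_sum, Finset.mul_sum, Finset.mul_sum]
    apply Finset.sum_congr rfl; intro s _; ring
  rw [Finset.sum_congr rfl (fun χ _ => h1 χ), ← Finset.mul_sum, Finset.sum_comm]
  simp only [Cfsg.Agent.Lib.Helper2.sum_irr_degree_mul]
  rw [← Finset.sum_filter, Finset.sum_const, nsmul_eq_mul, ← mul_assoc, mul_comm _ (Finset.card _ : ℂ),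
    mul_assoc, inv_mul_cancel₀ Cfsg.Agent.Lib.Helper2.card_ne_zero_complex, mul_one]

end Irr

end Cfsg.Agent.Lib.Helper24
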