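import Mathlib
import Cfsg.Prelude.Def_Blocks
import Cfsg.Prelude.Def_BlockLocal
import Cfsg.Prelude.Def_BrauerPairs
import Cfsg.Agent.Lib.Helper24.NormalSubpair
import Cfsg.Agent.Lib.Helper1.BaerSuzuki

/-!
# Existence and uniqueness of Brauer subpairs (helper24)
-/

set_option autoImplicit false

namespace Cfsg.Agent.Lib.Helper24

open Cfsg.Agent.Lib.Helper2 Cfsg.Agent.Lib.Helper7
open scoped ComplexConjugate

section

variable {G : Type*} [Group G] [Fintype G] {p : ℕ} {M : Ideal Cfsg.AlgInt}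

omit [Fintype G] in
theorem le_of_reflTransGen {x y : Cfsg.BrauerPairIdx G}
    (h : Relation.ReflTransGen (Cfsg.NormalSubpairRel p M) x y) : x.1 ≤ y.1 := by
  induction h with
  | refl => exact le_refl _
  | tail _ hbc ih => exact le_trans ih hbc.2.2.1

omit [Fintype G] in
theorem isBrauerPair_of_reflTransGen {x y : Cfsg.BrauerPairIdx G}
    (h : Relation.ReflTransGen (Cfsg.NormalSubpairRel p M) x y)
    (hy : Cfsg.IsBrauerPair p M y.1 y.2) : Cfsg.IsBrauerPair p M x.1 x.2 := by
  induction h using Relation.ReflTransGen.head_induction_on with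
  | refl => exact hy
  | head hac _ _ => exact hac.1

/-- the Brauer-map value of the idempotent of `f` at `P` itself -/
theorem brauerOmega_subgroupBlockCoeff_self (P : Subgroup G)
    (f : Set (Cfsg.IrrCharacter (Subgroup.centralizer (P : Set G))))
    (ξ : Cfsg.IrrCharacter (Subgroup.centralizer (P : Set G))) [Decidable (ξ ∈ f)] :
    Cfsg.brauerOmega P (Cfsg.subgroupBlockCoeff (Subgroup.centralizer (P : Set G)) f) ξ.1
      = if ξ ∈ f then 1 else 0 := by
  classical
  haveI : Fintype (Subgroup.centralizer (P : Set G)) := Fintype.ofFinite _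
  rw [brauerOmega_eq_omega, subgroupBlockCoeff_eq_extZ, restrictTo_self_extZ, omega_blockCoeff]

theorem eq_of_normalSubpair_same (hM : Cfsg.IsPModular p M) {P : Subgroup G}
    {f e : Set (Cfsg.IrrCharacter (Subgroup.centralizer (P : Set G)))}
    (h : Cfsg.IsNormalSubpair p M P f P e) : f = e := by
  classical
  obtain ⟨⟨_, hf⟩, ⟨_, he⟩, _, _, _, hone⟩ := h
  obtain ⟨ξ, hξ⟩ := isPBlock_nonempty hM he
  have h1 := hone ξ hξ
  rw [brauerOmega_subgroupBlockCoeff_self] at h1
  by_cases hξf : ξ ∈ f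
  · rw [eq_blockOf_of_mem hM hf hξf, eq_blockOf_of_mem hM he hξ]
  · exfalso
    rw [if_neg hξf, zero_sub] at h1
    have := memLocalIdeal_neg h1
    rw [neg_neg] at this
    exact not_memLocalIdeal_one hM this

theorem eq_of_normalSubpairRel_of_fst_eq (hM : Cfsg.IsPModular p M) {a b : Cfsg.BrauerPairIdx G}
    (h : Cfsg.NormalSubpairRel p M a b) (hab : a.1 = b.1) : a = b := by
  obtain ⟨Q, f⟩ := a
  obtain ⟨P, e⟩ := b
  simp only at hab
  subst hab
  have h' : Cfsg.IsNormalSubpair p M Q f Q e := h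
  rw [eq_of_normalSubpair_same hM h']

theorem exists_strict_head (hM : Cfsg.IsPModular p M) {x y : Cfsg.BrauerPairIdx G}
    (h : Relation.ReflTransGen (Cfsg.NormalSubpairRel p M) x y) (hne : x.1 ≠ y.1) :
    ∃ c, Cfsg.NormalSubpairRel p M x c ∧ x.1 < c.1 ∧
      Relation.ReflTransGen (Cfsg.NormalSubpairRel p M) c y := by
  induction h using Relation.ReflTransGen.head_induction_on with
  | refl => exact absurd rfl hne
  | head hac hcb ih =>
    rename_i a c
    by_cases heq : a.1 = c.1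
    · have := eq_of_normalSubpairRel_of_fst_eq hM hac heq
      subst this
      exact ih hne
    · exact ⟨c, hac, lt_of_le_of_ne hac.2.2.1 heq, hcb⟩

theorem eq_of_reflTransGen_of_fst_eq (hM : Cfsg.IsPModular p M) {x y : Cfsg.BrauerPairIdx G}
    (h : Relation.ReflTransGen (Cfsg.NormalSubpairRel p M) x y) (hxy : x.1 = y.1) : x = y := by
  induction h using Relation.ReflTransGen.head_induction_on with
  | refl => rfl
  | head hac hcb ih =>
    rename_i a c
    have h1 : a.1 ≤ c.1 := hac.2.2.1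
    have h2 : c.1 ≤ y.1 := le_of_reflTransGen hcb
    have hac' : a.1 = c.1 := le_antisymm h1 (hxy ▸ h2)
    have := eq_of_normalSubpairRel_of_fst_eq hM hac hac'
    subst this
    exact ih hxy

/-- **Existence of subpairs.** -/
theorem exists_subpairLE (hM : Cfsg.IsPModular p M) (P : Subgroup G)
    (e : Set (Cfsg.IrrCharacter (Subgroup.centralizer (P : Set G))))
    (hPe : Cfsg.IsBrauerPair p M P e) (Q : Subgroup G) (hQP : Q ≤ P) :
    ∃ f : Set (Cfsg.IrrCharacter (Subgroup.centralizer (Q : Set G))),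
      Cfsg.IsPBlock M f ∧ Cfsg.SubpairLE p M Q f P e := by
  haveI : Fact p.Prime := ⟨hM.1⟩
  induction Q using WellFoundedGT.induction with
  | ind Q ih =>
    rcases eq_or_lt_of_le hQP with heq | hlt
    · subst heq
      exact ⟨e, hPe.2, Relation.ReflTransGen.refl⟩
    · have hnil : Group.IsNilpotent P := hPe.1.isNilpotent
      obtain ⟨u, huP, huN, huQ⟩ :=
        Cfsg.Agent.Lib.Helper1.exists_mem_normalizer_notMem_of_lt hnil hlt
      set R := Subgroup.normalizer (Q : Set G) ⊓ P with hR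
      have hQR : Q < R := by
        refine lt_of_le_of_ne (le_inf Subgroup.le_normalizer hQP) ?_
        intro h
        apply huQ
        rw [h]
        exact ⟨huN, huP⟩
      obtain ⟨g, hg, hRg⟩ := ih R hQR inf_le_right
      obtain ⟨f, hf, _⟩ := existsUnique_normalSubpair hM R Q g ⟨hPe.1.to_le inf_le_right, hg⟩
        hQR.le inf_le_left
      have hrel : Cfsg.NormalSubpairRel p M ⟨Q, f⟩ ⟨R, g⟩ := hf
      exact ⟨f, hf.1.2, Relation.ReflTransGen.head hrel hRg⟩

/-- **Uniqueness of subpairs.** -/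
theorem subpairLE_unique (hM : Cfsg.IsPModular p M) (P : Subgroup G)
    (e : Set (Cfsg.IrrCharacter (Subgroup.centralizer (P : Set G))))
    (hPe : Cfsg.IsBrauerPair p M P e) (Q : Subgroup G) (hQP : Q ≤ P)
    (f f' : Set (Cfsg.IrrCharacter (Subgroup.centralizer (Q : Set G))))
    (hf : Cfsg.SubpairLE p M Q f P e) (hf' : Cfsg.SubpairLE p M Q f' P e) : f = f' := by
  haveI : Fact p.Prime := ⟨hM.1⟩
  induction Q using WellFoundedGT.induction with
  | ind Q ih =>
    rcases eq_or_lt_of_le hQP with heq | hlt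
    · subst heq
      have h1 := eq_of_reflTransGen_of_fst_eq hM hf rfl
      have h2 := eq_of_reflTransGen_of_fst_eq hM hf' rfl
      have e1 : f = e := eq_of_heq (Sigma.mk.inj_iff.mp h1).2
      have e2 : f' = e := eq_of_heq (Sigma.mk.inj_iff.mp h2).2
      rw [e1, e2]
    · obtain ⟨c, hc1, hc2, hc3⟩ := exists_strict_head hM hf (ne_of_lt hlt)
      obtain ⟨c', hc1', hc2', hc3'⟩ := exists_strict_head hM hf' (ne_of_lt hlt)
      obtain ⟨Q₁, f₁⟩ := c
      obtain ⟨Q₁', f₁'⟩ := c'
      have hn1 : Cfsg.IsNormalSubpair p M Q f Q₁ f₁ := hc1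
      have hn1' : Cfsg.IsNormalSubpair p M Q f' Q₁' f₁' := hc1'
      set R := Subgroup.normalizer (Q : Set G) ⊓ P with hR
      have hQ₁R : Q₁ ≤ R := le_inf hn1.2.2.2.1 (le_of_reflTransGen hc3)
      have hQ₁'R : Q₁' ≤ R := le_inf hn1'.2.2.2.1 (le_of_reflTransGen hc3')
      have hQR : Q < R := lt_of_lt_of_le hc2 hQ₁R
      obtain ⟨g, hg, hRg⟩ := exists_subpairLE hM P e hPe R inf_le_right
      have hRgpair : Cfsg.IsBrauerPair p M R g := ⟨hPe.1.to_le inf_le_right, hg⟩
      have key1 : ∀ (Q₂ : Subgroup G)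
          (f₂ : Set (Cfsg.IrrCharacter (Subgroup.centralizer (Q₂ : Set G)))),
          Q < Q₂ → Q₂ ≤ R →
          Relation.ReflTransGen (Cfsg.NormalSubpairRel p M) ⟨Q₂, f₂⟩ ⟨P, e⟩ →
          Relation.ReflTransGen (Cfsg.NormalSubpairRel p M) ⟨Q₂, f₂⟩ ⟨R, g⟩ := by
        intro Q₂ f₂ hlt2 hle2 hch
        obtain ⟨f₃, _, hf₃⟩ := exists_subpairLE hM R g hRgpair Q₂ hle2
        have htrans : Cfsg.SubpairLE p M Q₂ f₃ P e := Relation.ReflTransGen.trans hf₃ hRg
        have := ih Q₂ hlt2 (le_trans hle2 inf_le_right) f₃ f₂ htrans hch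
        rw [← this]
        exact hf₃
      obtain ⟨f₀, hf₀, _⟩ := existsUnique_normalSubpair hM R Q g hRgpair hQR.le inf_le_left
      have key2 : ∀ (Q₂ : Subgroup G)
          (f₂ : Set (Cfsg.IrrCharacter (Subgroup.centralizer (Q₂ : Set G))))
          (f'' : Set (Cfsg.IrrCharacter (Subgroup.centralizer (Q : Set G)))),
          Cfsg.IsNormalSubpair p M Q f'' Q₂ f₂ → Q₂ ≤ R →
          Relation.ReflTransGen (Cfsg.NormalSubpairRel p M) ⟨Q₂, f₂⟩ ⟨R, g⟩ → f'' = f₀ := by
        intro Q₂ f₂ f'' hn hle2 hch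
        haveI : Fintype (Subgroup.centralizer (Q : Set G)) := Fintype.ofFinite _
        have hcong := brauerOmega_congr_of_reflTransGen hM
          (Cfsg.subgroupBlockCoeff (Subgroup.centralizer (Q : Set G)) f₀)
          (by
            intro x
            rw [subgroupBlockCoeff_eq_extZ]
            exact extZ_memLocalRing hM _ _ (blockCoeff_memLocalRing hM f₀ hf₀.1.2) x)
          Q R
          (fun u hu x => subgroupBlockCoeff_conj_of_stabilizes _ f₀ u (hf₀.2.2.2.2.1 u hu) x)
          (by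
            intro R' hle
            rw [subgroupBlockCoeff_eq_extZ]
            exact restrictTo_extZ_isClassFunction (centralizer_le_centralizer_of_le hle) _
              (blockCoeff_isClassFunction f₀))
          hch hn.2.1 hn.2.2.1 (le_refl R)
        obtain ⟨_, _, hcong⟩ := hcong
        obtain ⟨ξ, hξ⟩ := isPBlock_nonempty hM hg
        have hn₀ : Cfsg.IsNormalSubpair p M Q f₀ Q₂ f₂ := by
          refine ⟨hf₀.1, hn.2.1, hn.2.2.1, hn.2.2.2.1, fun x hx => hf₀.2.2.2.2.1 x (hle2 hx), ?_⟩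
          intro ζ hζ
          have h1 := hcong ξ hξ ζ hζ
          have h2 := hf₀.2.2.2.2.2 ξ hξ
          have := memLocalIdeal_sub hM h2 h1
          rw [sub_sub_sub_cancel_left] at this
          exact this
        obtain ⟨f₄, _, huniq⟩ := existsUnique_normalSubpair hM Q₂ Q f₂ hn.2.1 hn.2.2.1 hn.2.2.2.1
        rw [huniq f'' hn, huniq f₀ hn₀]
      rw [key2 Q₁ f₁ f hn1 hQ₁R (key1 Q₁ f₁ hc2 hQ₁R hc3),
        key2 Q₁' f₁' f' hn1' hQ₁'R (key1 Q₁' f₁' hc2' hQ₁'R hc3')]

/-- **Alperin–Broué: below a Brauer pair there is exactly one pair on each smaller subgroup.** -/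
theorem existsUnique_subpairLE (hM : Cfsg.IsPModular p M) (P Q : Subgroup G)
    (e : Set (Cfsg.IrrCharacter (Subgroup.centralizer (P : Set G))))
    (hPe : Cfsg.IsBrauerPair p M P e) (hQP : Q ≤ P) :
    ∃! f : Set (Cfsg.IrrCharacter (Subgroup.centralizer (Q : Set G))),
      Cfsg.IsPBlock M f ∧ Cfsg.SubpairLE p M Q f P e := by
  obtain ⟨f, hf1, hf2⟩ := exists_subpairLE hM P e hPe Q hQP
  refine ⟨f, ⟨hf1, hf2⟩, ?_⟩
  rintro f' ⟨_, hf'⟩
  exact subpairLE_unique hM P e hPe Q hQP f' f hf' hf2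

end

end Cfsg.Agent.Lib.Helper24
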