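import Mathlib
import Cfsg.Prelude.Def_Blocks
import Cfsg.Prelude.Def_BlockLocal
import Cfsg.Prelude.Def_BrauerPairs
import Cfsg.Agent.Lib.Helper24.SubpairUnique
import Cfsg.Agent.Lib.Helper24.NormalSubpair
import Cfsg.Agent.Lib.Helper24.DefectCount
import Cfsg.Agent.Lib.Helper7.BrauerIdem
import Cfsg.Agent.Lib.Helper7.FirstMain
import Cfsg.Agent.Lib.Helper7.QuotientBlock
import Cfsg.Agent.Lib.Helper7.Orbits2

/-!
# Maximal Brauer pairs and defect groups (helper24 library)

* `cosetLift`, `avg_memLocalRing`, `avg_memLocalIdeal_of_pgroup`: averaging a function over the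
  cosets of a subgroup, and orbit counting for a `p`-subgroup acting on the cosets.
* `exists_normalSubpair_of_unit`: a Brauer pair `(P, e)` has a normal extension `(R, f')` as soon
  as `R` stabilizes `e` and the idempotent of `e` has a unit coefficient on `C_G(R)`.
* `eq_of_isMaximalBrauerPair`: for a maximal pair no such proper extension exists.
-/

set_option autoImplicit false

namespace Cfsg.Agent.Lib.Helper24

open Cfsg.Agent.Lib.Helper2 Cfsg.Agent.Lib.Helper7
open scoped ComplexConjugate

section Coset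

variable {H : Type*} [Group H] [Fintype H] {p : ℕ} {M : Ideal Cfsg.AlgInt}

/-- a function invariant under right multiplication by `T`, as a function on the left cosets -/
noncomputable def cosetLift (T : Subgroup H) (f : H → ℂ)
    (hf : ∀ x : H, ∀ t ∈ T, f (x * t) = f x) : H ⧸ T → ℂ :=
  Quotient.lift f (by
    intro a b hab
    have h : a⁻¹ * b ∈ T := QuotientGroup.leftRel_apply.mp hab
    have := hf a (a⁻¹ * b) h
    rw [mul_inv_cancel_left] at this
    exact this.symm)

omit [Fintype H] in
theorem cosetLift_mk (T : Subgroup H) (f : H → ℂ)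
    (hf : ∀ x : H, ∀ t ∈ T, f (x * t) = f x) (x : H) :
    cosetLift T f hf (x : H ⧸ T) = f x := rfl

theorem sum_eq_card_mul_sum_cosetLift (T : Subgroup H) [Fintype T] [Fintype (H ⧸ T)]
    (f : H → ℂ) (hf : ∀ x : H, ∀ t ∈ T, f (x * t) = f x) :
    ∑ x : H, f x = (Nat.card T : ℂ) * ∑ q : H ⧸ T, cosetLift T f hf q := by
  rw [← sum_comp_mk T (cosetLift T f hf)]
  rfl

theorem card_ne_zero_of_subgroup (T : Subgroup H) : (Nat.card T : ℂ) ≠ 0 := by
  have : 0 < Nat.card T := Nat.card_pos
  exact_mod_cast this.ne'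

/-- the average over `T`-cosets of a local-integral function is local-integral -/
theorem avg_memLocalRing (hM : Cfsg.IsPModular p M) (T : Subgroup H) (f : H → ℂ)
    (hf : ∀ x : H, ∀ t ∈ T, f (x * t) = f x) (hR : ∀ x, Cfsg.MemLocalRing M (f x)) :
    Cfsg.MemLocalRing M ((Nat.card T : ℂ)⁻¹ * ∑ x : H, f x) := by
  classical
  haveI : Fintype T := Fintype.ofFinite _
  haveI : Fintype (H ⧸ T) := Fintype.ofFinite _
  rw [sum_eq_card_mul_sum_cosetLift T f hf, ← mul_assoc,
    inv_mul_cancel₀ (card_ne_zero_of_subgroup T), one_mul]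
  apply memLocalRing_sum hM
  intro q _
  induction q using QuotientGroup.induction_on with
  | H x => exact hR x

/-- **Orbit counting on cosets**: `S` a `p`-subgroup, `f` invariant under left multiplication by
`S` and right multiplication by `T`; if `f x` is in the local ideal whenever `x⁻¹ S x ≤ T`, then
the average of `f` over the `T`-cosets is in the local ideal. -/
theorem avg_memLocalIdeal_of_pgroup (hM : Cfsg.IsPModular p M) (T S : Subgroup H)
    (hS : IsPGroup p S) (f : H → ℂ)
    (hfT : ∀ x : H, ∀ t ∈ T, f (x * t) = f x) (hfS : ∀ s ∈ S, ∀ x : H, f (s * x) = f x)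
    (hR : ∀ x, Cfsg.MemLocalRing M (f x))
    (hfix : ∀ x : H, (∀ s ∈ S, x⁻¹ * s * x ∈ T) → Cfsg.MemLocalIdeal M (f x)) :
    Cfsg.MemLocalIdeal M ((Nat.card T : ℂ)⁻¹ * ∑ x : H, f x) := by
  classical
  haveI : Fintype T := Fintype.ofFinite _
  haveI : Fintype (H ⧸ T) := Fintype.ofFinite _
  rw [sum_eq_card_mul_sum_cosetLift T f hfT, ← mul_assoc,
    inv_mul_cancel₀ (card_ne_zero_of_subgroup T), one_mul]
  apply sum_memLocalIdeal_of_pgroup hM (Q := S) hS (cosetLift T f hfT)
  · intro u q
    induction q using QuotientGroup.induction_on with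
    | H x =>
      show cosetLift T f hfT ((((u : H) * x : H)) : H ⧸ T) = cosetLift T f hfT (x : H ⧸ T)
      rw [cosetLift_mk, cosetLift_mk]
      exact hfS u u.2 x
  · intro q
    induction q using QuotientGroup.induction_on with
    | H x => exact hR x
  · intro q hq
    induction q using QuotientGroup.induction_on with
    | H x =>
      show Cfsg.MemLocalIdeal M (f x)
      apply hfix
      intro s hs
      have h2 : (((s * x : H)) : H ⧸ T) = (x : H ⧸ T) := hq ⟨s, hs⟩
      rw [QuotientGroup.eq] at h2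
      have h3 : x⁻¹ * s * x = ((s * x)⁻¹ * x)⁻¹ := by group
      rw [h3]
      exact T.inv_mem h2

end Coset

section Extend

variable {G : Type*} [Group G] [Fintype G] {p : ℕ} {M : Ideal Cfsg.AlgInt}

/-- **Existence of normal extensions of Brauer pairs.** If the `p`-subgroup `R` contains and
normalizes `P`, stabilizes the block `e` of `C_G(P)`, and the idempotent of `e` has a coefficient
outside the local ideal at an element of `C_G(R)`, then `(P, e)` is normal in some Brauer pair
`(R, f')`. -/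
theorem exists_normalSubpair_of_unit [Fact p.Prime] (hM : Cfsg.IsPModular p M) (P R : Subgroup G)
    (e : Set (Cfsg.IrrCharacter (Subgroup.centralizer (P : Set G))))
    (hPe : Cfsg.IsBrauerPair p M P e)
    (hR : IsPGroup p R) (hPR : P ≤ R) (hRN : R ≤ Subgroup.normalizer (P : Set G))
    (hst : ∀ x ∈ R, Cfsg.StabilizesBlock (Subgroup.centralizer (P : Set G)) e x)
    (g : G) (hgR : g ∈ Subgroup.centralizer (R : Set G))
    (hg : ¬ Cfsg.MemLocalIdeal M
      (Cfsg.subgroupBlockCoeff (Subgroup.centralizer (P : Set G)) e g)) :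
    ∃ f' : Set (Cfsg.IrrCharacter (Subgroup.centralizer (R : Set G))),
      Cfsg.IsNormalSubpair p M P e R f' := by
  classical
  haveI : Fintype (Subgroup.centralizer (P : Set G)) := Fintype.ofFinite _
  haveI : Fintype (Subgroup.centralizer (R : Set G)) := Fintype.ofFinite _
  obtain ⟨hP, he⟩ := hPe
  have hβext : Cfsg.subgroupBlockCoeff (Subgroup.centralizer (P : Set G)) e
      = Cfsg.extendByZero (Subgroup.centralizer (P : Set G)) (Cfsg.blockCoeff e) :=
    subgroupBlockCoeff_eq_extZ _ _
  have hCRP : Subgroup.centralizer (R : Set G) ≤ Subgroup.centralizer (P : Set G) :=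
    centralizer_le_centralizer_of_le hPR
  have hβR : ∀ g, Cfsg.MemLocalRing M
      (Cfsg.subgroupBlockCoeff (Subgroup.centralizer (P : Set G)) e g) := by
    intro g
    rw [hβext]
    exact extZ_memLocalRing hM _ _ (blockCoeff_memLocalRing hM e he) g
  have hβinv : ∀ u ∈ R, ∀ g,
      Cfsg.subgroupBlockCoeff (Subgroup.centralizer (P : Set G)) e (u * g * u⁻¹)
        = Cfsg.subgroupBlockCoeff (Subgroup.centralizer (P : Set G)) e g :=
    fun u hu g => subgroupBlockCoeff_conj_of_stabilizes _ e u (hst u hu) g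
  have hββ : conv (Cfsg.subgroupBlockCoeff (Subgroup.centralizer (P : Set G)) e)
      (Cfsg.subgroupBlockCoeff (Subgroup.centralizer (P : Set G)) e)
      = Cfsg.subgroupBlockCoeff (Subgroup.centralizer (P : Set G)) e := by
    rw [hβext, conv_extZ, conv_blockCoeff_self]
  set ε : Subgroup.centralizer (R : Set G) → ℂ := restrictTo (Subgroup.centralizer (R : Set G))
    (Cfsg.subgroupBlockCoeff (Subgroup.centralizer (P : Set G)) e) with hε
  have hεcf : Cfsg.IsClassFunction (Subgroup.centralizer (R : Set G)) ε := by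
    rw [hε, hβext]
    exact restrictTo_extZ_isClassFunction hCRP _ (blockCoeff_isClassFunction e)
  have hεR : ∀ c, Cfsg.MemLocalRing M (ε c) := fun c => hβR c
  have hidem : ∀ c, Cfsg.MemLocalIdeal M (conv ε ε c - ε c) := by
    intro c
    have := conv_restrict_sub_memLocalIdeal hM R hR _ _ hβR hβR hβinv hβinv c
    rw [hββ] at this
    have h2 := memLocalIdeal_neg this
    rwa [neg_sub] at h2
  have hex : ∃ ξ' : Cfsg.IrrCharacter (Subgroup.centralizer (R : Set G)),
      ¬ Cfsg.MemLocalIdeal M (omega (ξ' : _ → ℂ) ε) := by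
    by_contra hcon
    push Not at hcon
    exact hg (memLocalIdeal_of_idem_of_omega hM ε ⟨hεcf, hεR⟩ hidem hcon ⟨g, hgR⟩)
  obtain ⟨ξ', hξ'⟩ := hex
  have hw : Cfsg.MemLocalIdeal M (omega (ξ' : _ → ℂ) ε - 1) := by
    have hwR : Cfsg.MemLocalRing M (omega (ξ' : _ → ℂ) ε) :=
      omega_memLocalRing hM ξ' ε hεcf hεR
    have h1 : Cfsg.MemLocalIdeal M
        (omega (ξ' : _ → ℂ) ε * omega (ξ' : _ → ℂ) ε - omega (ξ' : _ → ℂ) ε) := by
      rw [← omega_conv ξ' ε ε hεcf hεcf, ← omega_sub]
      exact omega_memLocalIdeal_of_coeff hM ξ' _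
        (isClassFunction_sub (conv_isClassFunction _ _ hεcf hεcf) hεcf) hidem
    rcases memLocalIdeal_or_sub_one_of_idem hM hwR h1 with h | h
    · exact absurd h hξ'
    · exact h
  refine ⟨Cfsg.blockOf M (ξ' : _ → ℂ), ⟨hP, he⟩, ⟨hR, ⟨ξ', rfl⟩⟩, hPR, hRN, hst, ?_⟩
  intro ξ'' hξ''
  rw [brauerOmega_eq_omega]
  have h1 := omega_sub_memLocalIdeal hM ξ' ξ'' hξ'' ε hεcf hεR
  have h2 := memLocalIdeal_sub hM hw h1
  have e1 : omega (ξ' : _ → ℂ) ε - 1 - (omega (ξ' : _ → ℂ) ε - omega (ξ'' : _ → ℂ) ε)
      = omega (ξ'' : _ → ℂ) ε - 1 := by ring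
  rw [e1] at h2
  exact h2

/-- A maximal Brauer pair admits no proper normal extension. -/
theorem eq_of_isMaximalBrauerPair [Fact p.Prime] (hM : Cfsg.IsPModular p M)
    (B : Set (Cfsg.IrrCharacter G)) (P : Subgroup G)
    (e : Set (Cfsg.IrrCharacter (Subgroup.centralizer (P : Set G))))
    (hmax : Cfsg.IsMaximalBrauerPair p M B P e) (R : Subgroup G)
    (hR : IsPGroup p R) (hPR : P ≤ R) (hRN : R ≤ Subgroup.normalizer (P : Set G))
    (hst : ∀ x ∈ R, Cfsg.StabilizesBlock (Subgroup.centralizer (P : Set G)) e x)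
    (g : G) (hgR : g ∈ Subgroup.centralizer (R : Set G))
    (hg : ¬ Cfsg.MemLocalIdeal M
      (Cfsg.subgroupBlockCoeff (Subgroup.centralizer (P : Set G)) e g)) : R = P := by
  obtain ⟨hBP, hmaxR⟩ := hmax
  obtain ⟨hPe, hB, _⟩ := hBP
  obtain ⟨f', hnorm⟩ := exists_normalSubpair_of_unit hM P R e hPe hR hPR hRN hst g hgR hg
  have hle : Cfsg.SubpairLE p M P e R f' := Relation.ReflTransGen.single hnorm
  have hRf' : Cfsg.IsBrauerPair p M R f' := hnorm.2.1
  have hBR : Cfsg.IsBrauerPairOf p M B R f' :=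
    (isBrauerPairOf_iff_of_subpairLE hM hRf' hPe hle B hB).mpr ⟨hPe, hB, ‹_›⟩
  exact hmaxR R f' hBR hle

end Extend

section OrbAvg

variable {G : Type*} [Group G] [Fintype G] {p : ℕ} {M : Ideal Cfsg.AlgInt}

/-- the average over the `N_G(P)`-conjugates of the idempotent of the block `e` of `C_G(P)`
(`T` the stabilizer of `e` in `N_G(P)`): the idempotent of the union of the conjugates of `e` -/
noncomputable def orbAvg (P : Subgroup G)
    (e : Set (Cfsg.IrrCharacter (Subgroup.centralizer (P : Set G)))) (T : Subgroup G) (g : G) : ℂ := by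
  classical
  haveI : Fintype (Subgroup.normalizer (P : Set G)) := Fintype.ofFinite _
  exact (Nat.card T : ℂ)⁻¹ * ∑ x : Subgroup.normalizer (P : Set G),
    Cfsg.subgroupBlockCoeff (Subgroup.centralizer (P : Set G)) e ((x : G)⁻¹ * g * (x : G))

theorem orbAvg_eq (P : Subgroup G)
    (e : Set (Cfsg.IrrCharacter (Subgroup.centralizer (P : Set G)))) (T : Subgroup G) (g : G)
    [Fintype (Subgroup.normalizer (P : Set G))] :
    orbAvg P e T g = (Nat.card T : ℂ)⁻¹ * ∑ x : Subgroup.normalizer (P : Set G),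
      Cfsg.subgroupBlockCoeff (Subgroup.centralizer (P : Set G)) e ((x : G)⁻¹ * g * (x : G)) := by
  unfold orbAvg
  congr
  exact Subsingleton.elim _ _

variable (P : Subgroup G) (e : Set (Cfsg.IrrCharacter (Subgroup.centralizer (P : Set G))))
  (T : Subgroup G)
  (hT : ∀ x : G, x ∈ T ↔ x ∈ Subgroup.normalizer (P : Set G) ∧
    Cfsg.StabilizesBlock (Subgroup.centralizer (P : Set G)) e x)

include hT in
theorem stab_le_normalizer : T ≤ Subgroup.normalizer (P : Set G) := fun x hx => ((hT x).mp hx).1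

include hT in
theorem card_subgroupOf_stab :
    Nat.card (T.subgroupOf (Subgroup.normalizer (P : Set G))) = Nat.card T :=
  Nat.card_congr (Subgroup.subgroupOfEquivOfLe (stab_le_normalizer P e T hT)).toEquiv

include hT in
/-- invariance of the idempotent of `e` under conjugation by the inverse of an element of `T` -/
theorem subgroupBlockCoeff_conj_inv_of_mem_stab (t : G) (ht : t ∈ T) (g : G) :
    Cfsg.subgroupBlockCoeff (Subgroup.centralizer (P : Set G)) e (t⁻¹ * g * t)
      = Cfsg.subgroupBlockCoeff (Subgroup.centralizer (P : Set G)) e g := by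
  have h1 := ((hT t⁻¹).mp (T.inv_mem ht)).2
  have h2 := subgroupBlockCoeff_conj_of_stabilizes _ e t⁻¹ h1 g
  rw [inv_inv] at h2
  exact h2

include hT in
theorem orbAvg_memLocalRing (hM : Cfsg.IsPModular p M) (he : Cfsg.IsPBlock M e) (g : G) :
    Cfsg.MemLocalRing M (orbAvg P e T g) := by
  classical
  haveI : Fintype (Subgroup.normalizer (P : Set G)) := Fintype.ofFinite _
  haveI : Fintype (Subgroup.centralizer (P : Set G)) := Fintype.ofFinite _
  rw [orbAvg_eq, ← card_subgroupOf_stab P e T hT]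
  apply avg_memLocalRing hM (T.subgroupOf (Subgroup.normalizer (P : Set G)))
    (fun x : Subgroup.normalizer (P : Set G) =>
      Cfsg.subgroupBlockCoeff (Subgroup.centralizer (P : Set G)) e ((x : G)⁻¹ * g * (x : G)))
  · intro x t ht
    rw [Subgroup.mem_subgroupOf] at ht
    have h1 := subgroupBlockCoeff_conj_inv_of_mem_stab P e T hT (t : G) ht ((x : G)⁻¹ * g * (x : G))
    rw [← h1]
    apply congrArg
    simp only [Subgroup.coe_mul]
    group
  · intro x
    rw [subgroupBlockCoeff_eq_extZ]
    exact extZ_memLocalRing hM _ _ (blockCoeff_memLocalRing hM e he) _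

include hT in
/-- **Orbit counting for the orbit average**: if `S` is a `p`-subgroup of `N_G(P)` centralizing
`l` and the orbit average at `l` is outside the local ideal, then some `N_G(P)`-conjugate of `S`
stabilizes `e` and the idempotent of `e` is outside the local ideal at the corresponding
conjugate of `l`. -/
theorem exists_conj_of_orbAvg (hM : Cfsg.IsPModular p M) (he : Cfsg.IsPBlock M e)
    (S : Subgroup G) (hS : IsPGroup p S) (hSH : S ≤ Subgroup.normalizer (P : Set G)) (l : G)
    (hSl : S ≤ Subgroup.centralizer ({l} : Set G))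
    (h : ¬ Cfsg.MemLocalIdeal M (orbAvg P e T l)) :
    ∃ x ∈ Subgroup.normalizer (P : Set G), (∀ s ∈ S, x⁻¹ * s * x ∈ T) ∧
      ¬ Cfsg.MemLocalIdeal M
        (Cfsg.subgroupBlockCoeff (Subgroup.centralizer (P : Set G)) e (x⁻¹ * l * x)) := by
  classical
  haveI : Fintype (Subgroup.normalizer (P : Set G)) := Fintype.ofFinite _
  haveI : Fintype (Subgroup.centralizer (P : Set G)) := Fintype.ofFinite _
  by_contra hcon
  push Not at hcon
  apply h
  rw [orbAvg_eq, ← card_subgroupOf_stab P e T hT]
  have hS' : IsPGroup p (S.subgroupOf (Subgroup.normalizer (P : Set G))) :=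
    hS.comap_of_injective _ (Subgroup.subtype_injective _)
  apply avg_memLocalIdeal_of_pgroup hM (T.subgroupOf (Subgroup.normalizer (P : Set G)))
    (S.subgroupOf (Subgroup.normalizer (P : Set G))) hS'
    (fun x : Subgroup.normalizer (P : Set G) =>
      Cfsg.subgroupBlockCoeff (Subgroup.centralizer (P : Set G)) e ((x : G)⁻¹ * l * (x : G)))
  · intro x t ht
    rw [Subgroup.mem_subgroupOf] at ht
    have h1 := subgroupBlockCoeff_conj_inv_of_mem_stab P e T hT (t : G) ht ((x : G)⁻¹ * l * (x : G))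
    rw [← h1]
    apply congrArg
    simp only [Subgroup.coe_mul]
    group
  · intro s hs x
    rw [Subgroup.mem_subgroupOf] at hs
    have h1 : l * (s : G) = (s : G) * l :=
      (Subgroup.mem_centralizer_iff.mp (hSl hs)) l (Set.mem_singleton l)
    apply congrArg
    simp only [Subgroup.coe_mul]
    calc ((s : G) * (x : G))⁻¹ * l * ((s : G) * (x : G))
        = (x : G)⁻¹ * ((s : G)⁻¹ * (l * (s : G))) * (x : G) := by group
      _ = (x : G)⁻¹ * ((s : G)⁻¹ * ((s : G) * l)) * (x : G) := by rw [h1]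
      _ = (x : G)⁻¹ * l * (x : G) := by group
  · intro x
    rw [subgroupBlockCoeff_eq_extZ]
    exact extZ_memLocalRing hM _ _ (blockCoeff_memLocalRing hM e he) _
  · intro x hx
    apply hcon (x : G) x.2
    intro s hs
    have := hx ⟨s, hSH hs⟩ (by rw [Subgroup.mem_subgroupOf]; exact hs)
    rw [Subgroup.mem_subgroupOf] at this
    simpa using this

/-- the orbit average is invariant under conjugation by `N_G(P)` -/
theorem orbAvg_conj (h : G) (hh : h ∈ Subgroup.normalizer (P : Set G)) (g : G) :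
    orbAvg P e T (h * g * h⁻¹) = orbAvg P e T g := by
  classical
  haveI : Fintype (Subgroup.normalizer (P : Set G)) := Fintype.ofFinite _
  rw [orbAvg_eq, orbAvg_eq]
  congr 1
  apply Fintype.sum_equiv (Equiv.mulLeft (⟨h, hh⟩ : Subgroup.normalizer (P : Set G))⁻¹)
  intro x
  apply congrArg
  simp only [Equiv.coe_mulLeft, Subgroup.coe_mul, Subgroup.coe_inv]
  group

/-- the orbit average vanishes off `C_G(P)` -/
theorem orbAvg_eq_zero_of_notMem (g : G) (hg : g ∉ Subgroup.centralizer (P : Set G)) :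
    orbAvg P e T g = 0 := by
  classical
  haveI : Fintype (Subgroup.normalizer (P : Set G)) := Fintype.ofFinite _
  rw [orbAvg_eq, Finset.sum_eq_zero, mul_zero]
  intro x _
  rw [subgroupBlockCoeff_eq_extZ, extendByZero_apply_not_mem]
  intro hmem
  apply hg
  have := conj_mem_centralizer_of_mem_normalizer P x.2 hmem
  have e1 : (x : G) * ((x : G)⁻¹ * g * (x : G)) * (x : G)⁻¹ = g := by group
  rwa [e1] at this

theorem restrictTo_orbAvg_isClassFunction :
    Cfsg.IsClassFunction (Subgroup.centralizer (P : Set G))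
      (restrictTo (Subgroup.centralizer (P : Set G)) (orbAvg P e T)) := by
  intro c x
  simp only [restrictTo_apply, Subgroup.coe_mul, Subgroup.coe_inv]
  exact orbAvg_conj P e T (x : G) (Subgroup.centralizer_le_normalizer _ x.2) (c : G)

include hT in
/-- the central character of a member of `e` takes the value `1` at the orbit average -/
theorem omega_restrictTo_orbAvg (hM : Cfsg.IsPModular p M) (he : Cfsg.IsPBlock M e)
    [Fintype (Subgroup.centralizer (P : Set G))]
    (ξ₀ : Cfsg.IrrCharacter (Subgroup.centralizer (P : Set G))) (hξ₀ : ξ₀ ∈ e) :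
    omega (ξ₀ : _ → ℂ) (restrictTo (Subgroup.centralizer (P : Set G)) (orbAvg P e T)) = 1 := by
  classical
  haveI : Fintype (Subgroup.normalizer (P : Set G)) := Fintype.ofFinite _
  have hfun : restrictTo (Subgroup.centralizer (P : Set G)) (orbAvg P e T)
      = (Nat.card T : ℂ)⁻¹ • ∑ x : Subgroup.normalizer (P : Set G),
          Cfsg.blockCoeff (conjIrr (Subgroup.centralizer (P : Set G))
            ⟨(x : G), normalizer_le_normalizer_centralizer P x.2⟩ '' e) := by
    funext c
    rw [restrictTo_apply, orbAvg_eq, Pi.smul_apply, smul_eq_mul, Finset.sum_apply]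
    congr 1
    apply Finset.sum_congr rfl
    intro x _
    rw [blockCoeff_image_conjIrr, subgroupBlockCoeff_eq_extZ]
    have hmem : (x : G)⁻¹ * (c : G) * (x : G) ∈ Subgroup.centralizer (P : Set G) := by
      have := conj_mem_centralizer_of_mem_normalizer P
        ((Subgroup.normalizer (P : Set G)).inv_mem x.2) c.2
      simpa using this
    rw [extendByZero_apply_mem _ _ hmem]
    apply congrArg
    apply Subtype.ext
    rw [normalizerMonoidHom_inv_coe]
  rw [hfun, omega_smul, omega_sum]
  have hterm : ∀ x : Subgroup.normalizer (P : Set G),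
      omega (ξ₀ : _ → ℂ) (Cfsg.blockCoeff (conjIrr (Subgroup.centralizer (P : Set G))
            ⟨(x : G), normalizer_le_normalizer_centralizer P x.2⟩ '' e))
        = if (x : G) ∈ T then 1 else 0 := by
    intro x
    rw [omega_blockCoeff]
    by_cases hx : (x : G) ∈ T
    · rw [if_pos hx, if_pos]
      obtain ⟨hu, hsub⟩ := (stabilizesBlock_iff _ e (x : G)).mp ((hT _).mp hx).2
      have := image_conjIrr_eq_of_stabilizes _ e (x : G) hu hsub
      rw [this]
      exact hξ₀
    · rw [if_neg hx, if_neg]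
      intro hmem
      apply hx
      rw [hT]
      refine ⟨x.2, ?_⟩
      rw [stabilizesBlock_iff]
      refine ⟨normalizer_le_normalizer_centralizer P x.2, ?_⟩
      have hb := isPBlock_image_conjIrr (Subgroup.centralizer (P : Set G))
        ⟨(x : G), normalizer_le_normalizer_centralizer P x.2⟩ he
      rw [eq_blockOf_of_mem hM hb hmem, ← eq_blockOf_of_mem hM he hξ₀]
  rw [Finset.sum_congr rfl (fun x _ => hterm x), Finset.sum_boole]
  have hcard : (Finset.univ.filter
      (fun x : Subgroup.normalizer (P : Set G) => (x : G) ∈ T)).card = Nat.card T := by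
    rw [← card_subgroupOf_stab P e T hT, Nat.card_eq_fintype_card, Fintype.card_subtype]
    rfl
  rw [hcard]
  exact inv_mul_cancel₀ (card_ne_zero_of_subgroup T)

end OrbAvg

section Stab

variable {G : Type*} [Group G] [Finite G]

/-- the stabilizer in `N_G(P)` of a set `e` of irreducible characters of `C_G(P)` -/
noncomputable def stabSubgroup (P : Subgroup G)
    (e : Set (Cfsg.IrrCharacter (Subgroup.centralizer (P : Set G)))) : Subgroup G where
  carrier := {x | x ∈ Subgroup.normalizer (P : Set G) ∧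
    Cfsg.StabilizesBlock (Subgroup.centralizer (P : Set G)) e x}
  one_mem' := by
    refine ⟨Subgroup.one_mem _, ?_⟩
    rw [stabilizesBlock_iff]
    refine ⟨Subgroup.one_mem _, ?_⟩
    have : (⟨(1 : G), Subgroup.one_mem _⟩ :
        Subgroup.normalizer ((Subgroup.centralizer (P : Set G) : Subgroup G) : Set G)) = 1 := rfl
    rw [this]
    rintro _ ⟨χ, hχ, rfl⟩
    rw [conjIrr_one]
    exact hχ
  mul_mem' := by
    rintro x y ⟨hx, hxs⟩ ⟨hy, hys⟩
    refine ⟨Subgroup.mul_mem _ hx hy, ?_⟩
    rw [stabilizesBlock_iff] at hxs hys ⊢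
    obtain ⟨hux, hsx⟩ := hxs
    obtain ⟨huy, hsy⟩ := hys
    refine ⟨Subgroup.mul_mem _ hux huy, ?_⟩
    have : (⟨x * y, Subgroup.mul_mem _ hux huy⟩ :
        Subgroup.normalizer ((Subgroup.centralizer (P : Set G) : Subgroup G) : Set G))
        = ⟨x, hux⟩ * ⟨y, huy⟩ := rfl
    rw [this]
    rintro _ ⟨χ, hχ, rfl⟩
    rw [conjIrr_mul]
    apply hsx
    exact ⟨_, hsy ⟨χ, hχ, rfl⟩, rfl⟩
  inv_mem' := by
    rintro x ⟨hx, hxs⟩
    refine ⟨Subgroup.inv_mem _ hx, ?_⟩
    rw [stabilizesBlock_iff] at hxs ⊢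
    obtain ⟨hux, hsx⟩ := hxs
    refine ⟨Subgroup.inv_mem _ hux, ?_⟩
    have heq := image_conjIrr_eq_of_stabilizes _ e x hux hsx
    have : (⟨x⁻¹, Subgroup.inv_mem _ hux⟩ :
        Subgroup.normalizer ((Subgroup.centralizer (P : Set G) : Subgroup G) : Set G))
        = (⟨x, hux⟩ : Subgroup.normalizer
            ((Subgroup.centralizer (P : Set G) : Subgroup G) : Set G))⁻¹ := rfl
    rw [this]
    rintro _ ⟨χ, hχ, rfl⟩
    rw [← heq] at hχ
    obtain ⟨ψ, hψ, rfl⟩ := hχ
    rw [conjIrr_inv_conjIrr]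
    exact hψ

theorem mem_stabSubgroup (P : Subgroup G)
    (e : Set (Cfsg.IrrCharacter (Subgroup.centralizer (P : Set G)))) (x : G) :
    x ∈ stabSubgroup P e ↔ x ∈ Subgroup.normalizer (P : Set G) ∧
      Cfsg.StabilizesBlock (Subgroup.centralizer (P : Set G)) e x := Iff.rfl

end Stab

section Main

variable {G : Type*} [Group G] [Fintype G] {p : ℕ} {M : Ideal Cfsg.AlgInt}

/-- **Central characters through a Brauer pair**: if `(P, e)` is a Brauer pair of `B`, then for
`χ ∈ B`, `ξ ∈ e` and every local-integral class function `a`, `ω_ξ (Br_P a) ≡ ω_χ a`. -/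
theorem omega_restrict_sub_omega_of_isBrauerPairOf [Fact p.Prime] (hM : Cfsg.IsPModular p M)
    (B : Set (Cfsg.IrrCharacter G)) (P : Subgroup G)
    (e : Set (Cfsg.IrrCharacter (Subgroup.centralizer (P : Set G))))
    [Fintype (Subgroup.centralizer (P : Set G))]
    (hBP : Cfsg.IsBrauerPairOf p M B P e) (χ : Cfsg.IrrCharacter G) (hχ : χ ∈ B)
    (ξ : Cfsg.IrrCharacter (Subgroup.centralizer (P : Set G))) (hξ : ξ ∈ e)
    (a : G → ℂ) (ha : IsRCF M a) :
    Cfsg.MemLocalIdeal M
      (omega (ξ : _ → ℂ) (restrictTo (Subgroup.centralizer (P : Set G)) a)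
        - omega (χ : G → ℂ) a) := by
  classical
  obtain ⟨⟨hP, he⟩, hB, hone⟩ := hBP
  have hξ1 : ξ.1 1 ≠ 0 := Cfsg.Agent.Lib.Helper25.irr_one_ne_zero ξ.2
  obtain ⟨B', hB', hΛB', hΛ⟩ := exists_block_of_functional hM
    (fun a : G → ℂ => omega (ξ : _ → ℂ) (restrictTo (Subgroup.centralizer (P : Set G)) a))
    (fun a b => by simp only [restrictTo_add, omega_add])
    (fun c a => by simp only [restrictTo_smul, omega_smul])
    (fun a ha => omega_memLocalRing hM ξ _ (restrictTo_isClassFunction _ _ ha.1)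
      (fun c => ha.2 _))
    (fun a b ha hb => omega_restrict_conv hM P hP a b ha.2 hb.2
      (fun u _ g => ha.1 g u) (fun u _ g => hb.1 g u)
      (restrictTo_isClassFunction _ _ ha.1) (restrictTo_isClassFunction _ _ hb.1)
      (restrictTo_isClassFunction _ _ (conv_isClassFunction _ _ ha.1 hb.1)) ξ)
    (by
      show omega (ξ : _ → ℂ) (restrictTo (Subgroup.centralizer (P : Set G)) deltaOne) = 1
      rw [restrictTo_deltaOne, omega_deltaOne _ hξ1])
  have hBB' : B' = B := by
    by_contra hne
    obtain ⟨χ', hχ'⟩ := isPBlock_nonempty hM hB'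
    have hχ'B : χ' ∉ B := fun h =>
      Set.disjoint_left.mp (disjoint_of_isPBlock_of_ne hM hB' hB hne) hχ' h
    have h1 : Cfsg.MemLocalIdeal M
        (omega (ξ : _ → ℂ) (restrictTo (Subgroup.centralizer (P : Set G)) (Cfsg.blockCoeff B))
          - omega (χ' : G → ℂ) (Cfsg.blockCoeff B)) :=
      hΛ χ' hχ' (Cfsg.blockCoeff B) (IsRCF.blockCoeff hM hB)
    rw [omega_blockCoeff, if_neg hχ'B, sub_zero] at h1
    have h2 := hone ξ hξ
    rw [brauerOmega_eq_omega] at h2
    have h3 := memLocalIdeal_sub hM h1 h2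
    rw [sub_sub_cancel] at h3
    exact not_memLocalIdeal_one hM h3
  rw [hBB'] at hΛ
  exact hΛ χ hχ a ha

variable (P : Subgroup G) (e : Set (Cfsg.IrrCharacter (Subgroup.centralizer (P : Set G))))
  (T : Subgroup G)
  (hT : ∀ x : G, x ∈ T ↔ x ∈ Subgroup.normalizer (P : Set G) ∧
    Cfsg.StabilizesBlock (Subgroup.centralizer (P : Set G)) e x)

include hT in
/-- for a maximal pair, the orbit average is supported modulo the local ideal on elements `l`
such that `P` is a maximal `p`-subgroup of `C_G(l)` -/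
theorem maxIn_of_orbAvg [Fact p.Prime] (hM : Cfsg.IsPModular p M) (B : Set (Cfsg.IrrCharacter G))
    (hmax : Cfsg.IsMaximalBrauerPair p M B P e) (l : G)
    (hl : l ∈ Subgroup.centralizer (P : Set G))
    (h : ¬ Cfsg.MemLocalIdeal M (orbAvg P e T l)) : MaxIn p P l := by
  have he : Cfsg.IsPBlock M e := hmax.1.1.2
  have hP : IsPGroup p P := hmax.1.1.1
  refine ⟨?_, ?_⟩
  · intro u hu
    rw [Subgroup.mem_centralizer_iff]
    intro y hy
    rw [Set.mem_singleton_iff] at hy
    subst hy
    exact (Subgroup.mem_centralizer_iff.mp hl u hu).symm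
  · intro S hS hPS hSl hSH
    obtain ⟨x, hxH, hxS, hxl⟩ := exists_conj_of_orbAvg P e T hT hM he S hS hSH l hSl h
    -- R = x⁻¹ S x
    have hxinv : x⁻¹ ∈ Subgroup.normalizer (P : Set G) := Subgroup.inv_mem _ hxH
    have hRdef : ∀ r : G, r ∈ S.map (MulAut.conj x⁻¹).toMonoidHom ↔ x * r * x⁻¹ ∈ S := by
      intro r
      have := mem_map_conj_iff S x⁻¹ r
      rw [inv_inv] at this
      exact this
    have hRP : S.map (MulAut.conj x⁻¹).toMonoidHom = P := by
      apply eq_of_isMaximalBrauerPair hM B P e hmax _ (hS.map _)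
      · intro u hu
        rw [hRdef]
        apply hPS
        exact (Subgroup.mem_normalizer_iff.mp hxH u).mp hu
      · intro r hr
        rw [hRdef] at hr
        have := hxS _ hr
        have e1 : x⁻¹ * (x * r * x⁻¹) * x = r := by group
        rw [e1] at this
        exact ((hT r).mp this).1
      · intro r hr
        rw [hRdef] at hr
        have := hxS _ hr
        have e1 : x⁻¹ * (x * r * x⁻¹) * x = r := by group
        rw [e1] at this
        exact ((hT r).mp this).2
      · show x⁻¹ * l * x ∈ Subgroup.centralizer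
          ((S.map (MulAut.conj x⁻¹).toMonoidHom : Subgroup G) : Set G)
        rw [Subgroup.mem_centralizer_iff]
        intro r hr
        have hr' : x * r * x⁻¹ ∈ S := (hRdef r).mp hr
        have h1 : l * (x * r * x⁻¹) = (x * r * x⁻¹) * l :=
          (Subgroup.mem_centralizer_iff.mp (hSl hr')) l (Set.mem_singleton l)
        calc r * (x⁻¹ * l * x) = x⁻¹ * ((x * r * x⁻¹) * l) * x := by group
          _ = x⁻¹ * (l * (x * r * x⁻¹)) * x := by rw [h1]
          _ = x⁻¹ * l * x * r := by group
      · exact hxl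
    apply le_antisymm _ hPS
    intro s hs
    have h1 : x⁻¹ * s * x ∈ S.map (MulAut.conj x⁻¹).toMonoidHom := by
      rw [hRdef]
      have e1 : x * (x⁻¹ * s * x) * x⁻¹ = s := by group
      rw [e1]; exact hs
    rw [hRP] at h1
    have h2 := (Subgroup.mem_normalizer_iff.mp hxH (x⁻¹ * s * x)).mp h1
    have e2 : x * (x⁻¹ * s * x) * x⁻¹ = s := by group
    rw [e2] at h2
    exact h2

include hT in
/-- for a maximal pair, the orbit average takes congruent values at `G`-conjugate elements of
`C_G(P)` -/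
theorem orbAvg_sub_memLocalIdeal_of_isConj [Fact p.Prime] (hM : Cfsg.IsPModular p M)
    (B : Set (Cfsg.IrrCharacter G)) (hmax : Cfsg.IsMaximalBrauerPair p M B P e) (c c' : G)
    (hc : c ∈ Subgroup.centralizer (P : Set G)) (hc' : c' ∈ Subgroup.centralizer (P : Set G))
    (hconj : IsConj c c') :
    Cfsg.MemLocalIdeal M (orbAvg P e T c - orbAvg P e T c') := by
  have hP : IsPGroup p P := hmax.1.1.1
  have hPc : ∀ {l : G}, l ∈ Subgroup.centralizer (P : Set G) →
      P ≤ Subgroup.centralizer ({l} : Set G) := by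
    intro l hl u hu
    rw [Subgroup.mem_centralizer_iff]
    intro y hy
    rw [Set.mem_singleton_iff] at hy
    subst hy
    exact (Subgroup.mem_centralizer_iff.mp hl u hu).symm
  have key : ∀ a b : G, a ∈ Subgroup.centralizer (P : Set G) →
      b ∈ Subgroup.centralizer (P : Set G) → IsConj a b →
      ¬ Cfsg.MemLocalIdeal M (orbAvg P e T a) → orbAvg P e T b = orbAvg P e T a := by
    intro a b ha hb hab hna
    have hmaxIn := maxIn_of_orbAvg P e T hT hM B hmax a ha hna
    obtain ⟨y, hy⟩ := isConj_iff.mp hab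
    obtain ⟨n, hn, hnb⟩ := exists_normalizer_conj hP (hPc ha)
      (fun S hS hPS hSa => hmaxIn.sylow S hS hPS hSa) y (by rw [hy]; exact hPc hb)
    rw [← hy, ← hnb]
    exact orbAvg_conj P e T n hn a
  by_cases h1 : Cfsg.MemLocalIdeal M (orbAvg P e T c)
  · by_cases h2 : Cfsg.MemLocalIdeal M (orbAvg P e T c')
    · exact memLocalIdeal_sub hM h1 h2
    · rw [key c' c hc' hc hconj.symm h2, sub_self]
      exact memLocalIdeal_zero hM
  · rw [key c c' hc hc' hconj h1, sub_self]
    exact memLocalIdeal_zero hM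

/-- the orbit average transported to conjugacy classes of `G` -/
noncomputable def fusedCls (κ : ConjClasses G) : ℂ := by
  classical
  exact if h : ∃ c : Subgroup.centralizer (P : Set G), ConjClasses.mk (c : G) = κ then
    orbAvg P e T ((Classical.choose h : Subgroup.centralizer (P : Set G)) : G) else 0

/-- a class function of `G` agreeing with the orbit average on `C_G(P)` up to fusion -/
noncomputable def fusedFn (g : G) : ℂ := fusedCls P e T (ConjClasses.mk g)

theorem fusedFn_isClassFunction : Cfsg.IsClassFunction G (fusedFn P e T) := by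
  intro g x
  unfold fusedFn
  apply congrArg
  rw [ConjClasses.mk_eq_mk_iff_isConj]
  exact (isConj_iff.mpr ⟨x, rfl⟩).symm

theorem fusedFn_spec (g : G) :
    (∃ c : Subgroup.centralizer (P : Set G), IsConj (c : G) g ∧
      fusedFn P e T g = orbAvg P e T (c : G)) ∨
    (fusedFn P e T g = 0 ∧ ∀ c : Subgroup.centralizer (P : Set G), ¬ IsConj (c : G) g) := by
  classical
  unfold fusedFn fusedCls
  by_cases h : ∃ c : Subgroup.centralizer (P : Set G), ConjClasses.mk (c : G) = ConjClasses.mk g
  · left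
    refine ⟨Classical.choose h, ?_, ?_⟩
    · exact ConjClasses.mk_eq_mk_iff_isConj.mp (Classical.choose_spec h)
    · rw [dif_pos h]
  · right
    refine ⟨by rw [dif_neg h], ?_⟩
    intro c hc
    exact h ⟨c, ConjClasses.mk_eq_mk_iff_isConj.mpr hc⟩

include hT in
theorem fusedFn_memLocalRing (hM : Cfsg.IsPModular p M) (he : Cfsg.IsPBlock M e) (g : G) :
    Cfsg.MemLocalRing M (fusedFn P e T g) := by
  rcases fusedFn_spec P e T g with ⟨c, _, hc⟩ | ⟨h0, _⟩
  · rw [hc]; exact orbAvg_memLocalRing P e T hT hM he _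
  · rw [h0]; exact memLocalRing_zero hM

include hT in
theorem fusedFn_sub_orbAvg_memLocalIdeal [Fact p.Prime] (hM : Cfsg.IsPModular p M)
    (B : Set (Cfsg.IrrCharacter G)) (hmax : Cfsg.IsMaximalBrauerPair p M B P e)
    (c : Subgroup.centralizer (P : Set G)) :
    Cfsg.MemLocalIdeal M (fusedFn P e T (c : G) - orbAvg P e T (c : G)) := by
  rcases fusedFn_spec P e T (c : G) with ⟨c₀, hconj, hc₀⟩ | ⟨_, hno⟩
  · rw [hc₀]
    exact orbAvg_sub_memLocalIdeal_of_isConj P e T hT hM B hmax _ _ c₀.2 c.2 hconj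
  · exact absurd (IsConj.refl _) (hno c)

/-- **The subgroup of a maximal Brauer pair is a defect group.** -/
theorem isDefectGroup_of_isMaximalBrauerPair [Fact p.Prime] (hM : Cfsg.IsPModular p M)
    (B : Set (Cfsg.IrrCharacter G)) (hmax : Cfsg.IsMaximalBrauerPair p M B P e) :
    Cfsg.IsDefectGroup p M B P := by
  classical
  haveI : Fintype (Subgroup.centralizer (P : Set G)) := Fintype.ofFinite _
  have hBP := hmax.1
  obtain ⟨⟨hP, he⟩, hB, hone⟩ := hBP
  have hT := mem_stabSubgroup P e
  obtain ⟨χ, hχ⟩ := isPBlock_nonempty hM hB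
  obtain ⟨ξ₀, hξ₀⟩ := isPBlock_nonempty hM he
  -- the class function
  have haR : IsRCF M (fusedFn P e (stabSubgroup P e)) :=
    ⟨fusedFn_isClassFunction P e _, fusedFn_memLocalRing P e _ hT hM he⟩
  have h1 := omega_restrict_sub_omega_of_isBrauerPairOf hM B P e hmax.1 χ hχ ξ₀ hξ₀ _ haR
  have h2 : Cfsg.MemLocalIdeal M
      (omega (ξ₀ : _ → ℂ) (restrictTo (Subgroup.centralizer (P : Set G))
          (fusedFn P e (stabSubgroup P e)))
        - omega (ξ₀ : _ → ℂ) (restrictTo (Subgroup.centralizer (P : Set G))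
          (orbAvg P e (stabSubgroup P e)))) := by
    rw [← omega_sub]
    apply omega_memLocalIdeal_of_coeff hM ξ₀
    · exact isClassFunction_sub (restrictTo_isClassFunction _ _ haR.1)
        (restrictTo_orbAvg_isClassFunction P e _)
    · intro c
      exact fusedFn_sub_orbAvg_memLocalIdeal P e _ hT hM B hmax c
  rw [omega_restrictTo_orbAvg P e _ hT hM he ξ₀ hξ₀] at h2
  have h3 : ¬ Cfsg.MemLocalIdeal M (omega (χ : G → ℂ) (fusedFn P e (stabSubgroup P e))) := by
    intro hcon
    have h4 := memLocalIdeal_add hM (memLocalIdeal_sub hM h2 h1) hcon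
    have e1 : omega (ξ₀ : _ → ℂ) (restrictTo (Subgroup.centralizer (P : Set G))
          (fusedFn P e (stabSubgroup P e))) - 1
        - (omega (ξ₀ : _ → ℂ) (restrictTo (Subgroup.centralizer (P : Set G))
          (fusedFn P e (stabSubgroup P e))) - omega (χ : G → ℂ) (fusedFn P e (stabSubgroup P e)))
        + omega (χ : G → ℂ) (fusedFn P e (stabSubgroup P e))
        = 2 * omega (χ : G → ℂ) (fusedFn P e (stabSubgroup P e)) - 1 := by ring
    rw [e1] at h4
    have h5 : Cfsg.MemLocalIdeal M (2 * omega (χ : G → ℂ) (fusedFn P e (stabSubgroup P e))) :=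
      memLocalIdeal_mul_left hM (memLocalRing_natCast hM 2) hcon
    have h6 := memLocalIdeal_sub hM h5 h4
    rw [sub_sub_cancel] at h6
    exact not_memLocalIdeal_one hM h6
  obtain ⟨g, hga, hgω⟩ := exists_not_memLocalIdeal_of_omega hM χ _ haR.1 haR.2 h3
  -- the element l
  obtain ⟨l, hlg, hl⟩ : ∃ l : Subgroup.centralizer (P : Set G), IsConj (l : G) g ∧
      fusedFn P e (stabSubgroup P e) g = orbAvg P e (stabSubgroup P e) (l : G) := by
    rcases fusedFn_spec P e (stabSubgroup P e) g with h | ⟨h0, _⟩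
    · exact h
    · exfalso
      apply hga
      rw [h0]
      exact memLocalIdeal_zero hM
  rw [hl] at hga
  have hmaxIn := maxIn_of_orbAvg P e _ hT hM B hmax (l : G) l.2 hga
  have hlω : ¬ Cfsg.MemLocalIdeal M (Cfsg.centralChar (χ : G → ℂ) (l : G)) := by
    obtain ⟨y, hy⟩ := isConj_iff.mp hlg
    rw [← hy, centralChar_isClassFunction _ (IrrCharacter.isClassFunction χ)] at hgω
    exact hgω
  -- P is a Sylow subgroup of C_G(l)
  obtain ⟨Ql, hQl⟩ := exists_sylow_map_eq hP hmaxIn.1
    (fun S hS hPS hSl => hmaxIn.sylow S hS hPS hSl)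
  -- a defect class of B
  obtain ⟨k, hk⟩ := exists_isDefectClass hM B hB
  have hmm := minmax hM B hB (l : G) k Ql χ hχ hlω hk.2.1
  rw [hQl] at hmm
  obtain ⟨x, Qk, hQk⟩ := hmm
  -- P is contained in a conjugate of the defect group
  have hex : ∃ g₀ : G, g₀ ∈ Subgroup.centralizer (P : Set G) ∧
      ¬ Cfsg.MemLocalIdeal M (Cfsg.blockCoeff B g₀) := by
    by_contra hcon
    push Not at hcon
    have h7 := hone ξ₀ hξ₀
    rw [brauerOmega_eq_omega] at h7
    have h8 : Cfsg.MemLocalIdeal M (omega (ξ₀ : _ → ℂ)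
        (restrictTo (Subgroup.centralizer (P : Set G)) (Cfsg.blockCoeff B))) :=
      omega_memLocalIdeal_of_coeff hM ξ₀ _
        (restrictTo_isClassFunction _ _ (blockCoeff_isClassFunction B))
        (fun c => hcon (c : G) c.2)
    have h9 := memLocalIdeal_sub hM h8 h7
    rw [sub_sub_cancel] at h9
    exact not_memLocalIdeal_one hM h9
  obtain ⟨g₀, hg₀P, hg₀B⟩ := hex
  have hmm2 := minmax hM B hB k g₀ Qk χ hχ (hk.2.2 χ hχ) hg₀B
  have hPg₀ : P ≤ Subgroup.centralizer ({g₀} : Set G) := by
    intro u hu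
    rw [Subgroup.mem_centralizer_iff]
    intro y hy
    rw [Set.mem_singleton_iff] at hy
    subst hy
    exact (Subgroup.mem_centralizer_iff.mp hg₀P u hu).symm
  obtain ⟨z, hz⟩ := hmm2.exists_le P hP hPg₀
  -- cardinalities
  set D := (Qk : Subgroup (Subgroup.centralizer ({k} : Set G))).map
    (Subgroup.centralizer ({k} : Set G)).subtype with hD
  have hcard1 : Nat.card P ≤ Nat.card D := by
    have := Subgroup.card_le_of_le hz
    rwa [Subgroup.card_map_of_injective (MulEquiv.injective _)] at this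
  have hDeq : D = P.map (MulAut.conj x).toMonoidHom := by
    apply Subgroup.eq_of_le_of_card_ge hQk
    rw [Subgroup.card_map_of_injective (MulEquiv.injective _)]
    exact hcard1
  have hDcard : Nat.card D = p ^ (Nat.card (Subgroup.centralizer ({k} : Set G))).factorization p := by
    rw [hD, Subgroup.card_subtype]
    exact Qk.card_eq_multiplicity
  -- P centralizes x⁻¹ k x
  have hk' : Cfsg.IsDefectClass M B (x⁻¹ * k * x⁻¹⁻¹) := isDefectClass_conj hk x⁻¹
  apply isDefectGroup_of_le_centralizer hk' P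
  · intro u hu
    have h10 : x * u * x⁻¹ ∈ D := by
      rw [hDeq]
      exact ⟨u, hu, rfl⟩
    have h11 : x * u * x⁻¹ ∈ Subgroup.centralizer ({k} : Set G) := by
      rw [hD] at h10
      obtain ⟨v, _, hv⟩ := h10
      rw [← hv]
      exact v.2
    rw [Subgroup.mem_centralizer_iff] at h11 ⊢
    intro y hy
    rw [Set.mem_singleton_iff] at hy
    subst hy
    have h12 := h11 k (Set.mem_singleton k)
    calc x⁻¹ * k * x⁻¹⁻¹ * u = x⁻¹ * (k * (x * u * x⁻¹)) * x := by group
      _ = x⁻¹ * ((x * u * x⁻¹) * k) * x := by rw [h12]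
      _ = u * (x⁻¹ * k * x⁻¹⁻¹) := by group
  · have h13 : Nat.card P = Nat.card D := by
      rw [hDeq, Subgroup.card_map_of_injective (MulEquiv.injective _)]
    rw [h13, hDcard,
      card_centralizer_eq_of_isConj (isConj_iff.mpr ⟨x⁻¹, rfl⟩ : IsConj k (x⁻¹ * k * x⁻¹⁻¹))]

end Main

end Cfsg.Agent.Lib.Helper24
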