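import Mathlib
import Cfsg.Prelude.Def_Blocks
import Cfsg.Prelude.Def_BlockRank
import Cfsg.Prelude.Def_BrauerPairs
import Cfsg.Agent.Lib.Helper7.PPart
import Cfsg.Agent.Lib.Helper24.BlockRegular
import Cfsg.Agent.Lib.Helper24.FrobSchur
import Cfsg.Agent.Lib.Helper24.MaxPairs

/-!
# The principal block and Brauer's third main theorem for Brauer pairs (helper24 library)

* `not_dvd_card_pRegular`: the number of `p`-regular elements of a finite group is prime to `p`.
* `sum_pRegularPart_eq_zero`: an irreducible character outside the principal block sums to zero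
  over the `p`-regular elements.
* `isBrauerPairOf_principal`, `eq_principalBlock_of_isBrauerPairOf`: `(Q, e)` is a Brauer pair of
  the principal block iff `e` is the principal block of `C_G(Q)`.
-/

set_option autoImplicit false

namespace Cfsg.Agent.Lib.Helper24

open Cfsg.Agent.Lib.Helper2 Cfsg.Agent.Lib.Helper7
open scoped ComplexConjugate

section PReg

variable {G : Type*} [Group G]

/-- conjugation action of a subgroup on the `p`-regular elements -/
def conjActionReg (p : ℕ) (P : Subgroup G) : MulAction P {g : G // ¬ p ∣ orderOf g} where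
  smul u x := ⟨(u : G) * x.1 * (u : G)⁻¹, by rw [orderOf_conj_eq]; exact x.2⟩
  one_smul x := by
    apply Subtype.ext
    show ((1 : P) : G) * x.1 * ((1 : P) : G)⁻¹ = x.1
    simp
  mul_smul u v x := by
    apply Subtype.ext
    show ((u * v : P) : G) * x.1 * ((u * v : P) : G)⁻¹ = u * (v * x.1 * (v : G)⁻¹) * (u : G)⁻¹
    rw [Subgroup.coe_mul]; group

theorem isPow_orderOf_of_mem_sylow {K : Type*} [Group K] {p : ℕ} [Fact p.Prime] (S : Sylow p K)
    {z : K} (hz : z ∈ (S : Subgroup K)) : ∃ k : ℕ, orderOf z = p ^ k := by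
  obtain ⟨k, hk⟩ := IsPGroup.iff_orderOf.mp S.isPGroup' ⟨z, hz⟩
  exact ⟨k, by rw [← hk, Subgroup.orderOf_mk]⟩

/-- if all `p`-elements are central, the number of `p`-regular elements is prime to `p` -/
theorem not_dvd_card_pRegular_of_central {K : Type*} [Group K] [Finite K] (p : ℕ) [Fact p.Prime]
    (hc : ∀ x : K, (∃ k : ℕ, orderOf x = p ^ k) → x ∈ Subgroup.center K) :
    ¬ p ∣ Nat.card {s : K // ¬ p ∣ orderOf s} := by
  classical
  have S : Sylow p K := default
  have hScen : ∀ z ∈ (S : Subgroup K), z ∈ Subgroup.center K := fun z hz =>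
    hc z (isPow_orderOf_of_mem_sylow S hz)
  haveI hSn : (S : Subgroup K).Normal := ⟨fun n hn g => by
    have h := Subgroup.mem_center_iff.mp (hScen n hn) g
    rw [h, mul_inv_cancel_right]
    exact hn⟩
  have hmemS : ∀ x : K, (∃ k : ℕ, orderOf x = p ^ k) → x ∈ (S : Subgroup K) := by
    rintro x ⟨k, hk⟩
    have hx : IsPGroup p (Subgroup.zpowers x) :=
      IsPGroup.of_card (n := k) (by rw [Nat.card_zpowers, hk])
    obtain ⟨S', hS'⟩ := hx.exists_le_sylow
    obtain ⟨g, hg⟩ := MulAction.exists_smul_eq K S S'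
    rw [Sylow.smul_eq_of_normal] at hg
    rw [hg]
    exact hS' (Subgroup.mem_zpowers x)
  let Φ : ↥(S : Subgroup K) × {s : K // ¬ p ∣ orderOf s} → K := fun a => (a.1 : K) * a.2.1
  have hbij : Function.Bijective Φ := by
    constructor
    · rintro ⟨z, s⟩ ⟨z', s'⟩ h
      have h' : (z : K) * s.1 = (z' : K) * s'.1 := h
      have hz : Cfsg.IsPPart p ((z : K) * s.1) (z : K) :=
        ⟨s.1, rfl,
          (show Commute (z : K) s.1 from (Subgroup.mem_center_iff.mp (hScen _ z.2) s.1).symm),
          isPow_orderOf_of_mem_sylow S z.2, s.2⟩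
      have hz' : Cfsg.IsPPart p ((z : K) * s.1) (z' : K) :=
        ⟨s'.1, h'.symm,
          (show Commute (z' : K) s'.1 from (Subgroup.mem_center_iff.mp (hScen _ z'.2) s'.1).symm),
          isPow_orderOf_of_mem_sylow S z'.2, s'.2⟩
      have e1 : (z : K) = z' := isPPart_unique p hz hz'
      have e2 : s.1 = s'.1 := by
        rw [e1] at h'
        exact mul_left_cancel h'
      exact Prod.ext (Subtype.ext e1) (Subtype.ext e2)
    · intro g
      obtain ⟨x, y, hxy, _, hx, hy⟩ := exists_isPPart p g (isOfFinOrder_of_finite g)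
      exact ⟨(⟨x, hmemS x hx⟩, ⟨y, hy⟩), hxy⟩
  have hcard : Nat.card K
      = Nat.card (S : Subgroup K) * Nat.card {s : K // ¬ p ∣ orderOf s} := by
    rw [← Nat.card_prod]
    exact (Nat.card_congr (Equiv.ofBijective Φ hbij)).symm
  intro hdvd
  have h1 := (S : Subgroup K).card_mul_index
  have h2 : (S : Subgroup K).index = Nat.card {s : K // ¬ p ∣ orderOf s} := by
    have hpos : 0 < Nat.card (S : Subgroup K) := Nat.card_pos
    apply Nat.eq_of_mul_eq_mul_left hpos
    rw [h1, hcard]
  apply S.not_dvd_index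
  rw [h2]
  exact hdvd

/-- **The number of `p`-regular elements of a finite group is prime to `p`.** -/
theorem not_dvd_card_pRegular (G : Type*) [Group G] [Finite G] (p : ℕ) [Fact p.Prime] :
    ¬ p ∣ Nat.card {g : G // ¬ p ∣ orderOf g} := by
  classical
  have P : Sylow p G := default
  letI := conjActionReg p (P : Subgroup G)
  have hmod := P.isPGroup'.card_modEq_card_fixedPoints {g : G // ¬ p ∣ orderOf g}
  intro hdvd
  have hfix : p ∣ Nat.card
      (MulAction.fixedPoints (P : Subgroup G) {g : G // ¬ p ∣ orderOf g}) :=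
    (Nat.modEq_zero_iff_dvd).mp (hmod.symm.trans ((Nat.modEq_zero_iff_dvd).mpr hdvd))
  have hK : ∀ x : Subgroup.centralizer ((P : Subgroup G) : Set G),
      (∃ k : ℕ, orderOf x = p ^ k) →
        x ∈ Subgroup.center (Subgroup.centralizer ((P : Subgroup G) : Set G)) := by
    rintro ⟨x, hx⟩ ⟨k, hk⟩
    rw [Subgroup.orderOf_mk] at hk
    have hxP : x ∈ (P : Subgroup G) := by
      have hz : IsPGroup p (Subgroup.zpowers x) :=
        IsPGroup.of_card (n := k) (by rw [Nat.card_zpowers, hk])
      have hnorm : Subgroup.zpowers x ≤ Subgroup.normalizer ((P : Subgroup G) : Set G) := by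
        rw [Subgroup.zpowers_le]
        exact Subgroup.centralizer_le_normalizer _ hx
      have hsup : IsPGroup p ((P : Subgroup G) ⊔ Subgroup.zpowers x : Subgroup G) :=
        P.isPGroup'.to_sup_of_normal_left' hz hnorm
      have hmax := P.is_maximal' hsup le_sup_left
      have hle : Subgroup.zpowers x ≤ (P : Subgroup G) :=
        le_trans le_sup_right (le_of_eq hmax)
      exact hle (Subgroup.mem_zpowers x)
    rw [Subgroup.mem_center_iff]
    rintro ⟨g, hg⟩
    apply Subtype.ext
    show g * x = x * g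
    exact (Subgroup.mem_centralizer_iff.mp hg x hxP).symm
  have hequiv : Nat.card (MulAction.fixedPoints (P : Subgroup G) {g : G // ¬ p ∣ orderOf g})
      = Nat.card {s : Subgroup.centralizer ((P : Subgroup G) : Set G) // ¬ p ∣ orderOf s} := by
    apply Nat.card_congr
    refine
      { toFun := fun x => ⟨⟨x.1.1, ?_⟩, ?_⟩
        invFun := fun s => ⟨⟨s.1.1, ?_⟩, ?_⟩
        left_inv := fun x => Subtype.ext (Subtype.ext rfl)
        right_inv := fun s => Subtype.ext (Subtype.ext rfl) }
    · rw [Subgroup.mem_centralizer_iff]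
      intro h hh
      have h1 := congrArg Subtype.val (MulAction.mem_fixedPoints.mp x.2 ⟨h, hh⟩)
      have h2 : h * x.1.1 * h⁻¹ = x.1.1 := h1
      exact mul_inv_eq_iff_eq_mul.mp h2
    · rw [Subgroup.orderOf_mk]
      exact x.1.2
    · rw [Subgroup.orderOf_coe]
      exact s.2
    · rw [MulAction.mem_fixedPoints]
      intro u
      apply Subtype.ext
      show (u : G) * s.1.1 * (u : G)⁻¹ = s.1.1
      rw [Subgroup.mem_centralizer_iff.mp s.1.2 u u.2, mul_inv_cancel_right]
  rw [hequiv] at hfix
  exact not_dvd_card_pRegular_of_central p hK hfix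

end PReg

section Block

variable {G : Type*} [Group G] [Fintype G] {p : ℕ} {M : Ideal Cfsg.AlgInt}

omit [Fintype G] in
theorem trivIrr_mem_principalBlock (hM : Cfsg.IsPModular p M) :
    trivIrr G ∈ Cfsg.principalBlock M G := by
  show Cfsg.SameBlock M (fun _ : G => (1 : ℂ)) (trivIrr G : G → ℂ)
  exact sameBlock_refl hM _

omit [Fintype G] in
theorem isPBlock_principalBlock : Cfsg.IsPBlock M (Cfsg.principalBlock M G) :=
  ⟨trivIrr G, rfl⟩

/-- an irreducible character outside the principal block sums to zero over the `p`-regular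
elements -/
theorem sum_pRegularPart_eq_zero (hM : Cfsg.IsPModular p M) (ξ : Cfsg.IrrCharacter G)
    (hξ : ξ ∉ Cfsg.principalBlock M G) : ∑ y : G, Cfsg.pRegularPart p (ξ : G → ℂ) y = 0 := by
  have h := sum_pRegularPart_mul_conj_eq_zero hM (Cfsg.principalBlock M G)
    isPBlock_principalBlock ξ hξ (trivIrr G) (trivIrr_mem_principalBlock hM)
  simp only [trivIrr_apply, map_one, mul_one] at h
  exact h

theorem sum_regInd : ∑ g : G, Cfsg.pRegularPart p (fun _ : G => (1 : ℂ)) g
    = (Nat.card {g : G // ¬ p ∣ orderOf g} : ℂ) := by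
  classical
  have h1 : ∀ g : G, Cfsg.pRegularPart p (fun _ : G => (1 : ℂ)) g
      = if ¬ p ∣ orderOf g then 1 else 0 := by
    intro g
    by_cases h : p ∣ orderOf g
    · rw [pRegularPart_of_singular _ h, if_neg (not_not.mpr h)]
    · rw [pRegularPart_of_regular _ h, if_pos h]
  simp_rw [h1]
  rw [Finset.sum_boole, Nat.card_eq_fintype_card, Fintype.card_subtype]

omit [Fintype G] in
theorem isClassFunction_regInd :
    Cfsg.IsClassFunction G (Cfsg.pRegularPart p (fun _ : G => (1 : ℂ))) :=
  pRegularPart_isClassFunction _ (fun _ _ => rfl)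

theorem isRCF_regInd (hM : Cfsg.IsPModular p M) :
    IsRCF M (Cfsg.pRegularPart p (fun _ : G => (1 : ℂ))) := by
  refine ⟨isClassFunction_regInd, fun g => ?_⟩
  by_cases h : p ∣ orderOf g
  · rw [pRegularPart_of_singular _ h]
    exact memLocalRing_zero hM
  · rw [pRegularPart_of_regular _ h]
    exact memLocalRing_one hM

omit [Fintype G] in
theorem restrictTo_regInd (H : Subgroup G) :
    restrictTo H (Cfsg.pRegularPart p (fun _ : G => (1 : ℂ)))
      = Cfsg.pRegularPart p (fun _ : H => (1 : ℂ)) := by
  funext c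
  rw [restrictTo_apply]
  by_cases h : p ∣ orderOf (c : G)
  · rw [pRegularPart_of_singular _ h, pRegularPart_of_singular _ (by rwa [Subgroup.orderOf_coe] at h)]
  · rw [pRegularPart_of_regular _ h, pRegularPart_of_regular _ (by rwa [Subgroup.orderOf_coe] at h)]

theorem omega_regInd (ξ : G → ℂ) :
    omega ξ (Cfsg.pRegularPart p (fun _ : G => (1 : ℂ)))
      = (∑ y : G, Cfsg.pRegularPart p ξ y) / ξ 1 := by
  unfold omega
  congr 1
  apply Finset.sum_congr rfl
  intro y _
  by_cases h : p ∣ orderOf y
  · rw [pRegularPart_of_singular _ h, pRegularPart_of_singular _ h, zero_mul]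
  · rw [pRegularPart_of_regular _ h, pRegularPart_of_regular _ h, one_mul]

/-- a character whose central character does not vanish on the sum of the `p`-regular elements
lies in the principal block -/
theorem mem_principalBlock_of_omega_regInd_ne_zero (hM : Cfsg.IsPModular p M)
    (ξ : Cfsg.IrrCharacter G)
    (h : omega (ξ : G → ℂ) (Cfsg.pRegularPart p (fun _ : G => (1 : ℂ))) ≠ 0) :
    ξ ∈ Cfsg.principalBlock M G := by
  by_contra hcon
  rw [omega_regInd, sum_pRegularPart_eq_zero hM ξ hcon, zero_div] at h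
  exact h rfl

theorem omega_trivIrr (a : G → ℂ) : omega (trivIrr G : G → ℂ) a = ∑ g, a g := by
  unfold omega
  simp only [trivIrr_apply, mul_one, div_one]

/-- for a function invariant under a `p`-subgroup `Q`, the sum over `G` is congruent to the sum
over `C_G(Q)` -/
theorem sum_sub_sum_centralizer_memLocalIdeal (hM : Cfsg.IsPModular p M) (Q : Subgroup G)
    [Fintype (Subgroup.centralizer (Q : Set G))] (hQ : IsPGroup p Q) (a : G → ℂ)
    (ha : ∀ g, Cfsg.MemLocalRing M (a g)) (haQ : ∀ u ∈ Q, ∀ g, a (u * g * u⁻¹) = a g) :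
    Cfsg.MemLocalIdeal M
      (∑ g : G, a g - ∑ c : Subgroup.centralizer (Q : Set G), a c) := by
  have h := conv_restrict_sub_memLocalIdeal hM Q hQ a (fun _ => 1) ha
    (fun _ => memLocalRing_one hM) haQ (fun _ _ _ => rfl) 1
  rw [conv_apply, conv_apply] at h
  simpa [restrictTo_apply] using h

/-- **Third main theorem, easy direction**: the principal block of `C_G(Q)` gives a Brauer pair
of the principal block of `G`. -/
theorem isBrauerPairOf_principal [Fact p.Prime] (hM : Cfsg.IsPModular p M) (Q : Subgroup G)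
    (hQ : IsPGroup p Q) :
    Cfsg.IsBrauerPairOf p M (Cfsg.principalBlock M G) Q
      (Cfsg.principalBlock M (Subgroup.centralizer (Q : Set G))) := by
  classical
  haveI : Fintype (Subgroup.centralizer (Q : Set G)) := Fintype.ofFinite _
  refine ⟨⟨hQ, isPBlock_principalBlock⟩, isPBlock_principalBlock, ?_⟩
  intro ξ hξ
  rw [brauerOmega_eq_omega]
  have hRCF : IsRCF M (Cfsg.blockCoeff (Cfsg.principalBlock M G)) :=
    IsRCF.blockCoeff hM isPBlock_principalBlock
  have h1 := omega_sub_memLocalIdeal hM ξ (trivIrr _) (sameBlock_symm hM hξ)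
    (restrictTo _ (Cfsg.blockCoeff (Cfsg.principalBlock M G)))
    (restrictTo_isClassFunction _ _ hRCF.1) (fun c => hRCF.2 _)
  rw [omega_trivIrr] at h1
  have h2 := sum_sub_sum_centralizer_memLocalIdeal hM Q hQ
    (Cfsg.blockCoeff (Cfsg.principalBlock M G)) hRCF.2 (fun u _ g => hRCF.1 g u)
  have h3 : ∑ g : G, Cfsg.blockCoeff (Cfsg.principalBlock M G) g = 1 := by
    rw [← omega_trivIrr, omega_blockCoeff, if_pos (trivIrr_mem_principalBlock hM)]
  rw [h3] at h2
  have h4 := memLocalIdeal_add hM h1 (memLocalIdeal_neg h2)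
  have e : omega (ξ : _ → ℂ)
        (restrictTo (Subgroup.centralizer (Q : Set G))
          (Cfsg.blockCoeff (Cfsg.principalBlock M G))) - 1
      = (omega (ξ : _ → ℂ)
        (restrictTo (Subgroup.centralizer (Q : Set G))
          (Cfsg.blockCoeff (Cfsg.principalBlock M G)))
        - ∑ g : Subgroup.centralizer (Q : Set G),
            restrictTo (Subgroup.centralizer (Q : Set G))
              (Cfsg.blockCoeff (Cfsg.principalBlock M G)) g)
        + -(1 - ∑ c : Subgroup.centralizer (Q : Set G),
            Cfsg.blockCoeff (Cfsg.principalBlock M G) c) := by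
    have : ∑ g : Subgroup.centralizer (Q : Set G),
        restrictTo (Subgroup.centralizer (Q : Set G))
          (Cfsg.blockCoeff (Cfsg.principalBlock M G)) g
        = ∑ c : Subgroup.centralizer (Q : Set G),
            Cfsg.blockCoeff (Cfsg.principalBlock M G) c := rfl
    rw [this]
    ring
  rw [e]
  exact h4

/-- **Third main theorem, hard direction**: a Brauer pair of the principal block of `G` carries
the principal block of `C_G(Q)`. -/
theorem eq_principalBlock_of_isBrauerPairOf [Fact p.Prime] (hM : Cfsg.IsPModular p M)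
    (Q : Subgroup G) (e : Set (Cfsg.IrrCharacter (Subgroup.centralizer (Q : Set G))))
    (h : Cfsg.IsBrauerPairOf p M (Cfsg.principalBlock M G) Q e) :
    e = Cfsg.principalBlock M (Subgroup.centralizer (Q : Set G)) := by
  classical
  haveI : Fintype (Subgroup.centralizer (Q : Set G)) := Fintype.ofFinite _
  obtain ⟨ξ, hξ⟩ := isPBlock_nonempty hM h.1.2
  have hA := omega_restrict_sub_omega_of_isBrauerPairOf hM _ Q e h (trivIrr G)
    (trivIrr_mem_principalBlock hM) ξ hξ (Cfsg.pRegularPart p (fun _ : G => (1 : ℂ)))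
    (isRCF_regInd hM)
  rw [omega_trivIrr, sum_regInd, restrictTo_regInd] at hA
  have hn : ¬ Cfsg.MemLocalIdeal M ((Nat.card {g : G // ¬ p ∣ orderOf g} : ℕ) : ℂ) := by
    rw [memLocalIdeal_natCast_iff hM]
    exact not_dvd_card_pRegular G p
  have hne : omega ξ.1 (Cfsg.pRegularPart p
      (fun _ : Subgroup.centralizer (Q : Set G) => (1 : ℂ))) ≠ 0 := by
    intro h0
    rw [h0, zero_sub] at hA
    apply hn
    have := memLocalIdeal_neg hA
    rwa [neg_neg] at this
  have hmem : ξ ∈ Cfsg.principalBlock M _ :=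
    mem_principalBlock_of_omega_regInd_ne_zero hM ξ hne
  rw [eq_blockOf_of_mem hM h.1.2 hξ]
  exact (eq_blockOf_of_mem hM isPBlock_principalBlock hmem).symm

end Block

end Cfsg.Agent.Lib.Helper24
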