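import Mathlib
import Cfsg.Prelude.Def_Blocks
import Cfsg.Prelude.Def_BlockLocal
import Cfsg.Prelude.Def_BrauerPairs
import Cfsg.Agent.Lib.Helper24.ConjIrr
import Cfsg.Agent.Lib.Helper7.FirstMain

/-!
# Transport of irreducible characters and blocks along group isomorphisms (helper24 library)

* `irrMap φ`: the bijection `IrrCharacter K → IrrCharacter K'` induced by `φ : K ≃* K'`, with
  compatibility lemmas for central characters, blocks and block idempotents.
* `conjCent Q x : C_G(Q) ≃* C_G(x Q x⁻¹)` and `conjBlock_eq_image`.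
-/

set_option autoImplicit false

namespace Cfsg.Agent.Lib.Helper24

open Cfsg.Agent.Lib.Helper2 Cfsg.Agent.Lib.Helper7
open scoped ComplexConjugate

section IrrMap

variable {K K' : Type*} [Group K] [Group K'] [Finite K] [Finite K'] (φ : K ≃* K')

/-- transport of an irreducible character along a group isomorphism -/
noncomputable def irrMap (ξ : Cfsg.IrrCharacter K) : Cfsg.IrrCharacter K' :=
  ⟨ξ.1 ∘ φ.symm, Cfsg.Agent.Lib.Helper11.isIrrCharacter_comp_equiv φ.symm ξ.2⟩

omit [Finite K'] in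
theorem irrMap_apply (ξ : Cfsg.IrrCharacter K) (k' : K') :
    (irrMap φ ξ).1 k' = ξ.1 (φ.symm k') := rfl

omit [Finite K'] in
theorem irrMap_apply_apply (ξ : Cfsg.IrrCharacter K) (k : K) :
    (irrMap φ ξ).1 (φ k) = ξ.1 k := by
  rw [irrMap_apply, MulEquiv.symm_apply_apply]

theorem irrMap_symm_irrMap (ξ : Cfsg.IrrCharacter K) : irrMap φ.symm (irrMap φ ξ) = ξ := by
  apply Subtype.ext
  funext k
  rw [irrMap_apply, irrMap_apply, MulEquiv.symm_symm, MulEquiv.symm_apply_apply]

theorem irrMap_irrMap_symm (ξ' : Cfsg.IrrCharacter K') : irrMap φ (irrMap φ.symm ξ') = ξ' := by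
  apply Subtype.ext
  funext k
  rw [irrMap_apply, irrMap_apply, MulEquiv.symm_symm, MulEquiv.apply_symm_apply]

theorem irrMap_injective : Function.Injective (irrMap φ) := fun a b h => by
  rw [← irrMap_symm_irrMap φ a, h, irrMap_symm_irrMap]

omit [Finite K'] in
theorem index_centralizer_mulEquiv (k : K) :
    (Subgroup.centralizer ({φ k} : Set K')).index
      = (Subgroup.centralizer ({k} : Set K)).index := by
  have h : Subgroup.centralizer ({k} : Set K)
      = (Subgroup.centralizer ({φ k} : Set K')).comap (φ : K →* K') := by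
    ext x
    simp only [Subgroup.mem_centralizer_iff, Set.mem_singleton_iff, forall_eq, Subgroup.mem_comap,
      MonoidHom.coe_coe]
    constructor
    · intro h
      rw [← map_mul, ← map_mul, h]
    · intro h
      rw [← map_mul, ← map_mul] at h
      exact φ.injective h
  rw [h, Subgroup.index_comap_of_surjective _ φ.surjective]

omit [Finite K'] in
theorem centralChar_irrMap (ξ : Cfsg.IrrCharacter K) (k' : K') :
    Cfsg.centralChar (irrMap φ ξ).1 k' = Cfsg.centralChar ξ.1 (φ.symm k') := by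
  have hidx : (Subgroup.centralizer ({k'} : Set K')).index
      = (Subgroup.centralizer ({φ.symm k'} : Set K)).index := by
    have := index_centralizer_mulEquiv φ (φ.symm k')
    rwa [MulEquiv.apply_symm_apply] at this
  unfold Cfsg.centralChar
  rw [irrMap_apply, irrMap_apply, map_one, hidx]

omit [Finite K'] in
theorem sameBlock_irrMap {M : Ideal Cfsg.AlgInt} (χ ψ : Cfsg.IrrCharacter K)
    (h : Cfsg.SameBlock M χ.1 ψ.1) : Cfsg.SameBlock M (irrMap φ χ).1 (irrMap φ ψ).1 := by
  intro k'
  rw [centralChar_irrMap, centralChar_irrMap]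
  exact h _

theorem blockOf_irrMap {M : Ideal Cfsg.AlgInt} (χ : Cfsg.IrrCharacter K) :
    Cfsg.blockOf M (irrMap φ χ).1 = irrMap φ '' Cfsg.blockOf M χ.1 := by
  ext ψ
  constructor
  · intro h
    refine ⟨irrMap φ.symm ψ, ?_, irrMap_irrMap_symm φ ψ⟩
    have := sameBlock_irrMap φ.symm _ _ h
    rwa [irrMap_symm_irrMap] at this
  · rintro ⟨ψ', h, rfl⟩
    exact sameBlock_irrMap φ _ _ h

theorem isPBlock_image_irrMap {M : Ideal Cfsg.AlgInt} {f : Set (Cfsg.IrrCharacter K)}
    (hf : Cfsg.IsPBlock M f) : Cfsg.IsPBlock M (irrMap φ '' f) := by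
  obtain ⟨χ, rfl⟩ := hf
  exact ⟨irrMap φ χ, (blockOf_irrMap φ χ).symm⟩

theorem blockCoeff_image_irrMap (f : Set (Cfsg.IrrCharacter K)) (k' : K') :
    Cfsg.blockCoeff (irrMap φ '' f) k' = Cfsg.blockCoeff f (φ.symm k') := by
  have hc : Nat.card K' = Nat.card K := Nat.card_congr φ.symm.toEquiv
  unfold Cfsg.blockCoeff
  rw [finsum_mem_image (irrMap_injective φ).injOn, hc]
  congr 1
  apply finsum_congr
  intro χ
  apply finsum_congr
  intro _
  rw [irrMap_apply, irrMap_apply, map_one]

end IrrMap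

section ConjCent

variable {G : Type*} [Group G]

theorem mem_centralizer_map_conj_iff (Q : Subgroup G) (x h : G) :
    h ∈ Subgroup.centralizer ((Q.map (MulAut.conj x).toMonoidHom : Subgroup G) : Set G)
      ↔ x⁻¹ * h * x ∈ Subgroup.centralizer (Q : Set G) := by
  rw [Subgroup.mem_centralizer_iff, Subgroup.mem_centralizer_iff]
  constructor
  · intro hh q hq
    have hq' : x * q * x⁻¹ ∈ ((Q.map (MulAut.conj x).toMonoidHom : Subgroup G) : Set G) := by
      rw [SetLike.mem_coe, mem_map_conj_iff]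
      have e : x⁻¹ * (x * q * x⁻¹) * x = q := by group
      rw [e]
      exact hq
    have := hh (x * q * x⁻¹) hq'
    calc q * (x⁻¹ * h * x) = x⁻¹ * ((x * q * x⁻¹) * h) * x := by group
      _ = x⁻¹ * (h * (x * q * x⁻¹)) * x := by rw [this]
      _ = x⁻¹ * h * x * q := by group
  · intro hh q' hq'
    rw [SetLike.mem_coe, mem_map_conj_iff] at hq'
    have := hh _ hq'
    calc q' * h = x * ((x⁻¹ * q' * x) * (x⁻¹ * h * x)) * x⁻¹ := by group
      _ = x * ((x⁻¹ * h * x) * (x⁻¹ * q' * x)) * x⁻¹ := by rw [this]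
      _ = h * q' := by group

/-- conjugation by `x` as an isomorphism `C_G(Q) ≃* C_G(x Q x⁻¹)` -/
def conjCent (Q : Subgroup G) (x : G) :
    Subgroup.centralizer (Q : Set G) ≃*
      Subgroup.centralizer ((Q.map (MulAut.conj x).toMonoidHom : Subgroup G) : Set G) where
  toFun c := ⟨x * c * x⁻¹, by
    rw [mem_centralizer_map_conj_iff]
    have e : x⁻¹ * (x * (c : G) * x⁻¹) * x = c := by group
    rw [e]
    exact c.2⟩
  invFun c' := ⟨x⁻¹ * c' * x, (mem_centralizer_map_conj_iff Q x c').mp c'.2⟩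
  left_inv c := Subtype.ext (by
    show x⁻¹ * (x * (c : G) * x⁻¹) * x = c
    group)
  right_inv c' := Subtype.ext (by
    show x * (x⁻¹ * (c' : G) * x) * x⁻¹ = c'
    group)
  map_mul' a b := Subtype.ext (by
    show x * ((a * b : Subgroup.centralizer (Q : Set G)) : G) * x⁻¹
      = (x * (a : G) * x⁻¹) * (x * (b : G) * x⁻¹)
    rw [Subgroup.coe_mul]
    group)

theorem conjCent_coe (Q : Subgroup G) (x : G) (c : Subgroup.centralizer (Q : Set G)) :
    ((conjCent Q x c : Subgroup.centralizer
      ((Q.map (MulAut.conj x).toMonoidHom : Subgroup G) : Set G)) : G) = x * c * x⁻¹ := rfl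

theorem conjCent_symm_coe (Q : Subgroup G) (x : G)
    (c' : Subgroup.centralizer ((Q.map (MulAut.conj x).toMonoidHom : Subgroup G) : Set G)) :
    (((conjCent Q x).symm c' : Subgroup.centralizer (Q : Set G)) : G) = x⁻¹ * c' * x := rfl

theorem conjBlock_eq_image [Finite G] (Q : Subgroup G) (x : G)
    (f : Set (Cfsg.IrrCharacter (Subgroup.centralizer (Q : Set G)))) :
    Cfsg.conjBlock Q x f = irrMap (conjCent Q x) '' f := by
  ext ξ'
  constructor
  · intro h
    obtain ⟨ξ, hξ, h⟩ := h
    refine ⟨ξ, hξ, ?_⟩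
    apply Subtype.ext
    funext c'
    rw [irrMap_apply]
    refine (h ((conjCent Q x).symm c') c' ?_).symm
    rw [conjCent_symm_coe]
    group
  · rintro ⟨ξ, hξ, rfl⟩
    refine ⟨ξ, hξ, ?_⟩
    intro c c' hcc
    show (irrMap (conjCent Q x) ξ).1 c' = ξ.1 c
    rw [irrMap_apply]
    apply congrArg
    apply Subtype.ext
    rw [conjCent_symm_coe, hcc]
    group

end ConjCent

end Cfsg.Agent.Lib.Helper24
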