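import Mathlib
import Cfsg.Prelude.Def_Blocks
import Cfsg.Prelude.Def_BlockLocal
import Cfsg.Prelude.Def_BrauerPairs
import Cfsg.Agent.Lib.Helper24.Transport
import Cfsg.Agent.Lib.Helper24.MaxPairs
import Cfsg.Agent.Lib.Helper7.DefectOrder

/-!
# Conjugation of Brauer pairs (helper24 library)

* `isBrauerPairOf_conj`, `isNormalSubpair_conj`, `subpairLE_conj`: conjugation by an element of
  `G` preserves Brauer pairs of a block, normal inclusion and inclusion.
* `conjIdx`, `conjIdx_eq_of`, `conjIdx_mul`, `conjIdx_normalizer`: bookkeeping on the index type.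
* `isDefectGroup_conj`: the defect groups of a block are conjugate.
* `exists_isMaximalBrauerPair_ge`: every Brauer pair of `B` lies below a maximal one.
* `exists_conjIrr_of_isMaximalBrauerPair`: the Brauer pairs of `B` on a defect group are
  conjugate under its normalizer.
* `exists_conj_subpairLE`: every Brauer pair of `B` is conjugate to a subpair of a given maximal
  Brauer pair.
-/

set_option autoImplicit false

namespace Cfsg.Agent.Lib.Helper24

open Cfsg.Agent.Lib.Helper2 Cfsg.Agent.Lib.Helper7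
open scoped ComplexConjugate

section ConjPairs

variable {G : Type*} [Group G] [Fintype G] {p : ℕ} {M : Ideal Cfsg.AlgInt}

theorem brauerOmega_conj (Q : Subgroup G) (x : G) (β β' : G → ℂ)
    (hβ : ∀ g, β' (x * g * x⁻¹) = β g)
    (ξ : Cfsg.IrrCharacter (Subgroup.centralizer (Q : Set G))) :
    Cfsg.brauerOmega (Q.map (MulAut.conj x).toMonoidHom) β' (irrMap (conjCent Q x) ξ).1
      = Cfsg.brauerOmega Q β ξ.1 := by
  unfold Cfsg.brauerOmega
  have h1 := finsum_comp_equiv (conjCent Q x).toEquiv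
    (f := fun c' : Subgroup.centralizer
        ((Q.map (MulAut.conj x).toMonoidHom : Subgroup G) : Set G) =>
      β' c' * (irrMap (conjCent Q x) ξ).1 c' / (irrMap (conjCent Q x) ξ).1 1)
  rw [← h1]
  apply finsum_congr
  intro c
  show β' ((conjCent Q x c : Subgroup.centralizer
      ((Q.map (MulAut.conj x).toMonoidHom : Subgroup G) : Set G)) : G)
      * (irrMap (conjCent Q x) ξ).1 (conjCent Q x c) / (irrMap (conjCent Q x) ξ).1 1
    = β c * ξ.1 c / ξ.1 1
  rw [irrMap_apply_apply, conjCent_coe, hβ, irrMap_apply, map_one]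

theorem isBrauerPairOf_conj {B : Set (Cfsg.IrrCharacter G)} {Q : Subgroup G}
    {f : Set (Cfsg.IrrCharacter (Subgroup.centralizer (Q : Set G)))} (x : G)
    (h : Cfsg.IsBrauerPairOf p M B Q f) :
    Cfsg.IsBrauerPairOf p M B (Q.map (MulAut.conj x).toMonoidHom) (Cfsg.conjBlock Q x f) := by
  obtain ⟨⟨hQ, hf⟩, hB, hone⟩ := h
  rw [conjBlock_eq_image]
  refine ⟨⟨hQ.map _, isPBlock_image_irrMap _ hf⟩, hB, ?_⟩
  rintro _ ⟨ξ, hξ, rfl⟩
  rw [brauerOmega_conj Q x (Cfsg.blockCoeff B) (Cfsg.blockCoeff B)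
    (fun g => blockCoeff_isClassFunction B g x) ξ]
  exact hone ξ hξ

theorem stabilizesBlock_conj (Q : Subgroup G) (x : G)
    (f : Set (Cfsg.IrrCharacter (Subgroup.centralizer (Q : Set G)))) (v : G)
    (h : Cfsg.StabilizesBlock (Subgroup.centralizer (Q : Set G)) f v) :
    Cfsg.StabilizesBlock
      (Subgroup.centralizer ((Q.map (MulAut.conj x).toMonoidHom : Subgroup G) : Set G))
      (Cfsg.conjBlock Q x f) (x * v * x⁻¹) := by
  obtain ⟨hv, hstab⟩ := h
  rw [conjBlock_eq_image]
  refine ⟨?_, ?_⟩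
  · rw [Subgroup.mem_normalizer_iff]
    intro h
    have hv' := Subgroup.mem_normalizer_iff.mp hv (x⁻¹ * h * x)
    show h ∈ Subgroup.centralizer ((Q.map (MulAut.conj x).toMonoidHom : Subgroup G) : Set G)
      ↔ x * v * x⁻¹ * h * (x * v * x⁻¹)⁻¹
        ∈ Subgroup.centralizer ((Q.map (MulAut.conj x).toMonoidHom : Subgroup G) : Set G)
    rw [mem_centralizer_map_conj_iff, mem_centralizer_map_conj_iff]
    have e : x⁻¹ * (x * v * x⁻¹ * h * (x * v * x⁻¹)⁻¹) * x = v * (x⁻¹ * h * x) * v⁻¹ := by group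
    rw [e]
    exact hv'
  · rintro _ ⟨χ, hχ, rfl⟩
    obtain ⟨χ₂, hχ₂, hconj⟩ := hstab χ hχ
    refine ⟨irrMap (conjCent Q x) χ₂, ⟨χ₂, hχ₂, rfl⟩, ?_⟩
    intro k k' hk
    show (irrMap (conjCent Q x) χ₂).1 k' = (irrMap (conjCent Q x) χ).1 k
    rw [irrMap_apply, irrMap_apply]
    apply hconj
    rw [conjCent_symm_coe, conjCent_symm_coe, hk]
    group

theorem subgroupBlockCoeff_conjBlock (Q : Subgroup G) (x : G)
    (f : Set (Cfsg.IrrCharacter (Subgroup.centralizer (Q : Set G)))) (g : G) :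
    Cfsg.subgroupBlockCoeff
        (Subgroup.centralizer ((Q.map (MulAut.conj x).toMonoidHom : Subgroup G) : Set G))
        (Cfsg.conjBlock Q x f) (x * g * x⁻¹)
      = Cfsg.subgroupBlockCoeff (Subgroup.centralizer (Q : Set G)) f g := by
  rw [conjBlock_eq_image, subgroupBlockCoeff_eq_extZ, subgroupBlockCoeff_eq_extZ]
  by_cases hg : g ∈ Subgroup.centralizer (Q : Set G)
  · have hg' : x * g * x⁻¹ ∈ Subgroup.centralizer
        ((Q.map (MulAut.conj x).toMonoidHom : Subgroup G) : Set G) := (conjCent Q x ⟨g, hg⟩).2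
    rw [extendByZero_apply_mem _ _ hg', extendByZero_apply_mem _ _ hg, blockCoeff_image_irrMap]
    apply congrArg
    apply Subtype.ext
    rw [conjCent_symm_coe]
    show x⁻¹ * (x * g * x⁻¹) * x = g
    group
  · have hg' : x * g * x⁻¹ ∉ Subgroup.centralizer
        ((Q.map (MulAut.conj x).toMonoidHom : Subgroup G) : Set G) := by
      rw [mem_centralizer_map_conj_iff]
      have e : x⁻¹ * (x * g * x⁻¹) * x = g := by group
      rw [e]
      exact hg
    rw [extendByZero_apply_not_mem _ _ hg', extendByZero_apply_not_mem _ _ hg]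

theorem isNormalSubpair_conj (x : G) {Q P : Subgroup G}
    {f : Set (Cfsg.IrrCharacter (Subgroup.centralizer (Q : Set G)))}
    {e : Set (Cfsg.IrrCharacter (Subgroup.centralizer (P : Set G)))}
    (h : Cfsg.IsNormalSubpair p M Q f P e) :
    Cfsg.IsNormalSubpair p M (Q.map (MulAut.conj x).toMonoidHom) (Cfsg.conjBlock Q x f)
      (P.map (MulAut.conj x).toMonoidHom) (Cfsg.conjBlock P x e) := by
  obtain ⟨⟨hQ, hf⟩, ⟨hP, he⟩, hQP, hPN, hstab, hone⟩ := h
  refine ⟨⟨hQ.map _, ?_⟩, ⟨hP.map _, ?_⟩, Subgroup.map_mono hQP, ?_, ?_, ?_⟩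
  · rw [conjBlock_eq_image]
    exact isPBlock_image_irrMap _ hf
  · rw [conjBlock_eq_image]
    exact isPBlock_image_irrMap _ he
  · intro w hw
    rw [mem_map_conj_iff] at hw
    have hn := Subgroup.mem_normalizer_iff.mp (hPN hw)
    rw [Subgroup.mem_normalizer_iff]
    intro h
    have hn' := hn (x⁻¹ * h * x)
    show h ∈ Q.map (MulAut.conj x).toMonoidHom ↔ w * h * w⁻¹ ∈ Q.map (MulAut.conj x).toMonoidHom
    rw [mem_map_conj_iff, mem_map_conj_iff]
    have e1 : x⁻¹ * (w * h * w⁻¹) * x = (x⁻¹ * w * x) * (x⁻¹ * h * x) * (x⁻¹ * w * x)⁻¹ := by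
      group
    rw [e1]
    exact hn'
  · intro w hw
    rw [mem_map_conj_iff] at hw
    have := stabilizesBlock_conj Q x f _ (hstab _ hw)
    have e1 : x * (x⁻¹ * w * x) * x⁻¹ = w := by group
    rwa [e1] at this
  · rw [conjBlock_eq_image P x e]
    rintro _ ⟨ξ, hξ, rfl⟩
    rw [brauerOmega_conj P x (Cfsg.subgroupBlockCoeff (Subgroup.centralizer (Q : Set G)) f)
      (Cfsg.subgroupBlockCoeff
        (Subgroup.centralizer ((Q.map (MulAut.conj x).toMonoidHom : Subgroup G) : Set G))
        (Cfsg.conjBlock Q x f)) (subgroupBlockCoeff_conjBlock Q x f) ξ]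
    exact hone ξ hξ

/-- conjugation on the index type of Brauer pairs -/
def conjIdx (x : G) (a : Cfsg.BrauerPairIdx G) : Cfsg.BrauerPairIdx G :=
  ⟨a.1.map (MulAut.conj x).toMonoidHom, Cfsg.conjBlock a.1 x a.2⟩

theorem subpairLE_conj (x : G) {Q P : Subgroup G}
    {f : Set (Cfsg.IrrCharacter (Subgroup.centralizer (Q : Set G)))}
    {e : Set (Cfsg.IrrCharacter (Subgroup.centralizer (P : Set G)))}
    (h : Cfsg.SubpairLE p M Q f P e) :
    Cfsg.SubpairLE p M (Q.map (MulAut.conj x).toMonoidHom) (Cfsg.conjBlock Q x f)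
      (P.map (MulAut.conj x).toMonoidHom) (Cfsg.conjBlock P x e) := by
  have key : ∀ {a b : Cfsg.BrauerPairIdx G},
      Relation.ReflTransGen (Cfsg.NormalSubpairRel p M) a b →
      Relation.ReflTransGen (Cfsg.NormalSubpairRel p M) (conjIdx x a) (conjIdx x b) := by
    intro a b hab
    induction hab with
    | refl => exact Relation.ReflTransGen.refl
    | tail _ hbc ih => exact Relation.ReflTransGen.tail ih (isNormalSubpair_conj x hbc)
  exact key h

theorem conjIdx_eq_of (x : G) (Q Q' : Subgroup G)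
    (hQ : Q.map (MulAut.conj x).toMonoidHom = Q')
    (f : Set (Cfsg.IrrCharacter (Subgroup.centralizer (Q : Set G))))
    (f' : Set (Cfsg.IrrCharacter (Subgroup.centralizer (Q' : Set G))))
    (hf : ∀ ξ' : Cfsg.IrrCharacter (Subgroup.centralizer (Q' : Set G)), ξ' ∈ f' ↔
      ∃ ξ ∈ f, ∀ (c : Subgroup.centralizer (Q : Set G))
        (c' : Subgroup.centralizer (Q' : Set G)),
        (c' : G) = x * (c : G) * x⁻¹ → ξ'.1 c' = ξ.1 c) :
    conjIdx x ⟨Q, f⟩ = ⟨Q', f'⟩ := by
  subst hQ
  have : f' = Cfsg.conjBlock Q x f := by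
    ext ξ'
    rw [hf]
    rfl
  rw [this]
  rfl

theorem conjIdx_mul (y x : G) (Q : Subgroup G)
    (f : Set (Cfsg.IrrCharacter (Subgroup.centralizer (Q : Set G)))) :
    conjIdx y (conjIdx x ⟨Q, f⟩) = conjIdx (y * x) ⟨Q, f⟩ := by
  apply conjIdx_eq_of y (Q.map (MulAut.conj x).toMonoidHom)
    (Q.map (MulAut.conj (y * x)).toMonoidHom) (map_conj_map_conj Q x y)
    (Cfsg.conjBlock Q x f) (Cfsg.conjBlock Q (y * x) f)
  intro ξ''
  constructor
  · intro h
    obtain ⟨ξ, hξ, h⟩ := h
    refine ⟨irrMap (conjCent Q x) ξ, ?_, ?_⟩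
    · rw [conjBlock_eq_image]
      exact ⟨ξ, hξ, rfl⟩
    · intro c c' hcc
      rw [irrMap_apply]
      apply h
      rw [conjCent_symm_coe, hcc]
      group
  · rintro ⟨ξ', hξ', h⟩
    obtain ⟨ξ, hξ, h₁⟩ := hξ'
    refine ⟨ξ, hξ, ?_⟩
    intro c₀ c' hcc
    rw [h (conjCent Q x c₀) c' (by rw [conjCent_coe, hcc]; group)]
    exact h₁ c₀ (conjCent Q x c₀) rfl

theorem map_conj_eq_of_mem_normalizer (P : Subgroup G) {n : G}
    (hn : n ∈ Subgroup.normalizer (P : Set G)) :
    P.map (MulAut.conj n).toMonoidHom = P := by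
  ext u
  rw [mem_map_conj_iff]
  have h := Subgroup.mem_normalizer_iff.mp hn (n⁻¹ * u * n)
  have e : n * (n⁻¹ * u * n) * n⁻¹ = u := by group
  rw [e] at h
  exact h

theorem conjIdx_normalizer (P : Subgroup G) (n : Subgroup.normalizer (P : Set G))
    (e' : Set (Cfsg.IrrCharacter (Subgroup.centralizer (P : Set G)))) :
    conjIdx (n : G) ⟨P, e'⟩ = ⟨P, conjIrr (Subgroup.centralizer (P : Set G))
      ⟨(n : G), normalizer_le_normalizer_centralizer P n.2⟩ '' e'⟩ := by
  apply conjIdx_eq_of (n : G) P P (map_conj_eq_of_mem_normalizer P n.2)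
  intro ξ'
  constructor
  · rintro ⟨ξ, hξ, rfl⟩
    exact ⟨ξ, hξ, isConjCharOf_conjIrr (Subgroup.centralizer (P : Set G))
      ⟨(n : G), normalizer_le_normalizer_centralizer P n.2⟩ ξ⟩
  · rintro ⟨ξ, hξ, h⟩
    exact ⟨ξ, hξ, (eq_conjIrr_of_isConjCharOf _
      ⟨(n : G), normalizer_le_normalizer_centralizer P n.2⟩ ξ ξ' h).symm⟩

end ConjPairs

section Conjugacy

variable {G : Type*} [Group G] [Fintype G] {p : ℕ} {M : Ideal Cfsg.AlgInt}

/-- **The defect groups of a block are conjugate.** -/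
theorem isDefectGroup_conj [Fact p.Prime] (hM : Cfsg.IsPModular p M)
    (B : Set (Cfsg.IrrCharacter G)) (hB : Cfsg.IsPBlock M B) {D D' : Subgroup G}
    (hD : Cfsg.IsDefectGroup p M B D) (hD' : Cfsg.IsDefectGroup p M B D') :
    ∃ x : G, D' = D.map (MulAut.conj x).toMonoidHom := by
  have hD0 := hD
  obtain ⟨g, hg, Q, rfl⟩ := hD
  obtain ⟨χ, hχ⟩ := isPBlock_nonempty hM hB
  obtain ⟨g', hg', hle', hcard'⟩ := exists_of_isDefectGroup hD'
  have hmm := minmax hM B hB g g' Q χ hχ (hg.2.2 χ hχ) hg'.2.1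
  have hD'p : IsPGroup p D' := IsPGroup.of_card hcard'
  obtain ⟨x, hx⟩ := hmm.exists_le D' hD'p hle'
  refine ⟨x, ?_⟩
  apply Subgroup.eq_of_le_of_card_ge hx
  rw [Subgroup.card_map_of_injective (MulEquiv.injective _),
    card_of_isDefectGroup hM B hB _ hD', card_of_isDefectGroup hM B hB _ hD0]

/-- **Every Brauer pair of `B` lies below a maximal Brauer pair of `B`.** -/
theorem exists_isMaximalBrauerPair_ge (B : Set (Cfsg.IrrCharacter G)) :
    ∀ (n : ℕ) (Q : Subgroup G) (f : Set (Cfsg.IrrCharacter (Subgroup.centralizer (Q : Set G)))),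
      Cfsg.IsBrauerPairOf p M B Q f → Nat.card G - Nat.card Q = n →
      ∃ (R : Subgroup G) (g : Set (Cfsg.IrrCharacter (Subgroup.centralizer (R : Set G)))),
        Cfsg.IsMaximalBrauerPair p M B R g ∧ Cfsg.SubpairLE p M Q f R g := by
  intro n
  induction n using Nat.strong_induction_on with
  | _ n ih =>
    intro Q f hQf hn
    by_cases hmax : Cfsg.IsMaximalBrauerPair p M B Q f
    · exact ⟨Q, f, hmax, Relation.ReflTransGen.refl⟩
    · unfold Cfsg.IsMaximalBrauerPair at hmax
      push Not at hmax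
      obtain ⟨R, g, hRg, hle, hne⟩ := hmax hQf
      have hQR : Q ≤ R := le_of_reflTransGen hle
      have hlt : Nat.card Q < Nat.card R := by
        apply lt_of_le_of_ne (Subgroup.card_le_of_le hQR)
        intro hcard
        exact hne (Subgroup.eq_of_le_of_card_ge hQR (le_of_eq hcard.symm)).symm
      have hRG : Nat.card R ≤ Nat.card G := Subgroup.card_le_card_group R
      obtain ⟨R', g', hmax', hle'⟩ := ih (Nat.card G - Nat.card R) (by omega) R g hRg rfl
      exact ⟨R', g', hmax', Relation.ReflTransGen.trans hle hle'⟩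

/-- the orbit average restricted to `C_G(P)` as a sum of conjugate idempotents -/
theorem restrictTo_orbAvg_eq (P : Subgroup G)
    (e : Set (Cfsg.IrrCharacter (Subgroup.centralizer (P : Set G)))) (T : Subgroup G)
    [Fintype (Subgroup.normalizer (P : Set G))] :
    restrictTo (Subgroup.centralizer (P : Set G)) (orbAvg P e T)
      = (Nat.card T : ℂ)⁻¹ • ∑ x : Subgroup.normalizer (P : Set G),
          Cfsg.blockCoeff (conjIrr (Subgroup.centralizer (P : Set G))
            ⟨(x : G), normalizer_le_normalizer_centralizer P x.2⟩ '' e) := by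
  funext c
  rw [restrictTo_apply, orbAvg_eq, Pi.smul_apply, smul_eq_mul, Finset.sum_apply]
  congr 1
  apply Finset.sum_congr rfl
  intro x _
  rw [blockCoeff_image_conjIrr, subgroupBlockCoeff_eq_extZ]
  have hmem : (x : G)⁻¹ * (c : G) * (x : G) ∈ Subgroup.centralizer (P : Set G) := by
    have := conj_mem_centralizer_of_mem_normalizer P
      ((Subgroup.normalizer (P : Set G)).inv_mem x.2) c.2
    simpa using this
  rw [extendByZero_apply_mem _ _ hmem]
  apply congrArg
  apply Subtype.ext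
  rw [normalizerMonoidHom_inv_coe]

/-- a character with nonzero central character value on the orbit average lies in a conjugate
of `e` -/
theorem exists_mem_conjIrr_of_omega_orbAvg_ne_zero (P : Subgroup G)
    (e : Set (Cfsg.IrrCharacter (Subgroup.centralizer (P : Set G)))) (T : Subgroup G)
    [Fintype (Subgroup.centralizer (P : Set G))]
    (ξ : Cfsg.IrrCharacter (Subgroup.centralizer (P : Set G)))
    (h : omega ξ.1 (restrictTo (Subgroup.centralizer (P : Set G)) (orbAvg P e T)) ≠ 0) :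
    ∃ x : Subgroup.normalizer (P : Set G),
      ξ ∈ conjIrr (Subgroup.centralizer (P : Set G))
        ⟨(x : G), normalizer_le_normalizer_centralizer P x.2⟩ '' e := by
  classical
  haveI : Fintype (Subgroup.normalizer (P : Set G)) := Fintype.ofFinite _
  by_contra hcon
  push Not at hcon
  apply h
  rw [restrictTo_orbAvg_eq, omega_smul, omega_sum, Finset.sum_eq_zero, mul_zero]
  intro x _
  rw [omega_blockCoeff, if_neg (hcon x)]

/-- **Brauer pairs of `B` on a defect group are conjugate under its normalizer.** -/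
theorem exists_conjIrr_of_isMaximalBrauerPair [Fact p.Prime] (hM : Cfsg.IsPModular p M)
    (B : Set (Cfsg.IrrCharacter G)) (P : Subgroup G)
    (e e' : Set (Cfsg.IrrCharacter (Subgroup.centralizer (P : Set G))))
    (hmax : Cfsg.IsMaximalBrauerPair p M B P e) (hBP' : Cfsg.IsBrauerPairOf p M B P e') :
    ∃ n : Subgroup.normalizer (P : Set G),
      e = conjIrr (Subgroup.centralizer (P : Set G))
        ⟨(n : G), normalizer_le_normalizer_centralizer P n.2⟩ '' e' := by
  classical
  haveI : Fintype (Subgroup.centralizer (P : Set G)) := Fintype.ofFinite _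
  obtain ⟨⟨hP, he⟩, hB, hone⟩ := hmax.1
  have he' := hBP'.1.2
  have hT := mem_stabSubgroup P e
  obtain ⟨χ, hχ⟩ := isPBlock_nonempty hM hB
  obtain ⟨ξ₀, hξ₀⟩ := isPBlock_nonempty hM he
  obtain ⟨ξ', hξ'⟩ := isPBlock_nonempty hM he'
  have haR : IsRCF M (fusedFn P e (stabSubgroup P e)) :=
    ⟨fusedFn_isClassFunction P e _, fusedFn_memLocalRing P e _ hT hM he⟩
  have h1 := omega_restrict_sub_omega_of_isBrauerPairOf hM B P e hmax.1 χ hχ ξ₀ hξ₀ _ haR
  have h1' := omega_restrict_sub_omega_of_isBrauerPairOf hM B P e' hBP' χ hχ ξ' hξ' _ haR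
  have h2 : ∀ ξ : Cfsg.IrrCharacter (Subgroup.centralizer (P : Set G)), Cfsg.MemLocalIdeal M
      (omega ξ.1 (restrictTo (Subgroup.centralizer (P : Set G))
          (fusedFn P e (stabSubgroup P e)))
        - omega ξ.1 (restrictTo (Subgroup.centralizer (P : Set G))
          (orbAvg P e (stabSubgroup P e)))) := by
    intro ξ
    rw [← omega_sub]
    apply omega_memLocalIdeal_of_coeff hM ξ
    · exact isClassFunction_sub (restrictTo_isClassFunction _ _ haR.1)
        (restrictTo_orbAvg_isClassFunction P e _)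
    · intro c
      exact fusedFn_sub_orbAvg_memLocalIdeal P e _ hT hM B hmax c
  have h3 := omega_restrictTo_orbAvg P e _ hT hM he ξ₀ hξ₀
  have h4 : Cfsg.MemLocalIdeal M
      (omega ξ'.1 (restrictTo (Subgroup.centralizer (P : Set G))
          (orbAvg P e (stabSubgroup P e))) - 1) := by
    have h5 := memLocalIdeal_add hM
      (memLocalIdeal_sub hM (memLocalIdeal_sub hM h1' (h2 ξ')) h1) (h2 ξ₀)
    rw [h3] at h5
    convert h5 using 1
    ring
  have h5 : omega ξ'.1 (restrictTo (Subgroup.centralizer (P : Set G))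
      (orbAvg P e (stabSubgroup P e))) ≠ 0 := by
    intro h0
    rw [h0, zero_sub] at h4
    apply not_memLocalIdeal_one hM
    have := memLocalIdeal_neg h4
    rwa [neg_neg] at this
  obtain ⟨x, ξ₁, hξ₁, hx⟩ := exists_mem_conjIrr_of_omega_orbAvg_ne_zero P e _ ξ' h5
  refine ⟨x⁻¹, ?_⟩
  have hinv : (⟨((x⁻¹ : Subgroup.normalizer (P : Set G)) : G),
      normalizer_le_normalizer_centralizer P (x⁻¹).2⟩ :
        Subgroup.normalizer ((Subgroup.centralizer (P : Set G) : Subgroup G) : Set G))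
      = (⟨(x : G), normalizer_le_normalizer_centralizer P x.2⟩ :
        Subgroup.normalizer ((Subgroup.centralizer (P : Set G) : Subgroup G) : Set G))⁻¹ := by
    apply Subtype.ext
    simp
  rw [hinv]
  have he'eq : e' = conjIrr (Subgroup.centralizer (P : Set G))
      ⟨(x : G), normalizer_le_normalizer_centralizer P x.2⟩ '' e := by
    rw [eq_blockOf_of_mem hM he' hξ', ← hx, blockOf_conjIrr, ← eq_blockOf_of_mem hM he hξ₁]
  rw [he'eq, Set.image_image]
  simp only [conjIrr_inv_conjIrr, Set.image_id']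

/-- **Every Brauer pair of `B` is conjugate to a subpair of a given maximal Brauer pair.** -/
theorem exists_conj_subpairLE [Fact p.Prime] (hM : Cfsg.IsPModular p M)
    (B : Set (Cfsg.IrrCharacter G)) (P Q : Subgroup G)
    (e : Set (Cfsg.IrrCharacter (Subgroup.centralizer (P : Set G))))
    (f : Set (Cfsg.IrrCharacter (Subgroup.centralizer (Q : Set G))))
    (hmax : Cfsg.IsMaximalBrauerPair p M B P e) (hQf : Cfsg.IsBrauerPairOf p M B Q f) :
    ∃ x : G, Cfsg.SubpairLE p M (Q.map (MulAut.conj x).toMonoidHom) (Cfsg.conjBlock Q x f) P e := by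
  obtain ⟨R, g, hRmax, hle⟩ := exists_isMaximalBrauerPair_ge B _ Q f hQf rfl
  have hB := hmax.1.2.1
  have hDP := isDefectGroup_of_isMaximalBrauerPair P e hM B hmax
  have hDR := isDefectGroup_of_isMaximalBrauerPair R g hM B hRmax
  obtain ⟨y, hy⟩ := isDefectGroup_conj hM B hB hDR hDP
  subst hy
  have hBP' := isBrauerPairOf_conj (B := B) y hRmax.1
  obtain ⟨n, hn⟩ := exists_conjIrr_of_isMaximalBrauerPair hM B _ e _ hmax hBP'
  refine ⟨(n : G) * y, ?_⟩
  have h1 := subpairLE_conj (p := p) (M := M) ((n : G) * y) hle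
  have h2 : conjIdx ((n : G) * y) ⟨R, g⟩
      = (⟨R.map (MulAut.conj y).toMonoidHom, e⟩ : Cfsg.BrauerPairIdx G) := by
    rw [← conjIdx_mul, hn]
    exact conjIdx_normalizer _ n _
  unfold Cfsg.SubpairLE at h1 ⊢
  have h3 : (⟨R.map (MulAut.conj ((n : G) * y)).toMonoidHom,
      Cfsg.conjBlock R ((n : G) * y) g⟩ : Cfsg.BrauerPairIdx G)
      = conjIdx ((n : G) * y) ⟨R, g⟩ := rfl
  rw [h3, h2] at h1
  exact h1

end Conjugacy

end Cfsg.Agent.Lib.Helper24
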