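import Mathlib
import Cfsg.Prelude.Def_Blocks
import Cfsg.Prelude.Def_BlockLocal
import Cfsg.Prelude.Def_BrauerPairs
import Cfsg.Agent.Lib.Helper24.ConjPairs
import Cfsg.Agent.Lib.Helper24.NormalPBlock

/-!
# Brauer pairs inside a centralizer (helper24 library)

* `isDefectGroup_irrMap`: defect groups transport along group isomorphisms.
* `centSub Q S : C_{C_G(Q)}(S) ≃* C_G(Q S)` and `brauerOmega_centSub`.
* `isNormalSubpair_of_isBrauerPairOf_centralizer`: an `f`-Brauer pair `(S, g)` of `C_G(Q)` gives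
  a normal inclusion `(Q, f) ⊴ (Q S, g)` in `G`.
* `isBrauerPairOf_centralizer_of_subpairLE`: if `(Q, f) ≤ (P, e)` then `C_P(Q)` with the block of
  `C_G(Q C_P(Q))` below `(P, e)` is an `f`-Brauer pair of `C_G(Q)`.
* `exists_isDefectGroup_ge_centralizerIn`, `exists_conj_isDefectGroup_centralizerIn`
  (`C_P(Q)` lies in a defect group of `f`, and is one after a suitable conjugation).
-/

set_option autoImplicit false

namespace Cfsg.Agent.Lib.Helper24

open Cfsg.Agent.Lib.Helper2 Cfsg.Agent.Lib.Helper7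
open scoped ComplexConjugate

section TransportDefect

variable {K K' : Type*} [Group K] [Group K'] [Finite K] [Finite K'] (φ : K ≃* K')
  {p : ℕ} {M : Ideal Cfsg.AlgInt}

theorem isDefectClass_irrMap (f : Set (Cfsg.IrrCharacter K)) (g : K)
    (h : Cfsg.IsDefectClass M f g) : Cfsg.IsDefectClass M (irrMap φ '' f) (φ g) := by
  obtain ⟨h1, h2, h3⟩ := h
  have e : Cfsg.blockCoeff (irrMap φ '' f) (φ g) = Cfsg.blockCoeff f g := by
    rw [blockCoeff_image_irrMap, MulEquiv.symm_apply_apply]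
  refine ⟨by rw [e]; exact h1, by rw [e]; exact h2, ?_⟩
  rintro _ ⟨χ, hχ, rfl⟩
  show ¬ Cfsg.MemLocalIdeal M (Cfsg.centralChar (irrMap φ χ).1 (φ g))
  rw [centralChar_irrMap, MulEquiv.symm_apply_apply]
  exact h3 χ hχ

theorem card_centralizer_mulEquiv (g : K) :
    Nat.card (Subgroup.centralizer ({φ g} : Set K')) = Nat.card (Subgroup.centralizer ({g} : Set K)) := by
  have h1 := (Subgroup.centralizer ({g} : Set K)).card_mul_index
  have h2 := (Subgroup.centralizer ({φ g} : Set K')).card_mul_index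
  have hc : Nat.card K' = Nat.card K := Nat.card_congr φ.symm.toEquiv
  rw [index_centralizer_mulEquiv, hc, ← h1] at h2
  have hpos : 0 < (Subgroup.centralizer ({g} : Set K)).index :=
    Nat.pos_of_ne_zero Subgroup.index_ne_zero_of_finite
  exact Nat.eq_of_mul_eq_mul_right hpos h2

theorem isDefectGroup_irrMap [Fact p.Prime] (f : Set (Cfsg.IrrCharacter K)) (D : Subgroup K)
    (h : Cfsg.IsDefectGroup p M f D) :
    Cfsg.IsDefectGroup p M (irrMap φ '' f) (D.map φ.toMonoidHom) := by
  obtain ⟨g, hg, hle, hcard⟩ := exists_of_isDefectGroup h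
  apply isDefectGroup_of_le_centralizer (isDefectClass_irrMap φ f g hg)
  · rintro _ ⟨d, hd, rfl⟩
    rw [Subgroup.mem_centralizer_iff]
    intro y hy
    rw [Set.mem_singleton_iff] at hy
    subst hy
    have := Subgroup.mem_centralizer_iff.mp (hle hd) g (Set.mem_singleton g)
    show φ g * φ d = φ d * φ g
    rw [← map_mul, ← map_mul, this]
  · rw [Subgroup.card_map_of_injective φ.injective, hcard, card_centralizer_mulEquiv]

end TransportDefect

section CentSub

variable {G : Type*} [Group G]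

theorem mem_centralizer_iff_le (R : Subgroup G) (c : G) :
    c ∈ Subgroup.centralizer (R : Set G) ↔ R ≤ Subgroup.centralizer ({c} : Set G) := by
  rw [Subgroup.mem_centralizer_iff]
  constructor
  · intro h r hr
    rw [Subgroup.mem_centralizer_iff]
    intro y hy
    rw [Set.mem_singleton_iff] at hy
    subst hy
    exact (h r hr).symm
  · intro h r hr
    have := Subgroup.mem_centralizer_iff.mp (h hr) c (Set.mem_singleton c)
    exact this.symm

/-- the centralizer of `S ≤ C_G(Q)` inside `C_G(Q)` is the centralizer of `Q S` in `G` -/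
def centSub (Q : Subgroup G) (S : Subgroup (Subgroup.centralizer (Q : Set G))) :
    Subgroup.centralizer (S : Set (Subgroup.centralizer (Q : Set G))) ≃*
      Subgroup.centralizer
        ((Q ⊔ S.map (Subgroup.centralizer (Q : Set G)).subtype : Subgroup G) : Set G) where
  toFun c := ⟨c.1.1, by
    rw [mem_centralizer_iff_le]
    apply sup_le
    · intro q hq
      rw [Subgroup.mem_centralizer_iff]
      intro y hy
      rw [Set.mem_singleton_iff] at hy
      subst hy
      exact (Subgroup.mem_centralizer_iff.mp c.1.2 q hq).symm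
    · rintro _ ⟨s, hs, rfl⟩
      rw [Subgroup.mem_centralizer_iff]
      intro y hy
      rw [Set.mem_singleton_iff] at hy
      subst hy
      have := Subgroup.mem_centralizer_iff.mp c.2 s hs
      exact (congrArg Subtype.val this).symm⟩
  invFun c' := ⟨⟨(c' : G),
      Subgroup.centralizer_le (SetLike.coe_subset_coe.mpr le_sup_left) c'.2⟩, by
    rw [Subgroup.mem_centralizer_iff]
    intro s hs
    apply Subtype.ext
    have hs' : (s : G) ∈ ((Q ⊔ S.map (Subgroup.centralizer (Q : Set G)).subtype : Subgroup G)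
        : Set G) :=
      (le_sup_right : S.map (Subgroup.centralizer (Q : Set G)).subtype ≤ _) ⟨s, hs, rfl⟩
    exact Subgroup.mem_centralizer_iff.mp c'.2 _ hs'⟩
  left_inv c := Subtype.ext (Subtype.ext rfl)
  right_inv c' := Subtype.ext rfl
  map_mul' a b := Subtype.ext rfl

theorem centSub_coe (Q : Subgroup G) (S : Subgroup (Subgroup.centralizer (Q : Set G)))
    (c : Subgroup.centralizer (S : Set (Subgroup.centralizer (Q : Set G)))) :
    ((centSub Q S c : Subgroup.centralizer
      ((Q ⊔ S.map (Subgroup.centralizer (Q : Set G)).subtype : Subgroup G) : Set G)) : G)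
      = c.1.1 := rfl

theorem subgroupBlockCoeff_coe (H : Subgroup G) (f : Set (Cfsg.IrrCharacter H)) (h : H) :
    Cfsg.subgroupBlockCoeff H f (h : G) = Cfsg.blockCoeff f h := by
  rw [subgroupBlockCoeff_eq_extZ, extendByZero_apply_mem _ _ h.2]

theorem brauerOmega_centSub [Finite G] (Q : Subgroup G)
    (S : Subgroup (Subgroup.centralizer (Q : Set G)))
    (β : Subgroup.centralizer (Q : Set G) → ℂ) (βG : G → ℂ)
    (hβ : ∀ h : Subgroup.centralizer (Q : Set G), βG h = β h)
    (ξ' : Cfsg.IrrCharacter (Subgroup.centralizer (S : Set (Subgroup.centralizer (Q : Set G))))) :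
    Cfsg.brauerOmega (Q ⊔ S.map (Subgroup.centralizer (Q : Set G)).subtype) βG
        (irrMap (centSub Q S) ξ').1
      = Cfsg.brauerOmega S β ξ'.1 := by
  unfold Cfsg.brauerOmega
  have h1 := finsum_comp_equiv (centSub Q S).toEquiv
    (f := fun c' : Subgroup.centralizer
        ((Q ⊔ S.map (Subgroup.centralizer (Q : Set G)).subtype : Subgroup G) : Set G) =>
      βG c' * (irrMap (centSub Q S) ξ').1 c' / (irrMap (centSub Q S) ξ').1 1)
  rw [← h1]
  apply finsum_congr
  intro c
  show βG ((centSub Q S c : Subgroup.centralizer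
      ((Q ⊔ S.map (Subgroup.centralizer (Q : Set G)).subtype : Subgroup G) : Set G)) : G)
      * (irrMap (centSub Q S) ξ').1 (centSub Q S c) / (irrMap (centSub Q S) ξ').1 1
    = β c.1 * ξ'.1 c / ξ'.1 1
  rw [irrMap_apply_apply, centSub_coe, hβ, irrMap_apply, map_one]

end CentSub

section Main

variable {G : Type*} [Group G] [Fintype G] {p : ℕ} {M : Ideal Cfsg.AlgInt}

/-- `Q C_G(Q)` stabilizes every set of irreducible characters of `C_G(Q)` -/
theorem sup_centralizer_le_stabSubgroup (Q : Subgroup G)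
    (f : Set (Cfsg.IrrCharacter (Subgroup.centralizer (Q : Set G)))) :
    Q ⊔ Subgroup.centralizer (Q : Set G) ≤ stabSubgroup Q f := by
  apply sup_le
  · intro q hq
    rw [mem_stabSubgroup]
    have hq' := normalizer_le_normalizer_centralizer Q (Subgroup.le_normalizer hq)
    refine ⟨Subgroup.le_normalizer hq, ?_⟩
    rw [stabilizesBlock_iff]
    refine ⟨hq', ?_⟩
    rintro _ ⟨χ, hχ, rfl⟩
    rw [conjIrr_of_centralizes ⟨q, hq'⟩
      (fun k hk => Subgroup.mem_centralizer_iff.mp hk q hq) χ]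
    exact hχ
  · intro c hc
    rw [mem_stabSubgroup]
    have hc' := normalizer_le_normalizer_centralizer Q (Subgroup.centralizer_le_normalizer _ hc)
    refine ⟨Subgroup.centralizer_le_normalizer _ hc, ?_⟩
    rw [stabilizesBlock_iff]
    refine ⟨hc', ?_⟩
    rintro _ ⟨χ, hχ, rfl⟩
    rw [conjIrr_of_mem ⟨c, hc'⟩ hc χ]
    exact hχ

/-- an `f`-Brauer pair `(S, g)` of `C_G(Q)` gives a normal inclusion `(Q, f) ⊴ (Q S, g)` -/
theorem isNormalSubpair_of_isBrauerPairOf_centralizer [Fact p.Prime] (Q : Subgroup G)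
    (hQ : IsPGroup p Q)
    (f : Set (Cfsg.IrrCharacter (Subgroup.centralizer (Q : Set G))))
    (S : Subgroup (Subgroup.centralizer (Q : Set G)))
    (g : Set (Cfsg.IrrCharacter
      (Subgroup.centralizer (S : Set (Subgroup.centralizer (Q : Set G))))))
    (h : Cfsg.IsBrauerPairOf p M f S g) :
    Cfsg.IsNormalSubpair p M Q f
      (Q ⊔ S.map (Subgroup.centralizer (Q : Set G)).subtype)
      (irrMap (centSub Q S) '' g) := by
  obtain ⟨⟨hS, hg⟩, hf, hone⟩ := h
  have hS'N : S.map (Subgroup.centralizer (Q : Set G)).subtype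
      ≤ Subgroup.normalizer (Q : Set G) := by
    rintro _ ⟨s, _, rfl⟩
    exact Subgroup.centralizer_le_normalizer _ s.2
  refine ⟨⟨hQ, hf⟩, ⟨?_, isPBlock_image_irrMap _ hg⟩, le_sup_left,
    sup_le Subgroup.le_normalizer hS'N, ?_, ?_⟩
  · exact hQ.to_sup_of_normal_left' (hS.map _) hS'N
  · intro x hx
    have hle : Q ⊔ S.map (Subgroup.centralizer (Q : Set G)).subtype
        ≤ Q ⊔ Subgroup.centralizer (Q : Set G) := by
      apply sup_le_sup_left
      rintro _ ⟨s, _, rfl⟩
      exact s.2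
    exact ((mem_stabSubgroup Q f x).mp (sup_centralizer_le_stabSubgroup Q f (hle hx))).2
  · rintro _ ⟨ξ', hξ', rfl⟩
    rw [brauerOmega_centSub Q S (Cfsg.blockCoeff f)
      (Cfsg.subgroupBlockCoeff (Subgroup.centralizer (Q : Set G)) f)
      (subgroupBlockCoeff_coe _ f) ξ']
    exact hone ξ' hξ'

/-- a normal inclusion `(Q, f) ⊴ (Q S, g')` gives an `f`-Brauer pair of `C_G(Q)` -/
theorem isBrauerPairOf_centralizer_of_isNormalSubpair (Q : Subgroup G)
    (f : Set (Cfsg.IrrCharacter (Subgroup.centralizer (Q : Set G))))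
    (S : Subgroup (Subgroup.centralizer (Q : Set G))) (hS : IsPGroup p S)
    (g' : Set (Cfsg.IrrCharacter (Subgroup.centralizer
      ((Q ⊔ S.map (Subgroup.centralizer (Q : Set G)).subtype : Subgroup G) : Set G))))
    (h : Cfsg.IsNormalSubpair p M Q f
      (Q ⊔ S.map (Subgroup.centralizer (Q : Set G)).subtype) g') :
    Cfsg.IsBrauerPairOf p M f S (irrMap (centSub Q S).symm '' g') := by
  obtain ⟨⟨_, hf⟩, ⟨_, hg'⟩, _, _, _, hone⟩ := h
  refine ⟨⟨hS, isPBlock_image_irrMap _ hg'⟩, hf, ?_⟩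
  rintro _ ⟨ξ, hξ, rfl⟩
  have h1 := brauerOmega_centSub Q S (Cfsg.blockCoeff f)
    (Cfsg.subgroupBlockCoeff (Subgroup.centralizer (Q : Set G)) f)
    (subgroupBlockCoeff_coe _ f) (irrMap (centSub Q S).symm ξ)
  rw [irrMap_irrMap_symm] at h1
  rw [← h1]
  exact hone ξ hξ

/-- inclusion with normal first component is normal inclusion -/
theorem isNormalSubpair_of_subpairLE (hM : Cfsg.IsPModular p M) {Q R : Subgroup G}
    {f : Set (Cfsg.IrrCharacter (Subgroup.centralizer (Q : Set G)))}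
    {g : Set (Cfsg.IrrCharacter (Subgroup.centralizer (R : Set G)))}
    (hRg : Cfsg.IsBrauerPair p M R g) (hQR : Q ≤ R)
    (hRN : R ≤ Subgroup.normalizer (Q : Set G)) (hle : Cfsg.SubpairLE p M Q f R g) :
    Cfsg.IsNormalSubpair p M Q f R g := by
  obtain ⟨f'', hf'', _⟩ := existsUnique_normalSubpair hM R Q g hRg hQR hRN
  have h1 : Cfsg.SubpairLE p M Q f'' R g := Relation.ReflTransGen.single hf''
  have h2 := subpairLE_unique hM R g hRg Q hQR f f'' hle h1
  rw [h2]
  exact hf''

/-- restriction of an inclusion to an intermediate subgroup -/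
theorem exists_intermediate_subpairLE (hM : Cfsg.IsPModular p M) {Q R P : Subgroup G}
    {f : Set (Cfsg.IrrCharacter (Subgroup.centralizer (Q : Set G)))}
    {e : Set (Cfsg.IrrCharacter (Subgroup.centralizer (P : Set G)))}
    (hPe : Cfsg.IsBrauerPair p M P e) (hQR : Q ≤ R) (hRP : R ≤ P)
    (hle : Cfsg.SubpairLE p M Q f P e) :
    ∃ fR : Set (Cfsg.IrrCharacter (Subgroup.centralizer (R : Set G))),
      Cfsg.IsPBlock M fR ∧ Cfsg.SubpairLE p M Q f R fR ∧ Cfsg.SubpairLE p M R fR P e := by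
  obtain ⟨fR, hfR1, hfR2⟩ := exists_subpairLE hM P e hPe R hRP
  have hRfR : Cfsg.IsBrauerPair p M R fR := ⟨hPe.1.to_le hRP, hfR1⟩
  obtain ⟨f', _, hf'2⟩ := exists_subpairLE hM R fR hRfR Q hQR
  have h3 : Cfsg.SubpairLE p M Q f' P e := Relation.ReflTransGen.trans hf'2 hfR2
  have h4 := subpairLE_unique hM P e hPe Q (le_trans hQR hRP) f f' hle h3
  rw [← h4] at hf'2
  exact ⟨fR, hfR1, hf'2, hfR2⟩

/-- if `(Q, f) ≤ (P, e)` then `C_P(Q)` carries an `f`-Brauer pair of `C_G(Q)` -/
theorem exists_isBrauerPairOf_centralizerIn [Fact p.Prime] (hM : Cfsg.IsPModular p M)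
    (P Q : Subgroup G) (e : Set (Cfsg.IrrCharacter (Subgroup.centralizer (P : Set G))))
    (f : Set (Cfsg.IrrCharacter (Subgroup.centralizer (Q : Set G))))
    (hPe : Cfsg.IsBrauerPair p M P e) (hQP : Q ≤ P)
    (hle : Cfsg.SubpairLE p M Q f P e) :
    ∃ g : Set (Cfsg.IrrCharacter (Subgroup.centralizer
        (((P ⊓ Subgroup.centralizer (Q : Set G)).subgroupOf (Subgroup.centralizer (Q : Set G))
          : Subgroup (Subgroup.centralizer (Q : Set G)))
          : Set (Subgroup.centralizer (Q : Set G))))),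
      Cfsg.IsBrauerPairOf p M f
        ((P ⊓ Subgroup.centralizer (Q : Set G)).subgroupOf (Subgroup.centralizer (Q : Set G))) g := by
  have hP := hPe.1
  have hS : IsPGroup p ((P ⊓ Subgroup.centralizer (Q : Set G)).subgroupOf
      (Subgroup.centralizer (Q : Set G))) :=
    (hP.to_le inf_le_left).comap_subtype
  have hS' : ((P ⊓ Subgroup.centralizer (Q : Set G)).subgroupOf
      (Subgroup.centralizer (Q : Set G))).map (Subgroup.centralizer (Q : Set G)).subtype
      = P ⊓ Subgroup.centralizer (Q : Set G) := by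
    rw [Subgroup.subgroupOf_map_subtype, inf_assoc, inf_idem]
  have hQR : Q ≤ Q ⊔ ((P ⊓ Subgroup.centralizer (Q : Set G)).subgroupOf
      (Subgroup.centralizer (Q : Set G))).map (Subgroup.centralizer (Q : Set G)).subtype :=
    le_sup_left
  have hRP : Q ⊔ ((P ⊓ Subgroup.centralizer (Q : Set G)).subgroupOf
      (Subgroup.centralizer (Q : Set G))).map (Subgroup.centralizer (Q : Set G)).subtype ≤ P := by
    rw [hS']
    exact sup_le hQP inf_le_left
  have hRN : Q ⊔ ((P ⊓ Subgroup.centralizer (Q : Set G)).subgroupOf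
      (Subgroup.centralizer (Q : Set G))).map (Subgroup.centralizer (Q : Set G)).subtype
      ≤ Subgroup.normalizer (Q : Set G) := by
    rw [hS']
    exact sup_le Subgroup.le_normalizer
      (le_trans inf_le_right (Subgroup.centralizer_le_normalizer _))
  obtain ⟨fR, hfR1, hfR2, _⟩ := exists_intermediate_subpairLE hM hPe hQR hRP hle
  have hns := isNormalSubpair_of_subpairLE hM ⟨hP.to_le hRP, hfR1⟩ hQR hRN hfR2
  exact ⟨_, isBrauerPairOf_centralizer_of_isNormalSubpair Q f _ hS fR hns⟩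

/-- **`C_P(Q)` lies in a defect group of `f`** for `(Q, f) ≤ (P, e)`; moreover the defect group
comes from a maximal `f`-Brauer pair of `C_G(Q)` -/
theorem exists_isMaximalBrauerPair_ge_centralizerIn [Fact p.Prime] (hM : Cfsg.IsPModular p M)
    (P Q : Subgroup G) (e : Set (Cfsg.IrrCharacter (Subgroup.centralizer (P : Set G))))
    (f : Set (Cfsg.IrrCharacter (Subgroup.centralizer (Q : Set G))))
    (hPe : Cfsg.IsBrauerPair p M P e) (hQP : Q ≤ P)
    (hle : Cfsg.SubpairLE p M Q f P e) :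
    ∃ (S₁ : Subgroup (Subgroup.centralizer (Q : Set G)))
      (g₁ : Set (Cfsg.IrrCharacter (Subgroup.centralizer
        (S₁ : Set (Subgroup.centralizer (Q : Set G)))))),
      Cfsg.IsMaximalBrauerPair p M f S₁ g₁ ∧
        (P ⊓ Subgroup.centralizer (Q : Set G)).subgroupOf (Subgroup.centralizer (Q : Set G))
          ≤ S₁ := by
  classical
  haveI : Fintype (Subgroup.centralizer (Q : Set G)) := Fintype.ofFinite _
  obtain ⟨g, hg⟩ := exists_isBrauerPairOf_centralizerIn hM P Q e f hPe hQP hle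
  obtain ⟨S₁, g₁, hmax₁, hle₁⟩ := exists_isMaximalBrauerPair_ge f _ _ g hg rfl
  exact ⟨S₁, g₁, hmax₁, le_of_reflTransGen hle₁⟩

theorem exists_isDefectGroup_ge_centralizerIn [Fact p.Prime] (hM : Cfsg.IsPModular p M)
    (P Q : Subgroup G) (e : Set (Cfsg.IrrCharacter (Subgroup.centralizer (P : Set G))))
    (f : Set (Cfsg.IrrCharacter (Subgroup.centralizer (Q : Set G))))
    (hPe : Cfsg.IsBrauerPair p M P e) (hQP : Q ≤ P)
    (hle : Cfsg.SubpairLE p M Q f P e) :
    ∃ D : Subgroup (Subgroup.centralizer (Q : Set G)), Cfsg.IsDefectGroup p M f D ∧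
      (P ⊓ Subgroup.centralizer (Q : Set G)).subgroupOf (Subgroup.centralizer (Q : Set G)) ≤ D := by
  classical
  haveI : Fintype (Subgroup.centralizer (Q : Set G)) := Fintype.ofFinite _
  obtain ⟨S₁, g₁, hmax₁, hle₁⟩ :=
    exists_isMaximalBrauerPair_ge_centralizerIn hM P Q e f hPe hQP hle
  exact ⟨S₁, isDefectGroup_of_isMaximalBrauerPair S₁ g₁ hM f hmax₁, hle₁⟩

/-- **After a suitable conjugation, `C_P(Q)` is a defect group of `f`.** -/
theorem exists_conj_isDefectGroup_centralizerIn [Fact p.Prime] (hM : Cfsg.IsPModular p M)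
    (B : Set (Cfsg.IrrCharacter G)) (P Q : Subgroup G)
    (e : Set (Cfsg.IrrCharacter (Subgroup.centralizer (P : Set G))))
    (f : Set (Cfsg.IrrCharacter (Subgroup.centralizer (Q : Set G))))
    (hmax : Cfsg.IsMaximalBrauerPair p M B P e) (hQP : Q ≤ P) (hf : Cfsg.IsPBlock M f)
    (hle : Cfsg.SubpairLE p M Q f P e) :
    ∃ x : G, Cfsg.SubpairLE p M (Q.map (MulAut.conj x).toMonoidHom) (Cfsg.conjBlock Q x f) P e ∧
      Cfsg.IsDefectGroup p M (Cfsg.conjBlock Q x f)
        ((P ⊓ Subgroup.centralizer ((Q.map (MulAut.conj x).toMonoidHom : Subgroup G) : Set G)).subgroupOf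
          (Subgroup.centralizer ((Q.map (MulAut.conj x).toMonoidHom : Subgroup G) : Set G))) := by
  classical
  haveI : Fintype (Subgroup.centralizer (Q : Set G)) := Fintype.ofFinite _
  have hPe := hmax.1.1
  have hP := hPe.1
  have hQ : IsPGroup p Q := hP.to_le hQP
  have hB := hmax.1.2.1
  have hQf : Cfsg.IsBrauerPairOf p M B Q f :=
    (isBrauerPairOf_iff_of_subpairLE hM hPe ⟨hQ, hf⟩ hle B hB).mp hmax.1
  obtain ⟨S₁, g₁, hmax₁, _⟩ :=
    exists_isMaximalBrauerPair_ge_centralizerIn hM P Q e f hPe hQP hle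
  have hD₁ := isDefectGroup_of_isMaximalBrauerPair S₁ g₁ hM f hmax₁
  have hns := isNormalSubpair_of_isBrauerPairOf_centralizer Q hQ f S₁ g₁ hmax₁.1
  have hle₁ : Cfsg.SubpairLE p M Q f
      (Q ⊔ S₁.map (Subgroup.centralizer (Q : Set G)).subtype) (irrMap (centSub Q S₁) '' g₁) :=
    Relation.ReflTransGen.single hns
  have hR₁ : Cfsg.IsBrauerPairOf p M B
      (Q ⊔ S₁.map (Subgroup.centralizer (Q : Set G)).subtype) (irrMap (centSub Q S₁) '' g₁) :=
    (isBrauerPairOf_iff_of_subpairLE hM hns.2.1 ⟨hQ, hf⟩ hle₁ B hB).mpr hQf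
  obtain ⟨x, hx⟩ := exists_conj_subpairLE hM B P _ e _ hmax hR₁
  have hlex : Cfsg.SubpairLE p M (Q.map (MulAut.conj x).toMonoidHom) (Cfsg.conjBlock Q x f) P e :=
    Relation.ReflTransGen.trans (subpairLE_conj x hle₁) hx
  refine ⟨x, hlex, ?_⟩
  haveI : Fintype (Subgroup.centralizer
      ((Q.map (MulAut.conj x).toMonoidHom : Subgroup G) : Set G)) := Fintype.ofFinite _
  have hfx : Cfsg.IsPBlock M (Cfsg.conjBlock Q x f) := by
    rw [conjBlock_eq_image]
    exact isPBlock_image_irrMap _ hf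
  have hQxP : Q.map (MulAut.conj x).toMonoidHom ≤ P := le_of_reflTransGen hlex
  obtain ⟨D', hD', hCD'⟩ := exists_isDefectGroup_ge_centralizerIn hM P _ e _ hPe hQxP hlex
  have hDx : Cfsg.IsDefectGroup p M (Cfsg.conjBlock Q x f)
      (S₁.map (conjCent Q x).toMonoidHom) := by
    rw [conjBlock_eq_image]
    exact isDefectGroup_irrMap (conjCent Q x) f S₁ hD₁
  have hR₁xP : (Q ⊔ S₁.map (Subgroup.centralizer (Q : Set G)).subtype).map
      (MulAut.conj x).toMonoidHom ≤ P := le_of_reflTransGen hx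
  have hSC : S₁.map (conjCent Q x).toMonoidHom
      ≤ (P ⊓ Subgroup.centralizer ((Q.map (MulAut.conj x).toMonoidHom : Subgroup G) : Set G)).subgroupOf
          (Subgroup.centralizer ((Q.map (MulAut.conj x).toMonoidHom : Subgroup G) : Set G)) := by
    rintro _ ⟨s, hs, rfl⟩
    rw [Subgroup.mem_subgroupOf]
    refine ⟨?_, (conjCent Q x s).2⟩
    apply hR₁xP
    rw [mem_map_conj_iff]
    show x⁻¹ * (x * (s : G) * x⁻¹) * x
      ∈ Q ⊔ S₁.map (Subgroup.centralizer (Q : Set G)).subtype
    have e1 : x⁻¹ * (x * (s : G) * x⁻¹) * x = (s : G) := by group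
    rw [e1]
    exact (le_sup_right : S₁.map (Subgroup.centralizer (Q : Set G)).subtype ≤ _) ⟨s, hs, rfl⟩
  have hcard : Nat.card D' = Nat.card (S₁.map (conjCent Q x).toMonoidHom) := by
    rw [card_of_isDefectGroup hM _ hfx _ hD', card_of_isDefectGroup hM _ hfx _ hDx]
  have hEq : S₁.map (conjCent Q x).toMonoidHom = D' :=
    Subgroup.eq_of_le_of_card_ge (le_trans hSC hCD') (le_of_eq hcard)
  have hfin : (P ⊓ Subgroup.centralizer ((Q.map (MulAut.conj x).toMonoidHom : Subgroup G) : Set G)).subgroupOf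
      (Subgroup.centralizer ((Q.map (MulAut.conj x).toMonoidHom : Subgroup G) : Set G)) = D' :=
    le_antisymm hCD' (hEq ▸ hSC)
  rw [hfin]
  exact hD'

end Main

end Cfsg.Agent.Lib.Helper24
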