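import Mathlib
import Cfsg.Prelude.Def_Blocks
import Cfsg.Prelude.Def_BlockLocal
import Cfsg.Prelude.Def_BrauerPairs
import Cfsg.Agent.Lib.Helper24.CentPairs
import Cfsg.Agent.Lib.Helper7.BrauerIdem

/-!
# Tools on idempotents modulo the local ideal and on maximal Brauer pairs (helper24 library)

* `memLocalIdeal_of_cube_of_omega`, `sub_memLocalIdeal_of_idem_of_omega`: two central elements
  with local-integral coefficients that are idempotent modulo the local ideal and have congruent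
  central character values are congruent coefficientwise.
* `exists_isBrauerPairOf_of_unit`, `card_le_of_isBrauerPairOf`,
  `isMaximalBrauerPair_of_isDefectGroup`, `exists_isMaximalBrauerPair_of_isDefectGroup`,
  `isMaximalBrauerPair_of_forall_isNormalSubpair`, `eq_of_isNormalSubpair_of_isMaximalBrauerPair`,
  `brauerOmega_sub_one_of_invariant`.
-/

set_option autoImplicit false

namespace Cfsg.Agent.Lib.Helper24

open Cfsg.Agent.Lib.Helper2 Cfsg.Agent.Lib.Helper7
open scoped ComplexConjugate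

section Idem

variable {G : Type*} [Group G] [Fintype G] {p : ℕ} {M : Ideal Cfsg.AlgInt}

/-- a central element with local-integral coefficients, with `d³ ≡ d` coefficientwise and all
central character values in the local ideal, has all coefficients in the local ideal -/
theorem memLocalIdeal_of_cube_of_omega (hM : Cfsg.IsPModular p M) (d : G → ℂ) (hd : IsRCF M d)
    (hcube : ∀ g, Cfsg.MemLocalIdeal M (conv (conv d d) d g - d g))
    (hω : ∀ χ : Cfsg.IrrCharacter G, Cfsg.MemLocalIdeal M (omega (χ : G → ℂ) d)) (g : G) :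
    Cfsg.MemLocalIdeal M (d g) := by
  obtain ⟨q, hq⟩ : ∃ q : G → ℂ, q = conv d d := ⟨_, rfl⟩
  obtain ⟨F, hF⟩ : ∃ F : G → ℂ, F = conv q d - d := ⟨_, rfl⟩
  have hqR : IsRCF M q := hq ▸ IsRCF.conv hM hd hd
  have hFc : Cfsg.IsClassFunction G F := by
    rw [hF]
    exact isClassFunction_sub (conv_isClassFunction _ _ hqR.1 hd.1) hd.1
  have hFJ : ∀ g, Cfsg.MemLocalIdeal M (F g) := by
    intro g
    rw [hF, hq]
    exact hcube g
  have h1 : conv q q - q = conv F d := by
    apply eq_of_omega_eq _ _ (isClassFunction_sub (conv_isClassFunction _ _ hqR.1 hqR.1) hqR.1)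
      (conv_isClassFunction _ _ hFc hd.1)
    intro χ
    rw [omega_sub, omega_conv χ q q hqR.1 hqR.1, omega_conv χ F d hFc hd.1, hF, omega_sub,
      omega_conv χ q d hqR.1 hd.1, hq, omega_conv χ d d hd.1 hd.1]
    ring
  have hqidem : ∀ g, Cfsg.MemLocalIdeal M (conv q q g - q g) := by
    intro g
    have h2 := congrFun h1 g
    rw [Pi.sub_apply] at h2
    rw [h2]
    exact conv_memLocalIdeal_left hM F d hFJ hd.2 g
  have hqω : ∀ χ : Cfsg.IrrCharacter G, Cfsg.MemLocalIdeal M (omega (χ : G → ℂ) q) := by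
    intro χ
    rw [hq, omega_conv χ d d hd.1 hd.1]
    exact memLocalIdeal_mul_right hM (hω χ) (IsRCF.omega hM hd χ)
  have hqJ := memLocalIdeal_of_idem_of_omega hM q hqR hqidem hqω
  have h2 : d g = conv q d g - F g := by
    rw [hF, Pi.sub_apply]
    ring
  rw [h2]
  exact memLocalIdeal_sub hM (conv_memLocalIdeal_left hM q d hqJ hd.2 g) (hFJ g)

/-- two central elements with local-integral coefficients that are idempotent modulo the local
ideal and have congruent central character values are congruent coefficientwise -/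
theorem sub_memLocalIdeal_of_idem_of_omega (hM : Cfsg.IsPModular p M) (a₁ a₂ : G → ℂ)
    (h₁ : IsRCF M a₁) (h₂ : IsRCF M a₂)
    (hi₁ : ∀ g, Cfsg.MemLocalIdeal M (conv a₁ a₁ g - a₁ g))
    (hi₂ : ∀ g, Cfsg.MemLocalIdeal M (conv a₂ a₂ g - a₂ g))
    (hω : ∀ χ : Cfsg.IrrCharacter G,
      Cfsg.MemLocalIdeal M (omega (χ : G → ℂ) a₁ - omega (χ : G → ℂ) a₂)) (g : G) :
    Cfsg.MemLocalIdeal M (a₁ g - a₂ g) := by
  obtain ⟨E₁, hE₁⟩ : ∃ E : G → ℂ, E = conv a₁ a₁ - a₁ := ⟨_, rfl⟩
  obtain ⟨E₂, hE₂⟩ : ∃ E : G → ℂ, E = conv a₂ a₂ - a₂ := ⟨_, rfl⟩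
  obtain ⟨d, hd⟩ : ∃ d : G → ℂ, d = a₁ - a₂ := ⟨_, rfl⟩
  have hdR : IsRCF M d := hd ▸ IsRCF.sub hM h₁ h₂
  have hE₁c : Cfsg.IsClassFunction G E₁ := by
    rw [hE₁]
    exact isClassFunction_sub (conv_isClassFunction _ _ h₁.1 h₁.1) h₁.1
  have hE₂c : Cfsg.IsClassFunction G E₂ := by
    rw [hE₂]
    exact isClassFunction_sub (conv_isClassFunction _ _ h₂.1 h₂.1) h₂.1
  have hE₁J : ∀ g, Cfsg.MemLocalIdeal M (E₁ g) := by
    intro g
    rw [hE₁]
    exact hi₁ g
  have hE₂J : ∀ g, Cfsg.MemLocalIdeal M (E₂ g) := by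
    intro g
    rw [hE₂]
    exact hi₂ g
  have hE₁₂c : Cfsg.IsClassFunction G (E₁ + E₂) := isClassFunction_add hE₁c hE₂c
  have hc1 := conv_isClassFunction _ _ hE₁c h₂.1
  have hc2 := conv_isClassFunction _ _ hE₂c h₁.1
  have hc3 := conv_isClassFunction _ _ hE₁₂c hdR.1
  have hcd := conv_isClassFunction _ _ hdR.1 hdR.1
  have key : conv (conv d d) d - d
      = E₁ - E₂ - (conv E₁ a₂ + conv E₁ a₂) + (conv E₂ a₁ + conv E₂ a₁) + conv (E₁ + E₂) d := by
    apply eq_of_omega_eq _ _ (isClassFunction_sub (conv_isClassFunction _ _ hcd hdR.1) hdR.1)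
      (isClassFunction_add (isClassFunction_add (isClassFunction_sub
        (isClassFunction_sub hE₁c hE₂c) (isClassFunction_add hc1 hc1))
        (isClassFunction_add hc2 hc2)) hc3)
    intro χ
    have e1 : omega (χ : G → ℂ) E₁
        = omega (χ : G → ℂ) a₁ * omega (χ : G → ℂ) a₁ - omega (χ : G → ℂ) a₁ := by
      rw [hE₁, omega_sub, omega_conv χ a₁ a₁ h₁.1 h₁.1]
    have e2 : omega (χ : G → ℂ) E₂
        = omega (χ : G → ℂ) a₂ * omega (χ : G → ℂ) a₂ - omega (χ : G → ℂ) a₂ := by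
      rw [hE₂, omega_sub, omega_conv χ a₂ a₂ h₂.1 h₂.1]
    have e3 : omega (χ : G → ℂ) d = omega (χ : G → ℂ) a₁ - omega (χ : G → ℂ) a₂ := by
      rw [hd, omega_sub]
    rw [omega_sub, omega_conv χ _ d hcd hdR.1, omega_conv χ d d hdR.1 hdR.1,
      omega_add, omega_add, omega_sub, omega_sub, omega_add, omega_add,
      omega_conv χ E₁ a₂ hE₁c h₂.1, omega_conv χ E₂ a₁ hE₂c h₁.1,
      omega_conv χ (E₁ + E₂) d hE₁₂c hdR.1, omega_add, e1, e2, e3]
    ring
  have hcube : ∀ g, Cfsg.MemLocalIdeal M (conv (conv d d) d g - d g) := by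
    intro g
    have h2 := congrFun key g
    simp only [Pi.sub_apply, Pi.add_apply] at h2
    rw [h2]
    have j1 := conv_memLocalIdeal_left hM E₁ a₂ hE₁J h₂.2 g
    have j2 := conv_memLocalIdeal_left hM E₂ a₁ hE₂J h₁.2 g
    have j3 := conv_memLocalIdeal_left hM (E₁ + E₂) d
      (fun x => memLocalIdeal_add hM (hE₁J x) (hE₂J x)) hdR.2 g
    exact memLocalIdeal_add hM (memLocalIdeal_add hM (memLocalIdeal_sub hM
      (memLocalIdeal_sub hM (hE₁J g) (hE₂J g)) (memLocalIdeal_add hM j1 j1))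
      (memLocalIdeal_add hM j2 j2)) j3
  have hωd : ∀ χ : Cfsg.IrrCharacter G, Cfsg.MemLocalIdeal M (omega (χ : G → ℂ) d) := by
    intro χ
    rw [hd, omega_sub]
    exact hω χ
  have := memLocalIdeal_of_cube_of_omega hM d hdR hcube hωd g
  rw [hd] at this
  exact this

end Idem

section Pairs

variable {G : Type*} [Group G] [Fintype G] {p : ℕ} {M : Ideal Cfsg.AlgInt}

/-- if the idempotent of `B` has a coefficient outside the local ideal at an element of `C_G(P)`,
then `B` has a Brauer pair with first component `P` -/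
theorem exists_isBrauerPairOf_of_unit [Fact p.Prime] (hM : Cfsg.IsPModular p M)
    (B : Set (Cfsg.IrrCharacter G)) (hB : Cfsg.IsPBlock M B) (P : Subgroup G)
    (hP : IsPGroup p P) (g : G) (hgP : g ∈ Subgroup.centralizer (P : Set G))
    (hg : ¬ Cfsg.MemLocalIdeal M (Cfsg.blockCoeff B g)) :
    ∃ e : Set (Cfsg.IrrCharacter (Subgroup.centralizer (P : Set G))),
      Cfsg.IsBrauerPairOf p M B P e := by
  classical
  haveI : Fintype (Subgroup.centralizer (P : Set G)) := Fintype.ofFinite _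
  have hβR : ∀ g, Cfsg.MemLocalRing M (Cfsg.blockCoeff B g) := blockCoeff_memLocalRing hM B hB
  have hβinv : ∀ u ∈ P, ∀ g, Cfsg.blockCoeff B (u * g * u⁻¹) = Cfsg.blockCoeff B g :=
    fun u _ g => blockCoeff_isClassFunction B g u
  have hββ : conv (Cfsg.blockCoeff B) (Cfsg.blockCoeff B) = Cfsg.blockCoeff B :=
    conv_blockCoeff_self B
  obtain ⟨ε, hε⟩ : ∃ ε : Subgroup.centralizer (P : Set G) → ℂ,
      ε = restrictTo (Subgroup.centralizer (P : Set G)) (Cfsg.blockCoeff B) := ⟨_, rfl⟩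
  have hεcf : Cfsg.IsClassFunction (Subgroup.centralizer (P : Set G)) ε := by
    rw [hε]
    exact restrictTo_isClassFunction _ _ (blockCoeff_isClassFunction B)
  have hεR : ∀ c, Cfsg.MemLocalRing M (ε c) := by
    intro c
    rw [hε]
    exact hβR c
  have hidem : ∀ c, Cfsg.MemLocalIdeal M (conv ε ε c - ε c) := by
    intro c
    have := conv_restrict_sub_memLocalIdeal hM P hP _ _ hβR hβR hβinv hβinv c
    rw [hββ] at this
    have h2 := memLocalIdeal_neg this
    rw [neg_sub] at h2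
    rw [hε]
    exact h2
  have hex : ∃ ξ' : Cfsg.IrrCharacter (Subgroup.centralizer (P : Set G)),
      ¬ Cfsg.MemLocalIdeal M (omega (ξ' : _ → ℂ) ε) := by
    by_contra hcon
    push Not at hcon
    have := memLocalIdeal_of_idem_of_omega hM ε ⟨hεcf, hεR⟩ hidem hcon ⟨g, hgP⟩
    rw [hε] at this
    exact hg this
  obtain ⟨ξ', hξ'⟩ := hex
  have hw : Cfsg.MemLocalIdeal M (omega (ξ' : _ → ℂ) ε - 1) := by
    have hwR : Cfsg.MemLocalRing M (omega (ξ' : _ → ℂ) ε) :=
      omega_memLocalRing hM ξ' ε hεcf hεR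
    have h1 : Cfsg.MemLocalIdeal M
        (omega (ξ' : _ → ℂ) ε * omega (ξ' : _ → ℂ) ε - omega (ξ' : _ → ℂ) ε) := by
      rw [← omega_conv ξ' ε ε hεcf hεcf, ← omega_sub]
      exact omega_memLocalIdeal_of_coeff hM ξ' _
        (isClassFunction_sub (conv_isClassFunction _ _ hεcf hεcf) hεcf) hidem
    rcases memLocalIdeal_or_sub_one_of_idem hM hwR h1 with h | h
    · exact absurd h hξ'
    · exact h
  refine ⟨Cfsg.blockOf M (ξ' : _ → ℂ), ⟨hP, ⟨ξ', rfl⟩⟩, hB, ?_⟩
  intro ξ'' hξ''
  rw [brauerOmega_eq_omega, ← hε]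
  have h1 := omega_sub_memLocalIdeal hM ξ' ξ'' hξ'' ε hεcf hεR
  have h2 := memLocalIdeal_sub hM hw h1
  have e1 : omega (ξ' : _ → ℂ) ε - 1 - (omega (ξ' : _ → ℂ) ε - omega (ξ'' : _ → ℂ) ε)
      = omega (ξ'' : _ → ℂ) ε - 1 := by ring
  rw [e1] at h2
  exact h2

/-- the first component of a Brauer pair of `B` is not larger than that of a maximal one -/
theorem card_le_of_isBrauerPairOf [Fact p.Prime] (hM : Cfsg.IsPModular p M)
    (B : Set (Cfsg.IrrCharacter G)) (P : Subgroup G)
    (e : Set (Cfsg.IrrCharacter (Subgroup.centralizer (P : Set G))))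
    (hmax : Cfsg.IsMaximalBrauerPair p M B P e) (R : Subgroup G)
    (g : Set (Cfsg.IrrCharacter (Subgroup.centralizer (R : Set G))))
    (hRg : Cfsg.IsBrauerPairOf p M B R g) : Nat.card R ≤ Nat.card P := by
  obtain ⟨x, hx⟩ := exists_conj_subpairLE hM B P R e g hmax hRg
  have h1 : R.map (MulAut.conj x).toMonoidHom ≤ P := le_of_reflTransGen hx
  calc Nat.card R = Nat.card (R.map (MulAut.conj x).toMonoidHom) :=
        (Subgroup.card_map_of_injective (MulAut.conj x).injective).symm
    _ ≤ Nat.card P := Subgroup.card_le_of_le h1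

/-- a Brauer pair of `B` whose first component is a defect group of `B` is maximal -/
theorem isMaximalBrauerPair_of_isDefectGroup [Fact p.Prime] (hM : Cfsg.IsPModular p M)
    (B : Set (Cfsg.IrrCharacter G)) (P : Subgroup G)
    (e : Set (Cfsg.IrrCharacter (Subgroup.centralizer (P : Set G))))
    (hBP : Cfsg.IsBrauerPairOf p M B P e) (hD : Cfsg.IsDefectGroup p M B P) :
    Cfsg.IsMaximalBrauerPair p M B P e := by
  have hB := hBP.2.1
  refine ⟨hBP, ?_⟩
  intro R g hRg hle
  obtain ⟨R', g', hmax', hle'⟩ := exists_isMaximalBrauerPair_ge B _ R g hRg rfl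
  have hD' := isDefectGroup_of_isMaximalBrauerPair R' g' hM B hmax'
  have hcard : Nat.card R' = Nat.card P := by
    rw [card_of_isDefectGroup hM B hB _ hD', card_of_isDefectGroup hM B hB _ hD]
  have hPR : P ≤ R := le_of_reflTransGen hle
  have hRR' : R ≤ R' := le_of_reflTransGen hle'
  have h1 : Nat.card R ≤ Nat.card P := by
    rw [← hcard]
    exact Subgroup.card_le_of_le hRR'
  exact (Subgroup.eq_of_le_of_card_ge hPR h1).symm

/-- a defect group of `B` is the first component of a maximal Brauer pair of `B` -/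
theorem exists_isMaximalBrauerPair_of_isDefectGroup [Fact p.Prime] (hM : Cfsg.IsPModular p M)
    (B : Set (Cfsg.IrrCharacter G)) (hB : Cfsg.IsPBlock M B) (P : Subgroup G)
    (hD : Cfsg.IsDefectGroup p M B P) :
    ∃ e : Set (Cfsg.IrrCharacter (Subgroup.centralizer (P : Set G))),
      Cfsg.IsMaximalBrauerPair p M B P e := by
  obtain ⟨g, hg, hle, hcard⟩ := exists_of_isDefectGroup hD
  have hP : IsPGroup p P := IsPGroup.of_card hcard
  have hgP : g ∈ Subgroup.centralizer (P : Set G) := by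
    rw [Subgroup.mem_centralizer_iff]
    intro u hu
    have := hle hu
    rw [Subgroup.mem_centralizer_singleton_iff] at this
    exact this
  obtain ⟨e, he⟩ := exists_isBrauerPairOf_of_unit hM B hB P hP g hgP hg.2.1
  exact ⟨e, isMaximalBrauerPair_of_isDefectGroup hM B P e he hD⟩

/-- in a finite `p`-group, proper subgroups grow in their normalizers -/
theorem exists_mem_normalizer_notMem [Fact p.Prime] {P R : Subgroup G} (hR : IsPGroup p R)
    (hPR : P ≤ R) (hne : R ≠ P) :
    ∃ x ∈ R, x ∈ Subgroup.normalizer (P : Set G) ∧ x ∉ P := by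
  haveI : Group.IsNilpotent R := hR.isNilpotent
  have hnc := Group.normalizerCondition_of_isNilpotent (G := R)
  have hlt : P.subgroupOf R < ⊤ := by
    rw [lt_top_iff_ne_top]
    intro h
    apply hne
    apply le_antisymm _ hPR
    intro r hr
    have : (⟨r, hr⟩ : R) ∈ P.subgroupOf R := by rw [h]; exact Subgroup.mem_top _
    exact Subgroup.mem_subgroupOf.mp this
  have h1 := hnc (P.subgroupOf R) hlt
  obtain ⟨y, hy, hyP⟩ := SetLike.exists_of_lt h1
  rw [← Subgroup.subgroupOf_normalizer_eq hPR, Subgroup.mem_subgroupOf] at hy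
  exact ⟨y, y.2, hy, fun h => hyP (Subgroup.mem_subgroupOf.mpr h)⟩

/-- a Brauer pair of `B` without proper normal extensions is maximal -/
theorem isMaximalBrauerPair_of_forall_isNormalSubpair [Fact p.Prime] (hM : Cfsg.IsPModular p M)
    (B : Set (Cfsg.IrrCharacter G)) (P : Subgroup G)
    (e : Set (Cfsg.IrrCharacter (Subgroup.centralizer (P : Set G))))
    (hBP : Cfsg.IsBrauerPairOf p M B P e)
    (h : ∀ (R : Subgroup G) (g : Set (Cfsg.IrrCharacter (Subgroup.centralizer (R : Set G)))),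
      Cfsg.IsNormalSubpair p M P e R g → R = P) :
    Cfsg.IsMaximalBrauerPair p M B P e := by
  refine ⟨hBP, ?_⟩
  intro R g hRg hle
  by_contra hne
  have hPR : P ≤ R := le_of_reflTransGen hle
  have hRp : IsPGroup p R := hRg.1.1
  obtain ⟨x, hxR, hxN, hxP⟩ := exists_mem_normalizer_notMem hRp hPR hne
  have hPR' : P ≤ R ⊓ Subgroup.normalizer (P : Set G) := le_inf hPR Subgroup.le_normalizer
  obtain ⟨g', hg'1, hg'2, _⟩ := exists_intermediate_subpairLE hM hRg.1 hPR' inf_le_left hle
  have hns := isNormalSubpair_of_subpairLE hM ⟨hRp.to_le inf_le_left, hg'1⟩ hPR' inf_le_right hg'2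
  have h1 := h _ g' hns
  apply hxP
  rw [← h1]
  exact Subgroup.mem_inf.mpr ⟨hxR, hxN⟩

/-- a maximal Brauer pair has no proper normal extension -/
theorem eq_of_isNormalSubpair_of_isMaximalBrauerPair [Fact p.Prime] (hM : Cfsg.IsPModular p M)
    (B : Set (Cfsg.IrrCharacter G)) (P : Subgroup G)
    (e : Set (Cfsg.IrrCharacter (Subgroup.centralizer (P : Set G))))
    (hmax : Cfsg.IsMaximalBrauerPair p M B P e) (R : Subgroup G)
    (g : Set (Cfsg.IrrCharacter (Subgroup.centralizer (R : Set G))))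
    (hns : Cfsg.IsNormalSubpair p M P e R g) : R = P := by
  have hle : Cfsg.SubpairLE p M P e R g := Relation.ReflTransGen.single hns
  have hB := hmax.1.2.1
  have hRg : Cfsg.IsBrauerPairOf p M B R g :=
    (isBrauerPairOf_iff_of_subpairLE hM hns.2.1 hns.1 hle B hB).mpr hmax.1
  exact hmax.2 R g hRg hle

/-- for a maximal Brauer pair `(P, e)` of `B` and a function `a` on `G` invariant under
`N_G(P)`: if `a` has Brauer central character value `≡ 1` on `e`, it has value `≡ 1` on every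
irreducible character of `C_G(P)` on which the idempotent of `B` has value `≡ 1` -/
theorem brauerOmega_sub_one_of_invariant [Fact p.Prime] (hM : Cfsg.IsPModular p M)
    (B : Set (Cfsg.IrrCharacter G)) (P : Subgroup G)
    (e : Set (Cfsg.IrrCharacter (Subgroup.centralizer (P : Set G))))
    (hmax : Cfsg.IsMaximalBrauerPair p M B P e) (a : G → ℂ)
    (hinv : ∀ n ∈ Subgroup.normalizer (P : Set G), ∀ g, a (n * g * n⁻¹) = a g)
    (hone : ∀ ξ₀ ∈ e, Cfsg.MemLocalIdeal M (Cfsg.brauerOmega P a (ξ₀ : _ → ℂ) - 1))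
    (ξ : Cfsg.IrrCharacter (Subgroup.centralizer (P : Set G)))
    (hξ : Cfsg.MemLocalIdeal M (Cfsg.brauerOmega P (Cfsg.blockCoeff B) (ξ : _ → ℂ) - 1)) :
    Cfsg.MemLocalIdeal M (Cfsg.brauerOmega P a (ξ : _ → ℂ) - 1) := by
  classical
  haveI : Fintype (Subgroup.centralizer (P : Set G)) := Fintype.ofFinite _
  have hP := hmax.1.1.1
  have hB := hmax.1.2.1
  have hpair : Cfsg.IsBrauerPairOf p M B P (Cfsg.blockOf M (ξ : _ → ℂ)) := by
    refine ⟨⟨hP, ⟨ξ, rfl⟩⟩, hB, ?_⟩
    intro ξ'' hξ''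
    have hc := brauerOmega_congr hM P (Cfsg.blockCoeff B)
      (restrictTo_isClassFunction _ _ (blockCoeff_isClassFunction B))
      (blockCoeff_memLocalRing hM B hB) ξ'' ξ (sameBlock_symm hM hξ'')
    have := memLocalIdeal_add hM hc hξ
    rw [sub_add_sub_cancel] at this
    exact this
  obtain ⟨n, hn⟩ := exists_conjIrr_of_isMaximalBrauerPair hM B P e _ hmax hpair
  have hmem : conjIrr (Subgroup.centralizer (P : Set G))
      ⟨(n : G), normalizer_le_normalizer_centralizer P n.2⟩ ξ ∈ e := by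
    rw [hn]
    exact ⟨ξ, mem_blockOf_self hM ξ, rfl⟩
  have h1 := hone _ hmem
  rw [brauerOmega_eq_omega, omega_conjIrr_of_invariant] at h1
  · rw [brauerOmega_eq_omega]
    exact h1
  · intro k
    show a _ = a _
    have : (((Subgroup.centralizer (P : Set G)).normalizerMonoidHom
        ⟨(n : G), normalizer_le_normalizer_centralizer P n.2⟩ k
          : Subgroup.centralizer (P : Set G)) : G) = (n : G) * (k : G) * (n : G)⁻¹ := rfl
    rw [this]
    exact hinv n n.2 k

end Pairs

end Cfsg.Agent.Lib.Helper24
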