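import Mathlib
import Cfsg.Prelude.Def_Blocks
import Cfsg.Prelude.Def_BlockLocal
import Cfsg.Prelude.Def_BrauerPairs
import Cfsg.Agent.Lib.Helper24.NormalPBlock

/-!
# Brauer pairs on a normal `p`-subgroup (helper24)
-/

set_option autoImplicit false

namespace Cfsg.Agent.Lib.Helper24

open Cfsg.Agent.Lib.Helper2 Cfsg.Agent.Lib.Helper7
open scoped ComplexConjugate

section

variable {G : Type*} [Group G] [Fintype G] {p : ℕ} {M : Ideal Cfsg.AlgInt}

/-- For a normal `p`-subgroup `P` and a Brauer pair `(P, e)` of `B`: the idempotent of `B` is the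
idempotent of the union of the `G`-conjugates of `e`, extended by zero. -/
theorem blockCoeff_eq_extZ_orbU [Fact p.Prime] (hM : Cfsg.IsPModular p M) (P : Subgroup G)
    [P.Normal] (hP : IsPGroup p P) (B : Set (Cfsg.IrrCharacter G))
    (e : Set (Cfsg.IrrCharacter (Subgroup.centralizer (P : Set G))))
    (hBe : Cfsg.IsBrauerPairOf p M B P e) :
    Cfsg.blockCoeff B = Cfsg.extendByZero (Subgroup.centralizer (P : Set G))
      (Cfsg.blockCoeff (orbU (Subgroup.centralizer (P : Set G)) e)) := by
  classical
  haveI : Fintype (Subgroup.centralizer (P : Set G)) := Fintype.ofFinite _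
  obtain ⟨⟨_, he⟩, hB, hone⟩ := hBe
  have hSunion := blockOf_subset_orbU (Subgroup.centralizer (P : Set G)) hM e he
  -- the candidate
  have hclS : Cfsg.IsClassFunction (Subgroup.centralizer (P : Set G))
      (Cfsg.blockCoeff (orbU (Subgroup.centralizer (P : Set G)) e)) := blockCoeff_isClassFunction _
  -- (a) class function on G
  have hac : Cfsg.IsClassFunction G (Cfsg.extendByZero (Subgroup.centralizer (P : Set G))
      (Cfsg.blockCoeff (orbU (Subgroup.centralizer (P : Set G)) e))) := by
    intro g h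
    by_cases hg : g ∈ Subgroup.centralizer (P : Set G)
    · have hg' : h * g * h⁻¹ ∈ Subgroup.centralizer (P : Set G) :=
        (inferInstance : (Subgroup.centralizer (P : Set G)).Normal).conj_mem g hg h
      rw [extendByZero_apply_mem _ _ hg, extendByZero_apply_mem _ _ hg']
      have h1 := blockCoeff_cs (Subgroup.centralizer (P : Set G)) h⁻¹
        (orbU (Subgroup.centralizer (P : Set G)) e) ⟨g, hg⟩
      rw [cs_orbU] at h1
      rw [h1]
      congr 1
      apply Subtype.ext
      simp
    · have hg' : h * g * h⁻¹ ∉ Subgroup.centralizer (P : Set G) := by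
        intro h'
        apply hg
        have := (inferInstance : (Subgroup.centralizer (P : Set G)).Normal).conj_mem _ h' h⁻¹
        have h2 : h⁻¹ * (h * g * h⁻¹) * h⁻¹⁻¹ = g := by group
        rwa [h2] at this
      rw [extendByZero_apply_not_mem _ _ hg, extendByZero_apply_not_mem _ _ hg']
  -- (b) local-integral
  have haR : ∀ g, Cfsg.MemLocalRing M (Cfsg.extendByZero (Subgroup.centralizer (P : Set G))
      (Cfsg.blockCoeff (orbU (Subgroup.centralizer (P : Set G)) e)) g) :=
    extZ_memLocalRing hM _ _ (blockCoeff_memLocalRing_of_union hM _ hSunion)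
  -- (c) idempotent
  have hid : conv (Cfsg.extendByZero (Subgroup.centralizer (P : Set G))
      (Cfsg.blockCoeff (orbU (Subgroup.centralizer (P : Set G)) e)))
      (Cfsg.extendByZero (Subgroup.centralizer (P : Set G))
      (Cfsg.blockCoeff (orbU (Subgroup.centralizer (P : Set G)) e)))
      = Cfsg.extendByZero (Subgroup.centralizer (P : Set G))
      (Cfsg.blockCoeff (orbU (Subgroup.centralizer (P : Set G)) e)) := by
    rw [conv_extZ, conv_blockCoeff_self]
  -- (d) nonzero
  obtain ⟨ξ₀, hξ₀⟩ := isPBlock_nonempty hM he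
  have hne : Cfsg.extendByZero (Subgroup.centralizer (P : Set G))
      (Cfsg.blockCoeff (orbU (Subgroup.centralizer (P : Set G)) e)) ≠ 0 := by
    intro h0
    have h1 := congrArg (restrictTo (Subgroup.centralizer (P : Set G))) h0
    rw [restrictTo_self_extZ] at h1
    have h2 : Cfsg.blockCoeff (orbU (Subgroup.centralizer (P : Set G)) e)
        = Cfsg.blockCoeff (∅ : Set (Cfsg.IrrCharacter (Subgroup.centralizer (P : Set G)))) := by
      rw [blockCoeff_empty, h1]
      rfl
    have h3 := blockCoeff_injective h2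
    have : ξ₀ ∈ (∅ : Set (Cfsg.IrrCharacter (Subgroup.centralizer (P : Set G)))) := by
      rw [← h3]
      exact subset_orbU _ e hξ₀
    exact this
  -- (e) absorbed by the idempotent of B
  have hβcl := blockCoeff_isClassFunction B
  have hβsupp : Cfsg.blockCoeff B = Cfsg.extendByZero (Subgroup.centralizer (P : Set G))
      (restrictTo (Subgroup.centralizer (P : Set G)) (Cfsg.blockCoeff B)) := by
    ext g
    by_cases hg : g ∈ Subgroup.centralizer (P : Set G)
    · rw [extendByZero_apply_mem _ _ hg]
      rfl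
    · rw [extendByZero_apply_not_mem _ _ hg]
      exact blockCoeff_eq_zero_of_notMem_centralizer hM P hP B hB g hg
  set βC := restrictTo (Subgroup.centralizer (P : Set G)) (Cfsg.blockCoeff B) with hβC
  have hβCcl : Cfsg.IsClassFunction (Subgroup.centralizer (P : Set G)) βC :=
    restrictTo_isClassFunction _ _ hβcl
  have hβCid : conv βC βC = βC := by
    have h1 : Cfsg.extendByZero (Subgroup.centralizer (P : Set G)) (conv βC βC)
        = Cfsg.extendByZero (Subgroup.centralizer (P : Set G)) βC := by
      rw [← conv_extZ, ← hβsupp, conv_blockCoeff_self]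
    have h2 := congrArg (restrictTo (Subgroup.centralizer (P : Set G))) h1
    rwa [restrictTo_self_extZ, restrictTo_self_extZ] at h2
  have hβCeq := eq_blockCoeff_idemSet βC hβCcl hβCid
  have hsub : orbU (Subgroup.centralizer (P : Set G)) e ⊆ idemSet βC := by
    rintro ψ ⟨x, ξ, hξ, rfl⟩
    show omega _ βC = 1
    rw [omega_conjIrr_of_invariant]
    · have h1 := hone ξ hξ
      rw [brauerOmega_eq_omega] at h1
      rcases omega_eq_zero_or_one_of_idem βC hβCcl hβCid ξ with h0 | h1'
      · exfalso
        rw [← hβC, h0, zero_sub] at h1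
        have := memLocalIdeal_neg h1
        rw [neg_neg] at this
        exact not_memLocalIdeal_one hM this
      · exact h1'
    · intro k
      show Cfsg.blockCoeff B _ = Cfsg.blockCoeff B _
      have : (((Subgroup.centralizer (P : Set G)).normalizerMonoidHom
          (nrm (Subgroup.centralizer (P : Set G)) x) k : Subgroup.centralizer (P : Set G)) : G)
          = x * (k : G) * x⁻¹ := rfl
      rw [this]
      exact hβcl k x
  have habs : conv (Cfsg.extendByZero (Subgroup.centralizer (P : Set G))
      (Cfsg.blockCoeff (orbU (Subgroup.centralizer (P : Set G)) e))) (Cfsg.blockCoeff B)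
      = Cfsg.extendByZero (Subgroup.centralizer (P : Set G))
      (Cfsg.blockCoeff (orbU (Subgroup.centralizer (P : Set G)) e)) := by
    conv_lhs => rw [hβsupp]
    rw [conv_extZ, hβCeq, conv_blockCoeff_blockCoeff, Set.inter_eq_left.mpr hsub]
  exact (eq_blockCoeff_of_idem_of_conv hM _ hac haR hid hne B hB habs).symm

/-- the orbit-sum formula -/
theorem blockCoeff_eq_orbit_sum [Fact p.Prime] (hM : Cfsg.IsPModular p M) (P : Subgroup G)
    [P.Normal] (hP : IsPGroup p P) (B : Set (Cfsg.IrrCharacter G))
    (e : Set (Cfsg.IrrCharacter (Subgroup.centralizer (P : Set G))))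
    (hBe : Cfsg.IsBrauerPairOf p M B P e) (T : Subgroup G)
    (hT : ∀ x : G, x ∈ T ↔ Cfsg.StabilizesBlock (Subgroup.centralizer (P : Set G)) e x) (g : G) :
    Cfsg.blockCoeff B g = (Nat.card T : ℂ)⁻¹ *
      ∑ x : G, Cfsg.subgroupBlockCoeff (Subgroup.centralizer (P : Set G)) e (x⁻¹ * g * x) := by
  classical
  haveI : Fintype (Subgroup.centralizer (P : Set G)) := Fintype.ofFinite _
  rw [blockCoeff_eq_extZ_orbU hM P hP B e hBe]
  have hTne : (Nat.card T : ℂ) ≠ 0 := by
    have : 0 < Nat.card T := Nat.card_pos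
    exact_mod_cast this.ne'
  by_cases hg : g ∈ Subgroup.centralizer (P : Set G)
  · rw [extendByZero_apply_mem _ _ hg]
    have hcount := sum_blockCoeff_cs (Subgroup.centralizer (P : Set G)) hM e hBe.1.2 T hT
    have h1 := congrFun hcount ⟨g, hg⟩
    rw [Finset.sum_apply] at h1
    have h2 : ∀ x ∈ (Finset.univ : Finset G),
        Cfsg.subgroupBlockCoeff (Subgroup.centralizer (P : Set G)) e (x⁻¹ * g * x)
          = Cfsg.blockCoeff (cs (Subgroup.centralizer (P : Set G)) x e) ⟨g, hg⟩ := by
      intro x _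
      rw [blockCoeff_cs, subgroupBlockCoeff_eq_extZ, extendByZero_apply_mem]
    rw [Finset.sum_congr rfl h2, h1]
    show _ = (Nat.card T : ℂ)⁻¹ * ((Nat.card T : ℂ) * _)
    rw [← mul_assoc, inv_mul_cancel₀ hTne, one_mul]
  · rw [extendByZero_apply_not_mem _ _ hg]
    have h2 : ∀ x ∈ (Finset.univ : Finset G),
        Cfsg.subgroupBlockCoeff (Subgroup.centralizer (P : Set G)) e (x⁻¹ * g * x) = 0 := by
      intro x _
      rw [subgroupBlockCoeff_eq_extZ, extendByZero_apply_not_mem]
      intro h'
      apply hg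
      have := (inferInstance : (Subgroup.centralizer (P : Set G)).Normal).conj_mem _ h' x
      have h3 : x * (x⁻¹ * g * x) * x⁻¹ = g := by group
      rwa [h3] at this
    rw [Finset.sum_eq_zero h2, mul_zero]

/-- the idempotent of `e` is a block idempotent of the stabilizer of `e` -/
theorem exists_block_of_stabilizer [Fact p.Prime] (hM : Cfsg.IsPModular p M) (P : Subgroup G)
    [P.Normal] (hP : IsPGroup p P)
    (e : Set (Cfsg.IrrCharacter (Subgroup.centralizer (P : Set G)))) (he : Cfsg.IsPBlock M e)
    (T : Subgroup G)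
    (hT : ∀ x : G, x ∈ T ↔ Cfsg.StabilizesBlock (Subgroup.centralizer (P : Set G)) e x) :
    ∃ E : Set (Cfsg.IrrCharacter T), Cfsg.IsPBlock M E ∧ ∀ t : T,
      Cfsg.blockCoeff E t = Cfsg.subgroupBlockCoeff (Subgroup.centralizer (P : Set G)) e (t : G) := by
  classical
  haveI : Fintype (Subgroup.centralizer (P : Set G)) := Fintype.ofFinite _
  haveI : Fintype T := Fintype.ofFinite _
  have hCT : Subgroup.centralizer (P : Set G) ≤ T := by
    intro c hc
    rw [hT, stabilizesBlock_iff_cs]
    unfold cs
    have : conjIrr (Subgroup.centralizer (P : Set G)) (nrm (Subgroup.centralizer (P : Set G)) c)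
        = id := funext (conjIrr_of_mem _ hc)
    rw [this, Set.image_id]
  have hPT : P ≤ T := by
    intro u hu
    rw [hT, stabilizesBlock_iff_cs]
    unfold cs
    have : conjIrr (Subgroup.centralizer (P : Set G)) (nrm (Subgroup.centralizer (P : Set G)) u)
        = id := by
      funext ψ
      apply conjIrr_of_centralizes
      intro k hk
      exact (Subgroup.mem_centralizer_iff.mp hk) u hu
    rw [this, Set.image_id]
  set aT : T → ℂ := restrictTo T (Cfsg.subgroupBlockCoeff (Subgroup.centralizer (P : Set G)) e)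
    with haT
  have has : ∀ t : T, (t : G) ∉ Subgroup.centralizer (P : Set G) → aT t = 0 := by
    intro t ht
    show Cfsg.subgroupBlockCoeff (Subgroup.centralizer (P : Set G)) e (t : G) = 0
    rw [subgroupBlockCoeff_eq_extZ, extendByZero_apply_not_mem _ _ ht]
  have hacl : Cfsg.IsClassFunction T aT := by
    intro t s
    exact subgroupBlockCoeff_conj_of_stabilizes _ e s ((hT s).mp s.2) t
  have hrest : restrictIn hCT aT = Cfsg.blockCoeff e := by
    ext c
    show Cfsg.subgroupBlockCoeff (Subgroup.centralizer (P : Set G)) e (c : G) = _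
    rw [subgroupBlockCoeff_eq_extZ, extendByZero_apply_coe]
  have haR : ∀ t, Cfsg.MemLocalRing M (aT t) := by
    intro t
    show Cfsg.MemLocalRing M (Cfsg.subgroupBlockCoeff (Subgroup.centralizer (P : Set G)) e (t : G))
    rw [subgroupBlockCoeff_eq_extZ]
    exact extZ_memLocalRing hM _ _ (blockCoeff_memLocalRing hM e he) _
  have hid : conv aT aT = aT := by
    obtain ⟨h1, h2⟩ := conv_restrictIn hCT aT aT has has
    apply eq_of_restrictIn_eq hCT _ _ h2 has
    rw [h1, hrest, conv_blockCoeff_self]
  obtain ⟨ξ₀, hξ₀⟩ := isPBlock_nonempty hM he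
  have hne : aT ≠ 0 := by
    intro h0
    have h1 : Cfsg.blockCoeff e
        = Cfsg.blockCoeff (∅ : Set (Cfsg.IrrCharacter (Subgroup.centralizer (P : Set G)))) := by
      rw [blockCoeff_empty, ← hrest, h0]
      rfl
    have h3 := blockCoeff_injective h1
    rw [h3] at hξ₀
    exact hξ₀
  have hE := eq_blockCoeff_idemSet aT hacl hid
  have hEne : (idemSet aT).Nonempty := by
    by_contra hcon
    rw [Set.not_nonempty_iff_eq_empty] at hcon
    rw [hcon, blockCoeff_empty] at hE
    exact hne hE
  obtain ⟨ψ₁, hψ₁⟩ := hEne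
  have hE₁E : Cfsg.blockOf M (ψ₁ : T → ℂ) ⊆ idemSet aT :=
    blockOf_subset_of_memLocalRing hM (idemSet aT) (by rw [← hE]; exact haR) ψ₁ hψ₁
  have hE₁ : Cfsg.IsPBlock M (Cfsg.blockOf M (ψ₁ : T → ℂ)) := ⟨ψ₁, rfl⟩
  have hεs : ∀ t : T, (t : G) ∉ Subgroup.centralizer (P : Set G) →
      Cfsg.blockCoeff (Cfsg.blockOf M (ψ₁ : T → ℂ)) t = 0 := by
    intro t ht
    have hPT' : IsPGroup p (P.subgroupOf T) :=
      hP.comap_of_injective T.subtype T.subtype_injective
    apply blockCoeff_eq_zero_of_notMem_centralizer hM (P.subgroupOf T) hPT' _ hE₁ t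
    intro hcen
    apply ht
    rw [Subgroup.mem_centralizer_iff]
    intro u hu
    have := (Subgroup.mem_centralizer_iff.mp hcen) ⟨u, hPT hu⟩ (Subgroup.mem_subgroupOf.mpr hu)
    exact congrArg Subtype.val this
  have hεa : conv (Cfsg.blockCoeff (Cfsg.blockOf M (ψ₁ : T → ℂ))) aT
      = Cfsg.blockCoeff (Cfsg.blockOf M (ψ₁ : T → ℂ)) := by
    conv_lhs => rw [hE]
    rw [conv_blockCoeff_blockCoeff, Set.inter_eq_left.mpr hE₁E]
  have hεne : Cfsg.blockCoeff (Cfsg.blockOf M (ψ₁ : T → ℂ)) ≠ 0 := by
    intro h0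
    have h1 : Cfsg.blockCoeff (Cfsg.blockOf M (ψ₁ : T → ℂ))
        = Cfsg.blockCoeff (∅ : Set (Cfsg.IrrCharacter T)) := by
      rw [blockCoeff_empty, h0]
    have h3 := blockCoeff_injective h1
    have : ψ₁ ∈ (∅ : Set (Cfsg.IrrCharacter T)) := by
      rw [← h3]
      exact mem_blockOf_self hM ψ₁
    exact this
  have hfin := eq_of_supported_of_conv hM hCT _ aT hεs has (blockCoeff_isClassFunction _)
    (blockCoeff_memLocalRing hM _ hE₁) (conv_blockCoeff_self _) hεne hεa e he hrest
  have hEeq : Cfsg.blockOf M (ψ₁ : T → ℂ) = idemSet aT :=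
    blockCoeff_injective (hfin.trans hE)
  refine ⟨idemSet aT, by rw [← hEeq]; exact hE₁, ?_⟩
  intro t
  rw [← hE]
  rfl

end

end Cfsg.Agent.Lib.Helper24
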