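import Mathlib
import Cfsg.Prelude.Def_Blocks
import Cfsg.Prelude.Def_BlockLocal
import Cfsg.Prelude.Def_BrauerPairs
import Cfsg.Agent.Lib.Helper24.CentPairs
import Cfsg.Agent.Lib.Helper24.NormalPPairs

/-!
# Brauer pairs inside the stabilizer `N_G(Q, f)` (helper24 library)

`T = stabSubgroup Q f = N_G(Q, f)`.

* `mem_stabSubgroup_conj_iff`, `conjStab Q x f : N_G(Q, f) ≃* N_G(Q^x, f^x)`.
* `exists_block_of_stab`: the idempotent of `f` is a block idempotent of `T`.
* `centStab : C_T(S) ≃* C_G(S)` for `Q ≤ S ≤ T`, `brauerOmega_centStab`,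
  `isNormalSubpair_of_isBrauerPairOf_stab`, `isBrauerPairOf_stab_of_isNormalSubpair`.
* `normalizerIn_le_stabSubgroup`, `exists_isDefectGroup_ge_normalizerIn`,
  `card_defectGroup_stab_conj`, `exists_conj_isDefectGroup_normalizerIn`.
-/

set_option autoImplicit false

namespace Cfsg.Agent.Lib.Helper24

open Cfsg.Agent.Lib.Helper2 Cfsg.Agent.Lib.Helper7
open scoped ComplexConjugate

section StabConj

variable {G : Type*} [Group G] [Fintype G]

/-- an element normalizing `K` under which the idempotent of `f` is invariant stabilizes `f` -/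
theorem stabilizesBlock_of_conj_invariant (K : Subgroup G)
    (f : Set (Cfsg.IrrCharacter K)) (u : G) (hu : u ∈ Subgroup.normalizer (K : Set G))
    (h : ∀ g : G, Cfsg.subgroupBlockCoeff K f (u * g * u⁻¹) = Cfsg.subgroupBlockCoeff K f g) :
    Cfsg.StabilizesBlock K f u := by
  classical
  rw [stabilizesBlock_iff]
  refine ⟨hu, ?_⟩
  have heq : conjIrr K ⟨u, hu⟩ '' f = f := by
    apply blockCoeff_injective
    funext k
    rw [blockCoeff_image_conjIrr]
    have h1 := h ((K.normalizerMonoidHom (⟨u, hu⟩ : Subgroup.normalizer (K : Set G))⁻¹ k : K) : G)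
    rw [subgroupBlockCoeff_coe] at h1
    rw [← h1]
    have e : u * ((K.normalizerMonoidHom (⟨u, hu⟩ : Subgroup.normalizer (K : Set G))⁻¹ k : K) : G)
        * u⁻¹ = (k : G) := by
      rw [normalizerMonoidHom_inv_coe]
      show u * (u⁻¹ * (k : G) * u) * u⁻¹ = k
      group
    rw [e, subgroupBlockCoeff_coe]
  rw [heq]

theorem mem_normalizer_map_conj_iff (Q : Subgroup G) (x v : G) :
    x * v * x⁻¹ ∈ Subgroup.normalizer ((Q.map (MulAut.conj x).toMonoidHom : Subgroup G) : Set G)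
      ↔ v ∈ Subgroup.normalizer (Q : Set G) := by
  rw [Subgroup.mem_normalizer_iff, Subgroup.mem_normalizer_iff]
  constructor
  · intro h n
    have h1 := h (x * n * x⁻¹)
    rw [mem_map_conj_iff, mem_map_conj_iff] at h1
    have e1 : x⁻¹ * (x * n * x⁻¹) * x = n := by group
    have e2 : x⁻¹ * (x * v * x⁻¹ * (x * n * x⁻¹) * (x * v * x⁻¹)⁻¹) * x = v * n * v⁻¹ := by group
    rw [e1, e2] at h1
    exact h1
  · intro h n
    rw [mem_map_conj_iff, mem_map_conj_iff]
    have h1 := h (x⁻¹ * n * x)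
    have e2 : x⁻¹ * (x * v * x⁻¹ * n * (x * v * x⁻¹)⁻¹) * x = v * (x⁻¹ * n * x) * v⁻¹ := by group
    rw [e2]
    exact h1

theorem mem_stabSubgroup_conj_iff (Q : Subgroup G) (x : G)
    (f : Set (Cfsg.IrrCharacter (Subgroup.centralizer (Q : Set G)))) (v : G) :
    x * v * x⁻¹ ∈ stabSubgroup (Q.map (MulAut.conj x).toMonoidHom) (Cfsg.conjBlock Q x f)
      ↔ v ∈ stabSubgroup Q f := by
  rw [mem_stabSubgroup, mem_stabSubgroup, mem_normalizer_map_conj_iff]
  constructor
  · rintro ⟨hv, h⟩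
    refine ⟨hv, ?_⟩
    apply stabilizesBlock_of_conj_invariant _ _ _ (normalizer_le_normalizer_centralizer Q hv)
    intro g
    have h1 := subgroupBlockCoeff_conj_of_stabilizes _ _ _ h (x * g * x⁻¹)
    have e : x * v * x⁻¹ * (x * g * x⁻¹) * (x * v * x⁻¹)⁻¹ = x * (v * g * v⁻¹) * x⁻¹ := by group
    rw [e, subgroupBlockCoeff_conjBlock, subgroupBlockCoeff_conjBlock] at h1
    exact h1
  · rintro ⟨hv, h⟩
    exact ⟨hv, stabilizesBlock_conj Q x f v h⟩

/-- conjugation by `x` as an isomorphism `N_G(Q, f) ≃* N_G(Q^x, f^x)` -/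
noncomputable def conjStab (Q : Subgroup G) (x : G)
    (f : Set (Cfsg.IrrCharacter (Subgroup.centralizer (Q : Set G)))) :
    stabSubgroup Q f ≃*
      stabSubgroup (Q.map (MulAut.conj x).toMonoidHom) (Cfsg.conjBlock Q x f) where
  toFun t := ⟨x * t * x⁻¹, (mem_stabSubgroup_conj_iff Q x f t).mpr t.2⟩
  invFun t' := ⟨x⁻¹ * t' * x, by
    rw [← mem_stabSubgroup_conj_iff Q x f]
    have e : x * (x⁻¹ * (t' : G) * x) * x⁻¹ = t' := by group
    rw [e]
    exact t'.2⟩
  left_inv t := Subtype.ext (by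
    show x⁻¹ * (x * (t : G) * x⁻¹) * x = t
    group)
  right_inv t' := Subtype.ext (by
    show x * (x⁻¹ * (t' : G) * x) * x⁻¹ = t'
    group)
  map_mul' a b := Subtype.ext (by
    show x * ((a * b : stabSubgroup Q f) : G) * x⁻¹
      = (x * (a : G) * x⁻¹) * (x * (b : G) * x⁻¹)
    rw [Subgroup.coe_mul]
    group)

theorem conjStab_coe (Q : Subgroup G) (x : G)
    (f : Set (Cfsg.IrrCharacter (Subgroup.centralizer (Q : Set G)))) (t : stabSubgroup Q f) :
    ((conjStab Q x f t : stabSubgroup (Q.map (MulAut.conj x).toMonoidHom)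
      (Cfsg.conjBlock Q x f)) : G) = x * t * x⁻¹ := rfl

theorem conjStab_symm_coe (Q : Subgroup G) (x : G)
    (f : Set (Cfsg.IrrCharacter (Subgroup.centralizer (Q : Set G))))
    (t' : stabSubgroup (Q.map (MulAut.conj x).toMonoidHom) (Cfsg.conjBlock Q x f)) :
    (((conjStab Q x f).symm t' : stabSubgroup Q f) : G) = x⁻¹ * t' * x := rfl

theorem centralizer_le_stabSubgroup (Q : Subgroup G)
    (f : Set (Cfsg.IrrCharacter (Subgroup.centralizer (Q : Set G)))) :
    Subgroup.centralizer (Q : Set G) ≤ stabSubgroup Q f :=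
  le_trans le_sup_right (sup_centralizer_le_stabSubgroup Q f)

theorem le_stabSubgroup (Q : Subgroup G)
    (f : Set (Cfsg.IrrCharacter (Subgroup.centralizer (Q : Set G)))) :
    Q ≤ stabSubgroup Q f :=
  le_trans le_sup_left (sup_centralizer_le_stabSubgroup Q f)

theorem stabSubgroup_le_normalizer (Q : Subgroup G)
    (f : Set (Cfsg.IrrCharacter (Subgroup.centralizer (Q : Set G)))) :
    stabSubgroup Q f ≤ Subgroup.normalizer (Q : Set G) :=
  fun y hy => ((mem_stabSubgroup Q f y).mp hy).1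

end StabConj

section RelStab

variable {G : Type*} [Group G] [Fintype G] {p : ℕ} {M : Ideal Cfsg.AlgInt}

/-- the idempotent of `f` is a block idempotent of the stabilizer `N_G(Q, f)` -/
theorem exists_block_of_stab [Fact p.Prime] (hM : Cfsg.IsPModular p M) (Q : Subgroup G)
    (hQ : IsPGroup p Q)
    (f : Set (Cfsg.IrrCharacter (Subgroup.centralizer (Q : Set G)))) (hf : Cfsg.IsPBlock M f) :
    ∃ F : Set (Cfsg.IrrCharacter (stabSubgroup Q f)), Cfsg.IsPBlock M F ∧
      ∀ t : stabSubgroup Q f,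
        Cfsg.blockCoeff F t
          = Cfsg.subgroupBlockCoeff (Subgroup.centralizer (Q : Set G)) f (t : G) := by
  classical
  haveI : Fintype (Subgroup.centralizer (Q : Set G)) := Fintype.ofFinite _
  haveI : Fintype (stabSubgroup Q f) := Fintype.ofFinite _
  have hCT : Subgroup.centralizer (Q : Set G) ≤ stabSubgroup Q f := centralizer_le_stabSubgroup Q f
  have hQT : Q ≤ stabSubgroup Q f := le_stabSubgroup Q f
  haveI hQn : (Q.subgroupOf (stabSubgroup Q f)).Normal :=
    Subgroup.normal_subgroupOf_of_le_normalizer (stabSubgroup_le_normalizer Q f)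
  set aT : stabSubgroup Q f → ℂ :=
    restrictTo (stabSubgroup Q f) (Cfsg.subgroupBlockCoeff (Subgroup.centralizer (Q : Set G)) f)
    with haT
  have has : ∀ t : stabSubgroup Q f, (t : G) ∉ Subgroup.centralizer (Q : Set G) → aT t = 0 := by
    intro t ht
    show Cfsg.subgroupBlockCoeff (Subgroup.centralizer (Q : Set G)) f (t : G) = 0
    rw [subgroupBlockCoeff_eq_extZ, extendByZero_apply_not_mem _ _ ht]
  have hacl : Cfsg.IsClassFunction (stabSubgroup Q f) aT := by
    intro t s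
    exact subgroupBlockCoeff_conj_of_stabilizes _ f s ((mem_stabSubgroup Q f s).mp s.2).2 t
  have hrest : restrictIn hCT aT = Cfsg.blockCoeff f := by
    ext c
    show Cfsg.subgroupBlockCoeff (Subgroup.centralizer (Q : Set G)) f (c : G) = _
    rw [subgroupBlockCoeff_eq_extZ, extendByZero_apply_coe]
  have haR : ∀ t, Cfsg.MemLocalRing M (aT t) := by
    intro t
    show Cfsg.MemLocalRing M
      (Cfsg.subgroupBlockCoeff (Subgroup.centralizer (Q : Set G)) f (t : G))
    rw [subgroupBlockCoeff_eq_extZ]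
    exact extZ_memLocalRing hM _ _ (blockCoeff_memLocalRing hM f hf) _
  have hid : conv aT aT = aT := by
    obtain ⟨h1, h2⟩ := conv_restrictIn hCT aT aT has has
    apply eq_of_restrictIn_eq hCT _ _ h2 has
    rw [h1, hrest, conv_blockCoeff_self]
  obtain ⟨ξ₀, hξ₀⟩ := isPBlock_nonempty hM hf
  have hne : aT ≠ 0 := by
    intro h0
    have h1 : Cfsg.blockCoeff f
        = Cfsg.blockCoeff (∅ : Set (Cfsg.IrrCharacter (Subgroup.centralizer (Q : Set G)))) := by
      rw [blockCoeff_empty, ← hrest, h0]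
      rfl
    have h3 := blockCoeff_injective h1
    rw [h3] at hξ₀
    exact hξ₀
  have hE := eq_blockCoeff_idemSet aT hacl hid
  have hEne : (idemSet aT).Nonempty := by
    by_contra hcon
    rw [Set.not_nonempty_iff_eq_empty] at hcon
    rw [hcon, blockCoeff_empty] at hE
    exact hne hE
  obtain ⟨ψ₁, hψ₁⟩ := hEne
  have hE₁E : Cfsg.blockOf M (ψ₁ : stabSubgroup Q f → ℂ) ⊆ idemSet aT :=
    blockOf_subset_of_memLocalRing hM (idemSet aT) (by rw [← hE]; exact haR) ψ₁ hψ₁
  have hE₁ : Cfsg.IsPBlock M (Cfsg.blockOf M (ψ₁ : stabSubgroup Q f → ℂ)) := ⟨ψ₁, rfl⟩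
  have hεs : ∀ t : stabSubgroup Q f, (t : G) ∉ Subgroup.centralizer (Q : Set G) →
      Cfsg.blockCoeff (Cfsg.blockOf M (ψ₁ : stabSubgroup Q f → ℂ)) t = 0 := by
    intro t ht
    have hPT' : IsPGroup p (Q.subgroupOf (stabSubgroup Q f)) :=
      hQ.comap_of_injective (stabSubgroup Q f).subtype (stabSubgroup Q f).subtype_injective
    apply blockCoeff_eq_zero_of_notMem_centralizer hM (Q.subgroupOf (stabSubgroup Q f)) hPT' _
      hE₁ t
    intro hcen
    apply ht
    rw [Subgroup.mem_centralizer_iff]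
    intro u hu
    have := (Subgroup.mem_centralizer_iff.mp hcen) ⟨u, hQT hu⟩ (Subgroup.mem_subgroupOf.mpr hu)
    exact congrArg Subtype.val this
  have hεa : conv (Cfsg.blockCoeff (Cfsg.blockOf M (ψ₁ : stabSubgroup Q f → ℂ))) aT
      = Cfsg.blockCoeff (Cfsg.blockOf M (ψ₁ : stabSubgroup Q f → ℂ)) := by
    conv_lhs => rw [hE]
    rw [conv_blockCoeff_blockCoeff, Set.inter_eq_left.mpr hE₁E]
  have hεne : Cfsg.blockCoeff (Cfsg.blockOf M (ψ₁ : stabSubgroup Q f → ℂ)) ≠ 0 := by
    intro h0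
    have h1 : Cfsg.blockCoeff (Cfsg.blockOf M (ψ₁ : stabSubgroup Q f → ℂ))
        = Cfsg.blockCoeff (∅ : Set (Cfsg.IrrCharacter (stabSubgroup Q f))) := by
      rw [blockCoeff_empty, h0]
    have h3 := blockCoeff_injective h1
    have : ψ₁ ∈ (∅ : Set (Cfsg.IrrCharacter (stabSubgroup Q f))) := by
      rw [← h3]
      exact mem_blockOf_self hM ψ₁
    exact this
  have hfin := eq_of_supported_of_conv hM hCT _ aT hεs has (blockCoeff_isClassFunction _)
    (blockCoeff_memLocalRing hM _ hE₁) (conv_blockCoeff_self _) hεne hεa f hf hrest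
  have hEeq : Cfsg.blockOf M (ψ₁ : stabSubgroup Q f → ℂ) = idemSet aT :=
    blockCoeff_injective (hfin.trans hE)
  refine ⟨idemSet aT, by rw [← hEeq]; exact hE₁, ?_⟩
  intro t
  rw [← hE]
  rfl

end RelStab

section CentStab

variable {G : Type*} [Group G] [Fintype G]

theorem le_map_subtype_of_subgroupOf_le (Q T : Subgroup G) (hQT : Q ≤ T) (S : Subgroup T)
    (hQS : Q.subgroupOf T ≤ S) : Q ≤ S.map T.subtype := by
  intro q hq
  exact ⟨⟨q, hQT hq⟩, hQS (Subgroup.mem_subgroupOf.mpr hq), rfl⟩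

/-- for `Q ≤ S ≤ T = N_G(Q, f)`: `C_T(S) ≃* C_G(S)` -/
noncomputable def centStab (Q : Subgroup G)
    (f : Set (Cfsg.IrrCharacter (Subgroup.centralizer (Q : Set G))))
    (S : Subgroup (stabSubgroup Q f)) (hQS : Q.subgroupOf (stabSubgroup Q f) ≤ S) :
    Subgroup.centralizer (S : Set (stabSubgroup Q f)) ≃*
      Subgroup.centralizer ((S.map (stabSubgroup Q f).subtype : Subgroup G) : Set G) where
  toFun c := ⟨c.1.1, by
    rw [Subgroup.mem_centralizer_iff]
    rintro _ ⟨s, hs, rfl⟩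
    have := Subgroup.mem_centralizer_iff.mp c.2 s hs
    exact congrArg Subtype.val this⟩
  invFun c' := ⟨⟨(c' : G), centralizer_le_stabSubgroup Q f
      (Subgroup.centralizer_le (SetLike.coe_subset_coe.mpr
        (le_map_subtype_of_subgroupOf_le Q _ (le_stabSubgroup Q f) S hQS)) c'.2)⟩, by
    rw [Subgroup.mem_centralizer_iff]
    intro s hs
    apply Subtype.ext
    exact Subgroup.mem_centralizer_iff.mp c'.2 _ ⟨s, hs, rfl⟩⟩
  left_inv c := Subtype.ext (Subtype.ext rfl)
  right_inv c' := Subtype.ext rfl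
  map_mul' a b := Subtype.ext rfl

theorem centStab_coe (Q : Subgroup G)
    (f : Set (Cfsg.IrrCharacter (Subgroup.centralizer (Q : Set G))))
    (S : Subgroup (stabSubgroup Q f)) (hQS : Q.subgroupOf (stabSubgroup Q f) ≤ S)
    (c : Subgroup.centralizer (S : Set (stabSubgroup Q f))) :
    ((centStab Q f S hQS c : Subgroup.centralizer
      ((S.map (stabSubgroup Q f).subtype : Subgroup G) : Set G)) : G) = c.1.1 := rfl

theorem brauerOmega_centStab (Q : Subgroup G)
    (f : Set (Cfsg.IrrCharacter (Subgroup.centralizer (Q : Set G))))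
    (S : Subgroup (stabSubgroup Q f)) (hQS : Q.subgroupOf (stabSubgroup Q f) ≤ S)
    (β : stabSubgroup Q f → ℂ) (βG : G → ℂ)
    (hβ : ∀ t : stabSubgroup Q f, βG t = β t)
    (ξ' : Cfsg.IrrCharacter (Subgroup.centralizer (S : Set (stabSubgroup Q f)))) :
    Cfsg.brauerOmega (S.map (stabSubgroup Q f).subtype) βG
        (irrMap (centStab Q f S hQS) ξ').1
      = Cfsg.brauerOmega S β ξ'.1 := by
  unfold Cfsg.brauerOmega
  have h1 := finsum_comp_equiv (centStab Q f S hQS).toEquiv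
    (f := fun c' : Subgroup.centralizer
        ((S.map (stabSubgroup Q f).subtype : Subgroup G) : Set G) =>
      βG c' * (irrMap (centStab Q f S hQS) ξ').1 c' / (irrMap (centStab Q f S hQS) ξ').1 1)
  rw [← h1]
  apply finsum_congr
  intro c
  show βG ((centStab Q f S hQS c : Subgroup.centralizer
      ((S.map (stabSubgroup Q f).subtype : Subgroup G) : Set G)) : G)
      * (irrMap (centStab Q f S hQS) ξ').1 (centStab Q f S hQS c)
        / (irrMap (centStab Q f S hQS) ξ').1 1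
    = β c.1 * ξ'.1 c / ξ'.1 1
  rw [irrMap_apply_apply, centStab_coe, hβ, irrMap_apply, map_one]

end CentStab

section Main

variable {G : Type*} [Group G] [Fintype G] {p : ℕ} {M : Ideal Cfsg.AlgInt}

/-- an `F`-Brauer pair `(S, g)` of `T = N_G(Q, f)` with `Q ≤ S` gives `(Q, f) ⊴ (S, g)` in `G` -/
theorem isNormalSubpair_of_isBrauerPairOf_stab [Fact p.Prime] (Q : Subgroup G)
    (hQ : IsPGroup p Q)
    (f : Set (Cfsg.IrrCharacter (Subgroup.centralizer (Q : Set G)))) (hf : Cfsg.IsPBlock M f)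
    (F : Set (Cfsg.IrrCharacter (stabSubgroup Q f)))
    (hFc : ∀ t : stabSubgroup Q f, Cfsg.blockCoeff F t
      = Cfsg.subgroupBlockCoeff (Subgroup.centralizer (Q : Set G)) f (t : G))
    (S : Subgroup (stabSubgroup Q f)) (hQS : Q.subgroupOf (stabSubgroup Q f) ≤ S)
    (g : Set (Cfsg.IrrCharacter (Subgroup.centralizer (S : Set (stabSubgroup Q f)))))
    (h : Cfsg.IsBrauerPairOf p M F S g) :
    Cfsg.IsNormalSubpair p M Q f (S.map (stabSubgroup Q f).subtype)
      (irrMap (centStab Q f S hQS) '' g) := by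
  obtain ⟨⟨hS, hg⟩, _, hone⟩ := h
  refine ⟨⟨hQ, hf⟩, ⟨hS.map _, isPBlock_image_irrMap _ hg⟩,
    le_map_subtype_of_subgroupOf_le Q _ (le_stabSubgroup Q f) S hQS, ?_, ?_, ?_⟩
  · rintro _ ⟨s, _, rfl⟩
    exact ((mem_stabSubgroup Q f _).mp s.2).1
  · rintro _ ⟨s, _, rfl⟩
    exact ((mem_stabSubgroup Q f _).mp s.2).2
  · rintro _ ⟨ξ', hξ', rfl⟩
    rw [brauerOmega_centStab Q f S hQS (Cfsg.blockCoeff F)
      (Cfsg.subgroupBlockCoeff (Subgroup.centralizer (Q : Set G)) f)
      (fun t => (hFc t).symm) ξ']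
    exact hone ξ' hξ'

/-- a normal inclusion `(Q, f) ⊴ (S, g')` with `S ≤ T = N_G(Q, f)` gives an `F`-Brauer pair of `T` -/
theorem isBrauerPairOf_stab_of_isNormalSubpair (Q : Subgroup G)
    (f : Set (Cfsg.IrrCharacter (Subgroup.centralizer (Q : Set G))))
    (F : Set (Cfsg.IrrCharacter (stabSubgroup Q f))) (hF : Cfsg.IsPBlock M F)
    (hFc : ∀ t : stabSubgroup Q f, Cfsg.blockCoeff F t
      = Cfsg.subgroupBlockCoeff (Subgroup.centralizer (Q : Set G)) f (t : G))
    (S : Subgroup (stabSubgroup Q f)) (hQS : Q.subgroupOf (stabSubgroup Q f) ≤ S)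
    (hS : IsPGroup p S)
    (g' : Set (Cfsg.IrrCharacter (Subgroup.centralizer
      ((S.map (stabSubgroup Q f).subtype : Subgroup G) : Set G))))
    (h : Cfsg.IsNormalSubpair p M Q f (S.map (stabSubgroup Q f).subtype) g') :
    Cfsg.IsBrauerPairOf p M F S (irrMap (centStab Q f S hQS).symm '' g') := by
  obtain ⟨_, ⟨_, hg'⟩, _, _, _, hone⟩ := h
  refine ⟨⟨hS, isPBlock_image_irrMap _ hg'⟩, hF, ?_⟩
  rintro _ ⟨ξ, hξ, rfl⟩
  have h1 := brauerOmega_centStab Q f S hQS (Cfsg.blockCoeff F)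
    (Cfsg.subgroupBlockCoeff (Subgroup.centralizer (Q : Set G)) f)
    (fun t => (hFc t).symm) (irrMap (centStab Q f S hQS).symm ξ)
  rw [irrMap_irrMap_symm] at h1
  rw [← h1]
  exact hone ξ hξ

/-- `N_P(Q) ≤ N_G(Q, f)` for `(Q, f) ≤ (P, e)` -/
theorem normalizerIn_le_stabSubgroup (hM : Cfsg.IsPModular p M)
    (P Q : Subgroup G) (e : Set (Cfsg.IrrCharacter (Subgroup.centralizer (P : Set G))))
    (f : Set (Cfsg.IrrCharacter (Subgroup.centralizer (Q : Set G))))
    (hPe : Cfsg.IsBrauerPair p M P e) (hQP : Q ≤ P)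
    (hle : Cfsg.SubpairLE p M Q f P e) :
    P ⊓ Subgroup.normalizer (Q : Set G) ≤ stabSubgroup Q f := by
  have hQR : Q ≤ P ⊓ Subgroup.normalizer (Q : Set G) := le_inf hQP Subgroup.le_normalizer
  obtain ⟨fR, hfR1, hfR2, _⟩ := exists_intermediate_subpairLE hM hPe hQR inf_le_left hle
  have hns := isNormalSubpair_of_subpairLE hM ⟨hPe.1.to_le inf_le_left, hfR1⟩ hQR inf_le_right hfR2
  intro y hy
  rw [mem_stabSubgroup]
  exact ⟨(Subgroup.mem_inf.mp hy).2, hns.2.2.2.2.1 y hy⟩

/-- `N_P(Q)` carries an `F`-Brauer pair of `T = N_G(Q, f)` -/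
theorem exists_isBrauerPairOf_normalizerIn [Fact p.Prime] (hM : Cfsg.IsPModular p M)
    (P Q : Subgroup G) (e : Set (Cfsg.IrrCharacter (Subgroup.centralizer (P : Set G))))
    (f : Set (Cfsg.IrrCharacter (Subgroup.centralizer (Q : Set G))))
    (hPe : Cfsg.IsBrauerPair p M P e) (hQP : Q ≤ P)
    (hle : Cfsg.SubpairLE p M Q f P e)
    (F : Set (Cfsg.IrrCharacter (stabSubgroup Q f))) (hF : Cfsg.IsPBlock M F)
    (hFc : ∀ t : stabSubgroup Q f, Cfsg.blockCoeff F t
      = Cfsg.subgroupBlockCoeff (Subgroup.centralizer (Q : Set G)) f (t : G)) :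
    ∃ g : Set (Cfsg.IrrCharacter (Subgroup.centralizer
        (((P ⊓ Subgroup.normalizer (Q : Set G)).subgroupOf (stabSubgroup Q f)
          : Subgroup (stabSubgroup Q f)) : Set (stabSubgroup Q f)))),
      Cfsg.IsBrauerPairOf p M F
        ((P ⊓ Subgroup.normalizer (Q : Set G)).subgroupOf (stabSubgroup Q f)) g := by
  have hP := hPe.1
  have hS : IsPGroup p ((P ⊓ Subgroup.normalizer (Q : Set G)).subgroupOf (stabSubgroup Q f)) :=
    (hP.to_le inf_le_left).comap_subtype
  have hQS : Q.subgroupOf (stabSubgroup Q f)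
      ≤ (P ⊓ Subgroup.normalizer (Q : Set G)).subgroupOf (stabSubgroup Q f) := by
    intro t ht
    rw [Subgroup.mem_subgroupOf] at ht ⊢
    exact Subgroup.mem_inf.mpr ⟨hQP ht, Subgroup.le_normalizer ht⟩
  have hS' : ((P ⊓ Subgroup.normalizer (Q : Set G)).subgroupOf (stabSubgroup Q f)).map
      (stabSubgroup Q f).subtype = (P ⊓ Subgroup.normalizer (Q : Set G)) ⊓ stabSubgroup Q f :=
    Subgroup.subgroupOf_map_subtype _ _
  have hQR : Q ≤ ((P ⊓ Subgroup.normalizer (Q : Set G)).subgroupOf (stabSubgroup Q f)).map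
      (stabSubgroup Q f).subtype :=
    le_map_subtype_of_subgroupOf_le Q _ (le_stabSubgroup Q f) _ hQS
  have hRP : ((P ⊓ Subgroup.normalizer (Q : Set G)).subgroupOf (stabSubgroup Q f)).map
      (stabSubgroup Q f).subtype ≤ P := by
    rw [hS']
    exact le_trans inf_le_left inf_le_left
  have hRN : ((P ⊓ Subgroup.normalizer (Q : Set G)).subgroupOf (stabSubgroup Q f)).map
      (stabSubgroup Q f).subtype ≤ Subgroup.normalizer (Q : Set G) := by
    rw [hS']
    exact le_trans inf_le_left inf_le_right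
  obtain ⟨fR, hfR1, hfR2, _⟩ := exists_intermediate_subpairLE hM hPe hQR hRP hle
  have hns := isNormalSubpair_of_subpairLE hM ⟨hP.to_le hRP, hfR1⟩ hQR hRN hfR2
  exact ⟨_, isBrauerPairOf_stab_of_isNormalSubpair Q f F hF hFc _ hQS hS fR hns⟩

theorem exists_isMaximalBrauerPair_ge_normalizerIn [Fact p.Prime] (hM : Cfsg.IsPModular p M)
    (P Q : Subgroup G) (e : Set (Cfsg.IrrCharacter (Subgroup.centralizer (P : Set G))))
    (f : Set (Cfsg.IrrCharacter (Subgroup.centralizer (Q : Set G))))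
    (hPe : Cfsg.IsBrauerPair p M P e) (hQP : Q ≤ P)
    (hle : Cfsg.SubpairLE p M Q f P e)
    (F : Set (Cfsg.IrrCharacter (stabSubgroup Q f))) (hF : Cfsg.IsPBlock M F)
    (hFc : ∀ t : stabSubgroup Q f, Cfsg.blockCoeff F t
      = Cfsg.subgroupBlockCoeff (Subgroup.centralizer (Q : Set G)) f (t : G)) :
    ∃ (S₁ : Subgroup (stabSubgroup Q f))
      (g₁ : Set (Cfsg.IrrCharacter (Subgroup.centralizer (S₁ : Set (stabSubgroup Q f))))),
      Cfsg.IsMaximalBrauerPair p M F S₁ g₁ ∧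
        (P ⊓ Subgroup.normalizer (Q : Set G)).subgroupOf (stabSubgroup Q f) ≤ S₁ := by
  classical
  haveI : Fintype (stabSubgroup Q f) := Fintype.ofFinite _
  obtain ⟨g, hg⟩ := exists_isBrauerPairOf_normalizerIn hM P Q e f hPe hQP hle F hF hFc
  obtain ⟨S₁, g₁, hmax₁, hle₁⟩ := exists_isMaximalBrauerPair_ge F _ _ g hg rfl
  exact ⟨S₁, g₁, hmax₁, le_of_reflTransGen hle₁⟩

/-- **`N_P(Q)` lies in a defect group of the block of `N_G(Q, f)` given by `f`** -/
theorem exists_isDefectGroup_ge_normalizerIn [Fact p.Prime] (hM : Cfsg.IsPModular p M)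
    (P Q : Subgroup G) (e : Set (Cfsg.IrrCharacter (Subgroup.centralizer (P : Set G))))
    (f : Set (Cfsg.IrrCharacter (Subgroup.centralizer (Q : Set G))))
    (hPe : Cfsg.IsBrauerPair p M P e) (hQP : Q ≤ P)
    (hle : Cfsg.SubpairLE p M Q f P e)
    (F : Set (Cfsg.IrrCharacter (stabSubgroup Q f))) (hF : Cfsg.IsPBlock M F)
    (hFc : ∀ t : stabSubgroup Q f, Cfsg.blockCoeff F t
      = Cfsg.subgroupBlockCoeff (Subgroup.centralizer (Q : Set G)) f (t : G)) :
    ∃ D : Subgroup (stabSubgroup Q f), Cfsg.IsDefectGroup p M F D ∧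
      (P ⊓ Subgroup.normalizer (Q : Set G)).subgroupOf (stabSubgroup Q f) ≤ D := by
  classical
  haveI : Fintype (stabSubgroup Q f) := Fintype.ofFinite _
  obtain ⟨S₁, g₁, hmax₁, hle₁⟩ :=
    exists_isMaximalBrauerPair_ge_normalizerIn hM P Q e f hPe hQP hle F hF hFc
  exact ⟨S₁, isDefectGroup_of_isMaximalBrauerPair S₁ g₁ hM F hmax₁, hle₁⟩

/-- the blocks of `N_G(Q, f)` and `N_G(Q^x, f^x)` given by `f`, `f^x` correspond under
conjugation -/
theorem image_irrMap_conjStab (Q : Subgroup G) (x : G)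
    (f : Set (Cfsg.IrrCharacter (Subgroup.centralizer (Q : Set G))))
    (F : Set (Cfsg.IrrCharacter (stabSubgroup Q f)))
    (hFc : ∀ t : stabSubgroup Q f, Cfsg.blockCoeff F t
      = Cfsg.subgroupBlockCoeff (Subgroup.centralizer (Q : Set G)) f (t : G))
    (F' : Set (Cfsg.IrrCharacter
      (stabSubgroup (Q.map (MulAut.conj x).toMonoidHom) (Cfsg.conjBlock Q x f))))
    (hF'c : ∀ t : stabSubgroup (Q.map (MulAut.conj x).toMonoidHom) (Cfsg.conjBlock Q x f),
      Cfsg.blockCoeff F' t = Cfsg.subgroupBlockCoeff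
        (Subgroup.centralizer ((Q.map (MulAut.conj x).toMonoidHom : Subgroup G) : Set G))
        (Cfsg.conjBlock Q x f) (t : G)) :
    irrMap (conjStab Q x f) '' F = F' := by
  classical
  haveI : Fintype (stabSubgroup (Q.map (MulAut.conj x).toMonoidHom) (Cfsg.conjBlock Q x f)) :=
    Fintype.ofFinite _
  apply blockCoeff_injective
  funext t'
  rw [blockCoeff_image_irrMap, hFc, hF'c]
  have e : (t' : G) = x * (((conjStab Q x f).symm t' : stabSubgroup Q f) : G) * x⁻¹ := by
    rw [conjStab_symm_coe]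
    group
  conv_rhs => rw [e]
  rw [subgroupBlockCoeff_conjBlock]

theorem card_defectGroup_stab_conj [Fact p.Prime] (hM : Cfsg.IsPModular p M)
    (Q : Subgroup G) (x : G)
    (f : Set (Cfsg.IrrCharacter (Subgroup.centralizer (Q : Set G))))
    (F : Set (Cfsg.IrrCharacter (stabSubgroup Q f)))
    (hFc : ∀ t : stabSubgroup Q f, Cfsg.blockCoeff F t
      = Cfsg.subgroupBlockCoeff (Subgroup.centralizer (Q : Set G)) f (t : G))
    (F' : Set (Cfsg.IrrCharacter
      (stabSubgroup (Q.map (MulAut.conj x).toMonoidHom) (Cfsg.conjBlock Q x f))))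
    (hF' : Cfsg.IsPBlock M F')
    (hF'c : ∀ t : stabSubgroup (Q.map (MulAut.conj x).toMonoidHom) (Cfsg.conjBlock Q x f),
      Cfsg.blockCoeff F' t = Cfsg.subgroupBlockCoeff
        (Subgroup.centralizer ((Q.map (MulAut.conj x).toMonoidHom : Subgroup G) : Set G))
        (Cfsg.conjBlock Q x f) (t : G))
    (D : Subgroup (stabSubgroup Q f)) (hD : Cfsg.IsDefectGroup p M F D)
    (D' : Subgroup (stabSubgroup (Q.map (MulAut.conj x).toMonoidHom) (Cfsg.conjBlock Q x f)))
    (hD' : Cfsg.IsDefectGroup p M F' D') : Nat.card D' = Nat.card D := by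
  classical
  haveI : Fintype (stabSubgroup (Q.map (MulAut.conj x).toMonoidHom) (Cfsg.conjBlock Q x f)) :=
    Fintype.ofFinite _
  have himg := image_irrMap_conjStab Q x f F hFc F' hF'c
  have hDx : Cfsg.IsDefectGroup p M F' (D.map (conjStab Q x f).toMonoidHom) := by
    rw [← himg]
    exact isDefectGroup_irrMap (conjStab Q x f) F D hD
  rw [card_of_isDefectGroup hM _ hF' _ hD', ← card_of_isDefectGroup hM _ hF' _ hDx,
    Subgroup.card_map_of_injective (MulEquiv.injective _)]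

/-- **After a suitable conjugation, `N_P(Q)` is a defect group of the block of `N_G(Q, f)` given
by `f`.** -/
theorem exists_conj_isDefectGroup_normalizerIn [Fact p.Prime] (hM : Cfsg.IsPModular p M)
    (B : Set (Cfsg.IrrCharacter G)) (P Q : Subgroup G)
    (e : Set (Cfsg.IrrCharacter (Subgroup.centralizer (P : Set G))))
    (f : Set (Cfsg.IrrCharacter (Subgroup.centralizer (Q : Set G))))
    (hmax : Cfsg.IsMaximalBrauerPair p M B P e) (hQP : Q ≤ P) (hf : Cfsg.IsPBlock M f)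
    (hle : Cfsg.SubpairLE p M Q f P e) :
    ∃ x : G, Cfsg.SubpairLE p M (Q.map (MulAut.conj x).toMonoidHom) (Cfsg.conjBlock Q x f) P e ∧
      ∀ F' : Set (Cfsg.IrrCharacter
          (stabSubgroup (Q.map (MulAut.conj x).toMonoidHom) (Cfsg.conjBlock Q x f))),
        Cfsg.IsPBlock M F' →
        (∀ t : stabSubgroup (Q.map (MulAut.conj x).toMonoidHom) (Cfsg.conjBlock Q x f),
          Cfsg.blockCoeff F' t = Cfsg.subgroupBlockCoeff
            (Subgroup.centralizer ((Q.map (MulAut.conj x).toMonoidHom : Subgroup G) : Set G))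
            (Cfsg.conjBlock Q x f) (t : G)) →
        Cfsg.IsDefectGroup p M F'
          ((P ⊓ Subgroup.normalizer
              ((Q.map (MulAut.conj x).toMonoidHom : Subgroup G) : Set G)).subgroupOf
            (stabSubgroup (Q.map (MulAut.conj x).toMonoidHom) (Cfsg.conjBlock Q x f))) := by
  classical
  haveI : Fintype (stabSubgroup Q f) := Fintype.ofFinite _
  have hPe := hmax.1.1
  have hP := hPe.1
  have hQ : IsPGroup p Q := hP.to_le hQP
  have hB := hmax.1.2.1
  have hQf : Cfsg.IsBrauerPairOf p M B Q f :=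
    (isBrauerPairOf_iff_of_subpairLE hM hPe ⟨hQ, hf⟩ hle B hB).mp hmax.1
  obtain ⟨F, hF, hFc⟩ := exists_block_of_stab hM Q hQ f hf
  obtain ⟨S₁, g₁, hmax₁, hSS₁⟩ :=
    exists_isMaximalBrauerPair_ge_normalizerIn hM P Q e f hPe hQP hle F hF hFc
  have hD₁ := isDefectGroup_of_isMaximalBrauerPair S₁ g₁ hM F hmax₁
  have hQS : Q.subgroupOf (stabSubgroup Q f)
      ≤ (P ⊓ Subgroup.normalizer (Q : Set G)).subgroupOf (stabSubgroup Q f) := by
    intro t ht
    rw [Subgroup.mem_subgroupOf] at ht ⊢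
    exact Subgroup.mem_inf.mpr ⟨hQP ht, Subgroup.le_normalizer ht⟩
  have hQS₁ : Q.subgroupOf (stabSubgroup Q f) ≤ S₁ := le_trans hQS hSS₁
  have hns := isNormalSubpair_of_isBrauerPairOf_stab Q hQ f hf F hFc S₁ hQS₁ g₁ hmax₁.1
  have hle₁ : Cfsg.SubpairLE p M Q f (S₁.map (stabSubgroup Q f).subtype)
      (irrMap (centStab Q f S₁ hQS₁) '' g₁) := Relation.ReflTransGen.single hns
  have hR₁ : Cfsg.IsBrauerPairOf p M B (S₁.map (stabSubgroup Q f).subtype)
      (irrMap (centStab Q f S₁ hQS₁) '' g₁) :=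
    (isBrauerPairOf_iff_of_subpairLE hM hns.2.1 ⟨hQ, hf⟩ hle₁ B hB).mpr hQf
  obtain ⟨x, hx⟩ := exists_conj_subpairLE hM B P _ e _ hmax hR₁
  have hlex : Cfsg.SubpairLE p M (Q.map (MulAut.conj x).toMonoidHom) (Cfsg.conjBlock Q x f) P e :=
    Relation.ReflTransGen.trans (subpairLE_conj x hle₁) hx
  refine ⟨x, hlex, ?_⟩
  intro F' hF' hF'c
  haveI : Fintype (stabSubgroup (Q.map (MulAut.conj x).toMonoidHom) (Cfsg.conjBlock Q x f)) :=
    Fintype.ofFinite _
  have hQxP : Q.map (MulAut.conj x).toMonoidHom ≤ P := le_of_reflTransGen hlex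
  obtain ⟨D', hD', hCD'⟩ :=
    exists_isDefectGroup_ge_normalizerIn hM P _ e _ hPe hQxP hlex F' hF' hF'c
  have himg := image_irrMap_conjStab Q x f F hFc F' hF'c
  have hDx : Cfsg.IsDefectGroup p M F' (S₁.map (conjStab Q x f).toMonoidHom) := by
    rw [← himg]
    exact isDefectGroup_irrMap (conjStab Q x f) F S₁ hD₁
  have hR₁xP : (S₁.map (stabSubgroup Q f).subtype).map (MulAut.conj x).toMonoidHom ≤ P :=
    le_of_reflTransGen hx
  have hSC : S₁.map (conjStab Q x f).toMonoidHom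
      ≤ (P ⊓ Subgroup.normalizer
          ((Q.map (MulAut.conj x).toMonoidHom : Subgroup G) : Set G)).subgroupOf
        (stabSubgroup (Q.map (MulAut.conj x).toMonoidHom) (Cfsg.conjBlock Q x f)) := by
    rintro _ ⟨s, hs, rfl⟩
    rw [Subgroup.mem_subgroupOf]
    refine Subgroup.mem_inf.mpr ⟨?_, ((mem_stabSubgroup _ _ _).mp (conjStab Q x f s).2).1⟩
    apply hR₁xP
    rw [mem_map_conj_iff]
    show x⁻¹ * (x * (s : G) * x⁻¹) * x ∈ S₁.map (stabSubgroup Q f).subtype
    have e1 : x⁻¹ * (x * (s : G) * x⁻¹) * x = (s : G) := by group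
    rw [e1]
    exact ⟨s, hs, rfl⟩
  have hcard : Nat.card D' = Nat.card (S₁.map (conjStab Q x f).toMonoidHom) := by
    rw [card_of_isDefectGroup hM _ hF' _ hD', card_of_isDefectGroup hM _ hF' _ hDx]
  have hEq : S₁.map (conjStab Q x f).toMonoidHom = D' :=
    Subgroup.eq_of_le_of_card_ge (le_trans hSC hCD') (le_of_eq hcard)
  have hfin : (P ⊓ Subgroup.normalizer
      ((Q.map (MulAut.conj x).toMonoidHom : Subgroup G) : Set G)).subgroupOf
        (stabSubgroup (Q.map (MulAut.conj x).toMonoidHom) (Cfsg.conjBlock Q x f)) = D' :=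
    le_antisymm hCD' (hEq ▸ hSC)
  rw [hfin]
  exact hD'

end Main

end Cfsg.Agent.Lib.Helper24
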