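import Mathlib
import Cfsg.Prelude.Def_Blocks
import Cfsg.Prelude.Def_BlockLocal
import Cfsg.Prelude.Def_BrauerPairs
import Cfsg.Agent.Lib.Helper24.PairTools
import Cfsg.Agent.Lib.Helper24.StabPairs

/-!
# Brauer pairs in a subgroup `H ⊇ N_G(P)` (helper24 library)

* `centH H R : C_H(R) ≃* C_G(R)` for `R ≤ H` with `C_G(R) ≤ H`; `brauerOmega_centH`,
  `subgroupBlockCoeff_centH`.
* `isNormalSubpair_centH_iff`: normal inclusions `(P, e) ⊴ (R, g)` with `R ≤ H`, `C_G(P) ≤ H`
  are the same in `H` and in `G`.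
* `isMaximalBrauerPair_of_centH`, `isMaximalBrauerPair_centH_of`: for `N_G(P) ≤ H`, a pair with
  first component `P` is maximal in `H` iff it is maximal in `G`.
* `blockCoeff_sub_subgroupBlockCoeff_memLocalIdeal`: the corresponding blocks of `G` and `H` have
  idempotents congruent on `C_G(P)`.
* `eq_of_congr_on_centralizer`, `exists_block_over_normalizer`, `exists_block_of_over_normalizer`.
-/

set_option autoImplicit false

namespace Cfsg.Agent.Lib.Helper24

open Cfsg.Agent.Lib.Helper2 Cfsg.Agent.Lib.Helper7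
open scoped ComplexConjugate

section IrrMapImage

variable {K K' : Type*} [Group K] [Group K'] [Finite K] [Finite K'] (φ : K ≃* K')

theorem image_irrMap_symm_image (f : Set (Cfsg.IrrCharacter K)) :
    irrMap φ.symm '' (irrMap φ '' f) = f := by
  rw [Set.image_image]
  have : (fun x => irrMap φ.symm (irrMap φ x)) = id := funext (irrMap_symm_irrMap φ)
  rw [this, Set.image_id]

theorem image_irrMap_image_symm (f' : Set (Cfsg.IrrCharacter K')) :
    irrMap φ '' (irrMap φ.symm '' f') = f' := by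
  rw [Set.image_image]
  have : (fun x => irrMap φ (irrMap φ.symm x)) = id := funext (irrMap_irrMap_symm φ)
  rw [this, Set.image_id]

theorem isPBlock_image_irrMap_iff {M : Ideal Cfsg.AlgInt} (f : Set (Cfsg.IrrCharacter K)) :
    Cfsg.IsPBlock M (irrMap φ '' f) ↔ Cfsg.IsPBlock M f := by
  constructor
  · intro h
    have := isPBlock_image_irrMap φ.symm h
    rwa [image_irrMap_symm_image] at this
  · exact isPBlock_image_irrMap φ

end IrrMapImage

section CentH

variable {G : Type*} [Group G]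

/-- for `R ≤ H` with `C_G(R) ≤ H`: `C_H(R) ≃* C_G(R)` -/
def centH (H R : Subgroup G) (hRH : R ≤ H) (hCH : Subgroup.centralizer (R : Set G) ≤ H) :
    Subgroup.centralizer ((R.subgroupOf H : Subgroup H) : Set H) ≃*
      Subgroup.centralizer (R : Set G) where
  toFun c := ⟨c.1.1, by
    rw [Subgroup.mem_centralizer_iff]
    intro r hr
    have := Subgroup.mem_centralizer_iff.mp c.2 ⟨r, hRH hr⟩ (Subgroup.mem_subgroupOf.mpr hr)
    exact congrArg Subtype.val this⟩
  invFun c' := ⟨⟨c'.1, hCH c'.2⟩, by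
    rw [Subgroup.mem_centralizer_iff]
    intro s hs
    apply Subtype.ext
    exact Subgroup.mem_centralizer_iff.mp c'.2 _ (Subgroup.mem_subgroupOf.mp hs)⟩
  left_inv c := Subtype.ext (Subtype.ext rfl)
  right_inv c' := Subtype.ext rfl
  map_mul' a b := Subtype.ext rfl

theorem centH_coe (H R : Subgroup G) (hRH : R ≤ H)
    (hCH : Subgroup.centralizer (R : Set G) ≤ H)
    (c : Subgroup.centralizer ((R.subgroupOf H : Subgroup H) : Set H)) :
    ((centH H R hRH hCH c : Subgroup.centralizer (R : Set G)) : G) = c.1.1 := rfl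

theorem brauerOmega_centH [Finite G] (H R : Subgroup G) (hRH : R ≤ H)
    (hCH : Subgroup.centralizer (R : Set G) ≤ H) (β : H → ℂ) (βG : G → ℂ)
    (hβ : ∀ h : H, βG h = β h)
    (ξ' : Cfsg.IrrCharacter (Subgroup.centralizer ((R.subgroupOf H : Subgroup H) : Set H))) :
    Cfsg.brauerOmega R βG (irrMap (centH H R hRH hCH) ξ').1
      = Cfsg.brauerOmega (R.subgroupOf H) β ξ'.1 := by
  unfold Cfsg.brauerOmega
  have h1 := finsum_comp_equiv (centH H R hRH hCH).toEquiv
    (f := fun c' : Subgroup.centralizer (R : Set G) =>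
      βG c' * (irrMap (centH H R hRH hCH) ξ').1 c' / (irrMap (centH H R hRH hCH) ξ').1 1)
  rw [← h1]
  apply finsum_congr
  intro c
  show βG ((centH H R hRH hCH c : Subgroup.centralizer (R : Set G)) : G)
      * (irrMap (centH H R hRH hCH) ξ').1 (centH H R hRH hCH c)
        / (irrMap (centH H R hRH hCH) ξ').1 1
    = β c.1 * ξ'.1 c / ξ'.1 1
  rw [irrMap_apply_apply, centH_coe, hβ, irrMap_apply, map_one]

theorem mem_centralizer_subgroupOf_of_mem (H R : Subgroup G) (h : H)
    (hc : (h : G) ∈ Subgroup.centralizer (R : Set G)) :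
    h ∈ Subgroup.centralizer ((R.subgroupOf H : Subgroup H) : Set H) := by
  rw [Subgroup.mem_centralizer_iff]
  intro s hs
  apply Subtype.ext
  exact Subgroup.mem_centralizer_iff.mp hc _ (Subgroup.mem_subgroupOf.mp hs)

theorem subgroupBlockCoeff_centH [Finite G] (H R : Subgroup G) (hRH : R ≤ H)
    (hCH : Subgroup.centralizer (R : Set G) ≤ H)
    (e' : Set (Cfsg.IrrCharacter (Subgroup.centralizer ((R.subgroupOf H : Subgroup H) : Set H))))
    (h : H) :
    Cfsg.subgroupBlockCoeff (Subgroup.centralizer (R : Set G))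
        (irrMap (centH H R hRH hCH) '' e') (h : G)
      = Cfsg.subgroupBlockCoeff (Subgroup.centralizer ((R.subgroupOf H : Subgroup H) : Set H))
          e' h := by
  rw [subgroupBlockCoeff_eq_extZ, subgroupBlockCoeff_eq_extZ]
  by_cases hh : h ∈ Subgroup.centralizer ((R.subgroupOf H : Subgroup H) : Set H)
  · have hh' : (h : G) ∈ Subgroup.centralizer (R : Set G) := (centH H R hRH hCH ⟨h, hh⟩).2
    rw [extendByZero_apply_mem _ _ hh', extendByZero_apply_mem _ _ hh, blockCoeff_image_irrMap]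
    apply congrArg
    apply Subtype.ext
    apply Subtype.ext
    rfl
  · have hh' : (h : G) ∉ Subgroup.centralizer (R : Set G) :=
      fun hc => hh (mem_centralizer_subgroupOf_of_mem H R h hc)
    rw [extendByZero_apply_not_mem _ _ hh', extendByZero_apply_not_mem _ _ hh]

/-- a class function on `K`, extended by zero, is invariant under conjugation by elements of `K` -/
theorem extZ_conj_of_mem (K : Subgroup G) (a : K → ℂ) (ha : Cfsg.IsClassFunction K a) (u : G)
    (hu : u ∈ K) (g : G) :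
    Cfsg.extendByZero K a (u * g * u⁻¹) = Cfsg.extendByZero K a g := by
  by_cases hg : g ∈ K
  · have hg' : u * g * u⁻¹ ∈ K := K.mul_mem (K.mul_mem hu hg) (K.inv_mem hu)
    rw [extendByZero_apply_mem K a hg', extendByZero_apply_mem K a hg]
    exact ha ⟨g, hg⟩ ⟨u, hu⟩
  · have hg' : u * g * u⁻¹ ∉ K := by
      intro h'
      apply hg
      have := K.mul_mem (K.mul_mem (K.inv_mem hu) h') hu
      have e : u⁻¹ * (u * g * u⁻¹) * u = g := by group
      rwa [e] at this
    rw [extendByZero_apply_not_mem K a hg', extendByZero_apply_not_mem K a hg]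

theorem isPGroup_subgroupOf_iff {p : ℕ} (H R : Subgroup G) (hRH : R ≤ H) :
    IsPGroup p (R.subgroupOf H) ↔ IsPGroup p R :=
  ⟨fun h => h.of_equiv (Subgroup.subgroupOfEquivOfLe hRH),
    fun h => h.comap_of_injective H.subtype H.subtype_injective⟩

theorem eq_of_subgroupOf_eq (H R P : Subgroup G) (hRH : R ≤ H) (hPH : P ≤ H)
    (h : R.subgroupOf H = P.subgroupOf H) : R = P := by
  ext x
  constructor
  · intro hx
    have : (⟨x, hRH hx⟩ : H) ∈ R.subgroupOf H := Subgroup.mem_subgroupOf.mpr hx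
    rw [h] at this
    exact Subgroup.mem_subgroupOf.mp this
  · intro hx
    have : (⟨x, hPH hx⟩ : H) ∈ P.subgroupOf H := Subgroup.mem_subgroupOf.mpr hx
    rw [← h] at this
    exact Subgroup.mem_subgroupOf.mp this

end CentH

section Invariant

variable {G : Type*} [Group G] [Fintype G] {p : ℕ} {M : Ideal Cfsg.AlgInt}

theorem isNormalSubpair_iff_invariant (Q : Subgroup G)
    (f : Set (Cfsg.IrrCharacter (Subgroup.centralizer (Q : Set G)))) (P : Subgroup G)
    (e : Set (Cfsg.IrrCharacter (Subgroup.centralizer (P : Set G)))) :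
    Cfsg.IsNormalSubpair p M Q f P e ↔
      Cfsg.IsBrauerPair p M Q f ∧ Cfsg.IsBrauerPair p M P e ∧ Q ≤ P ∧
        P ≤ Subgroup.normalizer (Q : Set G) ∧
        (∀ x ∈ P, ∀ g, Cfsg.subgroupBlockCoeff (Subgroup.centralizer (Q : Set G)) f (x * g * x⁻¹)
          = Cfsg.subgroupBlockCoeff (Subgroup.centralizer (Q : Set G)) f g) ∧
        ∀ ξ ∈ e, Cfsg.MemLocalIdeal M
          (Cfsg.brauerOmega P (Cfsg.subgroupBlockCoeff (Subgroup.centralizer (Q : Set G)) f)
            (ξ : Subgroup.centralizer (P : Set G) → ℂ) - 1) := by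
  constructor
  · rintro ⟨h1, h2, h3, h4, h5, h6⟩
    exact ⟨h1, h2, h3, h4, fun x hx => subgroupBlockCoeff_conj_of_stabilizes _ f x (h5 x hx), h6⟩
  · rintro ⟨h1, h2, h3, h4, h5, h6⟩
    exact ⟨h1, h2, h3, h4, fun x hx => stabilizesBlock_of_conj_invariant _ f x
      (normalizer_le_normalizer_centralizer Q (h4 hx)) (h5 x hx), h6⟩

end Invariant

section Transport

variable {G : Type*} [Group G] [Fintype G] {p : ℕ} {M : Ideal Cfsg.AlgInt}

/-- normal inclusions `(P, e) ⊴ (R, g)` with `R ≤ H` and `C_G(P) ≤ H` are the same in `H` and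
in `G` -/
theorem isNormalSubpair_centH_iff (H P R : Subgroup G) (hPR : P ≤ R) (hRH : R ≤ H)
    (hCH : Subgroup.centralizer (P : Set G) ≤ H)
    (e' : Set (Cfsg.IrrCharacter (Subgroup.centralizer ((P.subgroupOf H : Subgroup H) : Set H))))
    (g' : Set (Cfsg.IrrCharacter
      (Subgroup.centralizer ((R.subgroupOf H : Subgroup H) : Set H)))) :
    Cfsg.IsNormalSubpair p M (P.subgroupOf H) e' (R.subgroupOf H) g' ↔
      Cfsg.IsNormalSubpair p M P (irrMap (centH H P (hPR.trans hRH) hCH) '' e') R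
        (irrMap (centH H R hRH
          ((Subgroup.centralizer_le (SetLike.coe_subset_coe.mpr hPR)).trans hCH)) '' g') := by
  classical
  haveI : Fintype H := Fintype.ofFinite _
  have hPH : P ≤ H := hPR.trans hRH
  have hCRH : Subgroup.centralizer (R : Set G) ≤ H :=
    (Subgroup.centralizer_le (SetLike.coe_subset_coe.mpr hPR)).trans hCH
  rw [isNormalSubpair_iff_invariant, isNormalSubpair_iff_invariant]
  have hnorm : R.subgroupOf H ≤ Subgroup.normalizer ((P.subgroupOf H : Subgroup H) : Set H)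
      ↔ R ≤ Subgroup.normalizer (P : Set G) := by
    rw [← Subgroup.subgroupOf_normalizer_eq hPH]
    constructor
    · intro h r hr
      have : (⟨r, hRH hr⟩ : H) ∈ R.subgroupOf H := Subgroup.mem_subgroupOf.mpr hr
      exact Subgroup.mem_subgroupOf.mp (h this)
    · intro h x hx
      exact Subgroup.mem_subgroupOf.mpr (h (Subgroup.mem_subgroupOf.mp hx))
  have hinv : (∀ x ∈ R.subgroupOf H, ∀ h : H,
      Cfsg.subgroupBlockCoeff (Subgroup.centralizer ((P.subgroupOf H : Subgroup H) : Set H)) e'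
        (x * h * x⁻¹)
      = Cfsg.subgroupBlockCoeff (Subgroup.centralizer ((P.subgroupOf H : Subgroup H) : Set H)) e'
        h) ↔
      (∀ x ∈ R, ∀ g : G,
        Cfsg.subgroupBlockCoeff (Subgroup.centralizer (P : Set G))
          (irrMap (centH H P hPH hCH) '' e') (x * g * x⁻¹)
        = Cfsg.subgroupBlockCoeff (Subgroup.centralizer (P : Set G))
          (irrMap (centH H P hPH hCH) '' e') g) := by
    constructor
    · intro h x hx g
      by_cases hg : g ∈ H
      · have h1 := h ⟨x, hRH hx⟩ (Subgroup.mem_subgroupOf.mpr hx) ⟨g, hg⟩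
        rw [← subgroupBlockCoeff_centH H P hPH hCH e', ← subgroupBlockCoeff_centH H P hPH hCH e']
          at h1
        exact h1
      · have hg1 : g ∉ Subgroup.centralizer (P : Set G) := fun h' => hg (hCH h')
        have hg2 : x * g * x⁻¹ ∉ Subgroup.centralizer (P : Set G) := by
          intro h'
          apply hg
          have h2 := H.mul_mem (H.mul_mem (H.inv_mem (hRH hx)) (hCH h')) (hRH hx)
          have e1 : x⁻¹ * (x * g * x⁻¹) * x = g := by group
          rwa [e1] at h2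
        rw [subgroupBlockCoeff_eq_extZ, extendByZero_apply_not_mem _ _ hg1,
          extendByZero_apply_not_mem _ _ hg2]
    · intro h x hx k
      have h1 := h (x : G) (Subgroup.mem_subgroupOf.mp hx) (k : G)
      rw [← subgroupBlockCoeff_centH H P hPH hCH e', ← subgroupBlockCoeff_centH H P hPH hCH e']
      exact h1
  have hom : (∀ ξ' ∈ g', Cfsg.MemLocalIdeal M
      (Cfsg.brauerOmega (R.subgroupOf H)
        (Cfsg.subgroupBlockCoeff (Subgroup.centralizer ((P.subgroupOf H : Subgroup H) : Set H))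
          e') (ξ' : _ → ℂ) - 1)) ↔
      (∀ ξ ∈ irrMap (centH H R hRH hCRH) '' g', Cfsg.MemLocalIdeal M
        (Cfsg.brauerOmega R (Cfsg.subgroupBlockCoeff (Subgroup.centralizer (P : Set G))
          (irrMap (centH H P hPH hCH) '' e')) (ξ : _ → ℂ) - 1)) := by
    constructor
    · rintro h _ ⟨ξ', hξ', rfl⟩
      rw [brauerOmega_centH H R hRH hCRH _ _ (subgroupBlockCoeff_centH H P hPH hCH e') ξ']
      exact h ξ' hξ'
    · intro h ξ' hξ'
      have h1 := h (irrMap (centH H R hRH hCRH) ξ') ⟨ξ', hξ', rfl⟩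
      rw [brauerOmega_centH H R hRH hCRH _ _ (subgroupBlockCoeff_centH H P hPH hCH e') ξ'] at h1
      exact h1
  have hsub : P.subgroupOf H ≤ R.subgroupOf H := by
    intro x hx
    exact Subgroup.mem_subgroupOf.mpr (hPR (Subgroup.mem_subgroupOf.mp hx))
  unfold Cfsg.IsBrauerPair
  rw [isPGroup_subgroupOf_iff H P hPH, isPGroup_subgroupOf_iff H R hRH, hnorm, hinv, hom,
    isPBlock_image_irrMap_iff, isPBlock_image_irrMap_iff]
  constructor
  · rintro ⟨h1, h2, _, h4, h5, h6⟩
    exact ⟨h1, h2, hPR, h4, h5, h6⟩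
  · rintro ⟨h1, h2, _, h4, h5, h6⟩
    exact ⟨h1, h2, hsub, h4, h5, h6⟩

theorem isBrauerPairOf_centH_iff (H P : Subgroup G) (hPH : P ≤ H)
    (hCH : Subgroup.centralizer (P : Set G) ≤ H) (c : Set (Cfsg.IrrCharacter H))
    (e' : Set (Cfsg.IrrCharacter
      (Subgroup.centralizer ((P.subgroupOf H : Subgroup H) : Set H)))) :
    Cfsg.IsBrauerPairOf p M c (P.subgroupOf H) e' ↔
      Cfsg.IsBrauerPair p M P (irrMap (centH H P hPH hCH) '' e') ∧ Cfsg.IsPBlock M c ∧
        ∀ ξ ∈ irrMap (centH H P hPH hCH) '' e', Cfsg.MemLocalIdeal M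
          (Cfsg.brauerOmega P (Cfsg.subgroupBlockCoeff H c) (ξ : _ → ℂ) - 1) := by
  have hom : (∀ ξ' ∈ e', Cfsg.MemLocalIdeal M
      (Cfsg.brauerOmega (P.subgroupOf H) (Cfsg.blockCoeff c) (ξ' : _ → ℂ) - 1)) ↔
      (∀ ξ ∈ irrMap (centH H P hPH hCH) '' e', Cfsg.MemLocalIdeal M
        (Cfsg.brauerOmega P (Cfsg.subgroupBlockCoeff H c) (ξ : _ → ℂ) - 1)) := by
    constructor
    · rintro h _ ⟨ξ', hξ', rfl⟩
      rw [brauerOmega_centH H P hPH hCH _ _ (subgroupBlockCoeff_coe H c) ξ']
      exact h ξ' hξ'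
    · intro h ξ' hξ'
      have h1 := h (irrMap (centH H P hPH hCH) ξ') ⟨ξ', hξ', rfl⟩
      rw [brauerOmega_centH H P hPH hCH _ _ (subgroupBlockCoeff_coe H c) ξ'] at h1
      exact h1
  unfold Cfsg.IsBrauerPairOf Cfsg.IsBrauerPair
  rw [isPGroup_subgroupOf_iff H P hPH, hom, isPBlock_image_irrMap_iff]

end Transport

section Maximal

variable {G : Type*} [Group G] [Fintype G] {p : ℕ} {M : Ideal Cfsg.AlgInt}

/-- for `N_G(P) ≤ H`: maximal in `H` implies maximal in `G` -/
theorem isMaximalBrauerPair_of_centH [Fact p.Prime] (hM : Cfsg.IsPModular p M)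
    (H P : Subgroup G) (hH : Subgroup.normalizer (P : Set G) ≤ H)
    (c : Set (Cfsg.IrrCharacter H))
    (e' : Set (Cfsg.IrrCharacter (Subgroup.centralizer ((P.subgroupOf H : Subgroup H) : Set H))))
    (hmaxH : Cfsg.IsMaximalBrauerPair p M c (P.subgroupOf H) e')
    (B : Set (Cfsg.IrrCharacter G))
    (hBP : Cfsg.IsBrauerPairOf p M B P
      (irrMap (centH H P (Subgroup.le_normalizer.trans hH)
        ((Subgroup.centralizer_le_normalizer _).trans hH)) '' e')) :
    Cfsg.IsMaximalBrauerPair p M B P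
      (irrMap (centH H P (Subgroup.le_normalizer.trans hH)
        ((Subgroup.centralizer_le_normalizer _).trans hH)) '' e') := by
  classical
  haveI : Fintype H := Fintype.ofFinite _
  have hPH : P ≤ H := Subgroup.le_normalizer.trans hH
  have hCH : Subgroup.centralizer (P : Set G) ≤ H :=
    (Subgroup.centralizer_le_normalizer _).trans hH
  apply isMaximalBrauerPair_of_forall_isNormalSubpair hM B P _ hBP
  intro R g hns
  have hPR : P ≤ R := hns.2.2.1
  have hRH : R ≤ H := hns.2.2.2.1.trans hH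
  have hCRH : Subgroup.centralizer (R : Set G) ≤ H :=
    (Subgroup.centralizer_le (SetLike.coe_subset_coe.mpr hPR)).trans hCH
  have hg : irrMap (centH H R hRH hCRH) '' (irrMap (centH H R hRH hCRH).symm '' g) = g :=
    image_irrMap_image_symm _ g
  rw [← hg] at hns
  have hnsH := (isNormalSubpair_centH_iff H P R hPR hRH hCH e' _).mpr hns
  have h1 := eq_of_isNormalSubpair_of_isMaximalBrauerPair (G := H) hM c _ e' hmaxH _ _ hnsH
  exact eq_of_subgroupOf_eq H R P hRH hPH h1

/-- for `N_G(P) ≤ H`: maximal in `G` implies maximal in `H` -/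
theorem isMaximalBrauerPair_centH_of [Fact p.Prime] (hM : Cfsg.IsPModular p M)
    (H P : Subgroup G) (hH : Subgroup.normalizer (P : Set G) ≤ H)
    (B : Set (Cfsg.IrrCharacter G))
    (e' : Set (Cfsg.IrrCharacter (Subgroup.centralizer ((P.subgroupOf H : Subgroup H) : Set H))))
    (hmaxG : Cfsg.IsMaximalBrauerPair p M B P
      (irrMap (centH H P (Subgroup.le_normalizer.trans hH)
        ((Subgroup.centralizer_le_normalizer _).trans hH)) '' e'))
    (c : Set (Cfsg.IrrCharacter H))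
    (hcP : Cfsg.IsBrauerPairOf p M c (P.subgroupOf H) e') :
    Cfsg.IsMaximalBrauerPair p M c (P.subgroupOf H) e' := by
  classical
  haveI : Fintype H := Fintype.ofFinite _
  have hPH : P ≤ H := Subgroup.le_normalizer.trans hH
  have hCH : Subgroup.centralizer (P : Set G) ≤ H :=
    (Subgroup.centralizer_le_normalizer _).trans hH
  apply isMaximalBrauerPair_of_forall_isNormalSubpair (G := H) hM c _ e' hcP
  intro S g' hns
  obtain ⟨R, hRH, rfl⟩ : ∃ R : Subgroup G, R ≤ H ∧ R.subgroupOf H = S :=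
    ⟨S.map H.subtype, Subgroup.map_subtype_le S,
      Subgroup.comap_map_eq_self_of_injective H.subtype_injective S⟩
  have hPR : P ≤ R := by
    intro x hx
    have : (⟨x, hPH hx⟩ : H) ∈ P.subgroupOf H := Subgroup.mem_subgroupOf.mpr hx
    exact Subgroup.mem_subgroupOf.mp (hns.2.2.1 this)
  have hnsG := (isNormalSubpair_centH_iff H P R hPR hRH hCH e' g').mp hns
  have h1 := eq_of_isNormalSubpair_of_isMaximalBrauerPair hM B P _ hmaxG R _ hnsG
  rw [h1]

end Maximal

section Congruence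

variable {G : Type*} [Group G] [Fintype G] {p : ℕ} {M : Ideal Cfsg.AlgInt}

/-- a block with a defect group `P` is determined by the coefficients of its idempotent on
`C_G(P)` modulo the local ideal -/
theorem eq_of_congr_on_centralizer [Fact p.Prime] (hM : Cfsg.IsPModular p M)
    (B₁ B₂ : Set (Cfsg.IrrCharacter G)) (hB₁ : Cfsg.IsPBlock M B₁) (hB₂ : Cfsg.IsPBlock M B₂)
    (P : Subgroup G) (hD : Cfsg.IsDefectGroup p M B₁ P)
    (hcong : ∀ x ∈ Subgroup.centralizer (P : Set G),
      Cfsg.MemLocalIdeal M (Cfsg.blockCoeff B₁ x - Cfsg.blockCoeff B₂ x)) : B₁ = B₂ := by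
  classical
  haveI : Fintype (Subgroup.centralizer (P : Set G)) := Fintype.ofFinite _
  obtain ⟨e, hmax⟩ := exists_isMaximalBrauerPair_of_isDefectGroup hM B₁ hB₁ P hD
  have hpair : Cfsg.IsBrauerPairOf p M B₂ P e := by
    refine ⟨hmax.1.1, hB₂, ?_⟩
    intro ξ hξ
    have h1 := hmax.1.2.2 ξ hξ
    have h2 : Cfsg.MemLocalIdeal M (Cfsg.brauerOmega P (Cfsg.blockCoeff B₁) (ξ : _ → ℂ)
        - Cfsg.brauerOmega P (Cfsg.blockCoeff B₂) (ξ : _ → ℂ)) := by
      rw [← brauerOmega_sub, brauerOmega_eq_omega]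
      apply omega_memLocalIdeal_of_coeff hM ξ
      · exact restrictTo_isClassFunction _ _
          (isClassFunction_sub (blockCoeff_isClassFunction B₁) (blockCoeff_isClassFunction B₂))
      · intro k
        exact hcong k k.2
    have h3 := memLocalIdeal_sub hM h1 h2
    have e1 : Cfsg.brauerOmega P (Cfsg.blockCoeff B₁) (ξ : _ → ℂ) - 1
        - (Cfsg.brauerOmega P (Cfsg.blockCoeff B₁) (ξ : _ → ℂ)
          - Cfsg.brauerOmega P (Cfsg.blockCoeff B₂) (ξ : _ → ℂ))
        = Cfsg.brauerOmega P (Cfsg.blockCoeff B₂) (ξ : _ → ℂ) - 1 := by ring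
    rw [e1] at h3
    exact h3
  exact (existsUnique_block_of_brauerPair hM P e hmax.1.1).unique hmax.1 hpair

/-- for `N_G(P) ≤ H`, blocks `B` of `G` and `c` of `H` with a common maximal Brauer pair at `P`
have idempotents congruent on `C_G(P)` -/
theorem blockCoeff_sub_subgroupBlockCoeff_memLocalIdeal [Fact p.Prime]
    (hM : Cfsg.IsPModular p M)
    (H P : Subgroup G) (hH : Subgroup.normalizer (P : Set G) ≤ H)
    (B : Set (Cfsg.IrrCharacter G)) (c : Set (Cfsg.IrrCharacter H))
    (e' : Set (Cfsg.IrrCharacter (Subgroup.centralizer ((P.subgroupOf H : Subgroup H) : Set H))))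
    (hmaxG : Cfsg.IsMaximalBrauerPair p M B P
      (irrMap (centH H P (Subgroup.le_normalizer.trans hH)
        ((Subgroup.centralizer_le_normalizer _).trans hH)) '' e'))
    (hmaxH : Cfsg.IsMaximalBrauerPair p M c (P.subgroupOf H) e')
    (x : G) (hx : x ∈ Subgroup.centralizer (P : Set G)) :
    Cfsg.MemLocalIdeal M (Cfsg.blockCoeff B x - Cfsg.subgroupBlockCoeff H c x) := by
  classical
  haveI : Fintype H := Fintype.ofFinite _
  haveI : Fintype (Subgroup.centralizer (P : Set G)) := Fintype.ofFinite _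
  have hPH : P ≤ H := Subgroup.le_normalizer.trans hH
  have hCH : Subgroup.centralizer (P : Set G) ≤ H :=
    (Subgroup.centralizer_le_normalizer _).trans hH
  have hP : IsPGroup p P := hmaxG.1.1.1
  have hB : Cfsg.IsPBlock M B := hmaxG.1.2.1
  have hc : Cfsg.IsPBlock M c := hmaxH.1.2.1
  obtain ⟨a₁, ha₁⟩ : ∃ a : Subgroup.centralizer (P : Set G) → ℂ,
      a = restrictTo (Subgroup.centralizer (P : Set G)) (Cfsg.blockCoeff B) := ⟨_, rfl⟩
  obtain ⟨a₂, ha₂⟩ : ∃ a : Subgroup.centralizer (P : Set G) → ℂ,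
      a = restrictTo (Subgroup.centralizer (P : Set G)) (Cfsg.subgroupBlockCoeff H c) := ⟨_, rfl⟩
  have hext : Cfsg.subgroupBlockCoeff H c = Cfsg.extendByZero H (Cfsg.blockCoeff c) :=
    subgroupBlockCoeff_eq_extZ _ _
  have h₁ : IsRCF M a₁ := by
    rw [ha₁]
    exact ⟨restrictTo_isClassFunction _ _ (blockCoeff_isClassFunction B),
      fun k => blockCoeff_memLocalRing hM B hB k⟩
  have hβ₂R : ∀ g, Cfsg.MemLocalRing M (Cfsg.subgroupBlockCoeff H c g) := by
    intro g
    rw [hext]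
    exact extZ_memLocalRing hM _ _ (blockCoeff_memLocalRing hM c hc) g
  have h₂ : IsRCF M a₂ := by
    rw [ha₂]
    refine ⟨?_, fun k => hβ₂R k⟩
    rw [hext]
    exact restrictTo_extZ_isClassFunction hCH _ (blockCoeff_isClassFunction c)
  have hβ₁inv : ∀ u ∈ P, ∀ g, Cfsg.blockCoeff B (u * g * u⁻¹) = Cfsg.blockCoeff B g :=
    fun u _ g => blockCoeff_isClassFunction B g u
  have hβ₂invH : ∀ u ∈ H, ∀ g, Cfsg.subgroupBlockCoeff H c (u * g * u⁻¹)
      = Cfsg.subgroupBlockCoeff H c g := by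
    intro u hu g
    rw [hext]
    exact extZ_conj_of_mem H _ (blockCoeff_isClassFunction c) u hu g
  have hβ₂inv : ∀ u ∈ P, ∀ g, Cfsg.subgroupBlockCoeff H c (u * g * u⁻¹)
      = Cfsg.subgroupBlockCoeff H c g := fun u hu g => hβ₂invH u (hPH hu) g
  have hi₁ : ∀ k, Cfsg.MemLocalIdeal M (conv a₁ a₁ k - a₁ k) := by
    intro k
    have := conv_restrict_sub_memLocalIdeal hM P hP _ _ (blockCoeff_memLocalRing hM B hB)
      (blockCoeff_memLocalRing hM B hB) hβ₁inv hβ₁inv k
    rw [conv_blockCoeff_self] at this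
    have h2 := memLocalIdeal_neg this
    rw [neg_sub] at h2
    rw [ha₁]
    exact h2
  have hi₂ : ∀ k, Cfsg.MemLocalIdeal M (conv a₂ a₂ k - a₂ k) := by
    intro k
    have := conv_restrict_sub_memLocalIdeal hM P hP _ _ hβ₂R hβ₂R hβ₂inv hβ₂inv k
    have hββ : conv (Cfsg.subgroupBlockCoeff H c) (Cfsg.subgroupBlockCoeff H c)
        = Cfsg.subgroupBlockCoeff H c := by
      rw [hext, conv_extZ, conv_blockCoeff_self]
    rw [hββ] at this
    have h2 := memLocalIdeal_neg this
    rw [neg_sub] at h2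
    rw [ha₂]
    exact h2
  -- the values of the central characters
  have hone₂ : ∀ ξ₀ ∈ irrMap (centH H P hPH hCH) '' e', Cfsg.MemLocalIdeal M
      (Cfsg.brauerOmega P (Cfsg.subgroupBlockCoeff H c) (ξ₀ : _ → ℂ) - 1) :=
    ((isBrauerPairOf_centH_iff H P hPH hCH c e').mp hmaxH.1).2.2
  have X₁ : ∀ ξ : Cfsg.IrrCharacter (Subgroup.centralizer (P : Set G)),
      Cfsg.MemLocalIdeal M (omega (ξ : _ → ℂ) a₁ - 1) →
      Cfsg.MemLocalIdeal M (omega (ξ : _ → ℂ) a₂ - 1) := by
    intro ξ h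
    rw [ha₁, ← brauerOmega_eq_omega] at h
    have := brauerOmega_sub_one_of_invariant hM B P _ hmaxG (Cfsg.subgroupBlockCoeff H c)
      (fun n hn g => hβ₂invH n (hH hn) g) hone₂ ξ h
    rw [brauerOmega_eq_omega, ← ha₂] at this
    exact this
  have X₂ : ∀ ξ : Cfsg.IrrCharacter (Subgroup.centralizer (P : Set G)),
      Cfsg.MemLocalIdeal M (omega (ξ : _ → ℂ) a₂ - 1) →
      Cfsg.MemLocalIdeal M (omega (ξ : _ → ℂ) a₁ - 1) := by
    intro ξ h
    rw [ha₂, ← brauerOmega_eq_omega] at h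
    have hξ : irrMap (centH H P hPH hCH) (irrMap (centH H P hPH hCH).symm ξ) = ξ :=
      irrMap_irrMap_symm _ ξ
    rw [← hξ, brauerOmega_centH H P hPH hCH (Cfsg.blockCoeff c) _
      (subgroupBlockCoeff_coe H c)] at h
    have hinv' : ∀ n ∈ Subgroup.normalizer ((P.subgroupOf H : Subgroup H) : Set H), ∀ k : H,
        restrictTo H (Cfsg.blockCoeff B) (n * k * n⁻¹) = restrictTo H (Cfsg.blockCoeff B) k :=
      fun n _ k => blockCoeff_isClassFunction B (k : G) (n : G)
    have hone' : ∀ ξ₀' ∈ e', Cfsg.MemLocalIdeal M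
        (Cfsg.brauerOmega (P.subgroupOf H) (restrictTo H (Cfsg.blockCoeff B))
          (ξ₀' : _ → ℂ) - 1) := by
      intro ξ₀' hξ₀'
      rw [← brauerOmega_centH H P hPH hCH (restrictTo H (Cfsg.blockCoeff B))
        (Cfsg.blockCoeff B) (fun _ => rfl) ξ₀']
      exact hmaxG.1.2.2 _ ⟨ξ₀', hξ₀', rfl⟩
    have := brauerOmega_sub_one_of_invariant (G := H) hM c _ e' hmaxH
      (restrictTo H (Cfsg.blockCoeff B)) hinv' hone' _ h
    rw [← brauerOmega_centH H P hPH hCH (restrictTo H (Cfsg.blockCoeff B))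
      (Cfsg.blockCoeff B) (fun _ => rfl), hξ, brauerOmega_eq_omega, ← ha₁] at this
    exact this
  have hz : ∀ (a : Subgroup.centralizer (P : Set G) → ℂ), IsRCF M a →
      (∀ k, Cfsg.MemLocalIdeal M (conv a a k - a k)) →
      ∀ ξ : Cfsg.IrrCharacter (Subgroup.centralizer (P : Set G)),
      Cfsg.MemLocalIdeal M (omega (ξ : _ → ℂ) a) ∨
        Cfsg.MemLocalIdeal M (omega (ξ : _ → ℂ) a - 1) := by
    intro a ha hi ξ
    have hwR : Cfsg.MemLocalRing M (omega (ξ : _ → ℂ) a) := omega_memLocalRing hM ξ a ha.1 ha.2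
    have h1 : Cfsg.MemLocalIdeal M
        (omega (ξ : _ → ℂ) a * omega (ξ : _ → ℂ) a - omega (ξ : _ → ℂ) a) := by
      rw [← omega_conv ξ a a ha.1 ha.1, ← omega_sub]
      exact omega_memLocalIdeal_of_coeff hM ξ _
        (isClassFunction_sub (conv_isClassFunction _ _ ha.1 ha.1) ha.1) hi
    exact memLocalIdeal_or_sub_one_of_idem hM hwR h1
  have hω : ∀ ξ : Cfsg.IrrCharacter (Subgroup.centralizer (P : Set G)),
      Cfsg.MemLocalIdeal M (omega (ξ : _ → ℂ) a₁ - omega (ξ : _ → ℂ) a₂) := by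
    intro ξ
    rcases hz a₁ h₁ hi₁ ξ with h | h
    · rcases hz a₂ h₂ hi₂ ξ with h' | h'
      · exact memLocalIdeal_sub hM h h'
      · exfalso
        have h3 := memLocalIdeal_sub hM h (X₂ ξ h')
        rw [sub_sub_cancel] at h3
        exact not_memLocalIdeal_one hM h3
    · have h3 := memLocalIdeal_sub hM h (X₁ ξ h)
      rw [sub_sub_sub_cancel_right] at h3
      exact h3
  have := sub_memLocalIdeal_of_idem_of_omega hM a₁ a₂ h₁ h₂ hi₁ hi₂ hω ⟨x, hx⟩
  rw [ha₁, ha₂] at this
  exact this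

/-- **Brauer correspondence over `H ⊇ N_G(P)`, from `G` to `H`** -/
theorem exists_block_over_normalizer [Fact p.Prime] (hM : Cfsg.IsPModular p M)
    (H P : Subgroup G) (hH : Subgroup.normalizer (P : Set G) ≤ H)
    (B : Set (Cfsg.IrrCharacter G)) (hB : Cfsg.IsPBlock M B)
    (hD : Cfsg.IsDefectGroup p M B P) :
    ∃ c : Set (Cfsg.IrrCharacter H), Cfsg.IsPBlock M c ∧
      Cfsg.IsDefectGroup p M c (P.subgroupOf H) ∧
      ∀ x : G, x ∈ Subgroup.centralizer (P : Set G) →
        Cfsg.MemLocalIdeal M (Cfsg.blockCoeff B x - Cfsg.subgroupBlockCoeff H c x) := by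
  classical
  haveI : Fintype H := Fintype.ofFinite _
  have hPH : P ≤ H := Subgroup.le_normalizer.trans hH
  have hCH : Subgroup.centralizer (P : Set G) ≤ H :=
    (Subgroup.centralizer_le_normalizer _).trans hH
  obtain ⟨e, hmaxG⟩ := exists_isMaximalBrauerPair_of_isDefectGroup hM B hB P hD
  have he : irrMap (centH H P hPH hCH) '' (irrMap (centH H P hPH hCH).symm '' e) = e :=
    image_irrMap_image_symm _ e
  have hpairH : Cfsg.IsBrauerPair p M (P.subgroupOf H)
      (irrMap (centH H P hPH hCH).symm '' e) :=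
    ⟨(isPGroup_subgroupOf_iff H P hPH).mpr hmaxG.1.1.1, isPBlock_image_irrMap _ hmaxG.1.1.2⟩
  obtain ⟨c, hcP, _⟩ := existsUnique_block_of_brauerPair (G := H) hM _ _ hpairH
  rw [← he] at hmaxG
  have hmaxH := isMaximalBrauerPair_centH_of hM H P hH B _ hmaxG c hcP
  exact ⟨c, hcP.2.1, isDefectGroup_of_isMaximalBrauerPair _ _ hM c hmaxH,
    blockCoeff_sub_subgroupBlockCoeff_memLocalIdeal hM H P hH B c _ hmaxG hmaxH⟩

/-- **Brauer correspondence over `H ⊇ N_G(P)`, from `H` to `G`** -/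
theorem exists_block_of_over_normalizer [Fact p.Prime] (hM : Cfsg.IsPModular p M)
    (H P : Subgroup G) (hP : IsPGroup p P) (hH : Subgroup.normalizer (P : Set G) ≤ H)
    (c : Set (Cfsg.IrrCharacter H)) (hc : Cfsg.IsPBlock M c)
    (hD : Cfsg.IsDefectGroup p M c (P.subgroupOf H)) :
    ∃ B : Set (Cfsg.IrrCharacter G), Cfsg.IsPBlock M B ∧ Cfsg.IsDefectGroup p M B P ∧
      ∀ x : G, x ∈ Subgroup.centralizer (P : Set G) →
        Cfsg.MemLocalIdeal M (Cfsg.blockCoeff B x - Cfsg.subgroupBlockCoeff H c x) := by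
  classical
  haveI : Fintype H := Fintype.ofFinite _
  have hPH : P ≤ H := Subgroup.le_normalizer.trans hH
  have hCH : Subgroup.centralizer (P : Set G) ≤ H :=
    (Subgroup.centralizer_le_normalizer _).trans hH
  obtain ⟨e', hmaxH⟩ := exists_isMaximalBrauerPair_of_isDefectGroup (G := H) hM c hc _ hD
  have hpairG : Cfsg.IsBrauerPair p M P (irrMap (centH H P hPH hCH) '' e') :=
    ⟨hP, isPBlock_image_irrMap _ hmaxH.1.1.2⟩
  obtain ⟨B, hBP, _⟩ := existsUnique_block_of_brauerPair hM P _ hpairG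
  have hmaxG := isMaximalBrauerPair_of_centH hM H P hH c e' hmaxH B hBP
  exact ⟨B, hBP.2.1, isDefectGroup_of_isMaximalBrauerPair _ _ hM B hmaxG,
    blockCoeff_sub_subgroupBlockCoeff_memLocalIdeal hM H P hH B c _ hmaxG hmaxH⟩

end Congruence

end Cfsg.Agent.Lib.Helper24
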