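import Mathlib

/-!
# Helper24 library: the norm ideal of a group algebra

For a commutative ring `Λ` and a group `B`, `normElt Λ b = ∑_{i < orderOf b} b^i ∈ Λ[B]` and
`normIdeal Λ B` is the left ideal generated by the `normElt Λ b`, `b` of prime order.  It is a
two-sided ideal; modules killed by it are the "fixed-point-free" modules (when `|B|` is invertible).
-/

set_option autoImplicit false

namespace Cfsg.Agent.Lib.Helper24.FrobNorm

open MonoidAlgebra

section Basic

variable (Λ : Type*) [CommRing Λ] {B : Type*} [Group B]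

/-- norm element of the cyclic subgroup generated by `b` -/
noncomputable def normElt (b : B) : MonoidAlgebra Λ B :=
  ∑ i ∈ Finset.range (orderOf b), MonoidAlgebra.of Λ B (b ^ i)

variable (B) in
/-- left ideal generated by the norms of elements of prime order -/
noncomputable def normIdeal : Ideal (MonoidAlgebra Λ B) :=
  Ideal.span {x | ∃ b : B, (orderOf b).Prime ∧ x = normElt Λ b}

theorem normElt_mem {b : B} (hb : (orderOf b).Prime) : normElt Λ b ∈ normIdeal Λ B :=
  Ideal.subset_span ⟨b, hb, rfl⟩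

theorem orderOf_conj' (g b : B) : orderOf (g * b * g⁻¹) = orderOf b :=
  orderOf_injective (MulAut.conj g).toMonoidHom (MulAut.conj g).injective b

theorem of_mul_normElt_mul (g b : B) :
    MonoidAlgebra.of Λ B g * normElt Λ b * MonoidAlgebra.of Λ B g⁻¹ = normElt Λ (g * b * g⁻¹) := by
  unfold normElt
  rw [orderOf_conj', Finset.mul_sum, Finset.sum_mul]
  refine Finset.sum_congr rfl (fun i _ => ?_)
  rw [← map_mul, ← map_mul, conj_pow]

theorem normElt_mul_of (g b : B) :
    normElt Λ b * MonoidAlgebra.of Λ B g = MonoidAlgebra.of Λ B g * normElt Λ (g⁻¹ * b * g) := by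
  have h := of_mul_normElt_mul Λ g⁻¹ b
  rw [inv_inv] at h
  rw [← h, ← mul_assoc, ← mul_assoc, ← map_mul, mul_inv_cancel, map_one, one_mul]

theorem mul_of_mem {x : MonoidAlgebra Λ B} (hx : x ∈ normIdeal Λ B) (g : B) :
    x * MonoidAlgebra.of Λ B g ∈ normIdeal Λ B := by
  unfold normIdeal at hx ⊢
  induction hx using Submodule.span_induction with
  | mem x hx =>
    obtain ⟨b, hb, rfl⟩ := hx
    rw [normElt_mul_of]
    apply Ideal.mul_mem_left
    apply Ideal.subset_span
    refine ⟨g⁻¹ * b * g, ?_, rfl⟩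
    have := orderOf_conj' g⁻¹ b
    rw [inv_inv] at this
    rwa [this]
  | zero => rw [zero_mul]; exact Submodule.zero_mem _
  | add x y _ _ hx hy => rw [add_mul]; exact Submodule.add_mem _ hx hy
  | smul a x _ hx =>
    rw [smul_eq_mul, mul_assoc]
    exact Ideal.mul_mem_left _ _ hx

/-- the norm ideal is two-sided -/
theorem mul_mem_right {x : MonoidAlgebra Λ B} (hx : x ∈ normIdeal Λ B) (y : MonoidAlgebra Λ B) :
    x * y ∈ normIdeal Λ B := by
  induction y using MonoidAlgebra.induction_on with
  | of g => exact mul_of_mem Λ hx g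
  | add y z hy hz => rw [mul_add]; exact Submodule.add_mem _ hy hz
  | smul r y hy =>
    rw [mul_smul_comm, Algebra.smul_def]
    exact Ideal.mul_mem_left _ _ hy

theorem smul_mem (r : Λ) {x : MonoidAlgebra Λ B} (hx : x ∈ normIdeal Λ B) :
    r • x ∈ normIdeal Λ B := by
  rw [Algebra.smul_def]
  exact Ideal.mul_mem_left _ _ hx

end Basic

section NormSq

variable (Λ : Type*) [CommRing Λ] {B : Type*} [Group B]

theorem of_mul_normElt (b : B) : MonoidAlgebra.of Λ B b * normElt Λ b = normElt Λ b := by
  unfold normElt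
  rw [Finset.mul_sum]
  have h1 : ∀ i ∈ Finset.range (orderOf b),
      MonoidAlgebra.of Λ B b * MonoidAlgebra.of Λ B (b ^ i) = MonoidAlgebra.of Λ B (b ^ (i + 1)) := by
    intro i _
    rw [← map_mul, pow_succ']
  rw [Finset.sum_congr rfl h1]
  have h2 := Finset.sum_range_succ' (fun i => MonoidAlgebra.of Λ B (b ^ i)) (orderOf b)
  have h3 := Finset.sum_range_succ (fun i => MonoidAlgebra.of Λ B (b ^ i)) (orderOf b)
  rw [h3] at h2
  simp only [pow_orderOf_eq_one, pow_zero] at h2
  exact (add_right_cancel h2).symm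

theorem of_pow_mul_normElt (b : B) (i : ℕ) :
    MonoidAlgebra.of Λ B (b ^ i) * normElt Λ b = normElt Λ b := by
  induction i with
  | zero => rw [pow_zero, map_one, one_mul]
  | succ i ih => rw [pow_succ, map_mul, mul_assoc, of_mul_normElt, ih]

theorem normElt_mul_self (b : B) :
    normElt Λ b * normElt Λ b = (orderOf b : Λ) • normElt Λ b := by
  have h1 : normElt Λ b * normElt Λ b =
      ∑ i ∈ Finset.range (orderOf b), MonoidAlgebra.of Λ B (b ^ i) * normElt Λ b := by
    conv_lhs => rw [normElt, Finset.sum_mul]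
    rfl
  rw [h1, Finset.sum_congr rfl (fun i _ => of_pow_mul_normElt Λ b i), Finset.sum_const,
    Finset.card_range, Nat.cast_smul_eq_nsmul]

end NormSq

section Functorial

variable {Λ Λ' : Type*} [CommRing Λ] [CommRing Λ'] {B : Type*} [Group B] (f : Λ →+* Λ')

theorem mapRingHom_of (g : B) :
    mapRingHom B f (MonoidAlgebra.of Λ B g) = MonoidAlgebra.of Λ' B g := by
  rw [of_apply, of_apply, mapRingHom_single, map_one]

theorem mapRingHom_normElt (b : B) : mapRingHom B f (normElt Λ b) = normElt Λ' b := by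
  unfold normElt
  rw [map_sum]
  exact Finset.sum_congr rfl (fun i _ => mapRingHom_of f _)

theorem mapRingHom_mem {x : MonoidAlgebra Λ B} (hx : x ∈ normIdeal Λ B) :
    mapRingHom B f x ∈ normIdeal Λ' B := by
  unfold normIdeal at hx
  induction hx using Submodule.span_induction with
  | mem x hx =>
    obtain ⟨b, hb, rfl⟩ := hx
    rw [mapRingHom_normElt]
    exact normElt_mem Λ' hb
  | zero => rw [map_zero]; exact Submodule.zero_mem _
  | add x y _ _ hx hy => rw [map_add]; exact Submodule.add_mem _ hx hy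
  | smul a x _ hx =>
    rw [smul_eq_mul, map_mul]
    exact Ideal.mul_mem_left _ _ hx

theorem mapRingHom_surjective (hf : Function.Surjective f) :
    Function.Surjective (mapRingHom B f) := by
  intro y
  induction y using MonoidAlgebra.induction_on with
  | of g => exact ⟨MonoidAlgebra.of Λ B g, mapRingHom_of f g⟩
  | add y z hy hz =>
    obtain ⟨y', rfl⟩ := hy
    obtain ⟨z', rfl⟩ := hz
    exact ⟨y' + z', map_add _ _ _⟩
  | smul r y hy =>
    obtain ⟨y', rfl⟩ := hy
    obtain ⟨r', rfl⟩ := hf r
    refine ⟨r' • y', ?_⟩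
    ext g
    simp [coeff_mapRingHom, coeff_smul_apply]

theorem exists_mem_mapRingHom_eq (hf : Function.Surjective f) {y : MonoidAlgebra Λ' B}
    (hy : y ∈ normIdeal Λ' B) : ∃ x ∈ normIdeal Λ B, mapRingHom B f x = y := by
  unfold normIdeal at hy
  induction hy using Submodule.span_induction with
  | mem y hy =>
    obtain ⟨b, hb, rfl⟩ := hy
    exact ⟨normElt Λ b, normElt_mem Λ hb, mapRingHom_normElt f b⟩
  | zero => exact ⟨0, Submodule.zero_mem _, map_zero _⟩
  | add y z _ _ hy hz =>
    obtain ⟨y', hy', rfl⟩ := hy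
    obtain ⟨z', hz', rfl⟩ := hz
    exact ⟨y' + z', Submodule.add_mem _ hy' hz', map_add _ _ _⟩
  | smul a y _ hy =>
    obtain ⟨y', hy', rfl⟩ := hy
    obtain ⟨a', rfl⟩ := mapRingHom_surjective (B := B) f hf a
    exact ⟨a' * y', Ideal.mul_mem_left _ _ hy', by rw [map_mul, smul_eq_mul]⟩

/-- If the kernel of `f` is generated by `a`, then the kernel of `Λ[B] → Λ'[B]` is `a • Λ[B]`. -/
theorem exists_smul_of_mapRingHom_eq_zero (a : Λ) (hker : ∀ r, f r = 0 → ∃ s, r = a * s)
    {x : MonoidAlgebra Λ B} (hx : mapRingHom B f x = 0) : ∃ y : MonoidAlgebra Λ B, x = a • y := by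
  classical
  have hx' : ∀ g, f (x.coeff g) = 0 := by
    intro g
    rw [← coeff_mapRingHom, hx]
    rfl
  choose s hs using fun g => hker _ (hx' g)
  refine ⟨∑ g ∈ x.coeff.support, single g (s g), ?_⟩
  rw [Finset.smul_sum]
  conv_lhs => rw [← sum_coeff_single x]
  rw [Finsupp.sum]
  refine Finset.sum_congr rfl (fun g _ => ?_)
  rw [smul_single, smul_eq_mul, ← hs]

end Functorial

section Quot

variable (Λ : Type*) [CommRing Λ] (B : Type*) [Group B]

/-- the quotient `Λ[B] / J` as a `Λ`-module -/
abbrev NormQuot : Type _ := MonoidAlgebra Λ B ⧸ (normIdeal Λ B).restrictScalars Λ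

/-- the action of `B` on `Λ[B] / J` by left multiplication -/
noncomputable def normRep : Representation Λ B (NormQuot Λ B) where
  toFun b := Submodule.mapQ _ _ (LinearMap.mulLeft Λ (MonoidAlgebra.of Λ B b)) (by
    intro x hx
    exact Ideal.mul_mem_left _ _ hx)
  map_one' := by
    apply Submodule.linearMap_qext
    ext x
    simp
  map_mul' a b := by
    apply Submodule.linearMap_qext
    ext x
    simp [mul_assoc]

theorem normRep_mk (b : B) (x : MonoidAlgebra Λ B) :
    normRep Λ B b (Submodule.Quotient.mk x) = Submodule.Quotient.mk (MonoidAlgebra.of Λ B b * x) :=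
  rfl

theorem sum_normRep_pow {b : B} (hb : (orderOf b).Prime) :
    ∑ i ∈ Finset.range (orderOf b), (normRep Λ B b) ^ i = 0 := by
  apply LinearMap.ext
  intro y
  obtain ⟨x, rfl⟩ := Submodule.Quotient.mk_surjective _ y
  rw [LinearMap.sum_apply, LinearMap.zero_apply]
  have h1 : ∀ i ∈ Finset.range (orderOf b), ((normRep Λ B b) ^ i) (Submodule.Quotient.mk x) =
      (Submodule.Quotient.mk (MonoidAlgebra.of Λ B (b ^ i) * x) : NormQuot Λ B) := by
    intro i _
    rw [← map_pow, normRep_mk]
  have h2 : ∑ i ∈ Finset.range (orderOf b),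
      (Submodule.Quotient.mk (MonoidAlgebra.of Λ B (b ^ i) * x) : NormQuot Λ B) =
      Submodule.Quotient.mk (normElt Λ b * x) := by
    unfold normElt
    rw [Finset.sum_mul]
    exact (map_sum (Submodule.mkQ ((normIdeal Λ B).restrictScalars Λ)) _ _).symm
  rw [Finset.sum_congr rfl h1, h2, Submodule.Quotient.mk_eq_zero]
  exact mul_mem_right Λ (normElt_mem Λ hb) x

theorem nontrivial_normQuot (h1 : (1 : MonoidAlgebra Λ B) ∉ normIdeal Λ B) :
    Nontrivial (NormQuot Λ B) := by
  refine ⟨⟨Submodule.Quotient.mk 1, 0, ?_⟩⟩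
  rw [Ne, Submodule.Quotient.mk_eq_zero]
  exact h1

instance finite_normQuot [Finite B] : Module.Finite Λ (NormQuot Λ B) := inferInstance

end Quot

end Cfsg.Agent.Lib.Helper24.FrobNorm
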