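import Mathlib
import Cfsg.Agent.Lib.Helper24.FrobNorm

/-!
# Helper24 library: transfer of the characteristic for the norm ideal

If `q ∤ |B|` and the norm ideal of `𝔽_q[B]` is proper, then no nonzero integer lies in the norm
ideal of `ℤ[B]` (`int_not_mem_normIdeal`); consequently the norm ideals of `(ZMod n)[B]`, `n ≠ 1`,
and of `ℚ[B]` are proper.  The proof lifts a Maschke idempotent to `(ℤ/q^k)[B]`.
-/

set_option autoImplicit false

namespace Cfsg.Agent.Lib.Helper24.FrobNorm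

open MonoidAlgebra

section Maschke

variable {B : Type*} [Group B] [Finite B] (q : ℕ) [hq : Fact q.Prime]

/-- a nonzero idempotent annihilated by the norm ideal, from Maschke's theorem -/
theorem exists_idempotent (hqB : ¬ q ∣ Nat.card B)
    (h1 : (1 : MonoidAlgebra (ZMod q) B) ∉ normIdeal (ZMod q) B) :
    ∃ e : MonoidAlgebra (ZMod q) B, IsIdempotentElem e ∧ e ≠ 0 ∧
      ∀ x ∈ normIdeal (ZMod q) B, x * e = 0 := by
  have : NeZero (Nat.card B : ZMod q) := ⟨by rwa [Ne, ZMod.natCast_eq_zero_iff]⟩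
  obtain ⟨K, hK⟩ := MonoidAlgebra.Submodule.exists_isCompl (normIdeal (ZMod q) B)
  have htop : (1 : MonoidAlgebra (ZMod q) B) ∈ normIdeal (ZMod q) B ⊔ K := by
    rw [hK.sup_eq_top]; trivial
  obtain ⟨f, hf, e, he, hfe⟩ := Submodule.mem_sup.mp htop
  have hann : ∀ x ∈ normIdeal (ZMod q) B, x * e = 0 := by
    intro x hx
    have h2 : x * e ∈ K := K.smul_mem x he
    have h3 : x * e ∈ normIdeal (ZMod q) B := by
      have : x * e = x - x * f := by
        have h5 : x * f + x * e = x := by rw [← mul_add, hfe, mul_one]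
        exact eq_sub_of_add_eq' h5
      rw [this]
      exact Submodule.sub_mem _ hx (Ideal.mul_mem_left _ _ hf)
    have h4 : x * e ∈ normIdeal (ZMod q) B ⊓ K := ⟨h3, h2⟩
    rw [hK.inf_eq_bot] at h4
    exact (Submodule.mem_bot _).mp h4
  refine ⟨e, ?_, ?_, hann⟩
  · have h5 : e = f * e + e * e := by
      rw [← add_mul, hfe, one_mul]
    rw [hann f hf, zero_add] at h5
    exact h5.symm
  · rintro rfl
    rw [add_zero] at hfe
    rw [hfe] at hf
    exact h1 hf

end Maschke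

section Red

variable (q : ℕ) [hq : Fact q.Prime] (k : ℕ) (hk : k ≠ 0)

/-- reduction map `ZMod (q^k) → ZMod q` -/
noncomputable def red : ZMod (q ^ k) →+* ZMod q :=
  ZMod.castHom (dvd_pow_self q hk) (ZMod q)

theorem red_surjective : Function.Surjective (red q k hk) := ZMod.ringHom_surjective _

theorem red_ker (r : ZMod (q ^ k)) (hr : red q k hk r = 0) :
    ∃ s, r = (q : ZMod (q ^ k)) * s := by
  have : NeZero (q ^ k) := ⟨pow_ne_zero k hq.out.ne_zero⟩
  obtain ⟨n, rfl⟩ := ZMod.natCast_zmod_surjective r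
  rw [map_natCast, ZMod.natCast_eq_zero_iff] at hr
  obtain ⟨t, rfl⟩ := hr
  exact ⟨(t : ZMod (q ^ k)), by rw [Nat.cast_mul]⟩

theorem red_isUnit (r : ZMod (q ^ k)) (hr : red q k hk r ≠ 0) : IsUnit r := by
  have : NeZero (q ^ k) := ⟨pow_ne_zero k hq.out.ne_zero⟩
  obtain ⟨n, rfl⟩ := ZMod.natCast_zmod_surjective r
  rw [map_natCast, Ne, ZMod.natCast_eq_zero_iff] at hr
  rw [ZMod.isUnit_iff_coprime]
  apply Nat.Coprime.pow_right
  exact ((Nat.Prime.coprime_iff_not_dvd hq.out).mpr hr).symm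

theorem natCast_pow_self : ((q : ZMod (q ^ k)) ^ k) = 0 := by
  rw [← Nat.cast_pow, ZMod.natCast_self]

end Red

section Lift

variable {B : Type*} [Group B] [Finite B] (q : ℕ) [hq : Fact q.Prime] (k : ℕ) (hk : k ≠ 0)

theorem isNilpotent_of_mem_ker (x : MonoidAlgebra (ZMod (q ^ k)) B)
    (hx : x ∈ RingHom.ker (mapRingHom B (red q k hk))) : IsNilpotent x := by
  obtain ⟨y, rfl⟩ := exists_smul_of_mapRingHom_eq_zero (red q k hk) (q : ZMod (q ^ k))
    (red_ker q k hk) hx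
  refine ⟨k, ?_⟩
  rw [smul_pow, natCast_pow_self, zero_smul]

/-- lift of an idempotent of `𝔽_q[B]` to `(ℤ/q^k)[B]` -/
theorem exists_lift_idempotent (e : MonoidAlgebra (ZMod q) B) (he : IsIdempotentElem e) :
    ∃ e' : MonoidAlgebra (ZMod (q ^ k)) B, IsIdempotentElem e' ∧
      mapRingHom B (red q k hk) e' = e :=
  exists_isIdempotentElem_eq_of_ker_isNilpotent _ (isNilpotent_of_mem_ker q k hk) e
    (RingHom.mem_range.2 (mapRingHom_surjective _ (red_surjective q k hk) e)) he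

variable {q k}

theorem mul_lift_eq_smul {e : MonoidAlgebra (ZMod q) B}
    (hann : ∀ x ∈ normIdeal (ZMod q) B, x * e = 0) {e' : MonoidAlgebra (ZMod (q ^ k)) B}
    (hee' : mapRingHom B (red q k hk) e' = e) {x : MonoidAlgebra (ZMod (q ^ k)) B}
    (hx : x ∈ normIdeal (ZMod (q ^ k)) B) :
    ∃ z : MonoidAlgebra (ZMod (q ^ k)) B, x * e' = (q : ZMod (q ^ k)) • z := by
  apply exists_smul_of_mapRingHom_eq_zero (red q k hk) (q : ZMod (q ^ k)) (red_ker q k hk)
  rw [map_mul, hee']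
  exact hann _ (mapRingHom_mem _ hx)

theorem mul_lift_eq_pow_smul (hqB : ¬ q ∣ Nat.card B) {e : MonoidAlgebra (ZMod q) B}
    (hann : ∀ x ∈ normIdeal (ZMod q) B, x * e = 0) {e' : MonoidAlgebra (ZMod (q ^ k)) B}
    (he' : IsIdempotentElem e') (hee' : mapRingHom B (red q k hk) e' = e) (m : ℕ) :
    ∀ x ∈ normIdeal (ZMod (q ^ k)) B,
      ∃ z : MonoidAlgebra (ZMod (q ^ k)) B, x * e' = (q : ZMod (q ^ k)) ^ m • z := by
  induction m with
  | zero =>
    intro x _
    exact ⟨x * e', by rw [pow_zero, one_smul]⟩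
  | succ m ih =>
    intro x hx
    unfold normIdeal at hx
    induction hx using Submodule.span_induction with
    | mem x hx =>
      obtain ⟨b, hb, rfl⟩ := hx
      -- the order of `b` is invertible
      have hcop : (orderOf b).Coprime (q ^ k) := by
        apply Nat.Coprime.pow_right
        rw [Nat.coprime_comm, Nat.Prime.coprime_iff_not_dvd hq.out]
        intro hdvd
        exact hqB (hdvd.trans (orderOf_dvd_natCard b))
      obtain ⟨u, hu⟩ := ((ZMod.isUnit_iff_coprime (orderOf b) (q ^ k)).mpr hcop).exists_left_inv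
      obtain ⟨z, hz⟩ := ih _ (normElt_mem _ hb)
      set N := normElt (ZMod (q ^ k)) b with hN
      have h1 : N * e' = (q : ZMod (q ^ k)) ^ m • (u • (N * z)) := by
        calc N * e' = (u * (orderOf b : ZMod (q ^ k))) • N * e' := by rw [hu, one_smul]
          _ = u • (N * N) * e' := by rw [normElt_mul_self, smul_smul]
          _ = u • (N * (N * e')) := by rw [smul_mul_assoc, mul_assoc]
          _ = (q : ZMod (q ^ k)) ^ m • (u • (N * z)) := by
            rw [hz, mul_smul_comm, smul_comm]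
      have h2 : u • (N * z) ∈ normIdeal (ZMod (q ^ k)) B :=
        smul_mem _ u (mul_mem_right _ (normElt_mem _ hb) z)
      obtain ⟨z', hz'⟩ := mul_lift_eq_smul hk hann hee' h2
      refine ⟨z', ?_⟩
      calc N * e' = N * (e' * e') := by rw [he'.eq]
        _ = (N * e') * e' := by rw [mul_assoc]
        _ = (q : ZMod (q ^ k)) ^ m • ((u • (N * z)) * e') := by rw [h1, smul_mul_assoc]
        _ = (q : ZMod (q ^ k)) ^ (m + 1) • z' := by rw [hz', smul_smul, pow_succ]
    | zero => exact ⟨0, by rw [zero_mul, smul_zero]⟩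
    | add x y _ _ hx hy =>
      obtain ⟨zx, hzx⟩ := hx
      obtain ⟨zy, hzy⟩ := hy
      exact ⟨zx + zy, by rw [add_mul, hzx, hzy, smul_add]⟩
    | smul a x _ hx =>
      obtain ⟨zx, hzx⟩ := hx
      exact ⟨a * zx, by rw [smul_eq_mul, mul_assoc, hzx, mul_smul_comm]⟩

theorem mul_lift_eq_zero (hqB : ¬ q ∣ Nat.card B) {e : MonoidAlgebra (ZMod q) B}
    (hann : ∀ x ∈ normIdeal (ZMod q) B, x * e = 0) {e' : MonoidAlgebra (ZMod (q ^ k)) B}
    (he' : IsIdempotentElem e') (hee' : mapRingHom B (red q k hk) e' = e)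
    {x : MonoidAlgebra (ZMod (q ^ k)) B} (hx : x ∈ normIdeal (ZMod (q ^ k)) B) : x * e' = 0 := by
  obtain ⟨z, hz⟩ := mul_lift_eq_pow_smul hk hqB hann he' hee' k x hx
  rw [hz, natCast_pow_self, zero_smul]

end Lift

section Transfer

variable {B : Type*} [Group B] [Finite B] (q : ℕ) [hq : Fact q.Prime]

/-- **Characteristic transfer.** If the norm ideal of `𝔽_q[B]` is proper (`q ∤ |B|`), then the norm
ideal of `ℤ[B]` contains no nonzero integer. -/
theorem int_eq_zero_of_mem_normIdeal (hqB : ¬ q ∣ Nat.card B)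
    (h1 : (1 : MonoidAlgebra (ZMod q) B) ∉ normIdeal (ZMod q) B) (c : ℤ)
    (hc : (c : MonoidAlgebra ℤ B) ∈ normIdeal ℤ B) : c = 0 := by
  obtain ⟨e, he, he0, hann⟩ := exists_idempotent q hqB h1
  obtain ⟨g₀, hg₀⟩ : ∃ g, e.coeff g ≠ 0 := by
    by_contra h
    push Not at h
    apply he0
    ext g
    simpa using h g
  have key : ∀ k : ℕ, k ≠ 0 → ((q ^ k : ℕ) : ℤ) ∣ c := by
    intro k hk
    obtain ⟨e', he', hee'⟩ := exists_lift_idempotent q k hk e he
    have h2 : mapRingHom B (Int.castRingHom (ZMod (q ^ k))) (c : MonoidAlgebra ℤ B) ∈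
        normIdeal (ZMod (q ^ k)) B := mapRingHom_mem _ hc
    rw [map_intCast] at h2
    have h3 := mul_lift_eq_zero hk hqB hann he' hee' h2
    have h4 : red q k hk (e'.coeff g₀) ≠ 0 := by
      rw [← coeff_mapRingHom, hee']
      exact hg₀
    have h5 := red_isUnit q k hk _ h4
    have h6 : (c : ZMod (q ^ k)) * e'.coeff g₀ = 0 := by
      have h7 := congrArg (fun y => y.coeff g₀) h3
      simp only [intCast_def, coeff_single_one_mul] at h7
      simpa using h7
    rw [h5.mul_left_eq_zero] at h6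
    exact (ZMod.intCast_zmod_eq_zero_iff_dvd c (q ^ k)).1 h6
  have h8 := key (c.natAbs + 1) (Nat.succ_ne_zero _)
  apply Int.eq_zero_of_abs_lt_dvd h8
  rw [Int.abs_eq_natAbs]
  have h9 : c.natAbs + 1 < q ^ (c.natAbs + 1) := Nat.lt_pow_self hq.out.one_lt
  exact_mod_cast (Nat.lt_succ_self _).trans h9

/-- the norm ideal of `(ZMod n)[B]` is proper for every `n ≠ 1` -/
theorem one_not_mem_normIdeal_zmod (hqB : ¬ q ∣ Nat.card B)
    (h1 : (1 : MonoidAlgebra (ZMod q) B) ∉ normIdeal (ZMod q) B) (n : ℕ) (hn : n ≠ 1) :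
    (1 : MonoidAlgebra (ZMod n) B) ∉ normIdeal (ZMod n) B := by
  intro h
  obtain ⟨j, hj, hj1⟩ := exists_mem_mapRingHom_eq (B := B) (Int.castRingHom (ZMod n))
    ZMod.intCast_surjective h
  have h2 : mapRingHom B (Int.castRingHom (ZMod n)) (1 - j) = 0 := by
    rw [map_sub, map_one, hj1, sub_self]
  obtain ⟨y₁, hy₁⟩ := exists_smul_of_mapRingHom_eq_zero (Int.castRingHom (ZMod n)) (n : ℤ)
    (fun r hr => (ZMod.intCast_zmod_eq_zero_iff_dvd r n).1 hr) h2
  -- Nakayama
  obtain ⟨r, hr1, hr2⟩ := Submodule.exists_sub_one_mem_and_smul_eq_zero_of_fg_of_le_smul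
    (Ideal.span {(n : ℤ)}) (⊤ : Submodule ℤ (NormQuot ℤ B)) Module.Finite.fg_top (by
      intro m _
      obtain ⟨x, rfl⟩ := Submodule.Quotient.mk_surjective _ m
      have h3 : x = x * j + (n : ℤ) • (x * y₁) := by
        rw [← mul_smul_comm, ← hy₁, ← mul_add, add_sub_cancel, mul_one]
      have h4 : (Submodule.Quotient.mk x : NormQuot ℤ B) =
          (n : ℤ) • (Submodule.Quotient.mk (x * y₁) : NormQuot ℤ B) := by
        conv_lhs => rw [h3]
        rw [Submodule.Quotient.mk_add, Submodule.Quotient.mk_smul]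
        have : (Submodule.Quotient.mk (x * j) : NormQuot ℤ B) = 0 := by
          rw [Submodule.Quotient.mk_eq_zero]
          exact Ideal.mul_mem_left _ _ hj
        rw [this, zero_add]
      rw [h4]
      exact Submodule.smul_mem_smul (Ideal.mem_span_singleton_self _) trivial)
  have h5 := hr2 (Submodule.Quotient.mk 1) trivial
  rw [← Submodule.Quotient.mk_smul, Submodule.Quotient.mk_eq_zero] at h5
  have h6 : (r : MonoidAlgebra ℤ B) ∈ normIdeal ℤ B := by
    have : r • (1 : MonoidAlgebra ℤ B) = (r : MonoidAlgebra ℤ B) := by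
      rw [zsmul_eq_mul, mul_one]
    rw [← this]
    exact h5
  have h7 := int_eq_zero_of_mem_normIdeal q hqB h1 r h6
  rw [h7, zero_sub, Ideal.mem_span_singleton] at hr1
  have h8 : (n : ℤ) ∣ 1 := (dvd_neg.mp hr1)
  have h9 : n ∣ 1 := by exact_mod_cast h8
  exact hn (Nat.dvd_one.mp h9)

end Transfer

section Rat

variable {B : Type*} [Group B]

theorem natCast_mul_eq_smul (n : ℕ) (z : MonoidAlgebra ℚ B) :
    (n : MonoidAlgebra ℚ B) * z = (n : ℚ) • z := by
  rw [← nsmul_eq_mul, Nat.cast_smul_eq_nsmul]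

theorem intCast_mul_eq_smul (n : ℤ) (z : MonoidAlgebra ℚ B) :
    (n : MonoidAlgebra ℚ B) * z = (n : ℚ) • z := by
  rw [← zsmul_eq_mul, Int.cast_smul_eq_zsmul]

theorem exists_int_lift (a : MonoidAlgebra ℚ B) :
    ∃ d : ℕ, d ≠ 0 ∧ ∃ a' : MonoidAlgebra ℤ B,
      mapRingHom B (Int.castRingHom ℚ) a' = (d : ℚ) • a := by
  induction a using MonoidAlgebra.induction_on with
  | of g =>
    exact ⟨1, one_ne_zero, MonoidAlgebra.of ℤ B g, by rw [mapRingHom_of, Nat.cast_one, one_smul]⟩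
  | add x y hx hy =>
    obtain ⟨d₁, hd₁, x', hx'⟩ := hx
    obtain ⟨d₂, hd₂, y', hy'⟩ := hy
    refine ⟨d₁ * d₂, mul_ne_zero hd₁ hd₂, (d₂ : ℤ) • x' + (d₁ : ℤ) • y', ?_⟩
    rw [map_add, zsmul_eq_mul, zsmul_eq_mul, map_mul, map_mul, hx', hy', map_intCast, map_intCast,
      smul_add, Nat.cast_mul]
    rw [mul_comm (d₁ : ℚ) (d₂ : ℚ), mul_smul, mul_comm (d₂ : ℚ) (d₁ : ℚ), mul_smul,
      intCast_mul_eq_smul, intCast_mul_eq_smul, Int.cast_natCast, Int.cast_natCast]
  | smul r x hx =>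
    obtain ⟨d, hd, x', hx'⟩ := hx
    refine ⟨r.den * d, mul_ne_zero r.den_ne_zero hd, r.num • x', ?_⟩
    rw [zsmul_eq_mul, map_mul, hx', map_intCast, Nat.cast_mul, mul_smul, smul_comm (d : ℚ) r x,
      ← mul_smul (r.den : ℚ) r, Rat.den_mul_eq_num, intCast_mul_eq_smul]

theorem exists_int_lift_mem {x : MonoidAlgebra ℚ B} (hx : x ∈ normIdeal ℚ B) :
    ∃ d : ℕ, d ≠ 0 ∧ ∃ y ∈ normIdeal ℤ B,
      mapRingHom B (Int.castRingHom ℚ) y = (d : ℚ) • x := by
  unfold normIdeal at hx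
  induction hx using Submodule.span_induction with
  | mem x hx =>
    obtain ⟨b, hb, rfl⟩ := hx
    exact ⟨1, one_ne_zero, normElt ℤ b, normElt_mem ℤ hb, by
      rw [mapRingHom_normElt, Nat.cast_one, one_smul]⟩
  | zero => exact ⟨1, one_ne_zero, 0, Submodule.zero_mem _, by rw [map_zero, smul_zero]⟩
  | add x y _ _ hx hy =>
    obtain ⟨d₁, hd₁, x', hx'm, hx'⟩ := hx
    obtain ⟨d₂, hd₂, y', hy'm, hy'⟩ := hy
    refine ⟨d₁ * d₂, mul_ne_zero hd₁ hd₂, (d₂ : MonoidAlgebra ℤ B) * x' + (d₁ : MonoidAlgebra ℤ B) * y',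
      Submodule.add_mem _ (Ideal.mul_mem_left _ _ hx'm) (Ideal.mul_mem_left _ _ hy'm), ?_⟩
    rw [map_add, map_mul, map_mul, hx', hy', map_natCast, map_natCast,
      smul_add, Nat.cast_mul]
    rw [mul_comm (d₁ : ℚ) (d₂ : ℚ), mul_smul, mul_comm (d₂ : ℚ) (d₁ : ℚ), mul_smul,
      natCast_mul_eq_smul, natCast_mul_eq_smul]
  | smul a x _ hx =>
    obtain ⟨d, hd, x', hx'm, hx'⟩ := hx
    obtain ⟨da, hda, a', ha'⟩ := exists_int_lift a
    refine ⟨da * d, mul_ne_zero hda hd, a' * x', Ideal.mul_mem_left _ _ hx'm, ?_⟩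
    rw [map_mul, ha', hx', smul_mul_smul_comm, smul_eq_mul, Nat.cast_mul]

theorem mapRingHom_intCast_injective :
    Function.Injective (mapRingHom B (Int.castRingHom ℚ)) := by
  intro x y hxy
  ext g
  have := congrArg (fun z => z.coeff g) hxy
  simp only [coeff_mapRingHom] at this
  exact Int.cast_injective this

/-- the norm ideal of `ℚ[B]` is proper -/
theorem one_not_mem_normIdeal_rat [Finite B] (q : ℕ) [hq : Fact q.Prime] (hqB : ¬ q ∣ Nat.card B)
    (h1 : (1 : MonoidAlgebra (ZMod q) B) ∉ normIdeal (ZMod q) B) :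
    (1 : MonoidAlgebra ℚ B) ∉ normIdeal ℚ B := by
  intro h
  obtain ⟨d, hd, y, hy, hyd⟩ := exists_int_lift_mem h
  have h2 : y = ((d : ℤ) : MonoidAlgebra ℤ B) := by
    apply mapRingHom_intCast_injective
    rw [hyd, map_intCast, Int.cast_natCast, ← natCast_mul_eq_smul, mul_one]
  rw [h2] at hy
  have h3 := int_eq_zero_of_mem_normIdeal q hqB h1 _ hy
  exact hd (by exact_mod_cast h3)

end Rat

end Cfsg.Agent.Lib.Helper24.FrobNorm
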