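import Mathlib
import Cfsg.Agent.Lib.Helper24.FrobNorm

/-!
# Helper24 library: norm-free representations

A representation `ρ` is `NormFree` if `∑_{i < o(g)} ρ (g^i) = 0` for every `g` of prime order.
When the prime divisors of `|G|` act injectively, such a representation is fixed-point-free.
Norm-freeness passes to tensor products of representations of groups of coprime orders, to base
change and to subrepresentations.  A fixed-point-free action on a finite abelian group of order
divisible by `q` shows that the norm ideal of `𝔽_q[B]` is proper.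
-/

set_option autoImplicit false

namespace Cfsg.Agent.Lib.Helper24.FrobNorm

open MonoidAlgebra TensorProduct

section NormFree

variable {k : Type*} [CommRing k] {G : Type*} [Group G] {V : Type*} [AddCommGroup V] [Module k V]

/-- norms of prime-order elements act as zero -/
def NormFree (ρ : Representation k G V) : Prop :=
  ∀ g : G, (orderOf g).Prime → ∑ i ∈ Finset.range (orderOf g), ρ (g ^ i) = 0

theorem normFree_normRep (Λ : Type*) [CommRing Λ] (B : Type*) [Group B] :
    NormFree (normRep Λ B) := by
  intro b hb
  have := sum_normRep_pow Λ B hb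
  simpa only [map_pow] using this

/-- a norm-free representation of a finite group, on a module on which the prime divisors of the
group order act injectively, is fixed-point-free -/
theorem NormFree.fpf [Finite G] {ρ : Representation k G V} (h : NormFree ρ)
    (hinj : ∀ p : ℕ, p.Prime → p ∣ Nat.card G → ∀ v : V, p • v = 0 → v = 0)
    {g : G} (hg : g ≠ 1) {v : V} (hv : ρ g v = v) : v = 0 := by
  have hn0 : orderOf g ≠ 0 := (orderOf_pos g).ne'
  have hn1 : orderOf g ≠ 1 := by rwa [Ne, orderOf_eq_one_iff]
  have hpp : (orderOf g).minFac.Prime := Nat.minFac_prime hn1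
  have hpd : (orderOf g).minFac ∣ orderOf g := Nat.minFac_dvd _
  have hord : orderOf (g ^ (orderOf g / (orderOf g).minFac)) = (orderOf g).minFac :=
    orderOf_pow_orderOf_div hn0 hpd
  have hfix : ∀ n : ℕ, ρ (g ^ n) v = v := by
    intro n
    induction n with
    | zero => rw [pow_zero, map_one, Module.End.one_apply]
    | succ n ih => rw [pow_succ, map_mul, Module.End.mul_apply, hv, ih]
  have hsum := h (g ^ (orderOf g / (orderOf g).minFac)) (by rw [hord]; exact hpp)
  have h2 := congrArg (fun f => f v) hsum
  simp only [LinearMap.sum_apply, LinearMap.zero_apply, ← pow_mul, hfix, Finset.sum_const,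
    Finset.card_range] at h2
  rw [hord] at h2
  refine hinj _ hpp ?_ v h2
  rw [← hord]
  exact orderOf_dvd_natCard _

end NormFree

section Tensor

variable {k : Type*} [CommRing k] {A B : Type*} [Group A] [Group B]
  {V W : Type*} [AddCommGroup V] [Module k V] [AddCommGroup W] [Module k W]

/-- the outer tensor product of two representations -/
noncomputable def prodRep (ρA : Representation k A V) (ρB : Representation k B W) :
    Representation k (A × B) (V ⊗[k] W) :=
  Representation.tprod (ρA.comp (MonoidHom.fst A B)) (ρB.comp (MonoidHom.snd A B))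

theorem prodRep_apply (ρA : Representation k A V) (ρB : Representation k B W) (a : A) (b : B) :
    prodRep ρA ρB (a, b) = TensorProduct.map (ρA a) (ρB b) := rfl

theorem normFree_prodRep [Finite A] [Finite B] (hcop : (Nat.card A).Coprime (Nat.card B))
    {ρA : Representation k A V} {ρB : Representation k B W} (hA : NormFree ρA)
    (hB : NormFree ρB) : NormFree (prodRep ρA ρB) := by
  rintro ⟨a, b⟩ hab
  have hlcm : orderOf (a, b) = (orderOf a).lcm (orderOf b) := Prod.orderOf_mk
  have ha : orderOf a ∣ orderOf (a, b) := hlcm ▸ Nat.dvd_lcm_left _ _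
  have hb : orderOf b ∣ orderOf (a, b) := hlcm ▸ Nat.dvd_lcm_right _ _
  have hnot : ¬ (orderOf a = orderOf (a, b) ∧ orderOf b = orderOf (a, b)) := by
    rintro ⟨h1, h2⟩
    have h3 : orderOf (a, b) ∣ Nat.gcd (Nat.card A) (Nat.card B) :=
      Nat.dvd_gcd (h1 ▸ orderOf_dvd_natCard a) (h2 ▸ orderOf_dvd_natCard b)
    rw [hcop.gcd_eq_one] at h3
    exact hab.one_lt.ne' (Nat.dvd_one.mp h3)
  apply LinearMap.ext
  intro t
  rw [LinearMap.sum_apply, LinearMap.zero_apply]
  rcases (Nat.dvd_prime hab).mp ha with ha1 | hap
  · -- a = 1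
    have ha1' : a = 1 := orderOf_eq_one_iff.mp ha1
    have hbp : orderOf b = orderOf (a, b) := by rw [hlcm, ha1, Nat.lcm_one_left]
    induction t using TensorProduct.induction_on with
    | zero => simp
    | add x y hx hy => simp only [map_add, Finset.sum_add_distrib, hx, hy, add_zero]
    | tmul v w =>
      have h1 : ∀ i ∈ Finset.range (orderOf (a, b)),
          (prodRep ρA ρB ((a, b) ^ i)) (v ⊗ₜ[k] w) = v ⊗ₜ[k] (ρB (b ^ i) w) := by
        intro i _
        rw [Prod.pow_mk, prodRep_apply, TensorProduct.map_tmul, ha1', one_pow, map_one,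
          Module.End.one_apply]
      rw [Finset.sum_congr rfl h1, ← TensorProduct.tmul_sum, ← hbp, ← LinearMap.sum_apply,
        hB b (hbp ▸ hab), LinearMap.zero_apply, TensorProduct.tmul_zero]
  · rcases (Nat.dvd_prime hab).mp hb with hb1 | hbp
    · have hb1' : b = 1 := orderOf_eq_one_iff.mp hb1
      induction t using TensorProduct.induction_on with
      | zero => simp
      | add x y hx hy => simp only [map_add, Finset.sum_add_distrib, hx, hy, add_zero]
      | tmul v w =>
        have h1 : ∀ i ∈ Finset.range (orderOf (a, b)),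
            (prodRep ρA ρB ((a, b) ^ i)) (v ⊗ₜ[k] w) = (ρA (a ^ i) v) ⊗ₜ[k] w := by
          intro i _
          rw [Prod.pow_mk, prodRep_apply, TensorProduct.map_tmul, hb1', one_pow, map_one,
            Module.End.one_apply]
        rw [Finset.sum_congr rfl h1, ← TensorProduct.sum_tmul, ← hap, ← LinearMap.sum_apply,
          hA a (hap ▸ hab), LinearMap.zero_apply, TensorProduct.zero_tmul]
    · exact absurd ⟨hap, hbp⟩ hnot

end Tensor

section BaseChange

variable {k : Type*} [CommRing k] (K : Type*) [CommRing K] [Algebra k K] {G : Type*} [Group G]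
  {V : Type*} [AddCommGroup V] [Module k V]

/-- base change of a representation -/
noncomputable def baseChangeRep (ρ : Representation k G V) : Representation K G (K ⊗[k] V) :=
  ((Module.End.baseChangeHom k K V : Module.End k V →* Module.End K (K ⊗[k] V))).comp ρ

theorem baseChangeRep_apply (ρ : Representation k G V) (g : G) :
    baseChangeRep K ρ g = Module.End.baseChangeHom k K V (ρ g) := rfl

theorem normFree_baseChangeRep {ρ : Representation k G V} (h : NormFree ρ) :
    NormFree (baseChangeRep K ρ) := by
  intro g hg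
  simp only [baseChangeRep_apply]
  rw [← map_sum, h g hg, map_zero]

end BaseChange

section SubRep

variable {k : Type*} [CommRing k] {G : Type*} [Group G]
  {V : Type*} [AddCommGroup V] [Module k V]

/-- restriction of a representation to an invariant submodule -/
noncomputable def subRep (ρ : Representation k G V) (U : Submodule k V)
    (hU : ∀ g : G, ∀ u ∈ U, ρ g u ∈ U) : Representation k G U where
  toFun g := (ρ g).restrict (hU g)
  map_one' := by
    ext u
    simp
  map_mul' a b := by
    ext u
    simp

theorem subRep_apply_coe (ρ : Representation k G V) (U : Submodule k V)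
    (hU : ∀ g : G, ∀ u ∈ U, ρ g u ∈ U) (g : G) (u : U) :
    ((subRep ρ U hU g u : U) : V) = ρ g (u : V) := rfl

theorem normFree_subRep {ρ : Representation k G V} (h : NormFree ρ) (U : Submodule k V)
    (hU : ∀ g : G, ∀ u ∈ U, ρ g u ∈ U) : NormFree (subRep ρ U hU) := by
  intro g hg
  apply LinearMap.ext
  intro u
  apply Subtype.ext
  rw [LinearMap.sum_apply, LinearMap.zero_apply, Submodule.coe_sum]
  simp only [subRep_apply_coe]
  rw [← LinearMap.sum_apply, h g hg]
  rfl

end SubRep

section OfFpf

variable {B : Type*} [Group B] {V : Type*} [AddCommGroup V]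

theorem asAlgebraHom_normElt_eq_zero (ρ : Representation ℤ B V)
    (hfpf : ∀ b : B, b ≠ 1 → ∀ v : V, ρ b v = v → v = 0) {b : B} (hb : (orderOf b).Prime) :
    ρ.asAlgebraHom (normElt ℤ b) = 0 := by
  apply LinearMap.ext
  intro v
  have hb1 : b ≠ 1 := by
    rintro rfl
    rw [orderOf_one] at hb
    exact Nat.not_prime_one hb
  apply hfpf b hb1
  have h1 : ρ b = ρ.asAlgebraHom (MonoidAlgebra.of ℤ B b) := (ρ.asAlgebraHom_of b).symm
  rw [h1, ← Module.End.mul_apply, ← map_mul, of_mul_normElt]

theorem asAlgebraHom_eq_zero_of_mem (ρ : Representation ℤ B V)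
    (hfpf : ∀ b : B, b ≠ 1 → ∀ v : V, ρ b v = v → v = 0) {x : MonoidAlgebra ℤ B}
    (hx : x ∈ normIdeal ℤ B) : ρ.asAlgebraHom x = 0 := by
  unfold normIdeal at hx
  induction hx using Submodule.span_induction with
  | mem x hx =>
    obtain ⟨b, hb, rfl⟩ := hx
    exact asAlgebraHom_normElt_eq_zero ρ hfpf hb
  | zero => rw [map_zero]
  | add x y _ _ hx hy => rw [map_add, hx, hy, add_zero]
  | smul a x _ hx => rw [smul_eq_mul, map_mul, hx, mul_zero]

/-- a fixed-point-free action on a finite abelian group of order divisible by `q` shows that the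
norm ideal of `𝔽_q[B]` is proper -/
theorem one_not_mem_normIdeal_of_fpf [Finite V] (ρ : Representation ℤ B V)
    (hfpf : ∀ b : B, b ≠ 1 → ∀ v : V, ρ b v = v → v = 0) (q : ℕ) [hq : Fact q.Prime]
    (hqV : q ∣ Nat.card V) : (1 : MonoidAlgebra (ZMod q) B) ∉ normIdeal (ZMod q) B := by
  intro h
  obtain ⟨j, hj, hj1⟩ := exists_mem_mapRingHom_eq (B := B) (Int.castRingHom (ZMod q))
    ZMod.intCast_surjective h
  have h2 : mapRingHom B (Int.castRingHom (ZMod q)) (1 - j) = 0 := by
    rw [map_sub, map_one, hj1, sub_self]
  obtain ⟨y, hy⟩ := exists_smul_of_mapRingHom_eq_zero (Int.castRingHom (ZMod q)) (q : ℤ)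
    (fun r hr => (ZMod.intCast_zmod_eq_zero_iff_dvd r q).1 hr) h2
  have h3 := congrArg ρ.asAlgebraHom hy
  rw [map_sub, map_one, asAlgebraHom_eq_zero_of_mem ρ hfpf hj, sub_zero, map_smul] at h3
  have hsurj : Function.Surjective (fun v : V => q • v) := by
    intro v
    refine ⟨ρ.asAlgebraHom y v, ?_⟩
    have := congrArg (fun f => f v) h3
    simp only [Module.End.one_apply, LinearMap.smul_apply] at this
    exact ((natCast_zsmul (ρ.asAlgebraHom y v) q).symm.trans this.symm)
  have hinj := Finite.injective_iff_surjective.mpr hsurj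
  obtain ⟨v₀, hv₀⟩ := exists_prime_addOrderOf_dvd_card' q hqV
  have h4 : q • v₀ = 0 := by rw [← hv₀]; exact addOrderOf_nsmul_eq_zero v₀
  have h5 : v₀ = 0 := hinj (by simp only [h4, smul_zero])
  rw [h5, addOrderOf_zero] at hv₀
  exact hq.out.one_lt.ne hv₀

end OfFpf

end Cfsg.Agent.Lib.Helper24.FrobNorm
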