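import Mathlib
import Cfsg.Agent.Lib.Helper1.FrobConj2
import Cfsg.Agent.Lib.Helper1.FpfSylow
import Cfsg.Agent.Lib.Helper23.FrobeniusShrink
import Cfsg.Agent.Lib.Helper24.FrobRep
import Cfsg.Agent.Lib.Helper24.FrobLift

/-!
# Helper24 library: Frobenius complements and norm-free representations

* `exists_prime_normIdeal_proper`: a Frobenius complement `G` has a prime `q ∤ |G|` such that the
  norm ideal of `𝔽_q[G]` is proper.
* `exists_frobenius_of_normFree`: a norm-free representation over `𝔽_ℓ`, `ℓ ∤ |G|`, makes `G` a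
  Frobenius complement.
* `exists_frobenius_of_injective`: subgroups of Frobenius complements are Frobenius complements.
* `coprime_of_prod_complement`: if `A × B` is a Frobenius complement then `|A|`, `|B|` are coprime.
* `exists_frobenius_prod`: the converse direction for products.
-/

set_option autoImplicit false

namespace Cfsg.Agent.Lib.Helper24.FrobNorm

open MonoidAlgebra TensorProduct Cfsg.Agent.Lib

section ToNorm

variable {G : Type*} [Group G] [Finite G] {L : Type*} [Group L] [Finite L] {H : Subgroup L}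

theorem kernel_ne_bot {N : Subgroup L} (hN : Helper1.FrobData H N) : N ≠ ⊥ := by
  intro hbot
  have h1 := hN.card_mul
  rw [hbot, Subgroup.card_bot, one_mul] at h1
  exact hN.frob.2.1 (Subgroup.eq_top_of_card_eq H h1)

/-- a Frobenius complement has a proper norm ideal in some coprime characteristic -/
theorem exists_prime_normIdeal_proper (hH : Cfsg.IsFrobeniusComplement H) (φ : G ≃* H) :
    ∃ q : ℕ, q.Prime ∧ ¬ q ∣ Nat.card G ∧
      (1 : MonoidAlgebra (ZMod q) G) ∉ normIdeal (ZMod q) G := by
  obtain ⟨N, hN⟩ := Helper1.FrobData.exists_of_isFrobeniusComplement hH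
  obtain ⟨V, hVN, hVc, hVne, hHV⟩ := hN.exists_invariant_abelian
  have hcardV : Nat.card V ≠ 1 := fun h => hVne (Subgroup.card_eq_one.mp h)
  obtain ⟨q, hq, hqV⟩ := Nat.exists_prime_and_dvd hcardV
  have : Fact q.Prime := ⟨hq⟩
  have hqG : ¬ q ∣ Nat.card G := by
    intro h
    have h1 : q ∣ Nat.card H := by rwa [← Nat.card_congr φ.toEquiv]
    have h2 : q ∣ Nat.card N := hqV.trans (Subgroup.card_dvd_of_le hVN)
    have h3 := Nat.dvd_gcd h1 h2
    rw [hN.coprime.gcd_eq_one] at h3
    exact hq.one_lt.ne' (Nat.dvd_one.mp h3)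
  refine ⟨q, hq, hqG, ?_⟩
  letI : CommGroup V := { (inferInstance : Group V) with mul_comm := fun a b => mul_comm' a b }
  have hmem : ∀ (g : G) (v : V), ((φ g : L) * (v : L) * (φ g : L)⁻¹) ∈ V := by
    intro g v
    exact (Subgroup.mem_normalizer_iff.mp (hHV (φ g).2) v).mp v.2
  letI : MulDistribMulAction G V :=
    { smul := fun g v => ⟨(φ g : L) * (v : L) * (φ g : L)⁻¹, hmem g v⟩
      one_smul := fun v => by
        apply Subtype.ext
        change ((φ 1 : H) : L) * (v : L) * ((φ 1 : H) : L)⁻¹ = v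
        rw [map_one]; simp
      mul_smul := fun a b v => by
        apply Subtype.ext
        change ((φ (a * b) : H) : L) * (v : L) * ((φ (a * b) : H) : L)⁻¹ =
          ((φ a : H) : L) * (((φ b : H) : L) * (v : L) * ((φ b : H) : L)⁻¹) * ((φ a : H) : L)⁻¹
        rw [map_mul]; simp [mul_assoc]
      smul_mul := fun a v w => by
        apply Subtype.ext
        change ((φ a : H) : L) * ((v * w : V) : L) * ((φ a : H) : L)⁻¹ =
          (((φ a : H) : L) * (v : L) * ((φ a : H) : L)⁻¹) *
            (((φ a : H) : L) * (w : L) * ((φ a : H) : L)⁻¹)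
        simp [mul_assoc]
      smul_one := fun a => by
        apply Subtype.ext
        change ((φ a : H) : L) * ((1 : V) : L) * ((φ a : H) : L)⁻¹ = ((1 : V) : L)
        simp }
  have hsmul : ∀ (g : G) (v : V), ((g • v : V) : L) = (φ g : L) * (v : L) * (φ g : L)⁻¹ :=
    fun _ _ => rfl
  have hfin : Finite (Additive V) := inferInstanceAs (Finite V)
  refine one_not_mem_normIdeal_of_fpf (Representation.ofMulDistribMulAction G V) ?_ q ?_
  · intro g hg v hv
    have h1 : g • Additive.toMul v = Additive.toMul v := by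
      have := congrArg Additive.toMul hv
      simpa using this
    have h2 : (φ g : L) * ((Additive.toMul v : V) : L) = ((Additive.toMul v : V) : L) * (φ g : L) := by
      have := congrArg (Subtype.val) h1
      rw [hsmul] at this
      conv_rhs => rw [← this]
      group
    have hg' : (φ g : L) ≠ 1 := by
      intro h
      apply hg
      apply φ.injective
      apply Subtype.ext
      rw [h, map_one]; rfl
    have h3 := hN.fpf (φ g).2 hg' (hVN (Additive.toMul v).2) h2
    have h4 : Additive.toMul v = 1 := Subtype.ext h3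
    exact Additive.toMul.injective h4
  · exact hqV

end ToNorm

section OfNormFree

/-- a norm-free representation of `G` over `𝔽_ℓ`, `ℓ ∤ |G|`, on a nonzero finite module makes `G` a
Frobenius complement -/
theorem exists_frobenius_of_normFree {G : Type*} [Group G] [Finite G] [Nontrivial G] (ℓ : ℕ)
    [hℓ : Fact ℓ.Prime] (hℓG : ¬ ℓ ∣ Nat.card G) {V : Type*} [AddCommGroup V] [Module (ZMod ℓ) V]
    [Module.Finite (ZMod ℓ) V] [Nontrivial V] (ρ : Representation (ZMod ℓ) G V)
    (hρ : NormFree ρ) :
    ∃ (L : Type) (_ : Group L) (_ : Finite L) (C : Subgroup L),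
      Cfsg.IsFrobeniusComplement C ∧ Nonempty (G ≃* C) := by
  have hfin : Finite V := Module.finite_of_finite (ZMod ℓ)
  letI : DistribMulAction G V := DistribMulAction.compHom V ρ
  have hsmul : ∀ (g : G) (v : V), g • v = ρ g v := fun _ _ => rfl
  have hfpf : ∀ g : G, g ≠ 1 → ∀ v : V, g • v = v → v = 0 := by
    intro g hg v hv
    rw [hsmul] at hv
    refine hρ.fpf ?_ hg hv
    intro p hp hpG w hw
    have hpl : (p : ZMod ℓ) ≠ 0 := by
      rw [Ne, ZMod.natCast_eq_zero_iff]
      intro h
      have : ℓ = p := (Nat.prime_dvd_prime_iff_eq hℓ.out hp).mp h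
      exact hℓG (this ▸ hpG)
    rw [← Nat.cast_smul_eq_nsmul (ZMod ℓ)] at hw
    exact (smul_eq_zero.mp hw).resolve_left hpl
  obtain ⟨L, hL1, hL2, C, hC, he, -⟩ := Helper23.exists_frobenius_of_fpf_add_univ hfpf
  exact ⟨L, hL1, hL2, C, hC, he⟩

/-- the product of two groups of coprime orders with proper norm ideals (in coprime
characteristics) is a Frobenius complement -/
theorem exists_frobenius_prod {A B : Type*} [Group A] [Finite A] [Nontrivial A] [Group B]
    [Finite B] [Nontrivial B] (hcop : (Nat.card A).Coprime (Nat.card B))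
    {qA : ℕ} (hqA : qA.Prime) (hqA' : ¬ qA ∣ Nat.card A)
    (hA : (1 : MonoidAlgebra (ZMod qA) A) ∉ normIdeal (ZMod qA) A)
    {qB : ℕ} (hqB : qB.Prime) (hqB' : ¬ qB ∣ Nat.card B)
    (hB : (1 : MonoidAlgebra (ZMod qB) B) ∉ normIdeal (ZMod qB) B) :
    ∃ (L : Type) (_ : Group L) (_ : Finite L) (C : Subgroup L),
      Cfsg.IsFrobeniusComplement C ∧ Nonempty ((A × B) ≃* C) := by
  obtain ⟨ℓ, hℓge, hℓ⟩ := Nat.exists_infinite_primes (Nat.card A * Nat.card B + 1)
  have : Fact ℓ.Prime := ⟨hℓ⟩
  have : Fact qA.Prime := ⟨hqA⟩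
  have : Fact qB.Prime := ⟨hqB⟩
  have hℓAB : ¬ ℓ ∣ Nat.card (A × B) := by
    rw [Nat.card_prod]
    apply Nat.not_dvd_of_pos_of_lt
    · exact Nat.mul_pos Nat.card_pos Nat.card_pos
    · omega
  have hA' := one_not_mem_normIdeal_zmod qA hqA' hA ℓ hℓ.ne_one
  have hB' := one_not_mem_normIdeal_zmod qB hqB' hB ℓ hℓ.ne_one
  have hntA := nontrivial_normQuot _ _ hA'
  have hntB := nontrivial_normQuot _ _ hB'
  have hnt : Nontrivial (NormQuot (ZMod ℓ) A ⊗[ZMod ℓ] NormQuot (ZMod ℓ) B) := by
    rw [← Module.finrank_pos_iff (R := ZMod ℓ), Module.finrank_tensorProduct]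
    exact Nat.mul_pos (Module.finrank_pos_iff.mpr hntA) (Module.finrank_pos_iff.mpr hntB)
  exact exists_frobenius_of_normFree ℓ hℓAB (prodRep (normRep (ZMod ℓ) A) (normRep (ZMod ℓ) B))
    (normFree_prodRep hcop (normFree_normRep _ _) (normFree_normRep _ _))

end OfNormFree

section Sub

variable {L : Type} [Group L] [Finite L] {H : Subgroup L}

/-- nontrivial groups embedding in a Frobenius complement are Frobenius complements -/
theorem exists_frobenius_of_injective (hH : Cfsg.IsFrobeniusComplement H) {X : Type*} [Group X]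
    [Nontrivial X] (f : X →* H) (hf : Function.Injective f) :
    ∃ (L' : Type) (_ : Group L') (_ : Finite L') (C : Subgroup L'),
      Cfsg.IsFrobeniusComplement C ∧ Nonempty (X ≃* C) := by
  obtain ⟨N, hN⟩ := Helper1.FrobData.exists_of_isFrobeniusComplement hH
  have hNn := hN.normal
  have hNne := kernel_ne_bot hN
  have hntN : Nontrivial N := (Subgroup.nontrivial_iff_ne_bot N).mpr hNne
  let K : Subgroup H := f.range
  let e : X ≃* K := MonoidHom.ofInjective hf
  have hntK : Nontrivial K := e.toEquiv.symm.nontrivial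
  let φ : K →* MulAut N := (MulAut.conjNormal (H := N)).comp (H.subtype.comp K.subtype)
  obtain ⟨L', h1, h2, C, hC, ⟨e'⟩, -⟩ := Helper23.exists_frobenius_of_fpf φ (by
    intro k hk n hn
    have h3 : ((k : H) : L) * (n : L) * ((k : H) : L)⁻¹ = (n : L) := by
      have := congrArg Subtype.val hn
      rwa [show φ k = MulAut.conjNormal ((k : H) : L) from rfl, MulAut.conjNormal_apply] at this
    have h4 : ((k : H) : L) * (n : L) = (n : L) * ((k : H) : L) := by
      conv_rhs => rw [← h3]
      group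
    have hk' : ((k : H) : L) ≠ 1 := by
      intro h
      apply hk
      apply Subtype.ext
      apply Subtype.ext
      exact h
    exact Subtype.ext (hN.fpf (k : H).2 hk' n.2 h4))
  exact ⟨L', h1, h2, C, hC, ⟨e.trans e'⟩⟩

/-- if `A × B` is a Frobenius complement then `|A|` and `|B|` are coprime -/
theorem coprime_of_prod_complement (hH : Cfsg.IsFrobeniusComplement H) {A B : Type*} [Group A]
    [Finite A] [Group B] [Finite B] (e : (A × B) ≃* H) : (Nat.card A).Coprime (Nat.card B) := by
  obtain ⟨N, hN⟩ := Helper1.FrobData.exists_of_isFrobeniusComplement hH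
  have hNn := hN.normal
  apply Nat.Coprime.symm
  apply Nat.coprime_of_dvd
  intro p hp hpB hpA
  have : Fact p.Prime := ⟨hp⟩
  obtain ⟨a, ha⟩ := exists_prime_orderOf_dvd_card' p hpA
  obtain ⟨b, hb⟩ := exists_prime_orderOf_dvd_card' p hpB
  have hxy : ((e (a, 1) : H) : L) * ((e (1, b) : H) : L) =
      ((e (1, b) : H) : L) * ((e (a, 1) : H) : L) := by
    rw [← Subgroup.coe_mul, ← Subgroup.coe_mul, ← map_mul, ← map_mul]
    simp
  have hxp : ((e (a, 1) : H) : L) ^ p = 1 := by
    rw [← Subgroup.coe_pow, ← map_pow, Prod.pow_mk, ← ha, pow_orderOf_eq_one, one_pow]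
    rw [← Prod.one_eq_mk, map_one]
    rfl
  have hyp : ((e (1, b) : H) : L) ^ p = 1 := by
    rw [← Subgroup.coe_pow, ← map_pow, Prod.pow_mk, ← hb, pow_orderOf_eq_one, one_pow]
    rw [← Prod.one_eq_mk, map_one]
    rfl
  have hx1 : ((e (a, 1) : H) : L) ≠ 1 := by
    intro h
    have h1 : e (a, 1) = 1 := Subtype.ext h
    have h2 : (a, (1 : B)) = 1 := e.injective (by rw [h1, map_one])
    have h3 : a = 1 := congrArg Prod.fst h2
    rw [h3, orderOf_one] at ha
    exact hp.one_lt.ne ha
  have hmem := Helper1.mem_zpowers_of_fpf_of_commute N H (kernel_ne_bot hN) hN.fpf'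
    (e (a, 1)).2 (e (1, b)).2 hxy hxp hx1 hyp
  obtain ⟨m, hm⟩ := Subgroup.mem_zpowers_iff.mp hmem
  have h4 : e ((a, 1) ^ m) = e (1, b) := by
    apply Subtype.ext
    rw [map_zpow, Subgroup.coe_zpow]
    exact hm
  have h5 := congrArg Prod.snd (e.injective h4)
  rw [Prod.pow_snd, one_zpow] at h5
  have h6 : b = 1 := h5.symm
  rw [h6, orderOf_one] at hb
  exact hp.one_lt.ne hb

end Sub

end Cfsg.Agent.Lib.Helper24.FrobNorm
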