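import Mathlib
import Cfsg.Agent.S0039
import Cfsg.Agent.Lib.Helper24.FrobCompl

/-!
# Helper24 library: fixed-point-free automorphism groups have fpf representations in char `q`

Pieces FO-C1 and FO-C2 of the farm-out of helper5 for the Zassenhaus cluster (S0690):

* `exists_prime_normIdeal_of_mulAut`: a nontrivial group `G` of automorphisms of a finite group `K`
  in which nonidentity automorphisms fix only `1` has a prime `q ∤ |G|` such that the norm ideal of
  `𝔽_q[G]` is proper.
* `exists_fpf_rep_of_normIdeal`: if `q ∤ |G|` and the norm ideal of `𝔽_q[G]` is proper, then `G` has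
  a fixed-point-free representation on a nonzero finite-dimensional space over the algebraic closure
  of `𝔽_q`.
-/

set_option autoImplicit false

universe u

namespace Cfsg.Agent.Lib.Helper24.ZassC

open MonoidAlgebra TensorProduct Cfsg.Agent.Lib Cfsg.Agent.Lib.Helper24.FrobNorm

/-- FO-C1 -/
theorem exists_prime_normIdeal_of_mulAut {K : Type*} [Group K] [Finite K] (G : Subgroup (MulAut K))
    (hfpf : ∀ φ ∈ G, φ ≠ 1 → ∀ k : K, φ k = k → k = 1) (hne : G ≠ ⊥) :
    ∃ q : ℕ, q.Prime ∧ ¬ q ∣ Nat.card G ∧
      (1 : MonoidAlgebra (ZMod q) G) ∉ normIdeal (ZMod q) G := by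
  classical
  -- the semidirect product
  let S := K ⋊[G.subtype] G
  have hfinAut : Finite (MulAut K) := Finite.of_injective (fun f : MulAut K => (f : K → K))
    (fun f g h => MulEquiv.ext (congrFun h))
  have hfinG : Finite G := inferInstance
  have hfinS : Finite S := Finite.of_equiv (K × G)
    { toFun := fun x => ⟨x.1, x.2⟩
      invFun := fun x => (x.left, x.right)
      left_inv := fun x => rfl
      right_inv := fun x => rfl }
  let Kn : Subgroup S := (SemidirectProduct.inl : K →* S).range
  let Hn : Subgroup S := (SemidirectProduct.inr : G →* S).range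
  have hKn_normal : Kn.Normal := by
    change ((SemidirectProduct.inl : K →* S).range).Normal
    rw [SemidirectProduct.range_inl_eq_ker_rightHom]
    infer_instance
  -- nontrivial element of `G`
  obtain ⟨φ0, hφ0G, hφ01⟩ : ∃ φ ∈ G, φ ≠ 1 := by
    by_contra h
    apply hne
    rw [Subgroup.eq_bot_iff_forall]
    intro x hx
    by_contra hx1
    exact h ⟨x, hx, hx1⟩
  obtain ⟨k0, hk0⟩ : ∃ k : K, φ0 k ≠ k := by
    by_contra h
    apply hφ01
    apply MulEquiv.ext
    intro k
    by_contra hk
    exact h ⟨k, hk⟩
  have hk01 : k0 ≠ 1 := by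
    intro h
    apply hk0
    rw [h, map_one]
  have hdisj : Disjoint Kn Hn := by
    rw [Subgroup.disjoint_def]
    intro x hxK hxH
    obtain ⟨k, rfl⟩ := hxK
    obtain ⟨g, hg⟩ := hxH
    have h1 := congrArg SemidirectProduct.left hg
    simp only [SemidirectProduct.left_inr, SemidirectProduct.left_inl] at h1
    rw [← h1, map_one]
  have hcardK : Nat.card Kn = Nat.card K :=
    Nat.card_congr (MonoidHom.ofInjective SemidirectProduct.inl_injective).symm.toEquiv
  have hcardH : Nat.card Hn = Nat.card G :=
    Nat.card_congr (MonoidHom.ofInjective SemidirectProduct.inr_injective).symm.toEquiv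
  have hc : Subgroup.IsComplement' Kn Hn := by
    apply Subgroup.isComplement'_of_card_mul_and_disjoint _ hdisj
    rw [hcardK, hcardH, SemidirectProduct.card]
  have hKn_ne : Kn ≠ ⊥ := by
    intro h
    have h1 : (SemidirectProduct.inl k0 : S) ∈ Kn := ⟨k0, rfl⟩
    rw [h, Subgroup.mem_bot] at h1
    apply hk01
    have := congrArg SemidirectProduct.left h1
    simpa using this
  have hHn_ne : Hn ≠ ⊥ := by
    intro h
    have h1 : (SemidirectProduct.inr (⟨φ0, hφ0G⟩ : G) : S) ∈ Hn := ⟨_, rfl⟩
    rw [h, Subgroup.mem_bot] at h1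
    apply hφ01
    have h2 := congrArg SemidirectProduct.right h1
    simp only [SemidirectProduct.right_inr, SemidirectProduct.one_right] at h2
    exact congrArg Subtype.val h2
  have hfrob : Cfsg.IsFrobeniusComplement Hn := by
    rw [Cfsg.Agent.S0039.result Kn Hn hc hKn_ne hHn_ne]
    intro h hh hh1
    obtain ⟨g, rfl⟩ := hh
    rw [Subgroup.eq_bot_iff_forall]
    intro x hx
    obtain ⟨⟨k, rfl⟩, hxc⟩ := hx
    have hxc' : (SemidirectProduct.inl k : S) ∈ Subgroup.centralizer {(SemidirectProduct.inr g : S)} :=
      hxc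
    rw [Subgroup.mem_centralizer_iff] at hxc'
    have h1 := hxc' (SemidirectProduct.inr g) rfl
    have h2 := congrArg SemidirectProduct.left h1
    simp only [SemidirectProduct.mul_left, SemidirectProduct.left_inr, SemidirectProduct.left_inl,
      SemidirectProduct.right_inr, SemidirectProduct.right_inl, map_one, one_mul, mul_one] at h2
    have hg1 : (g : MulAut K) ≠ 1 := by
      intro hg
      apply hh1
      have : g = 1 := Subtype.ext hg
      rw [this, map_one]
    have h3 : (g : MulAut K) k = k := by
      simpa using h2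
    rw [hfpf g g.2 hg1 k h3, map_one]
  exact exists_prime_normIdeal_proper hfrob (MonoidHom.ofInjective SemidirectProduct.inr_injective)

/-- FO-C2 -/
theorem exists_fpf_rep_of_normIdeal (q : ℕ) [Fact q.Prime] {G : Type u} [Group G] [Finite G]
    (hqG : ¬ q ∣ Nat.card G) (h1 : (1 : MonoidAlgebra (ZMod q) G) ∉ normIdeal (ZMod q) G) :
    ∃ (V : Type u) (_ : AddCommGroup V) (_ : Module (AlgebraicClosure (ZMod q)) V)
      (_ : Module.Finite (AlgebraicClosure (ZMod q)) V) (_ : Nontrivial V)
      (ρ : G →* Module.End (AlgebraicClosure (ZMod q)) V),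
      ∀ g : G, g ≠ 1 → ∀ v : V, ρ g v = v → v = 0 := by
  have hnt := nontrivial_normQuot (ZMod q) G h1
  have hρ' : NormFree (baseChangeRep (AlgebraicClosure (ZMod q)) (normRep (ZMod q) G)) :=
    normFree_baseChangeRep (AlgebraicClosure (ZMod q)) (normFree_normRep (ZMod q) G)
  have hnt' : Nontrivial (AlgebraicClosure (ZMod q) ⊗[ZMod q] NormQuot (ZMod q) G) := by
    rw [← Module.finrank_pos_iff (R := AlgebraicClosure (ZMod q)), Module.finrank_baseChange]
    exact Module.finrank_pos_iff.mpr hnt
  refine ⟨AlgebraicClosure (ZMod q) ⊗[ZMod q] NormQuot (ZMod q) G, inferInstance, inferInstance,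
    inferInstance, hnt', baseChangeRep (AlgebraicClosure (ZMod q)) (normRep (ZMod q) G), ?_⟩
  intro g hg v hv
  refine hρ'.fpf ?_ hg hv
  intro p hp hpG w hw
  rw [← Nat.cast_smul_eq_nsmul (AlgebraicClosure (ZMod q))] at hw
  refine (smul_eq_zero.mp hw).resolve_left ?_
  have hchar : CharP (AlgebraicClosure (ZMod q)) q := by
    have : CharP (ZMod q) q := ZMod.charP q
    exact charP_of_injective_algebraMap (algebraMap (ZMod q) (AlgebraicClosure (ZMod q))).injective q
  intro h0
  rw [CharP.cast_eq_zero_iff (AlgebraicClosure (ZMod q)) q] at h0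
  have hq : q.Prime := Fact.out
  have : q = p := (Nat.prime_dvd_prime_iff_eq hq hp).mp h0
  exact hqG (this ▸ hpG)

end Cfsg.Agent.Lib.Helper24.ZassC
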