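import Mathlib
import Cfsg.Agent.Lib.Helper1.SubfSLDefs
import Cfsg.Agent.Lib.Helper1.SubfSLEmb
import Cfsg.Agent.Lib.Helper15.Dk21
import Cfsg.Agent.Lib.Helper28.S5639FOI1

/-!
# S5639 farm-out piece FO-I2 (helper24): `uu κ` and `Wm` are conjugate in the subgroup they
generate, in characteristic 2
-/

set_option autoImplicit false

namespace Cfsg.Agent.Lib.Helper24.S5639FOI2

open Matrix Cfsg.Agent.Lib.Helper13 Cfsg.Agent.Lib.Helper1.SubfSL
open Cfsg.Agent.Lib.Helper15.Dk Cfsg.Agent.Lib.Helper14 Cfsg.Agent.Lib.Helper15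

variable {F : Type*} [Field F]

theorem uu_val (κ : F) :
    ((uu κ : SpecialLinearGroup (Fin 2) F) : Matrix (Fin 2) (Fin 2) F) = !![1, κ; 0, 1] := by
  ext i j
  fin_cases i <;> fin_cases j <;> rfl

theorem Wm_val :
    ((Wm : SpecialLinearGroup (Fin 2) F) : Matrix (Fin 2) (Fin 2) F) = !![0, -1; 1, 2] := rfl

theorem sl2_char_two_conj [Finite F] (h2 : (2 : F) = 0) (κ : F) (hκ : κ ≠ 0) :
    ∃ d ∈ Subgroup.closure ({uu κ, Wm} : Set (SpecialLinearGroup (Fin 2) F)),
      d * uu κ * d⁻¹ = Wm := by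
  have hneg : ∀ a : F, -a = a := by
    intro a
    have : a + a = 0 := by rw [← two_mul, h2, zero_mul]
    exact neg_eq_of_add_eq_zero_left this
  have hx : (uu κ : SpecialLinearGroup (Fin 2) F) * uu κ = 1 := by
    ext i j
    rw [Matrix.SpecialLinearGroup.coe_mul, Matrix.SpecialLinearGroup.coe_one, uu_val,
      Matrix.mul_fin_two, Matrix.one_fin_two]
    have : κ + κ = 0 := by rw [← two_mul, h2, zero_mul]
    fin_cases i <;> fin_cases j <;> simp [this]
  have ht : (Wm : SpecialLinearGroup (Fin 2) F) * Wm = 1 := by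
    ext i j
    rw [Matrix.SpecialLinearGroup.coe_mul, Matrix.SpecialLinearGroup.coe_one, Wm_val,
      Matrix.mul_fin_two, Matrix.one_fin_two]
    fin_cases i <;> fin_cases j <;> simp [h2, hneg]
  rcases Cfsg.Agent.Lib.Helper28.S5639.exists_conj_or_central (uu κ) Wm hx ht with h | h
  · exact h
  · exfalso
    obtain ⟨z, _, hz1, hzz, hzx, hzt⟩ := h
    apply hz1
    have hzm : (z : Matrix (Fin 2) (Fin 2) F) = !![z.1 0 0, z.1 0 1; z.1 1 0, z.1 1 1] :=
      Matrix.eta_fin_two _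
    have e1 : ∀ i j, (z * uu κ) i j = (uu κ * z) i j := by rw [hzx]; intros; rfl
    have e2 : ∀ i j, (z * (Wm : SpecialLinearGroup (Fin 2) F)) i j
        = ((Wm : SpecialLinearGroup (Fin 2) F) * z) i j := by rw [hzt]; intros; rfl
    simp only [Matrix.SpecialLinearGroup.coe_mul] at e1 e2
    rw [hzm, uu_val, Matrix.mul_fin_two, Matrix.mul_fin_two] at e1
    rw [hzm, Wm_val, Matrix.mul_fin_two, Matrix.mul_fin_two] at e2
    have a00 := e1 0 0
    have a01 := e1 0 1
    have b00 := e2 0 0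
    have b10 := e2 1 0
    simp at a00 a01 b00 b10
    have hdet := z.2
    rw [Matrix.det_fin_two] at hdet
    have hc : (z : Matrix (Fin 2) (Fin 2) F) 1 0 = 0 := a00.resolve_left hκ
    have hb : (z : Matrix (Fin 2) (Fin 2) F) 0 1 = 0 := by rw [b00, hc, neg_zero]
    have hd : (z : Matrix (Fin 2) (Fin 2) F) 1 1 = (z : Matrix (Fin 2) (Fin 2) F) 0 0 := by
      rw [b10, hc, mul_zero, add_zero]
    rw [hd, hb, zero_mul, sub_zero] at hdet
    have ha : (z : Matrix (Fin 2) (Fin 2) F) 0 0 = 1 := by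
      have h3 : ((z : Matrix (Fin 2) (Fin 2) F) 0 0 - 1) ^ 2 = 0 := by
        have : ((z : Matrix (Fin 2) (Fin 2) F) 0 0 - 1) ^ 2
            = (z : Matrix (Fin 2) (Fin 2) F) 0 0 * (z : Matrix (Fin 2) (Fin 2) F) 0 0
              - 2 * (z : Matrix (Fin 2) (Fin 2) F) 0 0 + 1 := by ring
        rw [this, hdet, h2, zero_mul, sub_zero, one_add_one_eq_two, h2]
      exact sub_eq_zero.mp ((pow_eq_zero_iff (two_ne_zero)).mp h3)
    ext i j
    rw [Matrix.SpecialLinearGroup.coe_one, Matrix.one_fin_two]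
    fin_cases i <;> fin_cases j
    · exact ha
    · exact hb
    · exact hc
    · exact hd.trans ha

end Cfsg.Agent.Lib.Helper24.S5639FOI2
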