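import Mathlib
import Cfsg.Agent.Lib.Helper1.SubfSLDefs
import Cfsg.Agent.Lib.Helper1.SubfSLEmb
import Cfsg.Agent.Lib.Helper15.Dk21
import Cfsg.Agent.Lib.Helper28.S5639FOALG

/-!
# S5639 farm-out piece FO-I3 (helper24): the element `ε` is not in the subfield group
-/

set_option autoImplicit false

namespace Cfsg.Agent.Lib.Helper24.S5639FOI3

open Matrix Cfsg.Agent.Lib.Helper13 Cfsg.Agent.Lib.Helper1.SubfSL
open Cfsg.Agent.Lib.Helper15.Dk Cfsg.Agent.Lib.Helper14 Cfsg.Agent.Lib.Helper15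

variable {F : Type*} [Field F] {n : ℕ}

theorem rmat_vecMul (K : Subfield F) (B : Matrix (Fin n) (Fin n) K) (φ : Fin n → K) :
    rvec K φ ᵥ* rmat K B = rvec K (φ ᵥ* B) := by
  ext j
  change ∑ i, K.subtype (φ i) * K.subtype (B i j) = K.subtype (∑ i, φ i * B i j)
  rw [map_sum]
  simp

/-- coefficients of a rational vector in terms of two `K`-independent rational vectors are
rational -/
theorem coeff_mem_of_indep (K : Subfield F) (φ₁ φ₂ ψ : Fin n → K)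
    (hindep : ∀ a b : K, a • φ₁ + b • φ₂ = 0 → a = 0 ∧ b = 0) (c₁ c₂ : F)
    (h : c₁ • rvec K φ₁ + c₂ • rvec K φ₂ = rvec K ψ) : c₁ ∈ K ∧ c₂ ∈ K := by
  have hφ₁ : φ₁ ≠ 0 := by
    rintro rfl
    have := hindep 1 0 (by simp)
    exact one_ne_zero this.1
  obtain ⟨i, hi⟩ : ∃ i, φ₁ i ≠ 0 := by
    by_contra hall
    push Not at hall
    exact hφ₁ (funext hall)
  have hne : (-(φ₂ i / φ₁ i)) • φ₁ + (1 : K) • φ₂ ≠ 0 := by
    intro e
    have := hindep _ _ e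
    exact one_ne_zero this.2
  obtain ⟨j, hj⟩ : ∃ j, ((-(φ₂ i / φ₁ i)) • φ₁ + (1 : K) • φ₂) j ≠ 0 := by
    by_contra hall
    push Not at hall
    exact hne (funext hall)
  have hD : φ₁ i * φ₂ j - φ₁ j * φ₂ i ≠ 0 := by
    intro e
    apply hj
    simp only [Pi.add_apply, Pi.smul_apply, smul_eq_mul, one_mul]
    field_simp
    linear_combination e
  have hDF : ((φ₁ i : F) * (φ₂ j : F) - (φ₁ j : F) * (φ₂ i : F)) ≠ 0 := by
    intro e
    apply hD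
    apply Subtype.ext
    push_cast
    exact e
  have ei := congrFun h i
  have ej := congrFun h j
  simp only [Pi.add_apply, Pi.smul_apply, smul_eq_mul, rvec] at ei ej
  constructor
  · have : c₁ = (((ψ i * φ₂ j - ψ j * φ₂ i) / (φ₁ i * φ₂ j - φ₁ j * φ₂ i) : K) : F) := by
      push_cast
      rw [eq_div_iff hDF]
      linear_combination (φ₂ j : F) * ei - (φ₂ i : F) * ej
    rw [this]
    exact SetLike.coe_mem _
  · have : c₂ = (((φ₁ i * ψ j - φ₁ j * ψ i) / (φ₁ i * φ₂ j - φ₁ j * φ₂ i) : K) : F) := by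
      push_cast
      rw [eq_div_iff hDF]
      linear_combination (φ₁ i : F) * ej - (φ₁ j : F) * ei
    rw [this]
    exact SetLike.coe_mem _


/-- **FO-I3** -/
theorem not_mem_subfield_of_conj [Finite F] (K : Subfield F) (r : ℕ) (hr : r.Prime) (hr3 : 3 ≤ r)
    (hcard : Nat.card F = Nat.card K ^ r) (w : Fin n → F)
    (hfull : ∀ lam : Fin n → K, lam ≠ 0 → rvec K lam ⬝ᵥ w ≠ 0)
    (u φ₁ φ₂ : Fin n → K) (hindep : ∀ a b : K, a • φ₁ + b • φ₂ = 0 → a = 0 ∧ b = 0)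
    (h1 : φ₁ ⬝ᵥ u = 0) (h2 : φ₂ ⬝ᵥ u = 0) (ε : GL (Fin n) F) (θ : F) (hθ : θ ≠ 0)
    (hε1 : rvec K φ₂ ᵥ* (ε : Matrix (Fin n) (Fin n) F) = θ • rvec K φ₁)
    (hεχ : ∀ χ : Fin n → F, χ ⬝ᵥ rvec K u = 0 → χ ⬝ᵥ w = 0 →
      χ ᵥ* (ε : Matrix (Fin n) (Fin n) F) = χ) :
    ε ∉ Cfsg.Geo.subfieldSubgroup K (1 : GL (Fin n) F) := by
  intro hmem
  obtain ⟨l, B, hεB⟩ := exists_eq_of_mem_subfield_one K ε hmem
  have hφ₁ : φ₁ ≠ 0 := by
    rintro rfl
    have := hindep 1 0 (by simp)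
    exact one_ne_zero this.1
  have hφ₂ : φ₂ ≠ 0 := by
    rintro rfl
    have := hindep 0 1 (by simp)
    exact one_ne_zero this.2
  obtain ⟨α₁, hα₁⟩ : ∃ α₁, α₁ = rvec K φ₁ ⬝ᵥ w := ⟨_, rfl⟩
  obtain ⟨α₂, hα₂⟩ : ∃ α₂, α₂ = rvec K φ₂ ⬝ᵥ w := ⟨_, rfl⟩
  have hα₁0 : α₁ ≠ 0 := hα₁ ▸ hfull φ₁ hφ₁
  have hα₂0 : α₂ ≠ 0 := hα₂ ▸ hfull φ₂ hφ₂
  -- `ρ = α₂ / α₁ ∉ K`
  have hρ : α₂ / α₁ ∉ K := by
    intro hmemρ
    apply hfull ((-(⟨α₂ / α₁, hmemρ⟩ : K)) • φ₁ + (1 : K) • φ₂)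
      (by intro e; exact one_ne_zero (hindep _ _ e).2)
    rw [rvec_add, rvec_smul, rvec_smul, add_dotProduct, smul_dotProduct, smul_dotProduct,
      ← hα₁, ← hα₂]
    push_cast
    simp only [smul_eq_mul]
    field_simp
    ring
  -- the functional `χ₀`
  have hχ := hεχ (α₂ • rvec K φ₁ - α₁ • rvec K φ₂)
    (by
      rw [sub_dotProduct, smul_dotProduct, smul_dotProduct, rvec_dot, rvec_dot, h1, h2]
      simp)
    (by
      rw [sub_dotProduct, smul_dotProduct, smul_dotProduct, ← hα₁, ← hα₂]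
      simp only [smul_eq_mul]
      ring)
  rw [Matrix.sub_vecMul, Matrix.smul_vecMul, Matrix.smul_vecMul, hε1] at hχ
  have hv1 : rvec K φ₁ ᵥ* (ε : Matrix (Fin n) (Fin n) F) = l • rvec K (φ₁ ᵥ* B) := by
    rw [hεB, Matrix.vecMul_smul, rmat_vecMul]
  have hv2 : rvec K φ₂ ᵥ* (ε : Matrix (Fin n) (Fin n) F) = l • rvec K (φ₂ ᵥ* B) := by
    rw [hεB, Matrix.vecMul_smul, rmat_vecMul]
  have hl : l ≠ 0 := by
    rintro rfl
    rw [hv2, zero_smul] at hε1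
    apply hφ₁
    apply rvec_inj K
    rw [rvec_zero]
    have := congrArg (fun v => θ⁻¹ • v) hε1
    simp only [smul_zero, smul_smul, inv_mul_cancel₀ hθ, one_smul] at this
    exact this.symm
  -- `k = θ / l ∈ K`
  have hk := (coeff_mem_of_indep K φ₁ φ₂ (φ₂ ᵥ* B) hindep (θ / l) 0 (by
    rw [zero_smul, add_zero]
    have := congrArg (fun v => l⁻¹ • v) (hv2.symm.trans hε1)
    simp only [smul_smul, inv_mul_cancel₀ hl, one_smul] at this
    rw [this, div_eq_inv_mul])).1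
  -- the coefficients of `φ₁ B`
  have hk12 := coeff_mem_of_indep K φ₁ φ₂ (φ₁ ᵥ* B) hindep
    ((α₂ + α₁ * θ) / (α₂ * l)) (-α₁ / (α₂ * l)) (by
    rw [hv1] at hχ
    have h3 : α₂ • l • rvec K (φ₁ ᵥ* B)
        = (α₂ + α₁ * θ) • rvec K φ₁ + (-α₁) • rvec K φ₂ := by
      have := eq_add_of_sub_eq hχ
      rw [this, add_smul, neg_smul, mul_smul]
      abel
    have h4 := congrArg (fun v => (α₂ * l)⁻¹ • v) h3
    simp only [smul_smul, smul_add] at h4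
    rw [inv_mul_cancel₀ (mul_ne_zero hα₂0 hl), one_smul] at h4
    rw [h4, div_eq_inv_mul, div_eq_inv_mul])
  obtain ⟨hk2, hk1⟩ := hk12
  -- the quadratic equation
  apply hρ
  have hane : (⟨-α₁ / (α₂ * l), hk1⟩ : K) ≠ 0 := by
    intro e
    have := congrArg Subtype.val e
    simp only [ZeroMemClass.coe_zero] at this
    rw [div_eq_zero_iff] at this
    rcases this with h0 | h0
    · exact hα₁0 (neg_eq_zero.mp h0)
    · exact mul_ne_zero hα₂0 hl h0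
  have hdeg : (Polynomial.C (⟨-α₁ / (α₂ * l), hk1⟩ : K) * Polynomial.X ^ 2
      + Polynomial.C (⟨(α₂ + α₁ * θ) / (α₂ * l), hk2⟩ : K) * Polynomial.X
      + Polynomial.C (-(⟨θ / l, hk⟩ : K))).natDegree = 2 :=
    Polynomial.natDegree_quadratic hane
  apply Cfsg.Agent.Lib.Helper28.S5639.mem_of_root K r hr hcard (α₂ / α₁)
    (Polynomial.C (⟨-α₁ / (α₂ * l), hk1⟩ : K) * Polynomial.X ^ 2
      + Polynomial.C (⟨(α₂ + α₁ * θ) / (α₂ * l), hk2⟩ : K) * Polynomial.X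
      + Polynomial.C (-(⟨θ / l, hk⟩ : K)))
  · intro e
    rw [e] at hdeg
    simp at hdeg
  · rw [hdeg]
    omega
  · simp only [map_add, map_mul, map_pow, Polynomial.aeval_C, Polynomial.aeval_X, map_neg]
    show (-α₁ / (α₂ * l)) * (α₂ / α₁) ^ 2 + ((α₂ + α₁ * θ) / (α₂ * l)) * (α₂ / α₁)
      + -(θ / l) = 0
    field_simp
    ring

end Cfsg.Agent.Lib.Helper24.S5639FOI3
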