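import Mathlib
import Cfsg.Agent.Lib.Helper1.SubfSLDefs

/-!
# S5639 farm-out piece FO-P (helper24): reduction to `P = 1`
-/

set_option autoImplicit false

namespace Cfsg.Agent.Lib.Helper24.S5639FOP

open Matrix Cfsg.Agent.Lib.Helper13 Cfsg.Agent.Lib.Helper1.SubfSL

/-- `IsMaximalIn` is invariant under an automorphism -/
theorem isMaximalIn_map {G : Type*} [Group G] (e : G ≃* G) (K H : Subgroup G)
    (h : Cfsg.Geo.IsMaximalIn K H) :
    Cfsg.Geo.IsMaximalIn (K.map e.toMonoidHom) (H.map e.toMonoidHom) := by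
  obtain ⟨hlt, hmax⟩ := h
  have hinj : Function.Injective e.toMonoidHom := e.injective
  have hsurj : Function.Surjective e.toMonoidHom := e.surjective
  refine ⟨(Subgroup.map_lt_map_iff_of_injective hinj).mpr hlt, ?_⟩
  intro M hHM hMK
  have h1 : H ≤ M.comap e.toMonoidHom := Subgroup.map_le_iff_le_comap.mp hHM
  have h2 : M.comap e.toMonoidHom ≤ K := by
    have := Subgroup.comap_mono (f := e.toMonoidHom) hMK
    rwa [Subgroup.comap_map_eq_self_of_injective hinj] at this
  rcases hmax _ h1 h2 with h3 | h3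
  · left
    rw [← h3, Subgroup.map_comap_eq_self_of_surjective hsurj]
  · right
    rw [← h3, Subgroup.map_comap_eq_self_of_surjective hsurj]

variable {F : Type*} [Field F] {n : ℕ}

theorem subfieldSubgroup_eq_map (K : Subfield F) (P : GL (Fin n) F) :
    Cfsg.Geo.subfieldSubgroup K P =
      (Cfsg.Geo.subfieldSubgroup K (1 : GL (Fin n) F)).map (MulAut.conj P).toMonoidHom := by
  have h1 : Cfsg.Geo.subfieldSubgroup K (1 : GL (Fin n) F) =
      ((Matrix.GeneralLinearGroup.map (K.subtype : K →+* F)).range ⊔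
        Cfsg.Geo.scalars (Fin n) F) := by
    unfold Cfsg.Geo.subfieldSubgroup
    rw [map_one]
    exact Subgroup.map_id _
  rw [h1]
  rfl

theorem specialLinear_map (P : GL (Fin n) F) :
    (Cfsg.Geo.specialLinear (Fin n) F).map (MulAut.conj P).toMonoidHom =
      Cfsg.Geo.specialLinear (Fin n) F := by
  haveI : (Cfsg.Geo.specialLinear (Fin n) F).Normal := by
    unfold Cfsg.Geo.specialLinear
    infer_instance
  ext g
  constructor
  · rintro ⟨x, hx, rfl⟩
    show P * x * P⁻¹ ∈ _
    exact Subgroup.Normal.conj_mem inferInstance x hx P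
  · intro hg
    refine ⟨P⁻¹ * g * P, ?_, ?_⟩
    · have := Subgroup.Normal.conj_mem (inferInstance : (Cfsg.Geo.specialLinear (Fin n) F).Normal)
        g hg P⁻¹
      rwa [inv_inv] at this
    · show P * (P⁻¹ * g * P) * P⁻¹ = g
      group

/-- **FO-P** -/
theorem isMaximalIn_of_one (K : Subfield F) (P : GL (Fin n) F)
    (h : Cfsg.Geo.IsMaximalIn (Cfsg.Geo.specialLinear (Fin n) F) (H1 K n)) :
    Cfsg.Geo.IsMaximalIn (Cfsg.Geo.specialLinear (Fin n) F)
      (Cfsg.Geo.subfieldSubgroup K P ⊓ Cfsg.Geo.specialLinear (Fin n) F) := by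
  have h1 := isMaximalIn_map (MulAut.conj P) _ _ h
  rw [specialLinear_map] at h1
  have h2 : (H1 K n).map (MulAut.conj P).toMonoidHom =
      Cfsg.Geo.subfieldSubgroup K P ⊓ Cfsg.Geo.specialLinear (Fin n) F := by
    unfold H1
    rw [Subgroup.map_inf _ _ _ (MulAut.conj P).injective, specialLinear_map,
      ← subfieldSubgroup_eq_map]
  rw [h2] at h1
  exact h1

end Cfsg.Agent.Lib.Helper24.S5639FOP
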