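import Mathlib
import Cfsg.Agent.Lib.Helper1.OrthSubfDefs
import Cfsg.Agent.Lib.Helper6.OrthForms

/-!
# S5683 farm-out piece FO-P (helper24): reduction to `P = 1` and index type `Fin (2m+1)`
(orthogonal case, odd dimension)
-/

set_option autoImplicit false

namespace Cfsg.Agent.Lib.Helper24.S5683FOP

open Matrix QuadraticMap Cfsg.Agent.Lib.Helper6 Cfsg.Agent.Lib.Helper13
open Cfsg.Agent.Lib.Helper1.OrthSubf

universe u

/-- `IsMaximalIn` is invariant under a group isomorphism -/
theorem isMaximalIn_mapEquiv {G G' : Type*} [Group G] [Group G'] (e : G ≃* G') (K H : Subgroup G)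
    (h : Cfsg.Geo.IsMaximalIn K H) :
    Cfsg.Geo.IsMaximalIn (K.map e.toMonoidHom) (H.map e.toMonoidHom) := by
  obtain ⟨hlt, hmax⟩ := h
  have hinj : Function.Injective e.toMonoidHom := e.injective
  have hsurj : Function.Surjective e.toMonoidHom := e.surjective
  refine ⟨(Subgroup.map_lt_map_iff_of_injective hinj).mpr hlt, ?_⟩
  intro M hHM hMK
  have h1 : H ≤ M.comap e.toMonoidHom := Subgroup.map_le_iff_le_comap.mp hHM
  have h2 : M.comap e.toMonoidHom ≤ K := by
    have := Subgroup.comap_mono (f := e.toMonoidHom) hMK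
    rwa [Subgroup.comap_map_eq_self_of_injective hinj] at this
  rcases hmax _ h1 h2 with h3 | h3
  · left
    rw [← h3, Subgroup.map_comap_eq_self_of_surjective hsurj]
  · right
    rw [← h3, Subgroup.map_comap_eq_self_of_surjective hsurj]

section general

variable {F : Type u} [Field F] {ι κ : Type} [Fintype ι] [DecidableEq ι] [Fintype κ] [DecidableEq κ]

theorem mem_isometryGroup_iff (Q : (ι → F) → F) (g : GL ι F) :
    g ∈ Cfsg.isometryGroup F Q ↔ ∀ u, Q ((g : Matrix ι ι F) *ᵥ u) = Q u := by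
  constructor
  · intro h u
    exact h u u
  · intro h u _
    exact h u

theorem omegaGL_eq (Q : (ι → F) → F) :
    Cfsg.Geo.omegaGL Q = ⁅Cfsg.isometryGroup F Q, Cfsg.isometryGroup F Q⁆ := by
  unfold Cfsg.Geo.omegaGL Cfsg.Omega
  rw [commutator_def, Subgroup.map_commutator, ← MonoidHom.range_eq_map, Subgroup.range_subtype]

/-- the reindexing isomorphism of general linear groups -/
def reGL (R : Type*) [CommRing R] (e : ι ≃ κ) : GL κ R ≃* GL ι R :=
  Units.mapEquiv (Matrix.reindexAlgEquiv R R e.symm).toMulEquiv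

theorem reGL_val (R : Type*) [CommRing R] (e : ι ≃ κ) (g : GL κ R) :
    ((reGL R e g : GL ι R) : Matrix ι ι R) = (g : Matrix κ κ R).submatrix e e := rfl

theorem reGL_mulVec (e : ι ≃ κ) (g : GL κ F) (x : κ → F) :
    ((reGL F e g : GL ι F) : Matrix ι ι F) *ᵥ (x ∘ e) = ((g : Matrix κ κ F) *ᵥ x) ∘ e := by
  rw [reGL_val, Matrix.submatrix_mulVec_equiv]
  congr 2
  funext j
  simp

/-- reindexing followed by conjugation by `P` -/
def bridgeEquiv (e : ι ≃ κ) (P : GL ι F) : GL κ F ≃* GL ι F :=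
  (reGL F e).trans (MulAut.conj P)

theorem bridgeEquiv_apply (e : ι ≃ κ) (P : GL ι F) (g : GL κ F) :
    bridgeEquiv e P g = P * reGL F e g * P⁻¹ := rfl

theorem bridgeEquiv_mulVec (e : ι ≃ κ) (P : GL ι F) (g : GL κ F) (x : κ → F) :
    ((bridgeEquiv e P g : GL ι F) : Matrix ι ι F) *ᵥ ((P : Matrix ι ι F) *ᵥ (x ∘ e)) =
      (P : Matrix ι ι F) *ᵥ (((g : Matrix κ κ F) *ᵥ x) ∘ e) := by
  rw [bridgeEquiv_apply, Units.val_mul, Units.val_mul, ← mulVec_mulVec, ← mulVec_mulVec,
    mulVec_mulVec _ ((P⁻¹ : GL ι F) : Matrix ι ι F) (P : Matrix ι ι F), ← Units.val_mul,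
    inv_mul_cancel, Units.val_one, one_mulVec, reGL_mulVec]

/-- the range of the entrywise inclusion is preserved by reindexing -/
theorem map_reGL_range (K : Subfield F) (e : ι ≃ κ) :
    (Matrix.GeneralLinearGroup.map (K.subtype : K →+* F) : GL κ K →* GL κ F).range.map
      (reGL F e).toMonoidHom =
    (Matrix.GeneralLinearGroup.map (K.subtype : K →+* F) : GL ι K →* GL ι F).range := by
  have hcomp : (reGL F e).toMonoidHom.comp
      (Matrix.GeneralLinearGroup.map (K.subtype : K →+* F) : GL κ K →* GL κ F) =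
      (Matrix.GeneralLinearGroup.map (K.subtype : K →+* F) : GL ι K →* GL ι F).comp
        (reGL K e).toMonoidHom := by
    ext g i j
    rfl
  rw [MonoidHom.map_range, hcomp, MonoidHom.range_comp]
  have : (reGL K e).toMonoidHom.range = ⊤ :=
    MonoidHom.range_eq_top.mpr (reGL K e).surjective
  rw [this, ← MonoidHom.range_eq_map]

/-- scalars are preserved by reindexing -/
theorem map_reGL_scalars (e : ι ≃ κ) :
    (Cfsg.Geo.scalars κ F).map (reGL F e).toMonoidHom = Cfsg.Geo.scalars ι F := by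
  ext g
  constructor
  · rintro ⟨x, hx, rfl⟩
    obtain ⟨c, hc⟩ := (Cfsg.Geo.mem_scalars_iff x).mp hx
    rw [Cfsg.Geo.mem_scalars_iff]
    refine ⟨c, ?_⟩
    show ((reGL F e x : GL ι F) : Matrix ι ι F) = _
    rw [reGL_val, hc]
    ext i j
    simp [Matrix.one_apply]
  · intro hg
    obtain ⟨c, hc⟩ := (Cfsg.Geo.mem_scalars_iff g).mp hg
    refine ⟨(reGL F e).symm g, ?_, by simp⟩
    rw [SetLike.mem_coe, Cfsg.Geo.mem_scalars_iff]
    refine ⟨c, ?_⟩
    have h1 : g = reGL F e ((reGL F e).symm g) := by simp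
    have h2 : ((reGL F e ((reGL F e).symm g) : GL ι F) : Matrix ι ι F) = (c : F) • 1 := by
      rw [← h1]; exact hc
    rw [reGL_val] at h2
    ext a b
    have := congrFun (congrFun h2 (e.symm a)) (e.symm b)
    simpa [Matrix.one_apply] using this

theorem map_bridge_subfield (K : Subfield F) (e : ι ≃ κ) (P : GL ι F) :
    (Cfsg.Geo.subfieldSubgroup K (1 : GL κ F)).map (bridgeEquiv e P).toMonoidHom =
      Cfsg.Geo.subfieldSubgroup K P := by
  have h1 : Cfsg.Geo.subfieldSubgroup K (1 : GL κ F) =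
      ((Matrix.GeneralLinearGroup.map (K.subtype : K →+* F)).range ⊔ Cfsg.Geo.scalars κ F) := by
    unfold Cfsg.Geo.subfieldSubgroup
    rw [map_one]
    exact Subgroup.map_id _
  have h2 : (bridgeEquiv e P).toMonoidHom =
      (MulAut.conj P).toMonoidHom.comp (reGL F e).toMonoidHom := rfl
  rw [h1, h2, ← Subgroup.map_map, Subgroup.map_sup, map_reGL_range, map_reGL_scalars]
  rfl

end general

section bridge

variable {F : Type u} [Field F] [Fintype F]

/-- **FO-P** (orthogonal case, odd dimension) -/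
theorem bridge_odd (hodd : Odd (Fintype.card F)) (m : ℕ) (F₀ : Subfield F)
    (P : Matrix.GeneralLinearGroup (Unit ⊕ (Fin m ⊕ Fin m)) F)
    (hP : Cfsg.Geo.IsQuadFormRationalStructure (Cfsg.quadFormOdd m F) F₀ P) :
    ∃ Q : QuadraticForm F (Fin (2 * m + 1) → F), (polarBilin Q).Nondegenerate ∧ RatQ F₀ Q ∧
      (Cfsg.Geo.IsMaximalIn (Cfsg.Geo.omegaGL ⇑Q) (H1Q F₀ Q) →
        Cfsg.Geo.IsMaximalIn (Cfsg.Geo.omegaGL (Cfsg.quadFormOdd m F))
          (Cfsg.Geo.subfieldSubgroup F₀ P ⊓ Cfsg.Geo.omegaGL (Cfsg.quadFormOdd m F))) := by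
  classical
  have hcard : Fintype.card (Unit ⊕ (Fin m ⊕ Fin m)) = 2 * m + 1 := by
    simp only [Fintype.card_sum, Fintype.card_fin, Fintype.card_unit]
    omega
  let e : (Unit ⊕ (Fin m ⊕ Fin m)) ≃ Fin (2 * m + 1) := Fintype.equivFinOfCardEq hcard
  have h2 : (2 : F) ≠ 0 := two_ne_zero_of_odd_card hodd
  have hcoe : ⇑(QOdd F m) = Cfsg.quadFormOdd m F := funext (QOdd_apply F m)
  -- the linear map `x ↦ P (x ∘ e)`
  let L : (Fin (2 * m + 1) → F) →ₗ[F] (Unit ⊕ (Fin m ⊕ Fin m) → F) :=
    (Matrix.toLin' P.val).comp (LinearMap.funLeft F F e)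
  have hL : ∀ x, L x = P.val *ᵥ (x ∘ e) := fun x => rfl
  have hLsurj : ∀ v, ∃ x, L x = v := by
    intro v
    refine ⟨((P⁻¹).val *ᵥ v) ∘ e.symm, ?_⟩
    rw [hL]
    have : (((P⁻¹).val *ᵥ v) ∘ e.symm) ∘ e =
        (P⁻¹).val *ᵥ v := by
      funext i; simp
    rw [this, mulVec_mulVec, ← Units.val_mul, mul_inv_cancel, Units.val_one, one_mulVec]
  have hLinj : ∀ x, L x = 0 → x = 0 := by
    intro x hx
    rw [hL] at hx
    have h1 := congrArg (fun w => (P⁻¹).val *ᵥ w) hx
    simp only [mulVec_mulVec, mulVec_zero] at h1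
    rw [← Units.val_mul, inv_mul_cancel, Units.val_one, one_mulVec] at h1
    funext j
    have := congrFun h1 (e.symm j)
    simpa using this
  let Q : QuadraticForm F (Fin (2 * m + 1) → F) := (QOdd F m).comp L
  have hQ : ∀ x, Q x = Cfsg.quadFormOdd m F (P.val *ᵥ (x ∘ e)) := by
    intro x
    show (QOdd F m) (L x) = _
    rw [QOdd_apply, hL]
  have hpol : ∀ x y, polar (⇑Q) x y = polar (⇑(QOdd F m)) (L x) (L y) := by
    intro x y
    unfold polar
    show (QOdd F m) (L (x + y)) - (QOdd F m) (L x) - (QOdd F m) (L y) = _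
    rw [map_add]
  have hnd0 := nondegenerate_QOdd F h2 m
  refine ⟨Q, ?_, ?_, ?_⟩
  · constructor
    · intro x hx
      apply hLinj
      apply hnd0.1
      intro v
      obtain ⟨y, rfl⟩ := hLsurj v
      have := hx y
      rw [polarBilin_apply_apply] at this ⊢
      rw [← hpol]
      exact this
    · intro y hy
      apply hLinj
      apply hnd0.2
      intro v
      obtain ⟨x, rfl⟩ := hLsurj v
      have := hy x
      rw [polarBilin_apply_apply] at this ⊢
      rw [← hpol]
      exact this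
  · intro u
    rw [hQ]
    apply hP
    intro i
    exact (u (e i)).2
  · intro hmax
    let Ψ := bridgeEquiv e P
    -- isometry groups correspond
    have hiso : (Cfsg.isometryGroup F (⇑Q)).map Ψ.toMonoidHom =
        Cfsg.isometryGroup F (Cfsg.quadFormOdd m F) := by
      ext y
      constructor
      · rintro ⟨g, hg, rfl⟩
        rw [SetLike.mem_coe, mem_isometryGroup_iff] at hg
        rw [mem_isometryGroup_iff]
        intro v
        obtain ⟨x, rfl⟩ := hLsurj v
        rw [hL]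
        show Cfsg.quadFormOdd m F ((bridgeEquiv e P g).val *ᵥ _) = _
        rw [bridgeEquiv_mulVec, ← hQ, ← hQ]
        exact hg x
      · intro hy
        rw [mem_isometryGroup_iff] at hy
        refine ⟨Ψ.symm y, ?_, by simp⟩
        rw [SetLike.mem_coe, mem_isometryGroup_iff]
        intro x
        rw [hQ, hQ]
        have h1 := bridgeEquiv_mulVec e P (Ψ.symm y) x
        have h3 : bridgeEquiv e P (Ψ.symm y) = y := Ψ.apply_symm_apply y
        rw [h3] at h1
        rw [← h1]
        exact hy _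
    have hom : (Cfsg.Geo.omegaGL (⇑Q)).map Ψ.toMonoidHom =
        Cfsg.Geo.omegaGL (Cfsg.quadFormOdd m F) := by
      rw [omegaGL_eq, omegaGL_eq, Subgroup.map_commutator, hiso]
    have h1 := isMaximalIn_mapEquiv Ψ _ _ hmax
    rw [hom] at h1
    have h2 : (H1Q F₀ Q).map Ψ.toMonoidHom =
        Cfsg.Geo.subfieldSubgroup F₀ P ⊓ Cfsg.Geo.omegaGL (Cfsg.quadFormOdd m F) := by
      unfold H1Q
      rw [Subgroup.map_inf _ _ _ Ψ.injective, hom]
      congr 1
      exact map_bridge_subfield F₀ e P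
    rw [h2] at h1
    exact h1

end bridge

end Cfsg.Agent.Lib.Helper24.S5683FOP
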