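import Mathlib
import Cfsg.Agent.Lib.Helper14.RU0
import Cfsg.Agent.Lib.Helper14.RU1
import Cfsg.Agent.Lib.Helper2.RUGrow

set_option autoImplicit false

/-! S2281 farm-out B10: the induction of the growth argument. -/

namespace Cfsg.Agent.Lib.Helper24.RU

open Matrix Cfsg.Agent.Lib.Helper6 Cfsg.Agent.Lib.Helper9.SpGen Cfsg.Agent.Lib.Helper14
  Cfsg.Agent.Lib.Helper14.RU

section
variable {m : ℕ} {F : Type*} [Field F]

local notation "ff" => Cfsg.sympForm m F
local notation "VV" => (Fin m ⊕ Fin m → F)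

/-- `Wk (i+1)` is contained in `Wk i` plus the `i`-th hyperbolic plane -/
theorem Wk_succ_le (i : ℕ) (hi : i < m) :
    Wk m F (i + 1) ≤ Wk m F i ⊔ Submodule.span F {(e ⟨i, hi⟩ : VV), (f ⟨i, hi⟩ : VV)} := by
  intro v hv
  have hdec : v = (v - (v (Sum.inl ⟨i, hi⟩) • (e ⟨i, hi⟩ : VV) + v (Sum.inr ⟨i, hi⟩) • (f ⟨i, hi⟩ : VV)))
      + (v (Sum.inl ⟨i, hi⟩) • (e ⟨i, hi⟩ : VV) + v (Sum.inr ⟨i, hi⟩) • (f ⟨i, hi⟩ : VV)) := by
    abel
  rw [hdec]
  apply Submodule.add_mem_sup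
  · intro a ha
    by_cases hai : a = ⟨i, hi⟩
    · subst hai
      simp [e_inl, e_inr, f_inl, f_inr]
    · have hai' : i + 1 ≤ a.val := by
        have : a.val ≠ i := fun h => hai (Fin.ext h)
        omega
      have := hv a hai'
      simp [e_inl, e_inr, f_inl, f_inr, hai, this.1, this.2]
  · apply Submodule.add_mem
    · exact Submodule.smul_mem _ _ (Submodule.subset_span (by simp))
    · exact Submodule.smul_mem _ _ (Submodule.subset_span (by simp))

theorem Wk_eq_top (j : ℕ) (hj : m ≤ j) : Wk m F j = ⊤ := by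
  rw [eq_top_iff]
  intro v _ a ha
  exact absurd a.isLt (by omega)

end

section
variable {k : ℕ} {F : Type*} [Field F]

local notation "ff" => Cfsg.sympForm (k + 2) F
local notation "VV" => (Fin (k + 2) ⊕ Fin (k + 2) → F)

/-- B10.  induction of the growth argument. -/
theorem np_induct (hF : ∃ a b : F, a ≠ 0 ∧ b ≠ 0 ∧ a ≠ b)
    (X : Set VV)
    (H1 : ∀ u v, u ∈ X → v ∈ X → ff u v ≠ 0 → ∀ l : F, u + l • v ∈ X)
    (H2 : ∀ u, u ∈ X → ∀ l : F, l ≠ 0 → l • u ∈ X)
    (hE : ∀ i : Fin (k + 1), (e i.castSucc : VV) ∈ X → (e i.castSucc : VV) + (e i.succ : VV) ∈ X)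
    (hFm : ∀ i : Fin (k + 1), 2 ≤ i.val → (f i.castSucc : VV) ∈ X →
      (f i.castSucc : VV) + (f i.succ : VV) ∈ X)
    (hF0 : ∀ h2 : 2 < k + 2, ∃ w' ∈ Wk (k + 2) F 2, w' + (f ⟨2, h2⟩ : VV) ∈ X)
    (j : ℕ) (hj : 2 ≤ j) (hW : ∀ v ∈ Wk (k + 2) F j, v ≠ 0 → v ∈ X) :
    ∀ v : VV, v ≠ 0 → v ∈ X := by
  have main : ∀ n : ℕ, ∀ v ∈ Wk (k + 2) F (j + n), v ≠ 0 → v ∈ X := by
    intro n
    induction n with
    | zero => simpa using hW
    | succ n ih =>
      by_cases hlt : j + n < k + 2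
      · -- the growth step at `i = j + n`
        have hi1 : j + n - 1 < k + 1 := by omega
        have hcs : (Fin.castSucc (⟨j + n - 1, hi1⟩ : Fin (k + 1))) = (⟨j + n - 1, by omega⟩ : Fin (k + 2)) :=
          rfl
        have hsc : (Fin.succ (⟨j + n - 1, hi1⟩ : Fin (k + 1))) = (⟨j + n, hlt⟩ : Fin (k + 2)) := by
          apply Fin.ext
          simp only [Fin.val_succ]
          omega
        have hw : (e (⟨j + n - 1, by omega⟩ : Fin (k + 2)) : VV) ∈ Wk (k + 2) F (j + n) :=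
          e_mem_Wk _ (by simp only; omega)
        have hw0 : (e (⟨j + n - 1, by omega⟩ : Fin (k + 2)) : VV) ≠ 0 := e_ne_zero _
        have hx : (e (⟨j + n - 1, by omega⟩ : Fin (k + 2)) : VV) + (e ⟨j + n, hlt⟩ : VV) ∈ X := by
          have := hE ⟨j + n - 1, hi1⟩ (by rw [hcs]; exact ih _ hw hw0)
          rw [hcs, hsc] at this
          exact this
        have hz : ∀ u ∈ Wk (k + 2) F (j + n), ff (e ⟨j + n, hlt⟩ : VV) u = 0 := by
          intro u hu
          rw [form_e_left, (hu ⟨j + n, hlt⟩ (le_refl _)).2, neg_zero]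
        have hz' : ∀ u ∈ Wk (k + 2) F (j + n), ff (f ⟨j + n, hlt⟩ : VV) u = 0 := by
          intro u hu
          rw [form_f_left, (hu ⟨j + n, hlt⟩ (le_refl _)).1]
        have hzz : ff (e ⟨j + n, hlt⟩ : VV) (f ⟨j + n, hlt⟩ : VV) ≠ 0 := by
          rw [form_f_right, e_inl, if_pos rfl]
          simp
        have hx' : ∃ w' ∈ Wk (k + 2) F (j + n), w' + (f ⟨j + n, hlt⟩ : VV) ∈ X := by
          by_cases h2 : j + n = 2
          · obtain ⟨w', hw', hw'X⟩ := hF0 (by omega)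
            refine ⟨w', ?_, ?_⟩
            · rw [h2]; exact hw'
            · have : (⟨j + n, hlt⟩ : Fin (k + 2)) = ⟨2, by omega⟩ := Fin.ext h2
              rw [this]; exact hw'X
          · have hf : (f (⟨j + n - 1, by omega⟩ : Fin (k + 2)) : VV) ∈ Wk (k + 2) F (j + n) :=
              f_mem_Wk _ (by simp only; omega)
            refine ⟨_, hf, ?_⟩
            have := hFm ⟨j + n - 1, hi1⟩ (by simp only; omega)
              (by rw [hcs]; exact ih _ hf (f_ne_zero _))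
            rw [hcs, hsc] at this
            exact this
        obtain ⟨w', hw', hw'X⟩ := hx'
        have key := (Cfsg.Agent.Lib.Helper2.RU.grow hF X H1 H2 (Wk (k + 2) F (j + n)) ih
          (fun w hw hw0 => nondeg_Wk hw hw0) _ w' _ _ hw hw' hw0 hz hz' hzz hx hw'X).1
        intro v hv hv0
        exact key v (Wk_succ_le (j + n) hlt hv) hv0
      · intro v _ hv0
        exact ih v (by rw [Wk_eq_top (j + n) (by omega)]; trivial) hv0
  intro v hv0
  exact main (k + 2) v (by rw [Wk_eq_top (j + (k + 2)) (by omega)]; trivial) hv0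

end

end Cfsg.Agent.Lib.Helper24.RU
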