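import Mathlib
import Cfsg.Agent.Lib.Helper14.RU0
import Cfsg.Agent.Lib.Helper14.RU1
import Cfsg.Agent.Lib.Helper2.RUGrow
import Cfsg.Agent.Lib.Helper24.RUB10

set_option autoImplicit false

/-! S2281 farm-out B8: base of the growth argument, odd characteristic. -/

namespace Cfsg.Agent.Lib.Helper24.RU

open Matrix Cfsg.Agent.Lib.Helper6 Cfsg.Agent.Lib.Helper9.SpGen Cfsg.Agent.Lib.Helper14
  Cfsg.Agent.Lib.Helper14.RU

section
variable {m : ℕ} {F : Type*} [Field F]

local notation "ff" => Cfsg.sympForm m F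
local notation "VV" => (Fin m ⊕ Fin m → F)

theorem form_e_e (i j : Fin m) : ff (e i : VV) (e j : VV) = 0 := by
  rw [form_e_right, e_inr]

theorem form_f_f (i j : Fin m) : ff (f i : VV) (f j : VV) = 0 := by
  rw [form_f_right, f_inl, neg_zero]

theorem form_e_f (i j : Fin m) : ff (e i : VV) (f j : VV) = if j = i then -1 else 0 := by
  rw [form_f_right, e_inl]
  split_ifs <;> simp

theorem form_f_e (i j : Fin m) : ff (f i : VV) (e j : VV) = if j = i then 1 else 0 := by
  rw [form_e_right, f_inr]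

/-- all nonzero vectors of the span of a hyperbolic pair in `X` lie in `X`, and the span is
nondegenerate -/
theorem hyp_pair (X : Set VV)
    (H1 : ∀ u v, u ∈ X → v ∈ X → ff u v ≠ 0 → ∀ l : F, u + l • v ∈ X)
    (H2 : ∀ u, u ∈ X → ∀ l : F, l ≠ 0 → l • u ∈ X)
    (a b : VV) (ha : a ∈ X) (hb : b ∈ X) (hab : ff a b ≠ 0) :
    (∀ w ∈ Submodule.span F {a, b}, w ≠ 0 → w ∈ X) ∧
    (∀ w ∈ Submodule.span F {a, b}, w ≠ 0 → ∃ z ∈ Submodule.span F {a, b}, ff w z ≠ 0) := by
  have hba : ff b a ≠ 0 := by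
    rw [sympForm_swap]; exact neg_ne_zero.mpr hab
  have hamem : a ∈ Submodule.span F {a, b} := Submodule.subset_span (by simp)
  have hbmem : b ∈ Submodule.span F {a, b} := Submodule.subset_span (by simp)
  constructor
  · intro w hw hw0
    obtain ⟨α, β, rfl⟩ := Submodule.mem_span_pair.mp hw
    by_cases hβ : β = 0
    · subst hβ
      rw [zero_smul, add_zero] at hw0 ⊢
      have hα : α ≠ 0 := by
        intro h; rw [h, zero_smul] at hw0; exact hw0 rfl
      exact H2 a ha α hα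
    · have h1 := H1 b a hb ha hba (α / β)
      have h2 := H2 _ h1 β hβ
      have e1 : β • (b + (α / β) • a) = α • a + β • b := by
        rw [smul_add, smul_smul, mul_div_cancel₀ _ hβ, add_comm]
      rw [e1] at h2
      exact h2
  · intro w hw hw0
    obtain ⟨α, β, rfl⟩ := Submodule.mem_span_pair.mp hw
    by_cases hβ : β = 0
    · subst hβ
      have hα : α ≠ 0 := by
        intro h; rw [h, zero_smul, zero_smul, add_zero] at hw0; exact hw0 rfl
      refine ⟨b, hbmem, ?_⟩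
      rw [zero_smul, add_zero, sympForm_smul_left]
      exact mul_ne_zero hα hab
    · refine ⟨a, hamem, ?_⟩
      rw [sympForm_add_left, sympForm_smul_left, sympForm_smul_left, sympForm_self, mul_zero,
        zero_add]
      exact mul_ne_zero hβ hba

theorem Wk_zero_eq_bot : Wk m F 0 = ⊥ := by
  rw [eq_bot_iff]
  intro v hv
  rw [Submodule.mem_bot]
  funext c
  rcases c with i | i
  · exact (hv i (Nat.zero_le _)).1
  · exact (hv i (Nat.zero_le _)).2

end

section
variable {k : ℕ} {F : Type*} [Field F]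

local notation "ff" => Cfsg.sympForm (k + 2) F
local notation "VV" => (Fin (k + 2) ⊕ Fin (k + 2) → F)

/-- `Wk 2` is spanned by `e 0, f 0, e 1, f 1` -/
theorem Wk_two_le (S : Submodule F VV) (he0 : (e 0 : VV) ∈ S) (hf0 : (f 0 : VV) ∈ S)
    (he1 : (e 1 : VV) ∈ S) (hf1 : (f 1 : VV) ∈ S) : Wk (k + 2) F 2 ≤ S := by
  have h0 : (⟨0, by omega⟩ : Fin (k + 2)) = 0 := rfl
  have h1 : (⟨1, by omega⟩ : Fin (k + 2)) = 1 := by
    apply Fin.ext
    rw [Fin.val_one]
  have hW1 : Wk (k + 2) F 1 ≤ S := by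
    refine le_trans (Wk_succ_le 0 (by omega)) ?_
    rw [Wk_zero_eq_bot, bot_sup_eq, Submodule.span_le]
    intro v hv
    rcases hv with rfl | rfl
    · rw [h0]; exact he0
    · rw [h0]; exact hf0
  refine le_trans (Wk_succ_le 1 (by omega)) ?_
  apply sup_le hW1
  rw [Submodule.span_le]
  intro v hv
  rcases hv with rfl | rfl
  · rw [h1]; exact he1
  · rw [h1]; exact hf1

/-- B8.  base of the growth argument, odd characteristic. -/
theorem np_base_odd (hF : ∃ a b : F, a ≠ 0 ∧ b ≠ 0 ∧ a ≠ b) (h2 : (2 : F) ≠ 0)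
    (X : Set VV)
    (H1 : ∀ u v, u ∈ X → v ∈ X → ff u v ≠ 0 → ∀ l : F, u + l • v ∈ X)
    (H2 : ∀ u, u ∈ X → ∀ l : F, l ≠ 0 → l • u ∈ X)
    (l c : F) (hl : l ≠ 0) (hc : c ≠ 0)
    (h0 : (e 0 : VV) ∈ X) (h01 : (e 0 : VV) + (e 1 : VV) ∈ X)
    (ha1 : (2 - l⁻¹) • (e 0 : VV) + (2 : F) • (e 1 : VV) + c • ((f 0 : VV) - (f 1 : VV)) ∈ X)
    (ha2 : (2 - l) • (e 0 : VV) - l • (e 1 : VV) - c • (f 1 : VV) ∈ X) :
    ∀ v ∈ Wk (k + 2) F 2, v ≠ 0 → v ∈ X := by
  have h10 : (1 : Fin (k + 2)) ≠ 0 := by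
    intro h
    have := congrArg Fin.val h
    rw [Fin.val_one] at this
    simp at this
  have h01' : (0 : Fin (k + 2)) ≠ 1 := fun h => h10 h.symm
  -- y1 and y2
  have hy1 : (2 : F) • (e 1 : VV) + c • ((f 0 : VV) - (f 1 : VV)) ∈ X := by
    have hne : ff ((2 - l⁻¹) • (e 0 : VV) + (2 : F) • (e 1 : VV) + c • ((f 0 : VV) - (f 1 : VV)))
        (e 0 : VV) ≠ 0 := by
      simp only [sympForm_add_left, sympForm_smul_left, sympForm_sub_left, form_e_e, form_f_e,
        if_true, if_neg h01']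
      simpa using hc
    have := H1 _ _ ha1 h0 hne (-(2 - l⁻¹))
    have e1 : (2 - l⁻¹) • (e 0 : VV) + (2 : F) • (e 1 : VV) + c • ((f 0 : VV) - (f 1 : VV))
        + (-(2 - l⁻¹)) • (e 0 : VV) = (2 : F) • (e 1 : VV) + c • ((f 0 : VV) - (f 1 : VV)) := by
      rw [neg_smul]; abel
    rw [e1] at this
    exact this
  have hy2 : (2 : F) • (e 0 : VV) - c • (f 1 : VV) ∈ X := by
    have hne : ff ((2 - l) • (e 0 : VV) - l • (e 1 : VV) - c • (f 1 : VV))
        ((e 0 : VV) + (e 1 : VV)) ≠ 0 := by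
      simp only [sympForm_add_right, sympForm_sub_left, sympForm_smul_left, form_e_e, form_f_e,
        if_true, if_neg h10]
      simpa using hc
    have := H1 _ _ ha2 h01 hne l
    have e1 : (2 - l) • (e 0 : VV) - l • (e 1 : VV) - c • (f 1 : VV)
        + l • ((e 0 : VV) + (e 1 : VV)) = (2 : F) • (e 0 : VV) - c • (f 1 : VV) := by
      rw [sub_smul, smul_add]; abel
    rw [e1] at this
    exact this
  -- the hyperbolic pair
  have hpair : ff (e 0 : VV) ((2 : F) • (e 1 : VV) + c • ((f 0 : VV) - (f 1 : VV))) ≠ 0 := by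
    simp only [sympForm_add_right, sympForm_smul_right, sympForm_sub_right, form_e_e, form_e_f,
      if_true, if_neg h10]
    simpa using hc
  obtain ⟨hWX, hWnd⟩ := hyp_pair X H1 H2 _ _ h0 hy1 hpair
  have he0W : (e 0 : VV) ∈ Submodule.span F {(e 0 : VV),
      (2 : F) • (e 1 : VV) + c • ((f 0 : VV) - (f 1 : VV))} := Submodule.subset_span (by simp)
  have hy1W : (2 : F) • (e 1 : VV) + c • ((f 0 : VV) - (f 1 : VV)) ∈ Submodule.span F {(e 0 : VV),
      (2 : F) • (e 1 : VV) + c • ((f 0 : VV) - (f 1 : VV))} := Submodule.subset_span (by simp)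
  have h4 : (4 : F) ≠ 0 := by
    have : (4 : F) = 2 * 2 := by norm_num
    rw [this]; exact mul_ne_zero h2 h2
  have hw : (4 : F) • (e 0 : VV) ∈ Submodule.span F {(e 0 : VV),
      (2 : F) • (e 1 : VV) + c • ((f 0 : VV) - (f 1 : VV))} := Submodule.smul_mem _ _ he0W
  have hw0 : (4 : F) • (e 0 : VV) ≠ 0 := smul_ne_zero h4 (e_ne_zero _)
  have hzorth : ∀ u ∈ Submodule.span F {(e 0 : VV),
      (2 : F) • (e 1 : VV) + c • ((f 0 : VV) - (f 1 : VV))},
      ff ((-2 : F) • (e 0 : VV) - c • (f 1 : VV)) u = 0 := by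
    intro u hu
    obtain ⟨α, β, rfl⟩ := Submodule.mem_span_pair.mp hu
    simp only [sympForm_add_right, sympForm_smul_right, sympForm_sub_right, sympForm_sub_left,
      sympForm_smul_left, form_e_e, form_e_f, form_f_e, form_f_f, if_true, if_neg h10, if_neg h01']
    ring
  have hz'orth : ∀ u ∈ Submodule.span F {(e 0 : VV),
      (2 : F) • (e 1 : VV) + c • ((f 0 : VV) - (f 1 : VV))},
      ff ((e 0 : VV) + (e 1 : VV)) u = 0 := by
    intro u hu
    obtain ⟨α, β, rfl⟩ := Submodule.mem_span_pair.mp hu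
    simp only [sympForm_add_right, sympForm_smul_right, sympForm_sub_right, sympForm_add_left,
      form_e_e, form_e_f, if_true, if_neg h10, if_neg h01']
    ring
  have hzz : ff ((-2 : F) • (e 0 : VV) - c • (f 1 : VV)) ((e 0 : VV) + (e 1 : VV)) ≠ 0 := by
    simp only [sympForm_add_right, sympForm_sub_left, sympForm_smul_left, form_e_e, form_f_e,
      if_true, if_neg h10, if_neg h01']
    simpa using hc
  have hx : (4 : F) • (e 0 : VV) + ((-2 : F) • (e 0 : VV) - c • (f 1 : VV)) ∈ X := by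
    have e1 : (4 : F) • (e 0 : VV) + ((-2 : F) • (e 0 : VV) - c • (f 1 : VV))
        = (2 : F) • (e 0 : VV) - c • (f 1 : VV) := by
      rw [← add_sub_assoc, ← add_smul]
      norm_num
    rw [e1]; exact hy2
  have hx' : (0 : VV) + ((e 0 : VV) + (e 1 : VV)) ∈ X := by
    rw [zero_add]; exact h01
  have key := (Cfsg.Agent.Lib.Helper2.RU.grow hF X H1 H2 _ hWX hWnd _ 0 _ _ hw (Submodule.zero_mem _)
    hw0 hzorth hz'orth hzz hx hx').1
  -- `Wk 2` is contained in the sum
  have hsub : Wk (k + 2) F 2 ≤ Submodule.span F {(e 0 : VV),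
      (2 : F) • (e 1 : VV) + c • ((f 0 : VV) - (f 1 : VV))} ⊔
      Submodule.span F {(-2 : F) • (e 0 : VV) - c • (f 1 : VV), (e 0 : VV) + (e 1 : VV)} := by
    have hzS : (-2 : F) • (e 0 : VV) - c • (f 1 : VV) ∈ Submodule.span F {(e 0 : VV),
        (2 : F) • (e 1 : VV) + c • ((f 0 : VV) - (f 1 : VV))} ⊔
        Submodule.span F {(-2 : F) • (e 0 : VV) - c • (f 1 : VV), (e 0 : VV) + (e 1 : VV)} :=
      Submodule.mem_sup_right (Submodule.subset_span (by simp))
    have hz'S : (e 0 : VV) + (e 1 : VV) ∈ Submodule.span F {(e 0 : VV),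
        (2 : F) • (e 1 : VV) + c • ((f 0 : VV) - (f 1 : VV))} ⊔
        Submodule.span F {(-2 : F) • (e 0 : VV) - c • (f 1 : VV), (e 0 : VV) + (e 1 : VV)} :=
      Submodule.mem_sup_right (Submodule.subset_span (by simp))
    have he0S := Submodule.mem_sup_left (S := Submodule.span F {(e 0 : VV),
        (2 : F) • (e 1 : VV) + c • ((f 0 : VV) - (f 1 : VV))})
        (T := Submodule.span F {(-2 : F) • (e 0 : VV) - c • (f 1 : VV), (e 0 : VV) + (e 1 : VV)}) he0W
    have hy1S := Submodule.mem_sup_left (S := Submodule.span F {(e 0 : VV),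
        (2 : F) • (e 1 : VV) + c • ((f 0 : VV) - (f 1 : VV))})
        (T := Submodule.span F {(-2 : F) • (e 0 : VV) - c • (f 1 : VV), (e 0 : VV) + (e 1 : VV)}) hy1W
    have he1S : (e 1 : VV) ∈ Submodule.span F {(e 0 : VV),
        (2 : F) • (e 1 : VV) + c • ((f 0 : VV) - (f 1 : VV))} ⊔
        Submodule.span F {(-2 : F) • (e 0 : VV) - c • (f 1 : VV), (e 0 : VV) + (e 1 : VV)} := by
      have := Submodule.sub_mem _ hz'S he0S
      rwa [add_sub_cancel_left] at this
    have hf1S : (f 1 : VV) ∈ Submodule.span F {(e 0 : VV),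
        (2 : F) • (e 1 : VV) + c • ((f 0 : VV) - (f 1 : VV))} ⊔
        Submodule.span F {(-2 : F) • (e 0 : VV) - c • (f 1 : VV), (e 0 : VV) + (e 1 : VV)} := by
      have h := Submodule.smul_mem _ (-c⁻¹)
        (Submodule.add_mem _ hzS (Submodule.smul_mem _ (2 : F) he0S))
      have e1 : (-c⁻¹) • ((-2 : F) • (e 0 : VV) - c • (f 1 : VV) + (2 : F) • (e 0 : VV))
          = (f 1 : VV) := by
        have : (-2 : F) • (e 0 : VV) - c • (f 1 : VV) + (2 : F) • (e 0 : VV) = (-c) • (f 1 : VV) := by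
          rw [neg_smul, neg_smul]; abel
        rw [this, smul_smul]
        have : -c⁻¹ * -c = 1 := by
          rw [neg_mul_neg, inv_mul_cancel₀ hc]
        rw [this, one_smul]
      rwa [e1] at h
    have hf0S : (f 0 : VV) ∈ Submodule.span F {(e 0 : VV),
        (2 : F) • (e 1 : VV) + c • ((f 0 : VV) - (f 1 : VV))} ⊔
        Submodule.span F {(-2 : F) • (e 0 : VV) - c • (f 1 : VV), (e 0 : VV) + (e 1 : VV)} := by
      have h := Submodule.add_mem _ (Submodule.smul_mem _ c⁻¹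
        (Submodule.sub_mem _ hy1S (Submodule.smul_mem _ (2 : F) he1S))) hf1S
      have e1 : c⁻¹ • ((2 : F) • (e 1 : VV) + c • ((f 0 : VV) - (f 1 : VV)) - (2 : F) • (e 1 : VV))
          + (f 1 : VV) = (f 0 : VV) := by
        rw [add_sub_cancel_left, smul_smul, inv_mul_cancel₀ hc, one_smul, sub_add_cancel]
      rwa [e1] at h
    exact Wk_two_le _ he0S hf0S he1S hf1S
  intro v hv hv0
  exact key v (hsub hv) hv0

end

end Cfsg.Agent.Lib.Helper24.RU
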