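import Mathlib
import Cfsg.Agent.Lib.Helper12.S2933Defs
import Cfsg.Agent.Lib.Helper20.Ord64A

/-!
# S2933 farm-out piece FO-A (helper24): `fpf3`, `exists_twist_mem`, `eq_of_between`
-/

set_option autoImplicit false

namespace Cfsg.Agent.Lib.Helper24.S2933FOA

open Subgroup Cfsg.Agent.Lib.Helper12.S2933 Cfsg.Agent.Lib.Helper20.Ord64

variable {T : Type*} [Group T] {V : Subgroup T} {τ σ : MulAut T}

/-- an involutory self-map of a finite set of even size with a fixed point has another one -/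
theorem exists_fixed_ne {α : Type*} [Finite α] (f : α → α) (hf : ∀ a, f (f a) = a)
    (heven : 2 ∣ Nat.card α) (a : α) (ha : f a = a) : ∃ b, b ≠ a ∧ f b = b := by
  classical
  haveI : Fintype α := Fintype.ofFinite α
  haveI : Fact (Nat.Prime 2) := ⟨Nat.prime_two⟩
  obtain ⟨g, hg⟩ : ∃ g : Function.End α, ∀ m, g m = f m := ⟨f, fun _ => rfl⟩
  have hf2 : g ^ 2 ^ 1 = 1 := by
    funext m
    have hpow : g ^ 2 ^ 1 = g * g := by
      rw [pow_one, pow_two]
    rw [hpow]
    show g (g m) = m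
    rw [hg, hg]
    exact hf m
  have h1 := Equiv.Perm.card_fixedPoints_modEq (p := 2) (n := 1) hf2
  rw [Nat.card_eq_fintype_card] at heven
  have h2 : 2 ∣ Fintype.card (Function.fixedPoints g) := by
    have := (Nat.modEq_zero_iff_dvd.mpr heven)
    exact Nat.modEq_zero_iff_dvd.mp (h1.symm.trans this)
  have hga : g a = a := by rw [hg]; exact ha
  have h3 : 1 < Fintype.card (Function.fixedPoints g) := by
    have hpos : 0 < Fintype.card (Function.fixedPoints g) :=
      Fintype.card_pos_iff.mpr ⟨⟨a, hga⟩⟩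
    have := Nat.le_of_dvd hpos h2
    omega
  obtain ⟨⟨b, hb⟩, hne⟩ := Fintype.exists_ne_of_one_lt_card h3 ⟨a, hga⟩
  refine ⟨b, fun e => hne (Subtype.ext e), ?_⟩
  have : g b = b := hb
  rwa [hg] at this

/-- **FO-A1** -/
theorem fpf3 (H : Hyp V τ σ) : Fpf3 σ := by
  haveI := H.fin
  haveI : Fact (Nat.Prime 2) := ⟨Nat.prime_two⟩
  refine ⟨H.σ3, ?_⟩
  intro y hy
  by_contra hy1
  -- the subgroup of `σ`-fixed points
  obtain ⟨C, hC⟩ : ∃ C : Subgroup T, ∀ x, x ∈ C ↔ σ x = x :=
    ⟨{ carrier := {x | σ x = x}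
       mul_mem' := by
         intro a b ha hb
         show σ (a * b) = a * b
         rw [map_mul, ha, hb]
       one_mem' := map_one σ
       inv_mem' := by
         intro a ha
         show σ a⁻¹ = a⁻¹
         rw [map_inv, ha] }, fun x => Iff.rfl⟩
  have hCτ : ∀ x ∈ C, τ x ∈ C := by
    intro x hx
    rw [hC] at hx ⊢
    rw [← H.comm, hx]
  have hCp : IsPGroup 2 C := H.pg.to_subgroup C
  obtain ⟨k, hk⟩ := hCp.exists_card_eq
  have hk0 : k ≠ 0 := by
    rintro rfl
    rw [pow_zero, Subgroup.card_eq_one] at hk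
    have : y ∈ C := (hC y).mpr hy
    rw [hk, Subgroup.mem_bot] at this
    exact hy1 this
  have heven : 2 ∣ Nat.card C := by
    rw [hk]
    exact dvd_pow_self 2 hk0
  obtain ⟨⟨c, hcC⟩, hc1, hcfix⟩ := exists_fixed_ne (α := C)
    (fun x => ⟨τ x.1, hCτ x.1 x.2⟩) (fun x => Subtype.ext (H.τ2 x.1)) heven 1
    (Subtype.ext (map_one τ))
  have hcτ : τ c = c := congrArg Subtype.val hcfix
  have hcV : c ∈ V := H.fix c hcτ
  have hc1' : c = 1 := H.σVfpf c hcV ((hC c).mp hcC)
  exact hc1 (Subtype.ext hc1')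

/-- **FO-A2** -/
theorem exists_twist_mem (H : Hyp V τ σ) (N : Subgroup T) (hN : ∀ x ∈ N, τ x ∈ N)
    (hne : ∃ x : T, x ∉ N) : ∃ x : T, x ∉ N ∧ x⁻¹ * τ x ∈ N := by
  haveI := H.fin
  haveI : Fact (Nat.Prime 2) := ⟨Nat.prime_two⟩
  have hwd : ∀ a b : T, (QuotientGroup.leftRel N) a b →
      (QuotientGroup.leftRel N) (τ a) (τ b) := by
    intro a b hab
    rw [QuotientGroup.leftRel_apply] at hab ⊢
    have : (τ a)⁻¹ * τ b = τ (a⁻¹ * b) := by rw [map_mul, map_inv]
    rw [this]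
    exact hN _ hab
  have hidx : 2 ∣ Nat.card (T ⧸ N) := by
    obtain ⟨m, hm⟩ := H.pg.exists_card_eq
    have h1 : N.index ∣ 2 ^ m := hm ▸ Subgroup.index_dvd_card N
    obtain ⟨j, _, hj⟩ := (Nat.dvd_prime_pow Nat.prime_two).mp h1
    have hj0 : j ≠ 0 := by
      rintro rfl
      rw [pow_zero, Subgroup.index_eq_one] at hj
      obtain ⟨x, hx⟩ := hne
      exact hx (hj ▸ Subgroup.mem_top x)
    rw [← Subgroup.index_eq_card, hj]
    exact dvd_pow_self 2 hj0
  obtain ⟨q, hq1, hqfix⟩ := exists_fixed_ne (α := T ⧸ N)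
    (Quotient.map' (fun x => τ x) hwd)
    (by
      intro q
      induction q using Quotient.inductionOn' with
      | h x =>
        show Quotient.map' (fun x => τ x) hwd (Quotient.map' (fun x => τ x) hwd
          (Quotient.mk'' x)) = Quotient.mk'' x
        rw [Quotient.map'_mk'', Quotient.map'_mk'', H.τ2])
    hidx (QuotientGroup.mk 1)
    (by
      show Quotient.map' (fun x => τ x) hwd (Quotient.mk'' 1) = Quotient.mk'' 1
      rw [Quotient.map'_mk'', map_one])
  induction q using Quotient.inductionOn' with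
  | h x =>
    refine ⟨x, ?_, ?_⟩
    · intro hx
      apply hq1
      show (QuotientGroup.mk x : T ⧸ N) = QuotientGroup.mk 1
      rw [QuotientGroup.eq]
      simpa using hx
    · have h1 : (QuotientGroup.mk (τ x) : T ⧸ N) = QuotientGroup.mk x := hqfix
      rw [QuotientGroup.eq] at h1
      have h2 := N.inv_mem h1
      have : ((τ x)⁻¹ * x)⁻¹ = x⁻¹ * τ x := by group
      rwa [this] at h2

/-- **FO-A3** -/
theorem eq_of_between (H : Hyp V τ σ) (A B C : Subgroup T) (hA : ∀ x ∈ A, σ x ∈ A)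
    (hC : ∀ x ∈ C, σ x ∈ C) (hAC : A ≤ C) (hCB : C ≤ B) (hcard : Nat.card B = 4 * Nat.card A) :
    C = A ∨ C = B := by
  haveI := H.fin
  have hf := fpf3 H
  have h1 := hf.card_mod_three A hA
  have h2 := hf.card_mod_three C hC
  obtain ⟨d, hd⟩ := Subgroup.card_dvd_of_le hAC
  obtain ⟨e, he⟩ := Subgroup.card_dvd_of_le hCB
  have hApos : 0 < Nat.card A := Nat.card_pos
  have hde : d * e = 4 := by
    have : Nat.card A * (d * e) = Nat.card A * 4 := by
      rw [← mul_assoc, ← hd, ← he, hcard, mul_comm]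
    exact Nat.eq_of_mul_eq_mul_left hApos this
  have hd4 : d ∣ 4 := ⟨e, hde.symm⟩
  have hdle : d ≤ 4 := Nat.le_of_dvd (by norm_num) hd4
  have hd3 : d % 3 = 1 := by
    have : (Nat.card A * d) % 3 = 1 := hd ▸ h2
    rw [Nat.mul_mod, h1] at this
    omega
  interval_cases d
  · omega
  · left
    exact (Subgroup.eq_of_le_of_card_ge hAC (by rw [hd, mul_one])).symm
  · omega
  · omega
  · right
    apply Subgroup.eq_of_le_of_card_ge hCB
    rw [hcard, hd, mul_comm]

end Cfsg.Agent.Lib.Helper24.S2933FOA
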