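import Mathlib
import Cfsg.Agent.Lib.Helper12.S2933Defs
import Cfsg.Agent.Lib.Helper20.Ord64A
import Cfsg.Agent.Lib.Helper24.S2933FOA

/-!
# S2933 farm-out piece FO-A4 (helper24): the subgroup `D`
-/

set_option autoImplicit false

namespace Cfsg.Agent.Lib.Helper24.S2933FOA4

open Subgroup Cfsg.Agent.Lib.Helper12.S2933 Cfsg.Agent.Lib.Helper20.Ord64
open Cfsg.Agent.Lib.Helper24.S2933FOA

variable {T : Type*} [Group T] {V : Subgroup T} {τ σ : MulAut T}

theorem V_le_D (H : Hyp V τ σ) : V ≤ H.D := by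
  intro v hv
  rw [H.mem_D, H.τV v hv, inv_mul_cancel]
  exact V.one_mem

theorem D_σ (H : Hyp V τ σ) : ∀ x ∈ H.D, σ x ∈ H.D := by
  intro x hx
  rw [H.mem_D] at hx ⊢
  have : (σ x)⁻¹ * τ (σ x) = σ (x⁻¹ * τ x) := by
    rw [H.comm, map_mul, map_inv]
  rw [this]
  exact H.σV _ hx

theorem D_τ (H : Hyp V τ σ) : ∀ x ∈ H.D, τ x ∈ H.D := by
  intro x hx
  rw [H.mem_D] at hx ⊢
  have : (τ x)⁻¹ * τ (τ x) = (x⁻¹ * τ x)⁻¹ := by
    rw [H.τ2]
    group
  rw [this]
  exact V.inv_mem hx

/-- `φ x = x⁻¹ τ x` is multiplicative on `D` -/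
theorem phi_mul (H : Hyp V τ σ) (x y : T) (hx : x ∈ H.D) :
    (x * y)⁻¹ * τ (x * y) = (x⁻¹ * τ x) * (y⁻¹ * τ y) := by
  have hx' : x⁻¹ * τ x ∈ V := hx
  rw [map_mul]
  calc (x * y)⁻¹ * (τ x * τ y) = y⁻¹ * ((x⁻¹ * τ x) * τ y) := by group
    _ = y⁻¹ * (τ y * (x⁻¹ * τ x)) := by rw [H.Vcen _ hx' (τ y)]
    _ = (y⁻¹ * τ y) * (x⁻¹ * τ x) := by group
    _ = (x⁻¹ * τ x) * (y⁻¹ * τ y) := (H.Vcen _ hx' _).symm

theorem D_sq (H : Hyp V τ σ) : ∀ x ∈ H.D, x * x ∈ V := by
  intro x hx
  apply H.fix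
  have h1 := phi_mul H x x hx
  have hx' : x⁻¹ * τ x ∈ V := hx
  rw [H.Vsq _ hx'] at h1
  have : τ (x * x) = (x * x) * ((x * x)⁻¹ * τ (x * x)) := by group
  rw [this, h1, mul_one]

/-- the homomorphism `φ : D → V` -/
def phiHom (H : Hyp V τ σ) : ↥H.D →* ↥V where
  toFun x := ⟨(x : T)⁻¹ * τ x, x.2⟩
  map_one' := by
    apply Subtype.ext
    simp
  map_mul' x y := by
    apply Subtype.ext
    simp only [Subgroup.coe_mul]
    exact phi_mul H x y x.2

theorem card_D_le (H : Hyp V τ σ) : Nat.card H.D ≤ 16 := by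
  haveI := H.fin
  have h1 : Nat.card (phiHom H).ker * (phiHom H).ker.index = Nat.card H.D :=
    Subgroup.card_mul_index _
  have h2 : (phiHom H).ker.index ≤ 4 := by
    rw [Subgroup.index_ker, ← H.Vcard]
    exact Nat.card_le_card_of_injective (fun x : (phiHom H).range => (x : ↥V))
      Subtype.val_injective
  have h3 : Nat.card (phiHom H).ker ≤ 4 := by
    rw [← H.Vcard]
    refine Nat.card_le_card_of_injective
      (fun x : (phiHom H).ker => (⟨((x : ↥H.D) : T), ?_⟩ : ↥V)) ?_
    · apply H.fix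
      have h4 : phiHom H (x : ↥H.D) = 1 := x.2
      have h5 : (((x : ↥H.D) : T))⁻¹ * τ ((x : ↥H.D) : T) = 1 := congrArg Subtype.val h4
      have : τ ((x : ↥H.D) : T) = ((x : ↥H.D) : T) *
          ((((x : ↥H.D) : T))⁻¹ * τ ((x : ↥H.D) : T)) := by group
      rw [this, h5, mul_one]
    · intro a b hab
      have : ((a : ↥H.D) : T) = ((b : ↥H.D) : T) := by
        have h6 := congrArg (fun v : ↥V => (v : T)) hab
        exact h6
      exact Subtype.ext (Subtype.ext this)
  calc Nat.card H.D = Nat.card (phiHom H).ker * (phiHom H).ker.index := h1.symm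
    _ ≤ 4 * 4 := Nat.mul_le_mul h3 h2
    _ = 16 := by norm_num

theorem card_D (H : Hyp V τ σ) (hne : ∃ x : T, x ∉ V) : Nat.card H.D = 16 := by
  haveI := H.fin
  haveI : Fact (Nat.Prime 2) := ⟨Nat.prime_two⟩
  have hle := card_D_le H
  obtain ⟨x, hxV, hxD⟩ := exists_twist_mem H V (fun v hv => by rw [H.τV v hv]; exact hv) hne
  have hVD := V_le_D H
  have hgt : 4 < Nat.card H.D := by
    rw [← H.Vcard]
    by_contra hcon
    push Not at hcon
    have := Subgroup.eq_of_le_of_card_ge hVD hcon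
    exact hxV (this ▸ (show x ∈ H.D from hxD))
  have hmod := (fpf3 H).card_mod_three H.D (D_σ H)
  obtain ⟨k, hk⟩ := (H.pg.to_subgroup H.D).exists_card_eq
  rw [hk] at hle hgt hmod ⊢
  have hk4 : k ≤ 4 := by
    by_contra hcon
    push Not at hcon
    have : 2 ^ 5 ≤ 2 ^ k := Nat.pow_le_pow_right (by norm_num) hcon
    omega
  interval_cases k <;> omega


theorem D_comm (H : Hyp V τ σ) : ∀ a ∈ H.D, ∀ b ∈ H.D, a * b = b * a := by
  haveI := H.fin
  have hVD := V_le_D H
  have hf := fpf3 H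
  by_cases hDV : H.D ≤ V
  · intro a ha b _
    exact H.Vcen a (hDV ha) b
  · obtain ⟨x, hxD, hxV⟩ := SetLike.not_le_iff_exists.mp hDV
    -- the subgroup generated by `V` and the orbit of `x`
    have hgen : ∀ a ∈ ((V : Set T) ∪ {x, σ x, σ (σ x)}), ∀ b ∈ ((V : Set T) ∪ {x, σ x, σ (σ x)}),
        a * b = b * a := by
      intro a ha b hb
      rcases ha with ha | ha
      · exact H.Vcen a ha b
      · rcases hb with hb | hb
        · exact (H.Vcen b hb a).symm
        · simp only [Set.mem_insert_iff, Set.mem_singleton_iff] at ha hb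
          rcases ha with rfl | rfl | rfl <;> rcases hb with rfl | rfl | rfl
          · rfl
          · exact hf.comm1 _
          · exact hf.comm2 _
          · exact (hf.comm1 _).symm
          · rfl
          · exact hf.comm3 _
          · exact (hf.comm2 _).symm
          · exact (hf.comm3 _).symm
          · rfl
    have hScomm := Fpf3.closure_comm hgen
    have hSD : closure ((V : Set T) ∪ {x, σ x, σ (σ x)}) ≤ H.D := by
      rw [closure_le]
      intro a ha
      rcases ha with ha | ha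
      · exact hVD ha
      · simp only [Set.mem_insert_iff, Set.mem_singleton_iff] at ha
        rcases ha with rfl | rfl | rfl
        · exact hxD
        · exact D_σ H _ hxD
        · exact D_σ H _ (D_σ H _ hxD)
    have hVS : V ≤ closure ((V : Set T) ∪ {x, σ x, σ (σ x)}) := by
      intro v hv
      exact Subgroup.subset_closure (Or.inl hv)
    have hSσ : ∀ a ∈ closure ((V : Set T) ∪ {x, σ x, σ (σ x)}),
        σ a ∈ closure ((V : Set T) ∪ {x, σ x, σ (σ x)}) := by
      intro a ha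
      have h1 : (closure ((V : Set T) ∪ {x, σ x, σ (σ x)})).map (σ : T →* T) ≤
          closure ((V : Set T) ∪ {x, σ x, σ (σ x)}) := by
        rw [MonoidHom.map_closure, closure_le]
        rintro _ ⟨b, hb, rfl⟩
        apply Subgroup.subset_closure
        rcases hb with hb | hb
        · exact Or.inl (H.σV b hb)
        · right
          simp only [Set.mem_insert_iff, Set.mem_singleton_iff] at hb ⊢
          rcases hb with rfl | rfl | rfl
          · right; left; rfl
          · right; right; rfl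
          · left; exact H.σ3 _
      exact h1 ⟨a, ha, rfl⟩
    have hcard : Nat.card H.D = 4 * Nat.card V := by
      rw [card_D H ⟨x, hxV⟩, H.Vcard]
    rcases eq_of_between H V H.D _ (fun v hv => H.σV v hv) hSσ hVS hSD hcard with e | e
    · exfalso
      apply hxV
      rw [← e]
      exact Subgroup.subset_closure (Or.inr (by simp))
    · intro a ha b hb
      rw [← e] at ha hb
      exact hScomm a ha b hb

theorem D_central (H : Hyp V τ σ) : ∀ x ∈ H.D, ∀ y : T, x * y * x⁻¹ * y⁻¹ ∈ V := by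
  haveI := H.fin
  haveI := H.normal
  haveI : Fact (Nat.Prime 2) := ⟨Nat.prime_two⟩
  have hVD := V_le_D H
  by_cases hTV : ∀ x : T, x ∈ V
  · intro x _ y
    exact hTV _
  · push Not at hTV
    obtain ⟨x₁, hx₁⟩ := hTV
    -- `T ⧸ V` is a nontrivial `2`-group
    haveI : Nontrivial (T ⧸ V) := by
      refine ⟨⟨(QuotientGroup.mk x₁ : T ⧸ V), 1, ?_⟩⟩
      intro e
      exact hx₁ ((QuotientGroup.eq_one_iff x₁).mp e)
    have hpq : IsPGroup 2 (T ⧸ V) := H.pg.to_quotient V
    haveI : Nontrivial (center (T ⧸ V)) := hpq.center_nontrivial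
    obtain ⟨k, hk⟩ := (hpq.to_subgroup (center (T ⧸ V))).exists_card_eq
    have hk0 : k ≠ 0 := by
      rintro rfl
      rw [pow_zero] at hk
      have := Finite.one_lt_card (α := center (T ⧸ V))
      omega
    have heven : 2 ∣ Nat.card (center (T ⧸ V)) := by
      rw [hk]
      exact dvd_pow_self 2 hk0
    have hτ2 : ∀ z : T ⧸ V, H.τq (H.τq z) = z := by
      intro z
      induction z using QuotientGroup.induction_on with
      | H x =>
        show ((τ (τ x) : T) : T ⧸ V) = (x : T ⧸ V)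
        rw [H.τ2]
    obtain ⟨⟨z, hzc⟩, hz1, hzfix⟩ := exists_fixed_ne (α := center (T ⧸ V))
      (fun z => ⟨H.τq z.1, Fpf3.center_inv H.τq z.1 z.2⟩) (fun z => Subtype.ext (hτ2 z.1)) heven 1
      (Subtype.ext (map_one H.τq))
    have hzfix' : H.τq z = z := congrArg Subtype.val hzfix
    have hz1' : z ≠ 1 := fun e => hz1 (Subtype.ext e)
    obtain ⟨x₀, rfl⟩ := QuotientGroup.mk_surjective z
    have hx₀V : x₀ ∉ V := fun h => hz1' ((QuotientGroup.eq_one_iff x₀).mpr h)
    have hx₀D : x₀ ∈ H.D := by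
      rw [H.mem_D]
      have h1 : ((τ x₀ : T) : T ⧸ V) = (x₀ : T ⧸ V) := hzfix'
      rw [QuotientGroup.eq] at h1
      have h2 := V.inv_mem h1
      have : ((τ x₀)⁻¹ * x₀)⁻¹ = x₀⁻¹ * τ x₀ := by group
      rwa [this] at h2
    -- the preimage of the centre
    have hC2σ : ∀ a ∈ (center (T ⧸ V)).comap (QuotientGroup.mk' V),
        σ a ∈ (center (T ⧸ V)).comap (QuotientGroup.mk' V) := by
      intro a ha
      rw [Subgroup.mem_comap] at ha ⊢
      exact Fpf3.center_inv H.σq _ ha
    have hVC2 : V ≤ (center (T ⧸ V)).comap (QuotientGroup.mk' V) := by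
      intro v hv
      rw [Subgroup.mem_comap]
      have : (QuotientGroup.mk' V) v = 1 := (QuotientGroup.eq_one_iff v).mpr hv
      rw [this]
      exact Subgroup.one_mem _
    have hcard : Nat.card H.D = 4 * Nat.card V := by
      rw [card_D H ⟨x₁, hx₁⟩, H.Vcard]
    have hD : (center (T ⧸ V)).comap (QuotientGroup.mk' V) ⊓ H.D = H.D := by
      rcases eq_of_between H V H.D ((center (T ⧸ V)).comap (QuotientGroup.mk' V) ⊓ H.D)
        (fun v hv => H.σV v hv)
        (fun a ha => ⟨hC2σ a ha.1, D_σ H a ha.2⟩) (le_inf hVC2 hVD) inf_le_right hcard with e | e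
      · exfalso
        apply hx₀V
        rw [← e]
        exact ⟨hzc, hx₀D⟩
      · exact e
    intro x hx y
    have hxc : (QuotientGroup.mk' V) x ∈ center (T ⧸ V) := by
      have : x ∈ (center (T ⧸ V)).comap (QuotientGroup.mk' V) ⊓ H.D := by rw [hD]; exact hx
      exact this.1
    rw [← QuotientGroup.eq_one_iff]
    have h1 : ((x * y * x⁻¹ * y⁻¹ : T) : T ⧸ V) =
        (QuotientGroup.mk' V) x * (QuotientGroup.mk' V) y * ((QuotientGroup.mk' V) x)⁻¹ *
          ((QuotientGroup.mk' V) y)⁻¹ := rfl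
    rw [h1, ← (Subgroup.mem_center_iff.mp hxc) _]
    group

end Cfsg.Agent.Lib.Helper24.S2933FOA4
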