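import Mathlib
import Cfsg.Prelude.Def_Blocks
import Cfsg.Prelude.Def_BlockLocal
import Cfsg.Prelude.Def_BrauerPairs
import Cfsg.Agent.Lib.Helper24.Principal
import Cfsg.Agent.Lib.Helper24.ConjPairs

/-!
# Brauer pairs of the principal block (helper24 library)

* `subpairLE_principal`: the principal pairs `(Q, B₀(C_G(Q)))` are ordered like the subgroups.
* `conjBlock_principalBlock`: conjugates of principal blocks are principal.
* `stabilizesBlock_principalBlock`: every element of `N_G(Q)` stabilizes `B₀(C_G(Q))`.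
* `isMaximalBrauerPair_principal`: `(S, B₀(C_G(S)))` is maximal for a Sylow subgroup `S`.
-/

set_option autoImplicit false

namespace Cfsg.Agent.Lib.Helper24

open Cfsg.Agent.Lib.Helper2 Cfsg.Agent.Lib.Helper7
open scoped ComplexConjugate

section

variable {G : Type*} [Group G] [Fintype G] {p : ℕ} {M : Ideal Cfsg.AlgInt}

theorem subpairLE_principal [Fact p.Prime] (hM : Cfsg.IsPModular p M) (P : Subgroup G)
    (hP : IsPGroup p P) (Q : Subgroup G) (hQP : Q ≤ P) :
    Cfsg.SubpairLE p M Q (Cfsg.principalBlock M (Subgroup.centralizer (Q : Set G))) P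
      (Cfsg.principalBlock M (Subgroup.centralizer (P : Set G))) := by
  have hPe : Cfsg.IsBrauerPair p M P (Cfsg.principalBlock M (Subgroup.centralizer (P : Set G))) :=
    ⟨hP, isPBlock_principalBlock⟩
  obtain ⟨f, hf1, hf2⟩ := exists_subpairLE hM P _ hPe Q hQP
  have hQ : IsPGroup p Q := hP.to_le hQP
  have h := (isBrauerPairOf_iff_of_subpairLE hM hPe ⟨hQ, hf1⟩ hf2 (Cfsg.principalBlock M G)
    isPBlock_principalBlock).mp (isBrauerPairOf_principal hM P hP)
  rw [eq_principalBlock_of_isBrauerPairOf hM Q f h] at hf2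
  exact hf2

theorem conjBlock_principalBlock [Fact p.Prime] (hM : Cfsg.IsPModular p M) (Q : Subgroup G)
    (hQ : IsPGroup p Q) (g : G) :
    Cfsg.conjBlock Q g (Cfsg.principalBlock M (Subgroup.centralizer (Q : Set G)))
      = Cfsg.principalBlock M (Subgroup.centralizer
          ((Q.map (MulAut.conj g).toMonoidHom : Subgroup G) : Set G)) :=
  eq_principalBlock_of_isBrauerPairOf hM _ _
    (isBrauerPairOf_conj g (isBrauerPairOf_principal hM Q hQ))

omit [Fintype G] in
theorem conjIrr_trivIrr [Finite G] (K : Subgroup G) (n : Subgroup.normalizer (K : Set G)) :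
    conjIrr K n (trivIrr K) = trivIrr K := by
  apply Subtype.ext
  funext k
  rfl

omit [Fintype G] in
theorem stabilizesBlock_principalBlock [Finite G] (K : Subgroup G) (u : G)
    (hu : u ∈ Subgroup.normalizer (K : Set G)) :
    Cfsg.StabilizesBlock K (Cfsg.principalBlock M K) u := by
  rw [stabilizesBlock_iff]
  refine ⟨hu, ?_⟩
  have h := blockOf_conjIrr (M := M) K ⟨u, hu⟩ (trivIrr K)
  rw [conjIrr_trivIrr] at h
  have e : Cfsg.principalBlock M K = Cfsg.blockOf M (trivIrr K).1 := rfl
  rw [e, ← h]

theorem isMaximalBrauerPair_principal [Fact p.Prime] (hM : Cfsg.IsPModular p M) (S : Sylow p G) :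
    Cfsg.IsMaximalBrauerPair p M (Cfsg.principalBlock M G) (S : Subgroup G)
      (Cfsg.principalBlock M (Subgroup.centralizer ((S : Subgroup G) : Set G))) := by
  refine ⟨isBrauerPairOf_principal hM _ S.isPGroup', ?_⟩
  intro R g hRg hle
  have hSR : (S : Subgroup G) ≤ R := le_of_reflTransGen hle
  exact S.is_maximal' hRg.1.1 hSR

end

end Cfsg.Agent.Lib.Helper24
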