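import Mathlib
import Cfsg.Prelude.Def_Blocks
import Cfsg.Prelude.Def_BlockLocal
import Cfsg.Prelude.Def_BrauerPairs
import Cfsg.Agent.Lib.Helper24.PairTools
import Cfsg.Agent.Lib.Helper24.StabPairs
import Cfsg.Agent.Lib.Helper24.OverNormalizer

/-!
# Lifting Brauer pairs from `C_G(Q)` to `G`, functorially (helper24 library)

* `liftIdx Q a`: the Brauer pair `(Q S, g)` of `G` attached to a pair `a = (S, g)` of `C_G(Q)`;
  `conjIdx_liftIdx` (compatibility with conjugation by elements of `C_G(Q)`).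
* `exists_liftIdx_eq`: a normal inclusion `(Q, f) ⊴ (R, g)` with `R ≤ C_G(Q)` comes from an
  `f`-Brauer pair of `C_G(Q)`.
* `isMaximalBrauerPair_of_card_le`, `conjIdx_eq_self_of_mem_stabSubgroup`,
  `mem_stabSubgroup_of_conjIdx_eq_self`, `mem_stabSubgroup_of_subpairLE`,
  `exists_mul_of_mem_stabSubgroup` (`N_G(Q, f) ⊆ N_G(P, e) C_G(Q)` for abelian `P`).
-/

set_option autoImplicit false

namespace Cfsg.Agent.Lib.Helper24

open Cfsg.Agent.Lib.Helper2 Cfsg.Agent.Lib.Helper7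
open scoped ComplexConjugate

section LiftIdx

variable {G : Type*} [Group G] [Fintype G] {p : ℕ} {M : Ideal Cfsg.AlgInt}

omit [Fintype G] in
theorem exists_idx_eq {R R' : Subgroup G} (h : R = R')
    (g : Set (Cfsg.IrrCharacter (Subgroup.centralizer (R : Set G)))) :
    ∃ g' : Set (Cfsg.IrrCharacter (Subgroup.centralizer (R' : Set G))),
      (⟨R, g⟩ : Cfsg.BrauerPairIdx G) = ⟨R', g'⟩ := by
  subst h
  exact ⟨g, rfl⟩

/-- the Brauer pair `(Q S, g)` of `G` attached to a pair `(S, g)` of `C_G(Q)` -/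
noncomputable def liftIdx (Q : Subgroup G)
    (a : Cfsg.BrauerPairIdx (Subgroup.centralizer (Q : Set G))) : Cfsg.BrauerPairIdx G :=
  ⟨Q ⊔ a.1.map (Subgroup.centralizer (Q : Set G)).subtype, irrMap (centSub Q a.1) '' a.2⟩

theorem conjIdx_liftIdx (Q : Subgroup G) (c : Subgroup.centralizer (Q : Set G))
    (a : Cfsg.BrauerPairIdx (Subgroup.centralizer (Q : Set G))) :
    conjIdx (c : G) (liftIdx Q a) = liftIdx Q (conjIdx c a) := by
  obtain ⟨S, g⟩ := a
  have hcN : (c : G) ∈ Subgroup.normalizer (Q : Set G) :=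
    Subgroup.centralizer_le_normalizer _ c.2
  have hQ : (Q ⊔ S.map (Subgroup.centralizer (Q : Set G)).subtype).map
        (MulAut.conj (c : G)).toMonoidHom
      = Q ⊔ (S.map (MulAut.conj c).toMonoidHom).map (Subgroup.centralizer (Q : Set G)).subtype := by
    rw [Subgroup.map_sup, map_conj_eq_of_mem_normalizer Q hcN, Subgroup.map_map, Subgroup.map_map]
    rfl
  show conjIdx (c : G) ⟨Q ⊔ S.map (Subgroup.centralizer (Q : Set G)).subtype,
      irrMap (centSub Q S) '' g⟩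
    = ⟨Q ⊔ (S.map (MulAut.conj c).toMonoidHom).map (Subgroup.centralizer (Q : Set G)).subtype,
      irrMap (centSub Q (S.map (MulAut.conj c).toMonoidHom)) '' (Cfsg.conjBlock S c g)⟩
  apply conjIdx_eq_of (c : G) _ _ hQ
  intro ξ'
  constructor
  · rintro ⟨ζ', hζ', rfl⟩
    obtain ⟨ζ, hζ, hconj⟩ := hζ'
    refine ⟨irrMap (centSub Q S) ζ, ⟨ζ, hζ, rfl⟩, ?_⟩
    intro k k' hk
    exact hconj _ _ (Subtype.ext hk)
  · rintro ⟨ξ, ⟨ζ, hζ, rfl⟩, h⟩
    refine ⟨irrMap (centSub Q (S.map (MulAut.conj c).toMonoidHom)).symm ξ', ⟨ζ, hζ, ?_⟩,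
      irrMap_irrMap_symm _ ξ'⟩
    intro d d' hd
    show (irrMap (centSub Q (S.map (MulAut.conj c).toMonoidHom)).symm ξ').1 d' = ζ.1 d
    rw [irrMap_apply, MulEquiv.symm_symm]
    have h1 := h (centSub Q S d) (centSub Q (S.map (MulAut.conj c).toMonoidHom) d') (by
      rw [centSub_coe, centSub_coe]
      exact congrArg Subtype.val hd)
    rw [h1, irrMap_apply_apply]

/-- a normal inclusion `(Q, f) ⊴ (R, g)` with `R ≤ C_G(Q)` comes from an `f`-Brauer pair of
`C_G(Q)` -/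
theorem exists_liftIdx_eq (Q R : Subgroup G) (hQR : Q ≤ R)
    (hRC : R ≤ Subgroup.centralizer (Q : Set G))
    (f : Set (Cfsg.IrrCharacter (Subgroup.centralizer (Q : Set G))))
    (g : Set (Cfsg.IrrCharacter (Subgroup.centralizer (R : Set G))))
    (hns : Cfsg.IsNormalSubpair p M Q f R g) :
    ∃ a : Cfsg.BrauerPairIdx (Subgroup.centralizer (Q : Set G)),
      a.1 = R.subgroupOf (Subgroup.centralizer (Q : Set G)) ∧
      Cfsg.IsBrauerPairOf p M f a.1 a.2 ∧ liftIdx Q a = ⟨R, g⟩ := by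
  have hS' : Q ⊔ (R.subgroupOf (Subgroup.centralizer (Q : Set G))).map
      (Subgroup.centralizer (Q : Set G)).subtype = R := by
    rw [Subgroup.subgroupOf_map_subtype, inf_of_le_left hRC, sup_of_le_right hQR]
  obtain ⟨g', hg'⟩ := exists_idx_eq hS'.symm g
  have hns' : Cfsg.IsNormalSubpair p M Q f
      (Q ⊔ (R.subgroupOf (Subgroup.centralizer (Q : Set G))).map
        (Subgroup.centralizer (Q : Set G)).subtype) g' := by
    have h1 : Cfsg.IsNormalSubpair p M Q f (⟨R, g⟩ : Cfsg.BrauerPairIdx G).1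
        (⟨R, g⟩ : Cfsg.BrauerPairIdx G).2 := hns
    rw [hg'] at h1
    exact h1
  have hS : IsPGroup p (R.subgroupOf (Subgroup.centralizer (Q : Set G))) :=
    hns.2.1.1.comap_subtype
  refine ⟨⟨R.subgroupOf (Subgroup.centralizer (Q : Set G)),
    irrMap (centSub Q (R.subgroupOf (Subgroup.centralizer (Q : Set G)))).symm '' g'⟩, rfl,
    isBrauerPairOf_centralizer_of_isNormalSubpair Q f _ hS g' hns', ?_⟩
  show (⟨Q ⊔ (R.subgroupOf (Subgroup.centralizer (Q : Set G))).map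
      (Subgroup.centralizer (Q : Set G)).subtype,
    irrMap (centSub Q (R.subgroupOf (Subgroup.centralizer (Q : Set G)))) ''
      (irrMap (centSub Q (R.subgroupOf (Subgroup.centralizer (Q : Set G)))).symm '' g')⟩
      : Cfsg.BrauerPairIdx G) = ⟨R, g⟩
  rw [image_irrMap_image_symm, hg']

/-- an `f`-Brauer pair of `C_G(Q)` at least as large as a maximal Brauer pair of `B` is
maximal -/
theorem isMaximalBrauerPair_of_card_le [Fact p.Prime] (hM : Cfsg.IsPModular p M)
    (B : Set (Cfsg.IrrCharacter G)) (P : Subgroup G)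
    (e : Set (Cfsg.IrrCharacter (Subgroup.centralizer (P : Set G))))
    (hmax : Cfsg.IsMaximalBrauerPair p M B P e) (Q : Subgroup G)
    (f : Set (Cfsg.IrrCharacter (Subgroup.centralizer (Q : Set G))))
    (hQf : Cfsg.IsBrauerPairOf p M B Q f)
    (a : Cfsg.BrauerPairIdx (Subgroup.centralizer (Q : Set G)))
    (hpair : Cfsg.IsBrauerPairOf p M f a.1 a.2) (hcard : Nat.card P ≤ Nat.card a.1) :
    Cfsg.IsMaximalBrauerPair p M f a.1 a.2 := by
  classical
  haveI : Fintype (Subgroup.centralizer (Q : Set G)) := Fintype.ofFinite _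
  have hB := hmax.1.2.1
  refine ⟨hpair, ?_⟩
  intro S₂ g₂ hpair₂ hle
  have hSS₂ : a.1 ≤ S₂ := le_of_reflTransGen hle
  have hns := isNormalSubpair_of_isBrauerPairOf_centralizer Q hQf.1.1 f S₂ g₂ hpair₂
  have hB₂ : Cfsg.IsBrauerPairOf p M B
      (Q ⊔ S₂.map (Subgroup.centralizer (Q : Set G)).subtype) (irrMap (centSub Q S₂) '' g₂) :=
    (isBrauerPairOf_iff_of_subpairLE hM hns.2.1 hns.1 (Relation.ReflTransGen.single hns) B hB).mpr
      hQf
  have h1 := card_le_of_isBrauerPairOf hM B P e hmax _ _ hB₂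
  have h2 : Nat.card S₂
      ≤ Nat.card (Q ⊔ S₂.map (Subgroup.centralizer (Q : Set G)).subtype : Subgroup G) := by
    calc Nat.card S₂ = Nat.card (S₂.map (Subgroup.centralizer (Q : Set G)).subtype) :=
          (Subgroup.card_map_of_injective (Subgroup.subtype_injective _)).symm
      _ ≤ _ := Subgroup.card_le_of_le le_sup_right
  exact (Subgroup.eq_of_le_of_card_ge hSS₂ (by omega)).symm

theorem conjIdx_eq_self_of_mem_stabSubgroup (Q : Subgroup G)
    (f : Set (Cfsg.IrrCharacter (Subgroup.centralizer (Q : Set G)))) (x : G)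
    (hx : x ∈ stabSubgroup Q f) : conjIdx x ⟨Q, f⟩ = ⟨Q, f⟩ := by
  obtain ⟨hxN, hst⟩ := (mem_stabSubgroup Q f x).mp hx
  have h1 := conjIdx_normalizer Q ⟨x, hxN⟩ f
  obtain ⟨hu, hsub⟩ := (stabilizesBlock_iff _ f x).mp hst
  have himg := image_conjIrr_eq_of_stabilizes _ f x hu hsub
  rw [h1, himg]

theorem mem_stabSubgroup_of_conjIdx_eq_self (P : Subgroup G)
    (e : Set (Cfsg.IrrCharacter (Subgroup.centralizer (P : Set G)))) (x : G)
    (h : conjIdx x ⟨P, e⟩ = ⟨P, e⟩) : x ∈ stabSubgroup P e := by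
  have h1 : P.map (MulAut.conj x).toMonoidHom = P := congrArg Sigma.fst h
  have key : ∀ u, u ∈ P ↔ x⁻¹ * u * x ∈ P := by
    intro u
    conv_lhs => rw [← h1]
    exact mem_map_conj_iff P x u
  have hxN : x ∈ Subgroup.normalizer (P : Set G) := by
    rw [Subgroup.mem_normalizer_iff]
    intro n
    rw [key (x * n * x⁻¹)]
    have e1 : x⁻¹ * (x * n * x⁻¹) * x = n := by group
    rw [e1]
  have h2 := conjIdx_normalizer P ⟨x, hxN⟩ e
  rw [h] at h2
  have h3 : e = conjIrr (Subgroup.centralizer (P : Set G))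
      ⟨x, normalizer_le_normalizer_centralizer P hxN⟩ '' e :=
    eq_of_heq (Sigma.mk.inj_iff.mp h2).2
  rw [mem_stabSubgroup]
  refine ⟨hxN, ?_⟩
  rw [stabilizesBlock_iff]
  exact ⟨normalizer_le_normalizer_centralizer P hxN, by rw [← h3]⟩

/-- elements of `N_G(P, e)` normalizing `Q` lie in `N_G(Q, f)` for `(Q, f) ≤ (P, e)` -/
theorem mem_stabSubgroup_of_subpairLE (hM : Cfsg.IsPModular p M) (P Q : Subgroup G)
    (e : Set (Cfsg.IrrCharacter (Subgroup.centralizer (P : Set G))))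
    (f : Set (Cfsg.IrrCharacter (Subgroup.centralizer (Q : Set G))))
    (hPe : Cfsg.IsBrauerPair p M P e) (hQP : Q ≤ P) (hle : Cfsg.SubpairLE p M Q f P e)
    (y : G) (hy : y ∈ stabSubgroup P e) (hyQ : y ∈ Subgroup.normalizer (Q : Set G)) :
    y ∈ stabSubgroup Q f := by
  have h4 : Relation.ReflTransGen (Cfsg.NormalSubpairRel p M) (conjIdx y ⟨Q, f⟩)
      (conjIdx y ⟨P, e⟩) := subpairLE_conj y hle
  rw [conjIdx_eq_self_of_mem_stabSubgroup P e y hy, conjIdx_normalizer Q ⟨y, hyQ⟩ f] at h4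
  have h5 := subpairLE_unique hM P e hPe Q hQP f _ hle h4
  rw [mem_stabSubgroup]
  refine ⟨hyQ, ?_⟩
  rw [stabilizesBlock_iff]
  exact ⟨normalizer_le_normalizer_centralizer Q hyQ, by rw [← h5]⟩

/-- **For abelian `P`: `N_G(Q, f) ⊆ N_G(P, e) C_G(Q)`** for `(Q, f) ≤ (P, e)`, `(P, e)` maximal -/
theorem exists_mul_of_mem_stabSubgroup [Fact p.Prime] (hM : Cfsg.IsPModular p M)
    (B : Set (Cfsg.IrrCharacter G)) (P : Subgroup G)
    (e : Set (Cfsg.IrrCharacter (Subgroup.centralizer (P : Set G))))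
    (hmax : Cfsg.IsMaximalBrauerPair p M B P e) (hab : ∀ x ∈ P, ∀ y ∈ P, x * y = y * x)
    (Q : Subgroup G) (f : Set (Cfsg.IrrCharacter (Subgroup.centralizer (Q : Set G))))
    (hQP : Q ≤ P) (hf : Cfsg.IsPBlock M f) (hle : Cfsg.SubpairLE p M Q f P e)
    (x : G) (hx : x ∈ stabSubgroup Q f) :
    ∃ y ∈ stabSubgroup P e, ∃ c ∈ Subgroup.centralizer (Q : Set G), x = y * c := by
  classical
  haveI : Fintype (Subgroup.centralizer (Q : Set G)) := Fintype.ofFinite _
  have hPe := hmax.1.1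
  have hP := hPe.1
  have hB := hmax.1.2.1
  have hQ : IsPGroup p Q := hP.to_le hQP
  have hQf : Cfsg.IsBrauerPairOf p M B Q f :=
    (isBrauerPairOf_iff_of_subpairLE hM hPe ⟨hQ, hf⟩ hle B hB).mp hmax.1
  have hPC : P ≤ Subgroup.centralizer (Q : Set G) := by
    intro u hu
    rw [Subgroup.mem_centralizer_iff]
    intro q hq
    exact hab q (hQP hq) u hu
  have hPN : P ≤ Subgroup.normalizer (Q : Set G) :=
    hPC.trans (Subgroup.centralizer_le_normalizer _)
  have hns : Cfsg.IsNormalSubpair p M Q f P e := isNormalSubpair_of_subpairLE hM hPe hQP hPN hle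
  obtain ⟨a, ha1, hapair, halift⟩ := exists_liftIdx_eq Q P hQP hPC f e hns
  have hcardP : Nat.card a.1 = Nat.card P := by
    rw [ha1]
    exact Nat.card_congr (Subgroup.subgroupOfEquivOfLe hPC).toEquiv
  have hamax : Cfsg.IsMaximalBrauerPair p M f a.1 a.2 :=
    isMaximalBrauerPair_of_card_le hM B P e hmax Q f hQf a hapair (le_of_eq hcardP.symm)
  -- the conjugate pair
  have hxN : x ∈ Subgroup.normalizer (Q : Set G) := ((mem_stabSubgroup Q f x).mp hx).1
  have hnsx := isNormalSubpair_conj x hns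
  have hQx := conjIdx_eq_self_of_mem_stabSubgroup Q f x hx
  have hnsx' : Cfsg.IsNormalSubpair p M Q f (P.map (MulAut.conj x).toMonoidHom)
      (Cfsg.conjBlock P x e) := by
    have h1 : Cfsg.IsNormalSubpair p M (conjIdx x ⟨Q, f⟩).1 (conjIdx x ⟨Q, f⟩).2
        (P.map (MulAut.conj x).toMonoidHom) (Cfsg.conjBlock P x e) := hnsx
    rw [hQx] at h1
    exact h1
  have hQPx : Q ≤ P.map (MulAut.conj x).toMonoidHom := hnsx'.2.2.1
  have hPxC : P.map (MulAut.conj x).toMonoidHom ≤ Subgroup.centralizer (Q : Set G) := by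
    rintro _ ⟨u, hu, rfl⟩
    rw [Subgroup.mem_centralizer_iff]
    intro q hq
    obtain ⟨v, hv, rfl⟩ := hQPx hq
    rw [← map_mul, ← map_mul, hab v hv u hu]
  obtain ⟨ax, hax1, haxpair, haxlift⟩ :=
    exists_liftIdx_eq Q (P.map (MulAut.conj x).toMonoidHom) hQPx hPxC f (Cfsg.conjBlock P x e) hnsx'
  obtain ⟨c, hc⟩ := exists_conj_subpairLE hM f a.1 ax.1 a.2 ax.2 hamax haxpair
  have hcard : Nat.card ax.1 = Nat.card a.1 := by
    rw [hcardP, hax1, Nat.card_congr (Subgroup.subgroupOfEquivOfLe hPxC).toEquiv,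
      Subgroup.card_map_of_injective (MulAut.conj x).injective]
  have heq : conjIdx c ax = a := by
    apply eq_of_reflTransGen_of_fst_eq hM hc
    apply Subgroup.eq_of_le_of_card_ge (le_of_reflTransGen hc)
    show Nat.card a.1 ≤ Nat.card (ax.1.map (MulAut.conj c).toMonoidHom)
    rw [Subgroup.card_map_of_injective (MulAut.conj c).injective, hcard]
  have h1 : conjIdx (c : G) (conjIdx x ⟨P, e⟩) = ⟨P, e⟩ := by
    have h2 : conjIdx x ⟨P, e⟩ = liftIdx Q ax := haxlift.symm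
    rw [h2, conjIdx_liftIdx, heq, halift]
  rw [conjIdx_mul] at h1
  have hy := mem_stabSubgroup_of_conjIdx_eq_self P e _ h1
  refine ⟨(c : G) * x, hy, x⁻¹ * (c : G)⁻¹ * x, ?_, by group⟩
  have hxNC := normalizer_le_normalizer_centralizer Q hxN
  rw [Subgroup.mem_normalizer_iff] at hxNC
  rw [hxNC (x⁻¹ * (c : G)⁻¹ * x)]
  have e1 : x * (x⁻¹ * (c : G)⁻¹ * x) * x⁻¹ = (c : G)⁻¹ := by group
  rw [e1]
  exact Subgroup.inv_mem _ c.2

end LiftIdx

end Cfsg.Agent.Lib.Helper24
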