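import Mathlib
import Cfsg.Prelude.Def_Blocks
import Cfsg.Prelude.Def_BlockLocal
import Cfsg.Prelude.Def_BrauerPairs
import Cfsg.Agent.Lib.Helper24.ConjIrr
import Cfsg.Agent.Lib.Helper24.IdemBlocks
import Cfsg.Agent.Lib.Helper24.BrauerGood
import Cfsg.Agent.Lib.Helper24.Defect
import Cfsg.Agent.Lib.Helper7.Covering
import Cfsg.Agent.Lib.Helper7.DefectClass
import Cfsg.Agent.Lib.Helper7.CliffordCentral

/-!
# Stable blocks of a normal subgroup (helper24 library)

For `N` normal in `G` and a block `c` of `N` stable under `G`: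
* `stable_iff_conjIrr`: stability in terms of helper7's `conjIrr`;
* `centralChar_conj_sub_memLocalIdeal`: central characters of members of `c` are congruent on
  `G`-conjugate elements of `N`;
* `inducedCentralChar_sub_of_stable`: the induced central character at `g ∈ N` is congruent to
  `t * ω_θ(g)`, `t` the number of `N`-classes in the `G`-class of `g`.
-/

set_option autoImplicit false

namespace Cfsg.Agent.Lib.Helper24

open Cfsg.Agent.Lib.Helper2 Cfsg.Agent.Lib.Helper7
open scoped ComplexConjugate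

section StableCover

variable {G : Type*} [Group G] [Fintype G] {p : ℕ} {M : Ideal Cfsg.AlgInt}
  (N : Subgroup G) [hN : N.Normal] [Fintype N]

/-- stability under all of `G`, in terms of helper7's conjugation of irreducible characters -/
theorem stable_iff_conjIrr (c : Set (Cfsg.IrrCharacter N))
    (hst : ∀ x : G, Cfsg.StabilizesBlock N c x) (y : G) (ψ : Cfsg.IrrCharacter N) :
    Cfsg.Agent.Lib.Helper7.conjIrr N y ψ ∈ c ↔ ψ ∈ c := by
  have key : ∀ (y : G) (ψ : Cfsg.IrrCharacter N), ψ ∈ c →
      Cfsg.Agent.Lib.Helper7.conjIrr N y ψ ∈ c := by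
    intro y ψ hψ
    obtain ⟨_, h⟩ := hst y⁻¹
    obtain ⟨χ', hχ', hconj⟩ := h ψ hψ
    have : χ' = Cfsg.Agent.Lib.Helper7.conjIrr N y ψ := by
      apply Subtype.ext
      funext k'
      show (χ' : N → ℂ) k' = conjFun N y (ψ : N → ℂ) k'
      rw [conjFun_apply]
      apply hconj
      simp only [inv_inv]
      group
    rw [← this]
    exact hχ'
  constructor
  · intro h
    have h2 := key y⁻¹ _ h
    rw [← Cfsg.Agent.Lib.Helper7.conjIrr_mul, mul_inv_cancel,
      Cfsg.Agent.Lib.Helper7.conjIrr_one] at h2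
    exact h2
  · exact key y ψ

/-- central characters of members of a stable block are congruent on conjugate elements -/
theorem centralChar_conj_sub_memLocalIdeal (hM : Cfsg.IsPModular p M)
    (c : Set (Cfsg.IrrCharacter N)) (hc : Cfsg.IsPBlock M c)
    (hst : ∀ x : G, Cfsg.StabilizesBlock N c x) (θ : Cfsg.IrrCharacter N) (hθ : θ ∈ c)
    (x : G) (n : N) :
    Cfsg.MemLocalIdeal M (Cfsg.centralChar (θ : N → ℂ) (MulAut.conjNormal (H := N) x n)
      - Cfsg.centralChar (θ : N → ℂ) n) := by
  have h1 : Cfsg.Agent.Lib.Helper7.conjIrr N x θ ∈ c := (stable_iff_conjIrr N c hst x θ).mpr hθ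
  have h2 := sameBlock_of_mem_block hM hc h1 hθ n
  have h3 : Cfsg.centralChar ((Cfsg.Agent.Lib.Helper7.conjIrr N x θ : Cfsg.IrrCharacter N) : N → ℂ) n
      = Cfsg.centralChar (θ : N → ℂ) (MulAut.conjNormal (H := N) x n) :=
    centralChar_conjFun N (θ : N → ℂ) x n
  rw [h3] at h2
  exact h2

/-- the centralizer in `N` of `g ∈ N` is the centralizer in `G` intersected with `N` -/
theorem centralizer_subtype_eq (g : N) :
    Subgroup.centralizer ({g} : Set N)
      = (Subgroup.centralizer ({(g : G)} : Set G)).subgroupOf N := by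
  ext n
  rw [Subgroup.mem_subgroupOf, Subgroup.mem_centralizer_iff, Subgroup.mem_centralizer_iff]
  constructor
  · intro h y hy
    rw [Set.mem_singleton_iff] at hy
    subst hy
    have := h g (Set.mem_singleton g)
    exact congrArg Subtype.val this
  · intro h y hy
    rw [Set.mem_singleton_iff] at hy
    subst hy
    apply Subtype.ext
    exact h (y : G) (Set.mem_singleton _)

/-- index bookkeeping: `[G : C_G(g)] * [C_G(g) : C_N(g)] = [N : C_N(g)] * [G : N]` -/
theorem index_centralizer_mul_relIndex (g : N) :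
    (Subgroup.centralizer ({(g : G)} : Set G)).index
        * N.relIndex (Subgroup.centralizer ({(g : G)} : Set G))
      = (Subgroup.centralizer ({g} : Set N)).index * N.index := by
  have h1 := Subgroup.relIndex_mul_index
    (inf_le_right : N ⊓ Subgroup.centralizer ({(g : G)} : Set G)
      ≤ Subgroup.centralizer ({(g : G)} : Set G))
  have h2 := Subgroup.relIndex_mul_index
    (inf_le_left : N ⊓ Subgroup.centralizer ({(g : G)} : Set G) ≤ N)
  rw [Subgroup.inf_relIndex_right] at h1
  rw [inf_comm, Subgroup.inf_relIndex_right] at h2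
  have h3 : (Subgroup.centralizer ({(g : G)} : Set G)).relIndex N
      = (Subgroup.centralizer ({g} : Set N)).index := by
    rw [centralizer_subtype_eq]
    rfl
  rw [h3, inf_comm] at h2
  rw [mul_comm, h1, h2]

/-- the number of elements of `N` that are `G`-conjugate to `g ∈ N` is the class size of `g` -/
theorem card_conj_in_normal (g : N) :
    Nat.card {n : N // IsConj (g : G) (n : G)}
      = (Subgroup.centralizer ({(g : G)} : Set G)).index := by
  rw [index_centralizer_eq_card_conj]
  apply Nat.card_congr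
  refine
    { toFun := fun n => ⟨(n.1 : G), n.2⟩
      invFun := fun y => ⟨⟨y.1, ?_⟩, y.2⟩
      left_inv := fun n => rfl
      right_inv := fun y => rfl }
  obtain ⟨x, hx⟩ := isConj_iff.mp y.2
  rw [← hx]
  exact hN.conj_mem _ g.2 x

/-- **Induced central characters of a stable block**: for `θ` in a `G`-stable block `c` of the
normal subgroup `N` and `g ∈ N`, the induced central character of `θ` at `g` is congruent to
`t * ω_θ(g)`, where `t = [G : N] / [C_G(g) : C_N(g)]` is the number of `N`-classes in the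
`G`-class of `g`. -/
theorem inducedCentralChar_sub_of_stable (hM : Cfsg.IsPModular p M)
    (c : Set (Cfsg.IrrCharacter N)) (hc : Cfsg.IsPBlock M c)
    (hst : ∀ x : G, Cfsg.StabilizesBlock N c x) (θ : Cfsg.IrrCharacter N) (hθ : θ ∈ c) (g : N) :
    ∃ t : ℕ, t * N.relIndex (Subgroup.centralizer ({(g : G)} : Set G)) = N.index ∧
      Cfsg.MemLocalIdeal M (Cfsg.inducedCentralChar N (θ : N → ℂ) (g : G)
        - (t : ℂ) * Cfsg.centralChar (θ : N → ℂ) g) := by
  classical
  obtain ⟨t, ht⟩ : N.relIndex (Subgroup.centralizer ({(g : G)} : Set G)) ∣ N.index :=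
    Subgroup.relIndex_dvd_index_of_normal N _
  refine ⟨t, by rw [mul_comm]; exact ht.symm, ?_⟩
  set w := Cfsg.centralChar (θ : N → ℂ) g with hw
  set r := N.relIndex (Subgroup.centralizer ({(g : G)} : Set G)) with hr
  have hr0 : r ≠ 0 := by
    intro h0
    rw [h0, zero_mul] at ht
    exact Subgroup.index_ne_zero_of_finite ht
  -- [G : C_G(g)] = t * [N : C_N(g)]
  have hidx : (Subgroup.centralizer ({(g : G)} : Set G)).index
      = t * (Subgroup.centralizer ({g} : Set N)).index := by
    have h1 := index_centralizer_mul_relIndex N g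
    rw [ht, ← hr] at h1
    have h2 : (Subgroup.centralizer ({(g : G)} : Set G)).index * r
        = (t * (Subgroup.centralizer ({g} : Set N)).index) * r := by
      rw [h1]; ring
    exact Nat.eq_of_mul_eq_mul_right (Nat.pos_of_ne_zero hr0) h2
  -- conjugates of g in N
  have hconj : ∀ n : N, IsConj (g : G) (n : G) →
      ∃ x : G, n = MulAut.conjNormal (H := N) x g := by
    intro n hn
    obtain ⟨x, hx⟩ := isConj_iff.mp hn
    refine ⟨x, ?_⟩
    apply Subtype.ext
    rw [MulAut.conjNormal_apply]
    exact hx.symm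
  rw [inducedCentralChar_eq_omega, omega_eq_sum]
  -- split the sum
  have hsplit : ∑ n : N, (classIndicatorOn N (g : G) n * Cfsg.centralChar (θ : N → ℂ) n)
        * ((Subgroup.centralizer ({n} : Set N)).index : ℂ)⁻¹ - (t : ℂ) * w
      = ∑ n : N, (classIndicatorOn N (g : G) n * (Cfsg.centralChar (θ : N → ℂ) n - w))
        * ((Subgroup.centralizer ({n} : Set N)).index : ℂ)⁻¹ := by
    have h1 : ∑ n : N, (classIndicatorOn N (g : G) n * w)
        * ((Subgroup.centralizer ({n} : Set N)).index : ℂ)⁻¹ = (t : ℂ) * w := by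
      have h2 : ∀ n : N, (classIndicatorOn N (g : G) n * w)
          * ((Subgroup.centralizer ({n} : Set N)).index : ℂ)⁻¹
          = if IsConj (g : G) (n : G) then
              w * ((Subgroup.centralizer ({g} : Set N)).index : ℂ)⁻¹ else 0 := by
        intro n
        unfold classIndicatorOn classIndicator
        by_cases hn : IsConj (g : G) (n : G)
        · rw [if_pos hn, if_pos hn, one_mul]
          obtain ⟨x, rfl⟩ := hconj n hn
          rw [index_centralizer_mulEquiv (MulAut.conjNormal (H := N) x) g]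
        · rw [if_neg hn, if_neg hn, zero_mul, zero_mul]
      rw [Finset.sum_congr rfl (fun n _ => h2 n), ← Finset.sum_filter, Finset.sum_const,
        nsmul_eq_mul]
      have h3 : (Finset.univ.filter (fun n : N => IsConj (g : G) (n : G))).card
          = (Subgroup.centralizer ({(g : G)} : Set G)).index := by
        rw [← card_conj_in_normal N g, Nat.card_eq_fintype_card, Fintype.card_subtype]
      rw [h3, hidx]
      have h4 : ((Subgroup.centralizer ({g} : Set N)).index : ℂ) ≠ 0 :=
        index_centralizer_ne_zero g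
      push_cast
      field_simp
    rw [← h1, ← Finset.sum_sub_distrib]
    apply Finset.sum_congr rfl
    intro n _
    ring
  rw [hsplit]
  apply sum_mul_inv_index_mem (MlocC hM)
  · intro n x
    simp only
    rw [classIndicatorOn_isClassFunction N (g : G) n x,
      centralChar_isClassFunction _ (IrrCharacter.isClassFunction θ) n x]
  · intro n
    show Cfsg.MemLocalIdeal M _
    unfold classIndicatorOn classIndicator
    by_cases hn : IsConj (g : G) (n : G)
    · rw [if_pos hn, one_mul]
      obtain ⟨x, rfl⟩ := hconj n hn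
      exact centralChar_conj_sub_memLocalIdeal N hM c hc hst θ hθ x g
    · rw [if_neg hn, zero_mul]
      exact memLocalIdeal_zero hM

/-- an element outside a normal subgroup of `p`-power index is `p`-singular -/
theorem dvd_orderOf_of_notMem [Fact p.Prime] (hidx : ∃ k : ℕ, N.index = p ^ k) (g : G)
    (hg : g ∉ N) : p ∣ orderOf g := by
  obtain ⟨k, hk⟩ := hidx
  have h1 : orderOf (g : G ⧸ N) ∣ orderOf g := orderOf_dvd_of_pow_eq_one (by
    rw [← QuotientGroup.mk_pow, pow_orderOf_eq_one]; rfl)
  have h2 : orderOf (g : G ⧸ N) ∣ p ^ k := by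
    rw [← hk, Subgroup.index_eq_card]
    exact orderOf_dvd_natCard _
  obtain ⟨j, _, hj⟩ := (Nat.dvd_prime_pow Fact.out).mp h2
  have hj0 : j ≠ 0 := by
    rintro rfl
    rw [pow_zero, orderOf_eq_one_iff, QuotientGroup.eq_one_iff] at hj
    exact hg hj
  have : p ∣ orderOf (g : G ⧸ N) := by
    rw [hj]
    exact dvd_pow_self p hj0
  exact dvd_trans this h1

/-- `subgroupBlockCoeff` is helper7's `coverFn` -/
theorem subgroupBlockCoeff_eq_coverFn (c : Set (Cfsg.IrrCharacter N)) :
    Cfsg.subgroupBlockCoeff N c = coverFn N c := by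
  rw [subgroupBlockCoeff_eq_extZ]
  rfl

/-- **A stable block of a normal subgroup of `p`-power index is a block of the group**: its
idempotent, extended by zero, is a block idempotent of `G`. -/
theorem exists_block_of_stable [Fact p.Prime] (hM : Cfsg.IsPModular p M)
    (hidx : ∃ k : ℕ, N.index = p ^ k)
    (c : Set (Cfsg.IrrCharacter N)) (hc : Cfsg.IsPBlock M c)
    (hst : ∀ x : G, Cfsg.StabilizesBlock N c x) :
    ∃ B : Set (Cfsg.IrrCharacter G), Cfsg.IsPBlock M B ∧
      ∀ g : G, Cfsg.blockCoeff B g = Cfsg.subgroupBlockCoeff N c g := by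
  classical
  set a : G → ℂ := Cfsg.subgroupBlockCoeff N c with ha
  have haext : a = Cfsg.extendByZero N (Cfsg.blockCoeff c) := subgroupBlockCoeff_eq_extZ N c
  have hacov : a = coverFn N c := subgroupBlockCoeff_eq_coverFn N c
  have hU := stable_iff_conjIrr N c hst
  have hac : Cfsg.IsClassFunction G a := by
    rw [hacov]; exact coverFn_isClassFunction N c hU
  have haR : ∀ g, Cfsg.MemLocalRing M (a g) := by
    intro g
    rw [haext]
    exact extZ_memLocalRing hM N _ (blockCoeff_memLocalRing hM c hc) g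
  have hid : conv a a = a := by
    rw [haext, conv_extZ, conv_blockCoeff_self]
  have haS := eq_blockCoeff_idemSet a hac hid
  -- a member of the idempotent set
  obtain ⟨θ, hθ⟩ := isPBlock_nonempty hM hc
  obtain ⟨χ, hχθ⟩ := exists_irr_over N θ
  have hχS : χ ∈ idemSet a := by
    show omega χ.1 a = 1
    rw [hacov, omega_coverFn N c hU χ θ hχθ, if_pos hθ]
  refine ⟨Cfsg.blockOf M (χ : G → ℂ), ⟨χ, rfl⟩, ?_⟩
  set B := Cfsg.blockOf M (χ : G → ℂ) with hB
  have hBblock : Cfsg.IsPBlock M B := ⟨χ, rfl⟩
  have hBS : B ⊆ idemSet a := by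
    apply blockOf_subset_of_memLocalRing hM (idemSet a) _ χ hχS
    intro g
    rw [← haS]
    exact haR g
  set b' := Cfsg.blockCoeff B with hb'
  have hconv : conv b' a = b' := by
    rw [hb']
    conv_lhs => rw [haS]
    rw [conv_blockCoeff_blockCoeff, Set.inter_eq_left.mpr hBS]
  have hsupp : ∀ g : G, g ∉ N → b' g = 0 := by
    intro g hg
    exact blockCoeff_eq_zero_of_singular hM B hBblock g (dvd_orderOf_of_notMem N hidx g hg)
  set r : N → ℂ := restrictTo N b' with hr
  have hb'ext : b' = Cfsg.extendByZero N r := by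
    ext g
    by_cases hg : g ∈ N
    · rw [extendByZero_apply_mem N _ hg]; rfl
    · rw [extendByZero_apply_not_mem N _ hg, hsupp g hg]
  have hb'id : conv b' b' = b' := conv_blockCoeff_self B
  have hrid : conv r r = r := by
    have h1 : Cfsg.extendByZero N (conv r r) = Cfsg.extendByZero N r := by
      rw [← conv_extZ, ← hb'ext, hb'id]
    have h2 := congrArg (restrictTo N) h1
    rwa [restrictTo_self_extZ, restrictTo_self_extZ] at h2
  have hrc : conv r (Cfsg.blockCoeff c) = r := by
    have h1 : Cfsg.extendByZero N (conv r (Cfsg.blockCoeff c)) = Cfsg.extendByZero N r := by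
      rw [← conv_extZ, ← hb'ext, ← haext, hconv]
    have h2 := congrArg (restrictTo N) h1
    rwa [restrictTo_self_extZ, restrictTo_self_extZ] at h2
  have hrne : r ≠ 0 := by
    intro h0
    have h1 : b' = 0 := by rw [hb'ext, h0, extZ_zero]
    have h2 : omega χ.1 b' = 1 := by
      rw [hb', omega_blockCoeff, if_pos (mem_blockOf_self hM χ)]
    rw [h1, omega_zero] at h2
    exact zero_ne_one h2
  have hrcf : Cfsg.IsClassFunction N r :=
    restrictTo_isClassFunction N b' (blockCoeff_isClassFunction B)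
  have hrR : ∀ n, Cfsg.MemLocalRing M (r n) := fun n => blockCoeff_memLocalRing hM B hBblock _
  have hreq := eq_blockCoeff_of_idem_of_conv hM r hrcf hrR hrid hrne c hc hrc
  intro g
  show b' g = a g
  rw [hb'ext, haext, hreq]

/-- **Defect classes of a stable block**: if the block `B` of `G` has the idempotent of the
`G`-stable block `c` of the normal subgroup `N` of `p`-power index, then every defect class `g` of
`B` lies in `N`, is a defect class of `c`, and `[C_G(g) : C_N(g)] = [G : N]`. -/
theorem isDefectClass_of_stable [Fact p.Prime] (hM : Cfsg.IsPModular p M)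
    (hidx : ∃ k : ℕ, N.index = p ^ k)
    (c : Set (Cfsg.IrrCharacter N)) (hc : Cfsg.IsPBlock M c)
    (hst : ∀ x : G, Cfsg.StabilizesBlock N c x)
    (B : Set (Cfsg.IrrCharacter G)) (hB : Cfsg.IsPBlock M B)
    (hBc : ∀ g : G, Cfsg.blockCoeff B g = Cfsg.subgroupBlockCoeff N c g)
    (g : G) (hg : Cfsg.IsDefectClass M B g) :
    ∃ hgN : g ∈ N, Cfsg.IsDefectClass M c ⟨g, hgN⟩ ∧
      N.relIndex (Subgroup.centralizer ({g} : Set G)) = N.index := by
  classical
  obtain ⟨hgR, hgI, hgω⟩ := hg
  have hgN : g ∈ N := by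
    by_contra hcon
    apply hgI
    rw [hBc, subgroupBlockCoeff_eq_extZ, extendByZero_apply_not_mem N _ hcon]
    exact memLocalIdeal_zero hM
  refine ⟨hgN, ?_⟩
  have hβ : Cfsg.blockCoeff c ⟨g, hgN⟩ = Cfsg.blockCoeff B g := by
    rw [hBc, subgroupBlockCoeff_eq_extZ, extendByZero_apply_mem N _ hgN]
  obtain ⟨χ, hχ⟩ := isPBlock_nonempty hM hB
  obtain ⟨θ, hχθ⟩ := exists_constituent_restrict N χ
  have hU := stable_iff_conjIrr N c hst
  have hθc : θ ∈ c := by
    by_contra hcon
    have h1 : omega χ.1 (Cfsg.blockCoeff B) = 1 := by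
      rw [omega_blockCoeff, if_pos hχ]
    have h2 : Cfsg.blockCoeff B = coverFn N c := by
      funext x
      rw [hBc, subgroupBlockCoeff_eq_coverFn]
    rw [h2, omega_coverFn N c hU χ θ hχθ, if_neg hcon] at h1
    exact zero_ne_one h1
  have hcc := centralChar_eq_inducedCentralChar_of_constituent N χ θ hχθ ⟨g, hgN⟩
  obtain ⟨t, ht, hcong⟩ := inducedCentralChar_sub_of_stable N hM c hc hst θ hθc ⟨g, hgN⟩
  have hχω := hgω χ hχ
  simp only at hcc hcong ht
  rw [hcc] at hχω
  set w := Cfsg.centralChar (θ : N → ℂ) ⟨g, hgN⟩ with hw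
  have hwR : Cfsg.MemLocalRing M w := centralChar_memLocalRing hM θ _
  -- t * w is not in the local ideal
  have htw : ¬ Cfsg.MemLocalIdeal M ((t : ℂ) * w) := by
    intro h
    apply hχω
    have := memLocalIdeal_add hM hcong h
    rwa [sub_add_cancel] at this
  have htp : ¬ p ∣ t := by
    intro h
    apply htw
    exact memLocalIdeal_mul_right hM ((memLocalIdeal_natCast_iff hM t).mpr h) hwR
  have hwI : ¬ Cfsg.MemLocalIdeal M w := by
    intro h
    apply htw
    exact memLocalIdeal_mul_left hM (memLocalRing_natCast hM t) h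
  obtain ⟨k, hk⟩ := hidx
  have ht1 : t = 1 := by
    have hdvd : t ∣ p ^ k := by
      rw [← hk, ← ht]
      exact dvd_mul_right _ _
    obtain ⟨j, _, hj⟩ := (Nat.dvd_prime_pow Fact.out).mp hdvd
    rcases Nat.eq_zero_or_pos j with h0 | hpos
    · rw [hj, h0, pow_zero]
    · exfalso
      apply htp
      rw [hj]
      exact dvd_pow_self p (Nat.pos_iff_ne_zero.mp hpos)
  rw [ht1, one_mul] at ht
  refine ⟨⟨?_, ?_, ?_⟩, ht⟩
  · rw [hβ]; exact hgR
  · rw [hβ]; exact hgI
  · intro θ' hθ' hcon
    apply hwI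
    have h1 := sameBlock_of_mem_block hM hc hθc hθ' ⟨g, hgN⟩
    have := memLocalIdeal_add hM h1 hcon
    rwa [sub_add_cancel] at this

end StableCover

section GroupTheory

/-- If `N` is normal of index `p ^ k`, `[C : C ∩ N] = [G : N]` and `P ≤ C` has the order of a
Sylow `p`-subgroup of `C`, then `N P = G` and `P ∩ N` has the order of a Sylow `p`-subgroup of
`C ∩ N`. -/
theorem sup_eq_top_and_card_inf {G : Type*} [Group G] [Finite G] (p : ℕ) [Fact p.Prime]
    (N : Subgroup G) [N.Normal] (k : ℕ) (hk : N.index = p ^ k) (C : Subgroup G)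
    (hC : N.relIndex C = N.index) (P : Subgroup G) (hPC : P ≤ C)
    (hPcard : Nat.card P = p ^ (Nat.card C).factorization p) :
    N ⊔ P = ⊤ ∧ Nat.card (P ⊓ N : Subgroup G) = p ^ (Nat.card (C ⊓ N : Subgroup G)).factorization p := by
  have hp : p.Prime := Fact.out
  -- |C| = |C ⊓ N| * p^k
  have h1 : Nat.card (C ⊓ N : Subgroup G) * p ^ k = Nat.card C := by
    have := Subgroup.relIndex_mul_relIndex (⊥ : Subgroup G) (C ⊓ N) C bot_le inf_le_left
    rw [Subgroup.relIndex_bot_left, Subgroup.relIndex_bot_left, Subgroup.inf_relIndex_left, hC,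
      hk] at this
    exact this
  -- |P| = |P ⊓ N| * j'
  have h2 : Nat.card (P ⊓ N : Subgroup G) * N.relIndex P = Nat.card P := by
    have := Subgroup.relIndex_mul_relIndex (⊥ : Subgroup G) (P ⊓ N) P bot_le inf_le_left
    rw [Subgroup.relIndex_bot_left, Subgroup.relIndex_bot_left, Subgroup.inf_relIndex_left] at this
    exact this
  have h3 : N.relIndex P ∣ p ^ k := by
    rw [← hk]; exact Subgroup.relIndex_dvd_index_of_normal N P
  obtain ⟨j, hjk, hj⟩ := (Nat.dvd_prime_pow hp).mp h3
  -- |P ⊓ N| is a power of p dividing |C ⊓ N|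
  have h4 : Nat.card (P ⊓ N : Subgroup G) ∣ Nat.card P := Subgroup.card_dvd_of_le inf_le_left
  rw [hPcard] at h4
  obtain ⟨i, _, hi⟩ := (Nat.dvd_prime_pow hp).mp h4
  have h5 : Nat.card (P ⊓ N : Subgroup G) ∣ Nat.card (C ⊓ N : Subgroup G) :=
    Subgroup.card_dvd_of_le (inf_le_inf_right N hPC)
  have hCN0 : Nat.card (C ⊓ N : Subgroup G) ≠ 0 := Nat.card_pos.ne'
  set ν := (Nat.card (C ⊓ N : Subgroup G)).factorization p with hν
  have hiν : i ≤ ν := by
    rw [hi] at h5
    exact (hp.pow_dvd_iff_le_factorization hCN0).mp h5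
  -- factorization of |C|
  have h6 : (Nat.card C).factorization p = ν + k := by
    rw [← h1, Nat.factorization_mul hCN0 (pow_ne_zero k hp.ne_zero), Finsupp.add_apply,
      Nat.factorization_pow, Finsupp.smul_apply, hp.factorization_self, smul_eq_mul, mul_one]
  -- compare exponents
  have h7 : p ^ (i + j) = p ^ (ν + k) := by
    rw [pow_add, ← hi, ← hj, h2, hPcard, h6]
  have h8 : i + j = ν + k := Nat.pow_right_injective hp.two_le h7
  have hiν' : i = ν := by omega
  have hjk' : j = k := by omega
  refine ⟨?_, by rw [hi, hiν']⟩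
  -- N ⊔ P = ⊤
  have h9 := Subgroup.relIndex_mul_index (le_sup_left : N ≤ N ⊔ P)
  rw [Subgroup.relIndex_sup_left, hj, hjk', hk] at h9
  have h10 : (N ⊔ P).index = 1 := by
    have hpos : 0 < p ^ k := pow_pos hp.pos k
    exact Nat.eq_of_mul_eq_mul_left hpos (by rw [h9, mul_one])
  exact Subgroup.index_eq_one.mp h10

end GroupTheory

section StableDefect

variable {G : Type*} [Group G] [Fintype G] {p : ℕ} {M : Ideal Cfsg.AlgInt}
  (N : Subgroup G) [hN : N.Normal] [Fintype N]

/-- **Defect groups of a stable block** (second half of the stable block theorem): with `G/N` a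
`p`-group, `c` a `G`-stable block of `N` and `B` the block of `G` with the same idempotent, every
defect group `P` of `B` satisfies `N P = G`, and `P ∩ N` is a defect group of `c`. -/
theorem isDefectGroup_of_stable [Fact p.Prime] (hM : Cfsg.IsPModular p M)
    (hidx : ∃ k : ℕ, N.index = p ^ k)
    (c : Set (Cfsg.IrrCharacter N)) (hc : Cfsg.IsPBlock M c)
    (hst : ∀ x : G, Cfsg.StabilizesBlock N c x)
    (B : Set (Cfsg.IrrCharacter G)) (hB : Cfsg.IsPBlock M B)
    (hBc : ∀ g : G, Cfsg.blockCoeff B g = Cfsg.subgroupBlockCoeff N c g)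
    (P : Subgroup G) (hP : Cfsg.IsDefectGroup p M B P) :
    N ⊔ P = ⊤ ∧ Cfsg.IsDefectGroup p M c ((P ⊓ N).subgroupOf N) := by
  classical
  obtain ⟨g, hg, Sy, hPeq⟩ := hP
  obtain ⟨hgN, hgc, hrel⟩ := isDefectClass_of_stable N hM hidx c hc hst B hB hBc g hg
  obtain ⟨k, hk⟩ := hidx
  have hPC : P ≤ Subgroup.centralizer ({g} : Set G) := by
    rw [hPeq]
    intro x hx
    obtain ⟨y, _, rfl⟩ := hx
    exact y.2
  have hPcard : Nat.card P = p ^ (Nat.card (Subgroup.centralizer ({g} : Set G))).factorization p := by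
    rw [hPeq, Subgroup.card_subtype]
    exact Sy.card_eq_multiplicity
  obtain ⟨hsup, hcard⟩ := sup_eq_top_and_card_inf p N k hk (Subgroup.centralizer ({g} : Set G))
    hrel P hPC hPcard
  refine ⟨hsup, ⟨g, hgN⟩, hgc, ?_⟩
  -- the Sylow subgroup of the centralizer in N
  have hCNeq : Subgroup.centralizer ({(⟨g, hgN⟩ : N)} : Set N)
      = (Subgroup.centralizer ({g} : Set G)).subgroupOf N := centralizer_subtype_eq N ⟨g, hgN⟩
  have hQCN : (P ⊓ N).subgroupOf N ≤ Subgroup.centralizer ({(⟨g, hgN⟩ : N)} : Set N) := by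
    rw [hCNeq]
    intro n hn
    rw [Subgroup.mem_subgroupOf] at hn
    rw [Subgroup.mem_subgroupOf]
    exact hPC hn.1
  -- cardinalities
  have hcardQ : Nat.card ((P ⊓ N).subgroupOf N) = Nat.card (P ⊓ N : Subgroup G) :=
    Nat.card_congr (Subgroup.subgroupOfEquivOfLe (inf_le_right : P ⊓ N ≤ N)).toEquiv
  have hcardCN : Nat.card (Subgroup.centralizer ({(⟨g, hgN⟩ : N)} : Set N))
      = Nat.card (Subgroup.centralizer ({g} : Set G) ⊓ N : Subgroup G) := by
    rw [hCNeq, ← Subgroup.inf_subgroupOf_right]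
    exact Nat.card_congr (Subgroup.subgroupOfEquivOfLe
      (inf_le_right : Subgroup.centralizer ({g} : Set G) ⊓ N ≤ N)).toEquiv
  have hcardQ' : Nat.card (((P ⊓ N).subgroupOf N).subgroupOf
        (Subgroup.centralizer ({(⟨g, hgN⟩ : N)} : Set N)))
      = p ^ (Nat.card (Subgroup.centralizer ({(⟨g, hgN⟩ : N)} : Set N))).factorization p := by
    rw [Nat.card_congr (Subgroup.subgroupOfEquivOfLe hQCN).toEquiv, hcardQ, hcardCN, hcard]
  refine ⟨Sylow.ofCard _ hcardQ', ?_⟩
  rw [Sylow.coe_ofCard, Subgroup.map_subgroupOf_eq_of_le hQCN]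

end StableDefect

end Cfsg.Agent.Lib.Helper24
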