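import Mathlib
import Cfsg.Prelude.Def_Blocks
import Cfsg.Prelude.Def_BlockLocal
import Cfsg.Prelude.Def_BrauerPairs
import Cfsg.Agent.Lib.Helper24.PairTools
import Cfsg.Agent.Lib.Helper24.StabPairs
import Cfsg.Agent.Lib.Helper24.OverNormalizer
import Cfsg.Agent.Lib.Helper24.StableCover
import Cfsg.Agent.Lib.Helper24.AbelianPairs
import Cfsg.Agent.Lib.Helper13.Cores
import Cfsg.Agent.S0912
import Cfsg.Agent.S4682

/-!
# The inertial quotient of a maximal Brauer pair is a `p'`-group (helper24 library)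

* `le_sup_centralizer_of_isMaximalBrauerPair`: for a maximal Brauer pair `(P, e)` of `B`, every
  `p`-subgroup `R` with `P ≤ R ≤ N_G(P, e)` lies in `P C_G(P)`.
-/

set_option autoImplicit false

namespace Cfsg.Agent.Lib.Helper24

open Cfsg.Agent.Lib.Helper2 Cfsg.Agent.Lib.Helper7
open scoped ComplexConjugate

section Inertial

variable {G : Type*} [Group G] [Fintype G] {p : ℕ} {M : Ideal Cfsg.AlgInt}

/-- for a maximal Brauer pair `(P, e)` of `B`, every `p`-subgroup `R` with
`P ≤ R ≤ N_G(P, e)` lies in `P C_G(P)` -/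
theorem le_sup_centralizer_of_isMaximalBrauerPair [Fact p.Prime] (hM : Cfsg.IsPModular p M)
    (B : Set (Cfsg.IrrCharacter G)) (P : Subgroup G)
    (e : Set (Cfsg.IrrCharacter (Subgroup.centralizer (P : Set G))))
    (hmax : Cfsg.IsMaximalBrauerPair p M B P e) (R : Subgroup G) (hR : IsPGroup p R)
    (hPR : P ≤ R) (hRT : R ≤ stabSubgroup P e) :
    R ≤ P ⊔ Subgroup.centralizer (P : Set G) := by
  classical
  obtain ⟨L, hL⟩ : ∃ L, L = R ⊔ Subgroup.centralizer (P : Set G) := ⟨_, rfl⟩
  have hRL : R ≤ L := hL ▸ le_sup_left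
  have hCL : Subgroup.centralizer (P : Set G) ≤ L := hL ▸ le_sup_right
  have hPL : P ≤ L := hPR.trans hRL
  have hCT : Subgroup.centralizer (P : Set G) ≤ stabSubgroup P e := centralizer_le_stabSubgroup P e
  have hLT : L ≤ stabSubgroup P e := hL ▸ sup_le hRT hCT
  have hTN : stabSubgroup P e ≤ Subgroup.normalizer (P : Set G) := stabSubgroup_le_normalizer P e
  have hLN : L ≤ Subgroup.normalizer (P : Set G) := hLT.trans hTN
  have hLNC : L ≤ Subgroup.normalizer
      ((Subgroup.centralizer (P : Set G) : Subgroup G) : Set G) :=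
    hLN.trans (normalizer_le_normalizer_centralizer P)
  haveI : Fintype L := Fintype.ofFinite _
  haveI hNn : ((Subgroup.centralizer (P : Set G)).subgroupOf L).Normal :=
    Subgroup.normal_subgroupOf_of_le_normalizer hLNC
  haveI hPn : (P.subgroupOf L).Normal := Subgroup.normal_subgroupOf_of_le_normalizer hLN
  have hPe := hmax.1.1
  -- the index is a power of `p`
  have hidx : ∃ k : ℕ, ((Subgroup.centralizer (P : Set G)).subgroupOf L).index = p ^ k := by
    have h1 : ((Subgroup.centralizer (P : Set G)).subgroupOf L).index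
        = (Subgroup.centralizer (P : Set G)).relIndex R := by
      show (Subgroup.centralizer (P : Set G)).relIndex L = _
      rw [hL]
      exact Cfsg.Agent.S4682.relIndex_sup_of_le_normalizer R _ (hRL.trans hLNC)
    have h2 : (Subgroup.centralizer (P : Set G)).relIndex R ∣ Nat.card R :=
      Subgroup.relIndex_dvd_card _ _
    obtain ⟨n, hn⟩ := IsPGroup.iff_card.mp hR
    rw [hn] at h2
    obtain ⟨k, _, hk⟩ := (Nat.dvd_prime_pow Fact.out).mp h2
    exact ⟨k, h1.trans hk⟩
  -- the block `c` of `N = C_G(P)` inside `L`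
  obtain ⟨c, hcdef⟩ : ∃ c, c = irrMap (Subgroup.subgroupOfEquivOfLe hCL).symm '' e := ⟨_, rfl⟩
  have hc : Cfsg.IsPBlock M c := by
    rw [hcdef]
    exact isPBlock_image_irrMap _ hPe.2
  have hfun : ∀ l : L, Cfsg.subgroupBlockCoeff ((Subgroup.centralizer (P : Set G)).subgroupOf L) c l
      = Cfsg.subgroupBlockCoeff (Subgroup.centralizer (P : Set G)) e (l : G) := by
    intro l
    rw [subgroupBlockCoeff_eq_extZ, subgroupBlockCoeff_eq_extZ]
    by_cases hl : (l : G) ∈ Subgroup.centralizer (P : Set G)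
    · have hl' : l ∈ (Subgroup.centralizer (P : Set G)).subgroupOf L :=
        Subgroup.mem_subgroupOf.mpr hl
      rw [extendByZero_apply_mem _ _ hl', extendByZero_apply_mem _ _ hl, hcdef,
        blockCoeff_image_irrMap]
      rfl
    · have hl' : l ∉ (Subgroup.centralizer (P : Set G)).subgroupOf L :=
        fun h => hl (Subgroup.mem_subgroupOf.mp h)
      rw [extendByZero_apply_not_mem _ _ hl', extendByZero_apply_not_mem _ _ hl]
  have hst : ∀ x : L, Cfsg.StabilizesBlock
      ((Subgroup.centralizer (P : Set G)).subgroupOf L) c x := by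
    intro x
    apply stabilizesBlock_of_conj_invariant
    · rw [Subgroup.normalizer_eq_top]
      exact Subgroup.mem_top x
    · intro g
      rw [hfun, hfun]
      have hxT : (x : G) ∈ stabSubgroup P e := hLT x.2
      have := subgroupBlockCoeff_conj_of_stabilizes _ e (x : G)
        ((mem_stabSubgroup P e _).mp hxT).2 (g : G)
      simpa using this
  obtain ⟨F, hF, hFc⟩ := exists_block_of_stable _ hM hidx c hc hst
  obtain ⟨D, hD⟩ := exists_isDefectGroup hM F hF
  obtain ⟨hsup, -⟩ := isDefectGroup_of_stable _ hM hidx c hc hst F hF hFc D hD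
  have hPD : P.subgroupOf L ≤ D :=
    (Cfsg.Agent.Lib.Helper13.le_pCore _ hPn
      (hPe.1.comap_of_injective _ (Subgroup.subtype_injective _))).trans
      (Cfsg.Agent.S0912.result p M hM F hF D hD)
  obtain ⟨g, hgmax⟩ := exists_isMaximalBrauerPair_of_isDefectGroup (G := L) hM F hF D hD
  obtain ⟨D', hD'L, rfl⟩ : ∃ D' ≤ L, D'.subgroupOf L = D :=
    ⟨D.map L.subtype, Subgroup.map_subtype_le D,
      Subgroup.comap_map_eq_self_of_injective L.subtype_injective D⟩
  have hPD' : P ≤ D' := by
    intro x hx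
    have : (⟨x, hPL hx⟩ : L) ∈ D'.subgroupOf L := hPD (Subgroup.mem_subgroupOf.mpr hx)
    exact Subgroup.mem_subgroupOf.mp this
  have hCD'L : Subgroup.centralizer (D' : Set G) ≤ L :=
    (Subgroup.centralizer_le (SetLike.coe_subset_coe.mpr hPD')).trans hCL
  have hfunG : Cfsg.subgroupBlockCoeff L F
      = Cfsg.subgroupBlockCoeff (Subgroup.centralizer (P : Set G)) e := by
    funext x
    by_cases hx : x ∈ L
    · have h1 := subgroupBlockCoeff_coe L F ⟨x, hx⟩
      rw [hFc, hfun] at h1
      exact h1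
    · have hx' : x ∉ Subgroup.centralizer (P : Set G) := fun h => hx (hCL h)
      rw [subgroupBlockCoeff_eq_extZ, subgroupBlockCoeff_eq_extZ,
        extendByZero_apply_not_mem _ _ hx, extendByZero_apply_not_mem _ _ hx']
  obtain ⟨hpairD, -, hom⟩ := (isBrauerPairOf_centH_iff L D' hD'L hCD'L F g).mp hgmax.1
  have hns : Cfsg.IsNormalSubpair p M P e D' (irrMap (centH L D' hD'L hCD'L) '' g) := by
    refine ⟨hPe, hpairD, hPD', hD'L.trans hLN, ?_, ?_⟩
    · intro x hx
      exact ((mem_stabSubgroup P e x).mp (hLT (hD'L hx))).2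
    · intro ξ hξ
      have := hom ξ hξ
      rw [hfunG] at this
      exact this
  have hDP : D' = P := eq_of_isNormalSubpair_of_isMaximalBrauerPair hM B P e hmax D' _ hns
  rw [hDP, ← Subgroup.subgroupOf_sup hCL hPL, Subgroup.subgroupOf_eq_top] at hsup
  rw [sup_comm]
  exact hRL.trans hsup

end Inertial

end Cfsg.Agent.Lib.Helper24
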