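import Mathlib
import Cfsg.Prelude.Def_Blocks
import Cfsg.Prelude.Def_BlockRank
import Cfsg.Agent.Lib.Helper24.BlockRegular
import Cfsg.Agent.Lib.Helper24.BlockBasic
import Cfsg.Agent.Lib.Helper24.Defect
import Cfsg.Agent.Lib.Helper24.Osima
import Cfsg.Agent.Lib.Helper7.BrauerApp
import Cfsg.Agent.Lib.Helper7.BrauerChar
import Cfsg.Agent.Lib.Helper11.GenChar
import Cfsg.Agent.Lib.Helper11.Frobenius
import Cfsg.Agent.Lib.Helper11.BrauerFix
import Cfsg.Agent.Lib.Helper2.PermLemma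
import Cfsg.Agent.Lib.Helper2.Induction
import Cfsg.Agent.Lib.Helper25.CharBasic
import Cfsg.Agent.Lib.Helper25.EvenDegree

/-!
# Contributions `p^a ⟨χ°, ψ⟩` (helper24 library)

`χ°` is the `p`-regular part of `χ`.  The numbers `p^a ⟨χ°, ψ⟩` are integers, they vanish for
`χ`, `ψ` in different blocks, `p^d ⟨χ°, ψ⟩` is already an integer for `χ` in a block of defect `d`
and the characters of height zero are detected by their `p`-adic valuations.
-/

set_option autoImplicit false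

namespace Cfsg.Agent.Lib.Helper24

open Cfsg.Agent.Lib.Helper2
open scoped ComplexConjugate

section LocalVal

variable {p : ℕ} {M : Ideal Cfsg.AlgInt}

theorem dvd_of_memLocalIdeal_intCast (hM : Cfsg.IsPModular p M) {m : ℤ}
    (h : Cfsg.MemLocalIdeal M (m : ℂ)) : (p : ℤ) ∣ m := by
  obtain ⟨n, rfl | rfl⟩ := Int.eq_nat_or_neg m
  · rw [Int.cast_natCast] at h
    exact Int.natCast_dvd_natCast.mpr ((memLocalIdeal_natCast_iff hM n).mp h)
  · rw [Int.cast_neg, Int.cast_natCast] at h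
    have h' := memLocalIdeal_neg h
    rw [neg_neg] at h'
    exact (dvd_neg).mpr (Int.natCast_dvd_natCast.mpr ((memLocalIdeal_natCast_iff hM n).mp h'))

theorem memLocalIdeal_pow_succ (hM : Cfsg.IsPModular p M) (k : ℕ) :
    Cfsg.MemLocalIdeal M ((p : ℂ) ^ (k + 1)) := by
  rw [pow_succ]
  exact memLocalIdeal_mul_left hM (memLocalRing_pow hM (memLocalRing_natCast hM p) k)
    ((memLocalIdeal_natCast_iff hM p).mpr dvd_rfl)

/-- a complex number `z` with `p^t z ∈ ℤ` which is a local integer is an integer -/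
theorem exists_int_of_pow_mul_eq (hM : Cfsg.IsPModular p M) :
    ∀ (t : ℕ) (m : ℤ) (z : ℂ), (p : ℂ) ^ t * z = (m : ℂ) → Cfsg.MemLocalRing M z →
      ∃ c : ℤ, z = (c : ℂ) := by
  intro t
  induction t with
  | zero =>
    intro m z h _
    refine ⟨m, ?_⟩
    rwa [pow_zero, one_mul] at h
  | succ t ih =>
    intro m z h hz
    have hp0 : (p : ℂ) ≠ 0 := Nat.cast_ne_zero.mpr hM.1.ne_zero
    have hw : Cfsg.MemLocalRing M ((p : ℂ) ^ t * z) :=
      memLocalRing_mul hM (memLocalRing_pow hM (memLocalRing_natCast hM p) t) hz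
    have hm : Cfsg.MemLocalIdeal M (m : ℂ) := by
      rw [← h, pow_succ', mul_assoc]
      exact memLocalIdeal_mul_right hM ((memLocalIdeal_natCast_iff hM p).mpr dvd_rfl) hw
    obtain ⟨m', rfl⟩ := dvd_of_memLocalIdeal_intCast hM hm
    apply ih m' z _ hz
    apply mul_left_cancel₀ hp0
    rw [← mul_assoc, ← pow_succ', h, Int.cast_mul, Int.cast_natCast]

/-- comparison of `p`-adic valuations through the local ring -/
theorem val_core (hM : Cfsg.IsPModular p M) {n' N' : ℕ} (hn' : ¬ p ∣ n') (hN' : ¬ p ∣ N')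
    (α β : ℕ) (u : ℂ) (hu : u * ((p : ℂ) ^ β * (N' : ℂ)) = (p : ℂ) ^ α * (n' : ℂ)) :
    (Cfsg.MemLocalRing M u → β ≤ α) ∧ (Cfsg.MemLocalIdeal M u → β < α) ∧
    (β ≤ α → Cfsg.MemLocalRing M u) ∧ (β < α → Cfsg.MemLocalIdeal M u) := by
  have hp0 : (p : ℂ) ≠ 0 := Nat.cast_ne_zero.mpr hM.1.ne_zero
  have hN0 : (N' : ℂ) ≠ 0 := by
    intro h
    apply hN'
    rw [Nat.cast_eq_zero.mp h]
    exact dvd_zero p
  have hpN : Cfsg.MemLocalRing M (N' : ℂ) := memLocalRing_natCast hM N'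
  have hpow : ∀ k, Cfsg.MemLocalRing M ((p : ℂ) ^ k) :=
    fun k => memLocalRing_pow hM (memLocalRing_natCast hM p) k
  have hnI : ¬ Cfsg.MemLocalIdeal M (n' : ℂ) :=
    fun h => hn' ((memLocalIdeal_natCast_iff hM n').mp h)
  refine ⟨?_, ?_, ?_, ?_⟩
  · intro hloc
    by_contra hlt
    push Not at hlt
    obtain ⟨k, rfl⟩ : ∃ k, β = α + (k + 1) := ⟨β - α - 1, by omega⟩
    have e : (n' : ℂ) = u * ((p : ℂ) ^ (k + 1) * (N' : ℂ)) := by
      apply mul_left_cancel₀ (pow_ne_zero α hp0)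
      rw [← hu]
      ring
    apply hnI
    rw [e]
    exact memLocalIdeal_mul_left hM hloc
      (memLocalIdeal_mul_right hM (memLocalIdeal_pow_succ hM k) hpN)
  · intro hI
    by_contra hle
    push Not at hle
    obtain ⟨k, rfl⟩ : ∃ k, β = α + k := ⟨β - α, by omega⟩
    have e : (n' : ℂ) = u * ((p : ℂ) ^ k * (N' : ℂ)) := by
      apply mul_left_cancel₀ (pow_ne_zero α hp0)
      rw [← hu]
      ring
    apply hnI
    rw [e]
    exact memLocalIdeal_mul_right hM hI (memLocalRing_mul hM (hpow k) hpN)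
  · intro hle
    obtain ⟨k, rfl⟩ : ∃ k, α = β + k := ⟨α - β, by omega⟩
    have e : u = (p : ℂ) ^ k * (n' : ℂ) * (N' : ℂ)⁻¹ := by
      have h1 : u * ((p : ℂ) ^ β * (N' : ℂ))
          = ((p : ℂ) ^ k * (n' : ℂ) * (N' : ℂ)⁻¹) * ((p : ℂ) ^ β * (N' : ℂ)) := by
        rw [hu, pow_add]
        have h2 := inv_mul_cancel₀ hN0
        linear_combination (-(p : ℂ) ^ β * (p : ℂ) ^ k * (n' : ℂ)) * h2
      exact mul_right_cancel₀ (mul_ne_zero (pow_ne_zero β hp0) hN0) h1
    rw [e]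
    exact memLocalRing_mul hM (memLocalRing_mul hM (hpow k) (memLocalRing_natCast hM n'))
      (memLocalRing_natCast_inv hM hN')
  · intro hlt
    obtain ⟨k, rfl⟩ : ∃ k, α = β + (k + 1) := ⟨α - β - 1, by omega⟩
    have e : u = (p : ℂ) ^ (k + 1) * ((n' : ℂ) * (N' : ℂ)⁻¹) := by
      have h1 : u * ((p : ℂ) ^ β * (N' : ℂ))
          = ((p : ℂ) ^ (k + 1) * ((n' : ℂ) * (N' : ℂ)⁻¹)) * ((p : ℂ) ^ β * (N' : ℂ)) := by
        rw [hu, pow_add]
        have h2 := inv_mul_cancel₀ hN0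
        linear_combination (-(p : ℂ) ^ β * (p : ℂ) ^ (k + 1) * (n' : ℂ)) * h2
      exact mul_right_cancel₀ (mul_ne_zero (pow_ne_zero β hp0) hN0) h1
    rw [e]
    exact memLocalIdeal_mul_right hM (memLocalIdeal_pow_succ hM k)
      (memLocalRing_mul hM (memLocalRing_natCast hM n') (memLocalRing_natCast_inv hM hN'))

theorem natCast_eq_pow_mul_ordCompl (p n : ℕ) :
    (n : ℂ) = (p : ℂ) ^ (n.factorization p) * ((n / p ^ n.factorization p : ℕ) : ℂ) := by
  rw [← Nat.cast_pow, ← Nat.cast_mul, Nat.ordProj_mul_ordCompl_eq_self]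

/-- valuations of naturals `n`, `N` with `u N = n`, `u` a local integer -/
theorem nat_val_lemma (hM : Cfsg.IsPModular p M) {n N : ℕ} (hn : n ≠ 0) (hN : N ≠ 0) (u : ℂ)
    (hu : u * (N : ℂ) = (n : ℂ)) (hloc : Cfsg.MemLocalRing M u) :
    N.factorization p ≤ n.factorization p ∧
      (¬ Cfsg.MemLocalIdeal M u ↔ n.factorization p = N.factorization p) := by
  have hc := val_core hM (Nat.not_dvd_ordCompl hM.1 hn) (Nat.not_dvd_ordCompl hM.1 hN)
    (n.factorization p) (N.factorization p) u (by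
      rw [← natCast_eq_pow_mul_ordCompl, ← natCast_eq_pow_mul_ordCompl]
      exact hu)
  have hle := hc.1 hloc
  refine ⟨hle, ?_⟩
  constructor
  · intro hni
    by_contra hne
    have : N.factorization p < n.factorization p := lt_of_le_of_ne hle (Ne.symm hne)
    exact hni (hc.2.2.2 this)
  · intro heq hI
    have := hc.2.1 hI
    omega

/-- the integer version -/
theorem int_val_lemma (hM : Cfsg.IsPModular p M) {m : ℤ} {N : ℕ} (hm : m ≠ 0) (hN : N ≠ 0)
    (u : ℂ) (hu : (N : ℂ) * u = (m : ℂ)) (hloc : Cfsg.MemLocalRing M u) :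
    N.factorization p ≤ padicValInt p m ∧
      (¬ Cfsg.MemLocalIdeal M u ↔ padicValInt p m = N.factorization p) := by
  haveI : Fact p.Prime := ⟨hM.1⟩
  have hval : padicValInt p m = m.natAbs.factorization p := by
    rw [Nat.factorization_def _ hM.1]
    rfl
  have hn0 : m.natAbs ≠ 0 := Int.natAbs_ne_zero.mpr hm
  rw [hval]
  rcases Int.natAbs_eq m with h | h
  · have hu' : u * (N : ℂ) = ((m.natAbs : ℕ) : ℂ) := by
      rw [mul_comm, hu]
      conv_lhs => rw [h]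
      exact Int.cast_natCast _
    exact nat_val_lemma hM hn0 hN u hu' hloc
  · have hu' : (-u) * (N : ℂ) = ((m.natAbs : ℕ) : ℂ) := by
      rw [neg_mul, mul_comm, hu]
      conv_lhs => rw [h]
      rw [Int.cast_neg, neg_neg]
      exact Int.cast_natCast _
    have := nat_val_lemma hM hn0 hN (-u) hu' (memLocalRing_neg hloc)
    refine ⟨this.1, ?_⟩
    rw [← this.2]
    constructor
    · intro h1 h2
      apply h1
      have := memLocalIdeal_neg h2
      rwa [neg_neg] at this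
    · intro h1 h2
      exact h1 (memLocalIdeal_neg h2)

theorem pow_factorization_div_memLocalRing (hM : Cfsg.IsPModular p M) {n : ℕ} (hn : n ≠ 0) :
    Cfsg.MemLocalRing M ((p : ℂ) ^ (n.factorization p) / (n : ℂ)) := by
  have hn0 : (n : ℂ) ≠ 0 := Nat.cast_ne_zero.mpr hn
  have h1 : ¬ p ∣ 1 := Nat.Prime.not_dvd_one hM.1
  refine (val_core hM h1 (Nat.not_dvd_ordCompl hM.1 hn) (n.factorization p) (n.factorization p)
    _ ?_).2.2.1 le_rfl
  rw [← natCast_eq_pow_mul_ordCompl, Nat.cast_one, mul_one, div_mul_cancel₀ _ hn0]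

theorem memLocalIdeal_of_pow_factorization_div_mul (hM : Cfsg.IsPModular p M) {n : ℕ}
    (hn : n ≠ 0) {x : ℂ}
    (h : Cfsg.MemLocalIdeal M ((p : ℂ) ^ (n.factorization p) / (n : ℂ) * x)) :
    Cfsg.MemLocalIdeal M x := by
  have hn0 : (n : ℂ) ≠ 0 := Nat.cast_ne_zero.mpr hn
  have hp0 : (p : ℂ) ≠ 0 := Nat.cast_ne_zero.mpr hM.1.ne_zero
  have e : x = ((n / p ^ n.factorization p : ℕ) : ℂ)
      * ((p : ℂ) ^ (n.factorization p) / (n : ℂ) * x) := by
    have h1 := natCast_eq_pow_mul_ordCompl p n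
    have h2 : (p : ℂ) ^ (n.factorization p) ≠ 0 := pow_ne_zero _ hp0
    have h3 : ((n / p ^ n.factorization p : ℕ) : ℂ) = (n : ℂ) / (p : ℂ) ^ (n.factorization p) := by
      rw [eq_div_iff h2, mul_comm]
      exact h1.symm
    rw [h3]
    field_simp
  rw [e]
  exact memLocalIdeal_mul_left hM (memLocalRing_natCast hM _) h

end LocalVal

section Contrib

variable {G : Type*} [Group G] [Fintype G] {p : ℕ} {M : Ideal Cfsg.AlgInt}

omit [Fintype G] in
theorem ite_singular_eq_smul (p : ℕ) (c : ℂ) (χ : G → ℂ) :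
    (fun x : G => if p ∣ orderOf x then (0 : ℂ) else c * χ x) = c • Cfsg.pRegularPart p χ := by
  funext x
  by_cases hx : p ∣ orderOf x
  · rw [if_pos hx, Pi.smul_apply, pRegularPart_of_singular _ hx, smul_zero]
  · rw [if_neg hx, Pi.smul_apply, pRegularPart_of_regular _ hx, smul_eq_mul]

/-- `conj ψ` on the `p`-regular elements -/
noncomputable def regConj (p : ℕ) (ψ : G → ℂ) : G → ℂ :=
  Cfsg.pRegularPart p (fun g => conj (ψ g))

omit [Fintype G] in
theorem regConj_isClassFunction (ψ : G → ℂ) (hψ : Cfsg.IsClassFunction G ψ) :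
    Cfsg.IsClassFunction G (regConj p ψ) := by
  apply pRegularPart_isClassFunction
  intro g x
  show conj (ψ (x * g * x⁻¹)) = conj (ψ g)
  rw [hψ g x]

theorem regConj_memLocalRing (hM : Cfsg.IsPModular p M) (ψ : Cfsg.IrrCharacter G) (g : G) :
    Cfsg.MemLocalRing M (regConj p (ψ : G → ℂ) g) := by
  unfold regConj
  by_cases hg : p ∣ orderOf g
  · rw [pRegularPart_of_singular _ hg]
    exact memLocalRing_zero hM
  · rw [pRegularPart_of_regular _ hg]
    show Cfsg.MemLocalRing M (conj ((ψ : G → ℂ) g))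
    apply memLocalRing_of_isIntegral hM
    rw [← IrrCharacter.apply_inv]
    obtain ⟨n, ρ, _, hρ⟩ := ψ.2
    rw [← hρ]
    exact char_isIntegral ρ g⁻¹

theorem classInner_pRegularPart_eq_omega (χ ψ : G → ℂ) (h1 : χ 1 ≠ 0) :
    Cfsg.classInner (Cfsg.pRegularPart p χ) ψ
      = (Nat.card G : ℂ)⁻¹ * (χ 1 * omega χ (regConj p ψ)) := by
  rw [classInner_def]
  congr 1
  unfold omega
  have e : χ 1 * ((∑ g : G, regConj p ψ g * χ g) / χ 1) = ∑ g : G, regConj p ψ g * χ g := by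
    field_simp
  rw [e]
  apply Finset.sum_congr rfl
  intro g _
  unfold regConj
  by_cases hg : p ∣ orderOf g
  · rw [pRegularPart_of_singular _ hg, pRegularPart_of_singular _ hg, zero_mul, zero_mul]
  · rw [pRegularPart_of_regular _ hg, pRegularPart_of_regular _ hg, mul_comm]

theorem sum_pRegularPart_mul_conj_symm {K : Type*} [Group K] [Fintype K] (f₁ f₂ : K → ℂ)
    (h₁ : ∀ k, f₁ k⁻¹ = conj (f₁ k)) (h₂ : ∀ k, f₂ k⁻¹ = conj (f₂ k)) :
    ∑ k : K, Cfsg.pRegularPart p f₁ k * conj (f₂ k)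
      = ∑ k : K, Cfsg.pRegularPart p f₂ k * conj (f₁ k) := by
  apply Fintype.sum_equiv (Equiv.inv K)
  intro k
  show Cfsg.pRegularPart p f₁ k * conj (f₂ k) = Cfsg.pRegularPart p f₂ k⁻¹ * conj (f₁ k⁻¹)
  by_cases hk : p ∣ orderOf k
  · have hk' : p ∣ orderOf k⁻¹ := by rwa [orderOf_inv]
    rw [pRegularPart_of_singular _ hk, pRegularPart_of_singular _ hk', zero_mul, zero_mul]
  · have hk' : ¬ p ∣ orderOf k⁻¹ := by rwa [orderOf_inv]
    rw [pRegularPart_of_regular _ hk, pRegularPart_of_regular _ hk', h₁, h₂, Complex.conj_conj,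
      mul_comm]

theorem classInner_pRegularPart_symm (χ ψ : Cfsg.IrrCharacter G) :
    Cfsg.classInner (Cfsg.pRegularPart p (χ : G → ℂ)) (ψ : G → ℂ)
      = Cfsg.classInner (Cfsg.pRegularPart p (ψ : G → ℂ)) (χ : G → ℂ) := by
  rw [classInner_def, classInner_def]
  congr 1
  exact sum_pRegularPart_mul_conj_symm _ _ (IrrCharacter.apply_inv χ) (IrrCharacter.apply_inv ψ)

/-- block orthogonality for `p`-regular parts -/
theorem classInner_pRegularPart_eq_zero (hM : Cfsg.IsPModular p M)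
    (B : Set (Cfsg.IrrCharacter G)) (hB : Cfsg.IsPBlock M B) (χ ψ : Cfsg.IrrCharacter G)
    (hχ : χ ∈ B) (hψ : ψ ∉ B) :
    Cfsg.classInner (Cfsg.pRegularPart p (χ : G → ℂ)) (ψ : G → ℂ) = 0 := by
  have hB' : Cfsg.IsPBlock M (Cfsg.blockOf M (ψ : G → ℂ)) := ⟨ψ, rfl⟩
  have hψB' : ψ ∈ Cfsg.blockOf M (ψ : G → ℂ) := sameBlock_refl hM _
  have hχB' : χ ∉ Cfsg.blockOf M (ψ : G → ℂ) := by
    intro hcon
    apply hψ
    obtain ⟨χ₀, rfl⟩ := hB
    exact sameBlock_trans hM hχ (sameBlock_symm hM hcon)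
  have := sum_pRegularPart_mul_conj_eq_zero hM _ hB' χ hχB' ψ hψB'
  rw [classInner_def, this, mul_zero]

/-- the normalized contribution `R(χ, μ) = (p^a / |G|) ω_μ(A_χ)` -/
noncomputable def contribR (p : ℕ) (χ μ : G → ℂ) : ℂ :=
  ((p : ℂ) ^ (Nat.card G).factorization p / (Nat.card G : ℂ)) * omega μ (regConj p χ)

theorem contribR_memLocalRing (hM : Cfsg.IsPModular p M) (χ μ : Cfsg.IrrCharacter G) :
    Cfsg.MemLocalRing M (contribR p (χ : G → ℂ) (μ : G → ℂ)) := by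
  unfold contribR
  exact memLocalRing_mul hM (pow_factorization_div_memLocalRing hM Nat.card_pos.ne')
    (omega_memLocalRing hM μ (regConj p (χ : G → ℂ))
      (regConj_isClassFunction _ (IrrCharacter.isClassFunction χ)) (regConj_memLocalRing hM χ))

theorem pow_mul_classInner_eq (χ μ : Cfsg.IrrCharacter G) :
    (p : ℂ) ^ (Nat.card G).factorization p
        * Cfsg.classInner (Cfsg.pRegularPart p (χ : G → ℂ)) (μ : G → ℂ)
      = (μ : G → ℂ) 1 * contribR p (χ : G → ℂ) (μ : G → ℂ) := by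
  rw [classInner_pRegularPart_symm χ μ,
    classInner_pRegularPart_eq_omega (μ : G → ℂ) (χ : G → ℂ)
      (IsIrrCharacter.apply_one_ne_zero μ.2)]
  unfold contribR
  ring

theorem contribR_sub_memLocalIdeal (hM : Cfsg.IsPModular p M) (χ μ μ' : Cfsg.IrrCharacter G)
    (hsame : Cfsg.SameBlock M (μ : G → ℂ) (μ' : G → ℂ)) :
    Cfsg.MemLocalIdeal M
      (contribR p (χ : G → ℂ) (μ : G → ℂ) - contribR p (χ : G → ℂ) (μ' : G → ℂ)) := by
  unfold contribR
  rw [← mul_sub]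
  exact memLocalIdeal_mul_left hM (pow_factorization_div_memLocalRing hM Nat.card_pos.ne')
    (omega_sub_memLocalIdeal hM μ μ' hsame (regConj p (χ : G → ℂ))
      (regConj_isClassFunction _ (IrrCharacter.isClassFunction χ)) (regConj_memLocalRing hM χ))

theorem charDegree_ne_zero (χ : Cfsg.IrrCharacter G) : Cfsg.charDegree (χ : G → ℂ) ≠ 0 := by
  intro h
  apply IsIrrCharacter.apply_one_ne_zero χ.2
  rw [Cfsg.Agent.Lib.Helper25.char_one_eq_charDegree (IsIrrCharacter.isCharacter χ.2), h,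
    Nat.cast_zero]

theorem apply_one_eq_charDegree (χ : Cfsg.IrrCharacter G) :
    (χ : G → ℂ) 1 = (Cfsg.charDegree (χ : G → ℂ) : ℂ) :=
  Cfsg.Agent.Lib.Helper25.char_one_eq_charDegree (IsIrrCharacter.isCharacter χ.2)

/-- `p^a ⟨χ°, ψ⟩` is an integer -/
theorem exists_int_card_pow_mul [Fact p.Prime] (χ ψ : Cfsg.IrrCharacter G) :
    ∃ m : ℤ, (p : ℂ) ^ (Nat.card G).factorization p
      * Cfsg.classInner (Cfsg.pRegularPart p (χ : G → ℂ)) (ψ : G → ℂ) = (m : ℂ) := by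
  have hgc := Cfsg.Agent.Lib.Helper7.isGeneralizedCharacter_pow_mul_pRegular p (χ : G → ℂ)
    (IsIrrCharacter.isCharacter χ.2)
  obtain ⟨m, hm⟩ := Cfsg.Agent.Lib.Helper11.IsGeneralizedCharacter.inner_irr_int hgc ψ
  refine ⟨m, ?_⟩
  rw [← hm, ite_singular_eq_smul, classInner_smul_left, Nat.cast_pow]

/-- `p^k ⟨χ°, ψ⟩` is an integer as soon as `a ≤ k + ν(χ(1))` -/
theorem exists_int_pow_mul_classInner [Fact p.Prime] (hM : Cfsg.IsPModular p M)
    (χ ψ : Cfsg.IrrCharacter G) (k : ℕ) (hka : k ≤ (Nat.card G).factorization p)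
    (hk : (Nat.card G).factorization p ≤ k + (Cfsg.charDegree (χ : G → ℂ)).factorization p) :
    ∃ c : ℤ, (p : ℂ) ^ k * Cfsg.classInner (Cfsg.pRegularPart p (χ : G → ℂ)) (ψ : G → ℂ)
      = (c : ℂ) := by
  obtain ⟨m, hm⟩ := exists_int_card_pow_mul (p := p) χ ψ
  apply exists_int_of_pow_mul_eq hM ((Nat.card G).factorization p - k) m
  · rw [← mul_assoc, ← pow_add, Nat.sub_add_cancel hka, hm]
  · rw [classInner_pRegularPart_eq_omega (χ : G → ℂ) (ψ : G → ℂ)
      (IsIrrCharacter.apply_one_ne_zero χ.2)]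
    have e : (p : ℂ) ^ k * ((Nat.card G : ℂ)⁻¹
          * ((χ : G → ℂ) 1 * omega (χ : G → ℂ) (regConj p (ψ : G → ℂ))))
        = ((p : ℂ) ^ k * (χ : G → ℂ) 1 / (Nat.card G : ℂ))
          * omega (χ : G → ℂ) (regConj p (ψ : G → ℂ)) := by
      ring
    rw [e]
    apply memLocalRing_mul hM _ (omega_memLocalRing hM χ _
      (regConj_isClassFunction _ (IrrCharacter.isClassFunction ψ)) (regConj_memLocalRing hM ψ))
    have hG0 : (Nat.card G : ℂ) ≠ 0 := Nat.cast_ne_zero.mpr Nat.card_pos.ne'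
    refine (val_core hM (Nat.not_dvd_ordCompl hM.1 (charDegree_ne_zero χ))
      (Nat.not_dvd_ordCompl hM.1 (Nat.card_pos (α := G)).ne')
      (k + (Cfsg.charDegree (χ : G → ℂ)).factorization p) ((Nat.card G).factorization p)
      _ ?_).2.2.1 hk
    rw [← natCast_eq_pow_mul_ordCompl, pow_add, mul_assoc, ← natCast_eq_pow_mul_ordCompl,
      ← apply_one_eq_charDegree, div_mul_cancel₀ _ hG0]

theorem exists_int_pow_defect_mul_classInner [Fact p.Prime] (hM : Cfsg.IsPModular p M)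
    (B : Set (Cfsg.IrrCharacter G)) (χ ψ : Cfsg.IrrCharacter G) (hχ : χ ∈ B) :
    ∃ c : ℤ, (p : ℂ) ^ Cfsg.blockDefect p B
      * Cfsg.classInner (Cfsg.pRegularPart p (χ : G → ℂ)) (ψ : G → ℂ) = (c : ℂ) := by
  have hs : sInf ((fun χ : Cfsg.IrrCharacter G =>
      (Cfsg.charDegree (χ : G → ℂ)).factorization p) '' B)
      ≤ (Cfsg.charDegree (χ : G → ℂ)).factorization p := Nat.sInf_le ⟨χ, hχ, rfl⟩
  apply exists_int_pow_mul_classInner hM χ ψ
  · unfold Cfsg.blockDefect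
    exact Nat.sub_le _ _
  · unfold Cfsg.blockDefect
    omega

theorem isGeneralizedCharacter_sum_int [Fintype (Cfsg.IrrCharacter G)]
    (c : Cfsg.IrrCharacter G → ℤ) :
    Cfsg.IsGeneralizedCharacter G (∑ ψ : Cfsg.IrrCharacter G, (c ψ : ℂ) • (ψ : G → ℂ)) := by
  apply Finset.sum_induction (fun ψ : Cfsg.IrrCharacter G => (c ψ : ℂ) • (ψ : G → ℂ))
    (Cfsg.IsGeneralizedCharacter G) (fun _ _ => Cfsg.Agent.Lib.Helper7.gc_add)
    Cfsg.Agent.Lib.Helper7.gc_zero
  intro ψ _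
  have hψ := Cfsg.Agent.Lib.Helper7.gc_of_char (IsIrrCharacter.isCharacter ψ.2)
  obtain ⟨n, h | h⟩ := Int.eq_nat_or_neg (c ψ)
  · rw [h, Int.cast_natCast, Nat.cast_smul_eq_nsmul]
    exact Cfsg.Agent.Lib.Helper7.gc_nsmul n hψ
  · rw [h, Int.cast_neg, Int.cast_natCast, neg_smul, Nat.cast_smul_eq_nsmul]
    exact Cfsg.Agent.Lib.Helper7.gc_neg (Cfsg.Agent.Lib.Helper7.gc_nsmul n hψ)

omit [Fintype G] in
theorem smul_pRegularPart_isClassFunction (c : ℂ) (χ : G → ℂ) (hχ : Cfsg.IsClassFunction G χ) :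
    Cfsg.IsClassFunction G (c • Cfsg.pRegularPart p χ) := by
  intro g x
  show c * Cfsg.pRegularPart p χ (x * g * x⁻¹) = c * Cfsg.pRegularPart p χ g
  rw [pRegularPart_isClassFunction χ hχ g x]

/-- a multiple `c χ°` with all `c ⟨χ°, ψ⟩` integers is a generalized character -/
theorem isGeneralizedCharacter_smul_pRegularPart (c : ℂ) (χ : Cfsg.IrrCharacter G)
    (h : ∀ ψ : Cfsg.IrrCharacter G, ∃ n : ℤ,
      c * Cfsg.classInner (Cfsg.pRegularPart p (χ : G → ℂ)) (ψ : G → ℂ) = (n : ℂ)) :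
    Cfsg.IsGeneralizedCharacter G (c • Cfsg.pRegularPart p (χ : G → ℂ)) := by
  classical
  haveI : Fintype (Cfsg.IrrCharacter G) := Fintype.ofFinite _
  choose n hn using h
  have hcf := smul_pRegularPart_isClassFunction (p := p) c (χ : G → ℂ)
    (IrrCharacter.isClassFunction χ)
  have e : c • Cfsg.pRegularPart p (χ : G → ℂ)
      = ∑ ψ : Cfsg.IrrCharacter G, (n ψ : ℂ) • (ψ : G → ℂ) := by
    conv_lhs => rw [classFunction_expansion _ hcf]
    apply Finset.sum_congr rfl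
    intro ψ _
    rw [classInner_smul_left, hn ψ]
  rw [e]
  exact isGeneralizedCharacter_sum_int n

/-- `p^(a-b) χ°` is a generalized character, `p^b` the `p`-part of `χ(1)` -/
theorem isGeneralizedCharacter_pow_sub_mul_pRegular [Fact p.Prime] (χ : Cfsg.IrrCharacter G) :
    Cfsg.IsGeneralizedCharacter G (fun x : G => if p ∣ orderOf x then (0 : ℂ) else
      ((p ^ ((Nat.card G).factorization p
        - (Cfsg.charDegree (χ : G → ℂ)).factorization p) : ℕ) : ℂ) * (χ : G → ℂ) x) := by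
  obtain ⟨M, hM⟩ := Cfsg.Agent.Lib.Helper25.exists_isPModular p (Fact.out)
  rw [ite_singular_eq_smul]
  apply isGeneralizedCharacter_smul_pRegularPart
  intro ψ
  rw [Nat.cast_pow]
  exact exists_int_pow_mul_classInner hM χ ψ _ (Nat.sub_le _ _) (by omega)

/-- `p^(a-b-1) χ°` is not a generalized character -/
theorem not_isGeneralizedCharacter_div [Fact p.Prime] (χ : Cfsg.IrrCharacter G) :
    ¬ Cfsg.IsGeneralizedCharacter G (fun x : G => if p ∣ orderOf x then (0 : ℂ) else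
      ((p ^ (Nat.card G).factorization p : ℕ) : ℂ)
        / ((p ^ ((Cfsg.charDegree (χ : G → ℂ)).factorization p + 1) : ℕ) : ℂ)
        * (χ : G → ℂ) x) := by
  classical
  have hp : p.Prime := Fact.out
  intro hgc
  obtain ⟨c, hc⟩ : ∃ c : ℂ, c = ((p ^ (Nat.card G).factorization p : ℕ) : ℂ)
        / ((p ^ ((Cfsg.charDegree (χ : G → ℂ)).factorization p + 1) : ℕ) : ℂ) := ⟨_, rfl⟩
  rw [← hc, ite_singular_eq_smul] at hgc
  obtain ⟨f, hf⟩ : ∃ f : G → ℂ, f = c • Cfsg.pRegularPart p (χ : G → ℂ) := ⟨_, rfl⟩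
  rw [← hf] at hgc
  have hfcf : Cfsg.IsClassFunction G f := by
    rw [hf]
    exact smul_pRegularPart_isClassFunction c _ (IrrCharacter.isClassFunction χ)
  obtain ⟨P⟩ : Nonempty (Sylow p G) := inferInstance
  haveI : Fintype (P : Subgroup G) := Fintype.ofFinite _
  have hone : Cfsg.IsCharacter (P : Subgroup G) (fun _ => (1 : ℂ)) :=
    IsIrrCharacter.isCharacter Cfsg.Agent.Lib.Helper11.isIrrCharacter_const_one
  have hθ : Cfsg.IsCharacter G (Cfsg.indFun (P : Subgroup G) (fun _ => (1 : ℂ))) :=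
    indFun_isCharacter (P : Subgroup G) _ hone
  obtain ⟨χ₁, χ₂, h₁, h₂, hf12⟩ := hgc
  obtain ⟨n₁, hn₁⟩ := classInner_isCharacter_nat h₁ hθ
  obtain ⟨n₂, hn₂⟩ := classInner_isCharacter_nat h₂ hθ
  have hint : Cfsg.classInner f (Cfsg.indFun (P : Subgroup G) (fun _ => (1 : ℂ)))
      = (((n₁ : ℤ) - (n₂ : ℤ) : ℤ) : ℂ) := by
    rw [hf12, classInner_sub_left, hn₁, hn₂]
    push_cast
    ring
  rw [Cfsg.Agent.Lib.Helper11.classInner_indFun_right (P : Subgroup G) _ f hfcf,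
    classInner_def] at hint
  have hsum : ∑ h : (P : Subgroup G), (fun h : (P : Subgroup G) => f (h : G)) h
      * conj ((fun _ : (P : Subgroup G) => (1 : ℂ)) h) = f 1 := by
    rw [Finset.sum_eq_single (1 : (P : Subgroup G))]
    · simp
    · intro h _ hne
      have hdvd : p ∣ orderOf (h : G) := by
        rw [Subgroup.orderOf_coe]
        obtain ⟨k, hk⟩ := (IsPGroup.iff_orderOf.mp P.isPGroup') h
        rw [hk]
        have hk0 : k ≠ 0 := by
          intro h0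
          rw [h0, pow_zero, orderOf_eq_one_iff] at hk
          exact hne hk
        exact dvd_pow_self p hk0
      show f (h : G) * conj (1 : ℂ) = 0
      rw [hf, Pi.smul_apply, pRegularPart_of_singular _ hdvd, smul_zero, zero_mul]
    · intro h
      exact absurd (Finset.mem_univ _) h
  rw [hsum, Sylow.card_eq_multiplicity] at hint
  have hf1 : f 1 = c * (χ : G → ℂ) 1 := by
    rw [hf, Pi.smul_apply, pRegularPart_of_regular, smul_eq_mul]
    rw [orderOf_one]
    exact Nat.Prime.not_dvd_one hp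
  rw [hf1, hc, apply_one_eq_charDegree,
    natCast_eq_pow_mul_ordCompl p (Cfsg.charDegree (χ : G → ℂ))] at hint
  have hp0 : (p : ℂ) ≠ 0 := Nat.cast_ne_zero.mpr hp.ne_zero
  have hnd := Nat.not_dvd_ordCompl hp (charDegree_ne_zero χ)
  obtain ⟨c', hc'⟩ : ∃ c' : ℕ, c' = Cfsg.charDegree (χ : G → ℂ)
      / p ^ (Cfsg.charDegree (χ : G → ℂ)).factorization p := ⟨_, rfl⟩
  rw [← hc'] at hint hnd
  apply hnd
  have key : (((c' : ℕ) : ℤ) : ℂ) = (((p : ℤ) * ((n₁ : ℤ) - (n₂ : ℤ)) : ℤ) : ℂ) := by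
    rw [Int.cast_mul, ← hint]
    have ha : (p : ℂ) ^ (Nat.card G).factorization p ≠ 0 := pow_ne_zero _ hp0
    have hb : (p : ℂ) ^ (Cfsg.charDegree (χ : G → ℂ)).factorization p ≠ 0 := pow_ne_zero _ hp0
    push_cast
    rw [pow_succ]
    field_simp
  have key2 := Int.cast_injective (α := ℂ) key
  have : (p : ℤ) ∣ ((c' : ℕ) : ℤ) := ⟨_, key2⟩
  exact Int.natCast_dvd_natCast.mp this

/-- some contribution `p^a ⟨χ°, μ⟩` is not divisible by `p^(b+1)` -/
theorem exists_not_dvd_contrib [Fact p.Prime] (χ : Cfsg.IrrCharacter G) :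
    ∃ μ : Cfsg.IrrCharacter G, ∀ m : ℤ, (p : ℂ) ^ (Nat.card G).factorization p
      * Cfsg.classInner (Cfsg.pRegularPart p (χ : G → ℂ)) (μ : G → ℂ) = (m : ℂ) →
      ¬ ((p : ℤ) ^ ((Cfsg.charDegree (χ : G → ℂ)).factorization p + 1) ∣ m) := by
  have hp : p.Prime := Fact.out
  by_contra hcon
  push Not at hcon
  apply not_isGeneralizedCharacter_div (p := p) χ
  rw [ite_singular_eq_smul]
  apply isGeneralizedCharacter_smul_pRegularPart
  intro ψ
  obtain ⟨m, hm, k, hk⟩ := hcon ψ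
  refine ⟨k, ?_⟩
  have hp0 : (p : ℂ) ≠ 0 := Nat.cast_ne_zero.mpr hp.ne_zero
  have hb : (p : ℂ) ^ ((Cfsg.charDegree (χ : G → ℂ)).factorization p + 1) ≠ 0 :=
    pow_ne_zero _ hp0
  rw [Nat.cast_pow, Nat.cast_pow, div_mul_eq_mul_div, hm, hk]
  push_cast
  field_simp

/-- characters of height zero have unit contributions -/
theorem contribR_not_memLocalIdeal_of_height_zero [Fact p.Prime] (hM : Cfsg.IsPModular p M)
    (B : Set (Cfsg.IrrCharacter G)) (hB : Cfsg.IsPBlock M B) (χ : Cfsg.IrrCharacter G)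
    (hχ : χ ∈ B) (h0 : Cfsg.blockHeight p B (χ : G → ℂ) = 0) (ξ : Cfsg.IrrCharacter G)
    (hξ : ξ ∈ B) : ¬ Cfsg.MemLocalIdeal M (contribR p (χ : G → ℂ) (ξ : G → ℂ)) := by
  have hs : ∀ μ ∈ B, sInf ((fun χ : Cfsg.IrrCharacter G =>
      (Cfsg.charDegree (χ : G → ℂ)).factorization p) '' B)
      ≤ (Cfsg.charDegree ((μ : Cfsg.IrrCharacter G) : G → ℂ)).factorization p :=
    fun μ hμ => Nat.sInf_le ⟨μ, hμ, rfl⟩
  unfold Cfsg.blockHeight at h0
  have hsχ := hs χ hχ
  obtain ⟨μ, hμ⟩ := exists_not_dvd_contrib (p := p) χ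
  obtain ⟨m, hm⟩ := exists_int_card_pow_mul (p := p) χ μ
  have hnd := hμ m hm
  have hm0 : m ≠ 0 := by
    rintro rfl
    exact hnd (dvd_zero _)
  have hμB : μ ∈ B := by
    by_contra h
    have h1 := classInner_pRegularPart_eq_zero hM B hB χ μ hχ h
    rw [h1, mul_zero] at hm
    apply hm0
    exact_mod_cast hm.symm
  have hu : (Cfsg.charDegree (μ : G → ℂ) : ℂ) * contribR p (χ : G → ℂ) (μ : G → ℂ) = (m : ℂ) := by
    rw [← apply_one_eq_charDegree, ← pow_mul_classInner_eq, hm]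
  have hv := int_val_lemma hM hm0 (charDegree_ne_zero μ) _ hu (contribR_memLocalRing hM χ μ)
  have hle : padicValInt p m ≤ (Cfsg.charDegree (χ : G → ℂ)).factorization p := by
    by_contra hlt
    push Not at hlt
    apply hnd
    rw [padicValInt_dvd_iff]
    right
    omega
  have hsμ := hs μ hμB
  have hμunit : ¬ Cfsg.MemLocalIdeal M (contribR p (χ : G → ℂ) (μ : G → ℂ)) := by
    rw [hv.2]
    have := hv.1
    omega
  intro hI
  apply hμunit
  have hcong := contribR_sub_memLocalIdeal hM χ ξ μ (sameBlock_of_mem hM hB hξ hμB)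
  have := memLocalIdeal_sub hM hI hcong
  rwa [sub_sub_cancel] at this

/-- a unit contribution forces height zero -/
theorem height_zero_of_contribR [Fact p.Prime] (hM : Cfsg.IsPModular p M)
    (B : Set (Cfsg.IrrCharacter G)) (hB : Cfsg.IsPBlock M B) (χ : Cfsg.IrrCharacter G)
    (hχ : χ ∈ B) (ξ : Cfsg.IrrCharacter G) (hξ : ξ ∈ B)
    (h : ¬ Cfsg.MemLocalIdeal M (contribR p (χ : G → ℂ) (ξ : G → ℂ))) :
    Cfsg.blockHeight p B (χ : G → ℂ) = 0 := by
  by_contra hpos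
  unfold Cfsg.blockHeight at hpos
  have hne : ((fun χ : Cfsg.IrrCharacter G =>
      (Cfsg.charDegree (χ : G → ℂ)).factorization p) '' B).Nonempty := ⟨_, χ, hχ, rfl⟩
  obtain ⟨χ₀, hχ₀, hs⟩ := Nat.sInf_mem hne
  have hlt : (Cfsg.charDegree (χ₀ : G → ℂ)).factorization p
      < (Cfsg.charDegree (χ : G → ℂ)).factorization p := by
    have : (fun χ : Cfsg.IrrCharacter G => (Cfsg.charDegree (χ : G → ℂ)).factorization p) χ₀
        = (Cfsg.charDegree (χ₀ : G → ℂ)).factorization p := rfl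
    rw [← this, hs]
    omega
  apply h
  have hcong := contribR_sub_memLocalIdeal hM χ ξ χ₀ (sameBlock_of_mem hM hB hξ hχ₀)
  have e1 := pow_mul_classInner_eq (p := p) χ χ₀
  have e2 := pow_mul_classInner_eq (p := p) χ₀ χ
  rw [classInner_pRegularPart_symm χ χ₀, e2] at e1
  -- `χ(1) R(χ₀, χ) = χ₀(1) R(χ, χ₀)`
  have h01 : (χ₀ : G → ℂ) 1 ≠ 0 := IsIrrCharacter.apply_one_ne_zero χ₀.2
  have hR : contribR p (χ : G → ℂ) (χ₀ : G → ℂ)
      = ((χ : G → ℂ) 1 / (χ₀ : G → ℂ) 1) * contribR p (χ₀ : G → ℂ) (χ : G → ℂ) := by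
    field_simp
    rw [mul_comm, ← e1, mul_comm]
  have hratio : Cfsg.MemLocalIdeal M ((χ : G → ℂ) 1 / (χ₀ : G → ℂ) 1) := by
    refine (val_core hM (Nat.not_dvd_ordCompl hM.1 (charDegree_ne_zero χ))
      (Nat.not_dvd_ordCompl hM.1 (charDegree_ne_zero χ₀))
      ((Cfsg.charDegree (χ : G → ℂ)).factorization p)
      ((Cfsg.charDegree (χ₀ : G → ℂ)).factorization p) _ ?_).2.2.2 hlt
    rw [← natCast_eq_pow_mul_ordCompl, ← natCast_eq_pow_mul_ordCompl,
      ← apply_one_eq_charDegree, ← apply_one_eq_charDegree, div_mul_cancel₀ _ h01]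
  have hI0 : Cfsg.MemLocalIdeal M (contribR p (χ : G → ℂ) (χ₀ : G → ℂ)) := by
    rw [hR]
    exact memLocalIdeal_mul_right hM hratio (contribR_memLocalRing hM χ₀ χ)
  have := memLocalIdeal_add hM hcong hI0
  rwa [sub_add_cancel] at this

theorem contribR_not_memLocalIdeal_iff [Fact p.Prime] (hM : Cfsg.IsPModular p M)
    (χ ξ : Cfsg.IrrCharacter G) (n : ℤ)
    (hn : (p : ℂ) ^ (Nat.card G).factorization p
      * Cfsg.classInner (Cfsg.pRegularPart p (χ : G → ℂ)) (ξ : G → ℂ) = (n : ℂ)) :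
    ¬ Cfsg.MemLocalIdeal M (contribR p (χ : G → ℂ) (ξ : G → ℂ)) ↔
      (n ≠ 0 ∧ padicValInt p n = (Cfsg.charDegree (ξ : G → ℂ)).factorization p) := by
  have hu : (Cfsg.charDegree (ξ : G → ℂ) : ℂ) * contribR p (χ : G → ℂ) (ξ : G → ℂ) = (n : ℂ) := by
    rw [← apply_one_eq_charDegree, ← pow_mul_classInner_eq, hn]
  by_cases hn0 : n = 0
  · subst hn0
    have hN0 : (Cfsg.charDegree (ξ : G → ℂ) : ℂ) ≠ 0 := Nat.cast_ne_zero.mpr (charDegree_ne_zero ξ)
    rw [Int.cast_zero] at hu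
    have hR0 : contribR p (χ : G → ℂ) (ξ : G → ℂ) = 0 := by
      rcases mul_eq_zero.mp hu with h | h
      · exact absurd h hN0
      · exact h
    constructor
    · intro h
      exfalso
      apply h
      rw [hR0]
      exact memLocalIdeal_zero hM
    · intro h
      exact absurd rfl h.1
  · have hv := int_val_lemma hM hn0 (charDegree_ne_zero ξ) _ hu (contribR_memLocalRing hM χ ξ)
    rw [hv.2]
    constructor
    · intro h
      exact ⟨hn0, h⟩
    · intro h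
      exact h.2

/-- the height zero criterion, in the shape of the statement -/
theorem height_zero_iff_forall [Fact p.Prime] (hM : Cfsg.IsPModular p M)
    (B : Set (Cfsg.IrrCharacter G)) (hB : Cfsg.IsPBlock M B) (χ : Cfsg.IrrCharacter G)
    (hχ : χ ∈ B) :
    (Cfsg.blockHeight p B (χ : G → ℂ) = 0 ↔ ∃ ξ ∈ B, ∃ n : ℤ, Cfsg.classInner
        (fun x : G => if p ∣ orderOf x then (0 : ℂ) else
          ((p ^ (Nat.card G).factorization p : ℕ) : ℂ) * (χ : G → ℂ) x)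
        ((ξ : Cfsg.IrrCharacter G) : G → ℂ) = (n : ℂ) ∧ n ≠ 0 ∧
        padicValInt p n = (Cfsg.charDegree (ξ : G → ℂ)).factorization p) ∧
    (Cfsg.blockHeight p B (χ : G → ℂ) = 0 ↔ ∀ ξ ∈ B, ∃ n : ℤ, Cfsg.classInner
        (fun x : G => if p ∣ orderOf x then (0 : ℂ) else
          ((p ^ (Nat.card G).factorization p : ℕ) : ℂ) * (χ : G → ℂ) x)
        ((ξ : Cfsg.IrrCharacter G) : G → ℂ) = (n : ℂ) ∧ n ≠ 0 ∧
        padicValInt p n = (Cfsg.charDegree (ξ : G → ℂ)).factorization p) := by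
  have hrew : ∀ ξ : Cfsg.IrrCharacter G, Cfsg.classInner
        (fun x : G => if p ∣ orderOf x then (0 : ℂ) else
          ((p ^ (Nat.card G).factorization p : ℕ) : ℂ) * (χ : G → ℂ) x) (ξ : G → ℂ)
      = (p : ℂ) ^ (Nat.card G).factorization p
        * Cfsg.classInner (Cfsg.pRegularPart p (χ : G → ℂ)) (ξ : G → ℂ) := by
    intro ξ
    rw [ite_singular_eq_smul, classInner_smul_left, Nat.cast_pow]
  have hfwd : Cfsg.blockHeight p B (χ : G → ℂ) = 0 → ∀ ξ ∈ B, ∃ n : ℤ, Cfsg.classInner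
        (fun x : G => if p ∣ orderOf x then (0 : ℂ) else
          ((p ^ (Nat.card G).factorization p : ℕ) : ℂ) * (χ : G → ℂ) x)
        ((ξ : Cfsg.IrrCharacter G) : G → ℂ) = (n : ℂ) ∧ n ≠ 0 ∧
        padicValInt p n = (Cfsg.charDegree (ξ : G → ℂ)).factorization p := by
    intro h0 ξ hξ
    obtain ⟨n, hn⟩ := exists_int_card_pow_mul (p := p) χ ξ
    refine ⟨n, ?_, ?_⟩
    · rw [hrew ξ, hn]
    · exact (contribR_not_memLocalIdeal_iff hM χ ξ n hn).mp
        (contribR_not_memLocalIdeal_of_height_zero hM B hB χ hχ h0 ξ hξ)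
  have hbwd : (∃ ξ ∈ B, ∃ n : ℤ, Cfsg.classInner
        (fun x : G => if p ∣ orderOf x then (0 : ℂ) else
          ((p ^ (Nat.card G).factorization p : ℕ) : ℂ) * (χ : G → ℂ) x)
        ((ξ : Cfsg.IrrCharacter G) : G → ℂ) = (n : ℂ) ∧ n ≠ 0 ∧
        padicValInt p n = (Cfsg.charDegree (ξ : G → ℂ)).factorization p) →
      Cfsg.blockHeight p B (χ : G → ℂ) = 0 := by
    rintro ⟨ξ, hξ, n, hn, hn0, hval⟩
    rw [hrew ξ] at hn
    exact height_zero_of_contribR hM B hB χ hχ ξ hξ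
      ((contribR_not_memLocalIdeal_iff hM χ ξ n hn).mpr ⟨hn0, hval⟩)
  refine ⟨⟨fun h0 => ⟨χ, hχ, hfwd h0 χ hχ⟩, hbwd⟩, ⟨hfwd, fun h => hbwd ⟨χ, hχ, h χ hχ⟩⟩⟩

end Contrib

end Cfsg.Agent.Lib.Helper24
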