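import Mathlib
import Cfsg.Agent.Lib.Helper24.Contribution
import Cfsg.Agent.Lib.Helper2.Expansion
import Cfsg.Agent.Lib.Helper7.DefectOrder
import Cfsg.Agent.Lib.Helper25.Codegree

/-!
# The Brauer–Feit bound

For a `p`-block `B` of defect `d` and a character `ψ ∈ B` of height zero, the integers
`n_ξ = p^d ⟨ψ°, ξ⟩` (`ξ ∈ B`) are all nonzero, `p^(ht ξ) ∣ n_ξ`, and `∑ n_ξ² = p^d n_ψ`.
Hence `∑_{ξ ∈ B} p^(2 ht ξ) ≤ 1 + n_ψ (p^d - n_ψ) ≤ p^(2d)/4 + 1`.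
-/

open scoped ComplexConjugate
open Cfsg.Agent.Lib.Helper2

namespace Cfsg.Agent.Lib.Helper24

section BrauerFeit

variable {G : Type*} [Group G] [Fintype G] {p : ℕ} {M : Ideal Cfsg.AlgInt}

/-- `⟨χ°, χ⟩ = ⟨χ°, χ°⟩` -/
theorem classInner_pRegularPart_self (χ : G → ℂ) :
    Cfsg.classInner (Cfsg.pRegularPart p χ) χ
      = Cfsg.classInner (Cfsg.pRegularPart p χ) (Cfsg.pRegularPart p χ) := by
  rw [classInner_def, classInner_def]
  congr 1
  apply Finset.sum_congr rfl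
  intro g _
  by_cases hg : p ∣ orderOf g
  · rw [pRegularPart_of_singular _ hg, zero_mul, zero_mul]
  · rw [pRegularPart_of_regular _ hg]

/-- Parseval for the `p`-regular part of an irreducible character -/
theorem sum_classInner_pRegularPart_mul_conj [Fintype (Cfsg.IrrCharacter G)]
    (χ : Cfsg.IrrCharacter G) :
    ∑ ξ : Cfsg.IrrCharacter G, Cfsg.classInner (Cfsg.pRegularPart p (χ : G → ℂ)) (ξ : G → ℂ)
        * conj (Cfsg.classInner (Cfsg.pRegularPart p (χ : G → ℂ)) (ξ : G → ℂ))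
      = Cfsg.classInner (Cfsg.pRegularPart p (χ : G → ℂ)) (χ : G → ℂ) := by
  have hcf : Cfsg.IsClassFunction G (Cfsg.pRegularPart p (χ : G → ℂ)) :=
    pRegularPart_isClassFunction _ (IrrCharacter.isClassFunction χ)
  have hexp := classFunction_expansion (Cfsg.pRegularPart p (χ : G → ℂ)) hcf
  have h2 : Cfsg.classInner (Cfsg.pRegularPart p (χ : G → ℂ)) (Cfsg.pRegularPart p (χ : G → ℂ))
      = Cfsg.classInner (Cfsg.pRegularPart p (χ : G → ℂ))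
          (∑ ξ : Cfsg.IrrCharacter G,
            Cfsg.classInner (Cfsg.pRegularPart p (χ : G → ℂ)) (ξ : G → ℂ) • (ξ : G → ℂ)) :=
    congrArg (Cfsg.classInner (Cfsg.pRegularPart p (χ : G → ℂ))) hexp
  rw [classInner_pRegularPart_self, h2, classInner_sum_right]
  apply Finset.sum_congr rfl
  intro ξ _
  rw [classInner_smul_right, mul_comm]

/-- a character of height zero has nonzero contributions with every member of its block -/
theorem classInner_pRegularPart_ne_zero_of_height_zero [Fact p.Prime] (hM : Cfsg.IsPModular p M)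
    (B : Set (Cfsg.IrrCharacter G)) (hB : Cfsg.IsPBlock M B) (ψ : Cfsg.IrrCharacter G)
    (hψ : ψ ∈ B) (h0 : Cfsg.blockHeight p B (ψ : G → ℂ) = 0) (ξ : Cfsg.IrrCharacter G)
    (hξ : ξ ∈ B) :
    Cfsg.classInner (Cfsg.pRegularPart p (ψ : G → ℂ)) (ξ : G → ℂ) ≠ 0 := by
  intro h
  apply contribR_not_memLocalIdeal_of_height_zero hM B hB ψ hψ h0 ξ hξ
  have e := pow_mul_classInner_eq (p := p) ψ ξ
  rw [h, mul_zero] at e
  have h1 : (ξ : G → ℂ) 1 ≠ 0 := IsIrrCharacter.apply_one_ne_zero ξ.2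
  rcases mul_eq_zero.mp e.symm with h' | h'
  · exact absurd h' h1
  · rw [h']
    exact memLocalIdeal_zero hM

/-- the block contains a character of height zero -/
theorem exists_height_zero (hM : Cfsg.IsPModular p M) (B : Set (Cfsg.IrrCharacter G))
    (hB : Cfsg.IsPBlock M B) : ∃ ψ ∈ B, Cfsg.blockHeight p B (ψ : G → ℂ) = 0 := by
  obtain ⟨χ, hχ⟩ := isPBlock_nonempty hM hB
  have hne : ((fun χ : Cfsg.IrrCharacter G =>
      (Cfsg.charDegree (χ : G → ℂ)).factorization p) '' B).Nonempty := ⟨_, χ, hχ, rfl⟩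
  obtain ⟨χ₀, hχ₀, hs⟩ := Nat.sInf_mem hne
  refine ⟨χ₀, hχ₀, ?_⟩
  unfold Cfsg.blockHeight
  have : (fun χ : Cfsg.IrrCharacter G => (Cfsg.charDegree (χ : G → ℂ)).factorization p) χ₀
      = (Cfsg.charDegree (χ₀ : G → ℂ)).factorization p := rfl
  rw [← this, hs]
  exact Nat.sub_self _

/-- the integers `n_ξ = p^d ⟨ψ°, ξ⟩` -/
theorem exists_contribution_int [Fact p.Prime] [Fintype (Cfsg.IrrCharacter G)]
    (hM : Cfsg.IsPModular p M) (B : Set (Cfsg.IrrCharacter G)) (hB : Cfsg.IsPBlock M B)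
    (ψ : Cfsg.IrrCharacter G) (hψ : ψ ∈ B) :
    ∃ n : Cfsg.IrrCharacter G → ℤ,
      (∀ ξ : Cfsg.IrrCharacter G, (p : ℂ) ^ Cfsg.blockDefect p B
        * Cfsg.classInner (Cfsg.pRegularPart p (ψ : G → ℂ)) (ξ : G → ℂ) = (n ξ : ℂ)) ∧
      (∀ ξ : Cfsg.IrrCharacter G, ξ ∉ B → n ξ = 0) ∧
      (∀ ξ ∈ B, (p : ℤ) ^ Cfsg.blockHeight p B (ξ : G → ℂ) ∣ n ξ) ∧
      ∑ ξ, n ξ ^ 2 = (p : ℤ) ^ Cfsg.blockDefect p B * n ψ := by
  have hp : p.Prime := Fact.out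
  have hp0 : (p : ℂ) ≠ 0 := Nat.cast_ne_zero.mpr hp.ne_zero
  choose n hn using fun ξ => exists_int_pow_defect_mul_classInner hM B ψ ξ hψ
  refine ⟨n, hn, ?_, ?_, ?_⟩
  · intro ξ hξ
    have h1 := classInner_pRegularPart_eq_zero hM B hB ψ ξ hψ hξ
    have h2 := hn ξ
    rw [h1, mul_zero] at h2
    exact_mod_cast h2.symm
  · intro ξ hξ
    -- `p^(a - v) ⟨ξ°, ψ⟩` is an integer
    obtain ⟨v, hv⟩ : ∃ v, v = (Cfsg.charDegree (ξ : G → ℂ)).factorization p := ⟨_, rfl⟩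
    obtain ⟨a, ha⟩ : ∃ a, a = (Nat.card G).factorization p := ⟨_, rfl⟩
    obtain ⟨s, hs⟩ : ∃ s, s = sInf ((fun χ : Cfsg.IrrCharacter G =>
      (Cfsg.charDegree (χ : G → ℂ)).factorization p) '' B) := ⟨_, rfl⟩
    have hsv : s ≤ v := by
      rw [hs, hv]
      exact Nat.sInf_le ⟨ξ, hξ, rfl⟩
    have hva : v ≤ a := by
      rw [hv, ha]
      exact (Nat.factorization_le_iff_dvd (charDegree_ne_zero ξ) Nat.card_pos.ne').mpr
        (Cfsg.Agent.Lib.Helper25.charDegree_dvd_card ξ.2) p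
    obtain ⟨c, hc⟩ := exists_int_pow_mul_classInner hM ξ ψ (a - v)
      (by rw [← ha]; exact Nat.sub_le _ _) (by rw [← ha, ← hv]; omega)
    have hd : Cfsg.blockDefect p B = a - s := by
      unfold Cfsg.blockDefect
      rw [← ha, ← hs]
    have hh : Cfsg.blockHeight p B (ξ : G → ℂ) = v - s := by
      unfold Cfsg.blockHeight
      rw [← hv, ← hs]
    rw [hh]
    refine ⟨c, ?_⟩
    have h2 := hn ξ
    rw [hd, classInner_pRegularPart_symm ψ ξ] at h2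
    have e : a - s = (v - s) + (a - v) := by omega
    rw [e, pow_add, mul_assoc, hc] at h2
    have h3 : ((n ξ : ℤ) : ℂ) = (((p : ℤ) ^ (v - s) * c : ℤ) : ℂ) := by
      rw [← h2]
      push_cast
      ring
    exact_mod_cast h3
  · have hq0 : (p : ℂ) ^ Cfsg.blockDefect p B ≠ 0 := pow_ne_zero _ hp0
    have hpar := sum_classInner_pRegularPart_mul_conj (p := p) ψ
    have hc : ∀ ξ : Cfsg.IrrCharacter G, Cfsg.classInner (Cfsg.pRegularPart p (ψ : G → ℂ)) (ξ : G → ℂ)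
        = (n ξ : ℂ) / (p : ℂ) ^ Cfsg.blockDefect p B := by
      intro ξ
      rw [← hn ξ, mul_div_cancel_left₀ _ hq0]
    have hcast : ((∑ ξ, n ξ ^ 2 : ℤ) : ℂ)
        = (((p : ℤ) ^ Cfsg.blockDefect p B * n ψ : ℤ) : ℂ) := by
      push_cast
      have h4 : ∑ ξ : Cfsg.IrrCharacter G, ((n ξ : ℂ) / (p : ℂ) ^ Cfsg.blockDefect p B)
          * conj ((n ξ : ℂ) / (p : ℂ) ^ Cfsg.blockDefect p B)
          = (n ψ : ℂ) / (p : ℂ) ^ Cfsg.blockDefect p B := by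
        rw [← hc ψ, ← hpar]
        apply Finset.sum_congr rfl
        intro ξ _
        rw [hc ξ]
      have h5 : ∀ ξ : Cfsg.IrrCharacter G, ((n ξ : ℂ) / (p : ℂ) ^ Cfsg.blockDefect p B)
          * conj ((n ξ : ℂ) / (p : ℂ) ^ Cfsg.blockDefect p B)
          = (n ξ : ℂ) ^ 2 / ((p : ℂ) ^ Cfsg.blockDefect p B) ^ 2 := by
        intro ξ
        rw [map_div₀, map_pow, map_intCast, map_natCast]
        field_simp
      rw [Finset.sum_congr rfl (fun ξ _ => h5 ξ), ← Finset.sum_div] at h4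
      field_simp at h4
      rw [h4]
    exact_mod_cast hcast

/-- **Brauer–Feit**, weighted form: `4 ∑_{ξ ∈ B} p^(2 ht ξ) ≤ p^(2d) + 4` -/
theorem brauer_feit_weighted [Fact p.Prime] (hM : Cfsg.IsPModular p M)
    (B : Set (Cfsg.IrrCharacter G)) (hB : Cfsg.IsPBlock M B)
    (T : Finset (Cfsg.IrrCharacter G)) (hT : ∀ ξ, ξ ∈ T ↔ ξ ∈ B) :
    4 * ∑ ξ ∈ T, p ^ (2 * Cfsg.blockHeight p B (ξ : G → ℂ))
      ≤ p ^ (2 * Cfsg.blockDefect p B) + 4 := by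
  classical
  haveI : Fintype (Cfsg.IrrCharacter G) := Fintype.ofFinite _
  have hp : p.Prime := Fact.out
  obtain ⟨ψ, hψ, h0⟩ := exists_height_zero (p := p) hM B hB
  obtain ⟨n, hn, hout, hdvd, hsum⟩ := exists_contribution_int hM B hB ψ hψ
  have hne : ∀ ξ ∈ B, n ξ ≠ 0 := by
    intro ξ hξ h
    have h1 := hn ξ
    rw [h, Int.cast_zero] at h1
    have hq0 : (p : ℂ) ^ Cfsg.blockDefect p B ≠ 0 :=
      pow_ne_zero _ (Nat.cast_ne_zero.mpr hp.ne_zero)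
    rcases mul_eq_zero.mp h1 with h' | h'
    · exact hq0 h'
    · exact classInner_pRegularPart_ne_zero_of_height_zero hM B hB ψ hψ h0 ξ hξ h'
  -- the sum over `T`
  have hsumT : ∑ ξ ∈ T, n ξ ^ 2 = (p : ℤ) ^ Cfsg.blockDefect p B * n ψ := by
    rw [← hsum]
    apply Finset.sum_subset (Finset.subset_univ T)
    intro ξ _ hξ
    rw [hout ξ (fun h => hξ ((hT ξ).mpr h))]
    ring
  have hψT : ψ ∈ T := (hT ψ).mpr hψ
  have hle : ∀ ξ ∈ T, ((p : ℤ) ^ Cfsg.blockHeight p B (ξ : G → ℂ)) ^ 2 ≤ n ξ ^ 2 := by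
    intro ξ hξ
    have hξB := (hT ξ).mp hξ
    obtain ⟨c, hc⟩ := hdvd ξ hξB
    have hc0 : c ≠ 0 := by
      rintro rfl
      apply hne ξ hξB
      rw [hc, mul_zero]
    have hc1 : 1 ≤ c ^ 2 := by
      have := sq_nonneg c
      have h2 : c ^ 2 ≠ 0 := pow_ne_zero 2 hc0
      omega
    rw [hc, mul_pow]
    have hnn : 0 ≤ ((p : ℤ) ^ Cfsg.blockHeight p B (ξ : G → ℂ)) ^ 2 := sq_nonneg _
    nlinarith
  obtain ⟨q, hq⟩ : ∃ q : ℤ, q = (p : ℤ) ^ Cfsg.blockDefect p B := ⟨_, rfl⟩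
  have hmain : (4 : ℤ) * ∑ ξ ∈ T, ((p : ℤ) ^ Cfsg.blockHeight p B (ξ : G → ℂ)) ^ 2
      ≤ q ^ 2 + 4 := by
    rw [← Finset.add_sum_erase T _ hψT, h0, pow_zero, one_pow]
    have h1 : ∑ ξ ∈ T.erase ψ, ((p : ℤ) ^ Cfsg.blockHeight p B (ξ : G → ℂ)) ^ 2
        ≤ ∑ ξ ∈ T.erase ψ, n ξ ^ 2 :=
      Finset.sum_le_sum (fun ξ hξ => hle ξ (Finset.mem_of_mem_erase hξ))
    have h2 : n ψ ^ 2 + ∑ ξ ∈ T.erase ψ, n ξ ^ 2 = q * n ψ := by
      rw [hq, ← hsumT, Finset.add_sum_erase T (fun ξ => n ξ ^ 2) hψT]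
    nlinarith [sq_nonneg (q - 2 * n ψ)]
  have hcast : ((4 * ∑ ξ ∈ T, p ^ (2 * Cfsg.blockHeight p B (ξ : G → ℂ)) : ℕ) : ℤ)
      ≤ ((p ^ (2 * Cfsg.blockDefect p B) + 4 : ℕ) : ℤ) := by
    push_cast
    have e1 : ∀ ξ : Cfsg.IrrCharacter G, (p : ℤ) ^ (2 * Cfsg.blockHeight p B (ξ : G → ℂ))
        = ((p : ℤ) ^ Cfsg.blockHeight p B (ξ : G → ℂ)) ^ 2 := by
      intro ξ
      rw [← pow_mul, mul_comm]
    rw [Finset.sum_congr rfl (fun ξ _ => e1 ξ)]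
    have e2 : (p : ℤ) ^ (2 * Cfsg.blockDefect p B) = q ^ 2 := by
      rw [hq, ← pow_mul, mul_comm]
    rw [e2]
    exact hmain
  exact_mod_cast hcast

/-- **Brauer–Feit**: `4 k(B) ≤ p^(2d) + 4` -/
theorem brauer_feit [Fact p.Prime] (hM : Cfsg.IsPModular p M)
    (B : Set (Cfsg.IrrCharacter G)) (hB : Cfsg.IsPBlock M B) :
    4 * Nat.card B ≤ p ^ (2 * Cfsg.blockDefect p B) + 4 := by
  classical
  haveI : Fintype (Cfsg.IrrCharacter G) := Fintype.ofFinite _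
  have hp : p.Prime := Fact.out
  have hT : ∀ ξ, ξ ∈ Finset.univ.filter (fun ξ : Cfsg.IrrCharacter G => ξ ∈ B) ↔ ξ ∈ B := by
    intro ξ
    simp
  have h1 := brauer_feit_weighted hM B hB _ hT
  have hcard : Nat.card B = (Finset.univ.filter (fun ξ : Cfsg.IrrCharacter G => ξ ∈ B)).card := by
    rw [Nat.card_eq_fintype_card]
    exact Fintype.card_subtype _
  have h2 : (Finset.univ.filter (fun ξ : Cfsg.IrrCharacter G => ξ ∈ B)).card
      ≤ ∑ ξ ∈ Finset.univ.filter (fun ξ : Cfsg.IrrCharacter G => ξ ∈ B),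
        p ^ (2 * Cfsg.blockHeight p B (ξ : G → ℂ)) := by
    rw [Finset.card_eq_sum_ones]
    apply Finset.sum_le_sum
    intro ξ _
    exact Nat.one_le_pow _ _ hp.pos
  rw [hcard]
  omega

end BrauerFeit

end Cfsg.Agent.Lib.Helper24
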