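import Mathlib
import Cfsg.Prelude.Def_Blocks
import Cfsg.Prelude.Def_BlockLocal
import Cfsg.Prelude.Def_BrauerPairs
import Cfsg.Agent.Lib.Helper24.StableCover

/-!
# Defect groups of the block covering a stable block (helper24 library)

For `N` normal in `G`, a `G`-stable block `c` of `N` whose idempotent is the idempotent of a block
`B` of `G`:
* `not_dvd_of_isDefectClass_of_stable`: a defect class `g` of `B` lies in `N` and
  `[G : N C_G(g)]` is prime to `p`;
* `not_dvd_index_sup_of_stable`: for a defect group `P` of `B`, `[G : N P]` is prime to `p`.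
-/

set_option autoImplicit false

namespace Cfsg.Agent.Lib.Helper24

open Cfsg.Agent.Lib.Helper2 Cfsg.Agent.Lib.Helper7
open scoped ComplexConjugate

section StableSylow

variable {G : Type*} [Group G] [Fintype G] {p : ℕ} {M : Ideal Cfsg.AlgInt}
  (N : Subgroup G) [hN : N.Normal] [Fintype N]

theorem not_dvd_of_isDefectClass_of_stable [Fact p.Prime] (hM : Cfsg.IsPModular p M)
    (c : Set (Cfsg.IrrCharacter N)) (hc : Cfsg.IsPBlock M c)
    (hst : ∀ x : G, Cfsg.StabilizesBlock N c x)
    (B : Set (Cfsg.IrrCharacter G)) (hB : Cfsg.IsPBlock M B)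
    (hBc : ∀ g : G, Cfsg.blockCoeff B g = Cfsg.subgroupBlockCoeff N c g)
    (g : G) (hg : Cfsg.IsDefectClass M B g) :
    g ∈ N ∧ ∃ t : ℕ, t * N.relIndex (Subgroup.centralizer ({g} : Set G)) = N.index ∧ ¬ p ∣ t := by
  classical
  obtain ⟨hgR, hgI, hgω⟩ := hg
  have hgN : g ∈ N := by
    by_contra hcon
    apply hgI
    rw [hBc, subgroupBlockCoeff_eq_extZ, extendByZero_apply_not_mem N _ hcon]
    exact memLocalIdeal_zero hM
  refine ⟨hgN, ?_⟩
  obtain ⟨χ, hχ⟩ := isPBlock_nonempty hM hB
  obtain ⟨θ, hχθ⟩ := exists_constituent_restrict N χ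
  have hU := stable_iff_conjIrr N c hst
  have hθc : θ ∈ c := by
    by_contra hcon
    have h1 : omega χ.1 (Cfsg.blockCoeff B) = 1 := by
      rw [omega_blockCoeff, if_pos hχ]
    have h2 : Cfsg.blockCoeff B = coverFn N c := by
      funext x
      rw [hBc, subgroupBlockCoeff_eq_coverFn]
    rw [h2, omega_coverFn N c hU χ θ hχθ, if_neg hcon] at h1
    exact zero_ne_one h1
  have hcc := centralChar_eq_inducedCentralChar_of_constituent N χ θ hχθ ⟨g, hgN⟩
  obtain ⟨t, ht, hcong⟩ := inducedCentralChar_sub_of_stable N hM c hc hst θ hθc ⟨g, hgN⟩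
  have hχω := hgω χ hχ
  simp only at hcc hcong ht
  rw [hcc] at hχω
  refine ⟨t, ht, ?_⟩
  have hwR : Cfsg.MemLocalRing M (Cfsg.centralChar (θ : N → ℂ) ⟨g, hgN⟩) :=
    centralChar_memLocalRing hM θ _
  have htw : ¬ Cfsg.MemLocalIdeal M ((t : ℂ) * Cfsg.centralChar (θ : N → ℂ) ⟨g, hgN⟩) := by
    intro h
    apply hχω
    have := memLocalIdeal_add hM hcong h
    rwa [sub_add_cancel] at this
  intro h
  apply htw
  exact memLocalIdeal_mul_right hM ((memLocalIdeal_natCast_iff hM t).mpr h) hwR

/-- **Defect groups cover a Sylow subgroup of the quotient**: if the idempotent of the `G`-stable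
block `c` of the normal subgroup `N` is the idempotent of the block `B` of `G` and `P` is a defect
group of `B`, then `[G : N P]` is prime to `p`. -/
theorem not_dvd_index_sup_of_stable [Fact p.Prime] (hM : Cfsg.IsPModular p M)
    (c : Set (Cfsg.IrrCharacter N)) (hc : Cfsg.IsPBlock M c)
    (hst : ∀ x : G, Cfsg.StabilizesBlock N c x)
    (B : Set (Cfsg.IrrCharacter G)) (hB : Cfsg.IsPBlock M B)
    (hBc : ∀ g : G, Cfsg.blockCoeff B g = Cfsg.subgroupBlockCoeff N c g)
    (P : Subgroup G) (hP : Cfsg.IsDefectGroup p M B P) :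
    ¬ p ∣ (N ⊔ P).index := by
  classical
  obtain ⟨g, hg, Sy, hPeq⟩ := hP
  obtain ⟨-, t, ht, htp⟩ := not_dvd_of_isDefectClass_of_stable N hM c hc hst B hB hBc g hg
  have hp : p.Prime := Fact.out
  -- inside `C_G(g)`
  haveI : (N.subgroupOf (Subgroup.centralizer ({g} : Set G))).Normal := Subgroup.normal_subgroupOf
  have h1 : (N.subgroupOf (Subgroup.centralizer ({g} : Set G))).relIndex ((Sy : Subgroup (Subgroup.centralizer ({g} : Set G))) ⊔ N.subgroupOf (Subgroup.centralizer ({g} : Set G)))
      * ((Sy : Subgroup (Subgroup.centralizer ({g} : Set G))) ⊔ N.subgroupOf (Subgroup.centralizer ({g} : Set G))).index = (N.subgroupOf (Subgroup.centralizer ({g} : Set G))).index :=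
    Subgroup.relIndex_mul_index le_sup_right
  rw [Subgroup.relIndex_sup_right] at h1
  have hPK : P ≤ (Subgroup.centralizer ({g} : Set G)) := by
    rw [hPeq]
    exact Subgroup.map_subtype_le _
  have hPsub : P.subgroupOf (Subgroup.centralizer ({g} : Set G)) = (Sy : Subgroup (Subgroup.centralizer ({g} : Set G))) := by
    rw [hPeq]
    exact Subgroup.comap_map_eq_self_of_injective (Subgroup.centralizer ({g} : Set G)).subtype_injective _
  have h2 : (N.subgroupOf (Subgroup.centralizer ({g} : Set G))).relIndex (Sy : Subgroup (Subgroup.centralizer ({g} : Set G))) = N.relIndex P := by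
    rw [← hPsub]
    exact Subgroup.relIndex_subgroupOf hPK
  rw [h2] at h1
  have hm : ¬ p ∣ ((Sy : Subgroup (Subgroup.centralizer ({g} : Set G))) ⊔ N.subgroupOf (Subgroup.centralizer ({g} : Set G))).index := by
    intro h
    exact Sy.not_dvd_index (dvd_trans h (Subgroup.index_dvd_of_le le_sup_left))
  have h3 : N.relIndex (N ⊔ P) * (N ⊔ P).index = N.index :=
    Subgroup.relIndex_mul_index le_sup_left
  rw [Subgroup.relIndex_sup_left] at h3
  have hx : (N.subgroupOf (Subgroup.centralizer ({g} : Set G))).index = N.relIndex (Subgroup.centralizer ({g} : Set G)) := rfl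
  have hy0 : N.relIndex P ≠ 0 := by
    intro h0
    rw [h0, zero_mul] at h3
    exact Subgroup.index_ne_zero_of_finite h3.symm
  have h4 : (N ⊔ P).index = t * ((Sy : Subgroup (Subgroup.centralizer ({g} : Set G))) ⊔ N.subgroupOf (Subgroup.centralizer ({g} : Set G))).index := by
    apply Nat.eq_of_mul_eq_mul_left (Nat.pos_of_ne_zero hy0)
    rw [h3, ← ht, ← hx, ← h1]
    ring
  rw [h4]
  exact Nat.Prime.not_dvd_mul hp htp hm

end StableSylow

end Cfsg.Agent.Lib.Helper24
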