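import Mathlib
import Cfsg.Prelude.Def_Blocks
import Cfsg.Prelude.Def_BlockLocal
import Cfsg.Prelude.Def_BrauerPairs
import Cfsg.Agent.Lib.Helper24.StabPairs
import Cfsg.Agent.Lib.Helper24.OverNormalizer
import Cfsg.Agent.Lib.Helper24.StableSylow

/-!
# Brauer pairs of intermediate groups `Q C_G(Q) ≤ H ≤ N_G(Q, f)` (helper24 library)

* `exists_block_of_mid`: the idempotent of `f` is a block idempotent of `H`.
* `subgroupBlockCoeff_mid`, `isBrauerPairOf_mid_iff`: the Brauer pairs `(R, g)` of that block with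
  `Q ≤ R` are the pairs of `G` with `(Q, f) ⊴ (R, g)`.
* `subpairLE_of_subgroupOf`: inclusions of pairs of `H` are inclusions of pairs of `G`.
* `not_dvd_index_sup_subgroupOf`: `[T : K D]` is prime to `p` for a defect group `D` of the block
  of `T` given by a `T`-stable block of `K ⊴ T`.
-/

set_option autoImplicit false

namespace Cfsg.Agent.Lib.Helper24

open Cfsg.Agent.Lib.Helper2 Cfsg.Agent.Lib.Helper7
open scoped ComplexConjugate

section MidBlock

variable {G : Type*} [Group G] [Fintype G] {p : ℕ} {M : Ideal Cfsg.AlgInt}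

/-- the idempotent of `f` is a block idempotent of every `H` with `Q C_G(Q) ≤ H ≤ N_G(Q, f)` -/
theorem exists_block_of_mid [Fact p.Prime] (hM : Cfsg.IsPModular p M) (Q : Subgroup G)
    (hQ : IsPGroup p Q)
    (f : Set (Cfsg.IrrCharacter (Subgroup.centralizer (Q : Set G)))) (hf : Cfsg.IsPBlock M f)
    (H : Subgroup G) (hQH : Q ≤ H) (hCH : Subgroup.centralizer (Q : Set G) ≤ H)
    (hHT : H ≤ stabSubgroup Q f) :
    ∃ F : Set (Cfsg.IrrCharacter (H)), Cfsg.IsPBlock M F ∧
      ∀ t : H,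
        Cfsg.blockCoeff F t
          = Cfsg.subgroupBlockCoeff (Subgroup.centralizer (Q : Set G)) f (t : G) := by
  classical
  haveI : Fintype (Subgroup.centralizer (Q : Set G)) := Fintype.ofFinite _
  haveI : Fintype (H) := Fintype.ofFinite _
  have hCT : Subgroup.centralizer (Q : Set G) ≤ H := hCH
  have hQT : Q ≤ H := hQH
  haveI hQn : (Q.subgroupOf (H)).Normal :=
    Subgroup.normal_subgroupOf_of_le_normalizer (hHT.trans (stabSubgroup_le_normalizer Q f))
  set aT : H → ℂ :=
    restrictTo (H) (Cfsg.subgroupBlockCoeff (Subgroup.centralizer (Q : Set G)) f)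
    with haT
  have has : ∀ t : H, (t : G) ∉ Subgroup.centralizer (Q : Set G) → aT t = 0 := by
    intro t ht
    show Cfsg.subgroupBlockCoeff (Subgroup.centralizer (Q : Set G)) f (t : G) = 0
    rw [subgroupBlockCoeff_eq_extZ, extendByZero_apply_not_mem _ _ ht]
  have hacl : Cfsg.IsClassFunction (H) aT := by
    intro t s
    exact subgroupBlockCoeff_conj_of_stabilizes _ f s ((mem_stabSubgroup Q f s).mp (hHT s.2)).2 t
  have hrest : restrictIn hCT aT = Cfsg.blockCoeff f := by
    ext c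
    show Cfsg.subgroupBlockCoeff (Subgroup.centralizer (Q : Set G)) f (c : G) = _
    rw [subgroupBlockCoeff_eq_extZ, extendByZero_apply_coe]
  have haR : ∀ t, Cfsg.MemLocalRing M (aT t) := by
    intro t
    show Cfsg.MemLocalRing M
      (Cfsg.subgroupBlockCoeff (Subgroup.centralizer (Q : Set G)) f (t : G))
    rw [subgroupBlockCoeff_eq_extZ]
    exact extZ_memLocalRing hM _ _ (blockCoeff_memLocalRing hM f hf) _
  have hid : conv aT aT = aT := by
    obtain ⟨h1, h2⟩ := conv_restrictIn hCT aT aT has has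
    apply eq_of_restrictIn_eq hCT _ _ h2 has
    rw [h1, hrest, conv_blockCoeff_self]
  obtain ⟨ξ₀, hξ₀⟩ := isPBlock_nonempty hM hf
  have hne : aT ≠ 0 := by
    intro h0
    have h1 : Cfsg.blockCoeff f
        = Cfsg.blockCoeff (∅ : Set (Cfsg.IrrCharacter (Subgroup.centralizer (Q : Set G)))) := by
      rw [blockCoeff_empty, ← hrest, h0]
      rfl
    have h3 := blockCoeff_injective h1
    rw [h3] at hξ₀
    exact hξ₀
  have hE := eq_blockCoeff_idemSet aT hacl hid
  have hEne : (idemSet aT).Nonempty := by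
    by_contra hcon
    rw [Set.not_nonempty_iff_eq_empty] at hcon
    rw [hcon, blockCoeff_empty] at hE
    exact hne hE
  obtain ⟨ψ₁, hψ₁⟩ := hEne
  have hE₁E : Cfsg.blockOf M (ψ₁ : H → ℂ) ⊆ idemSet aT :=
    blockOf_subset_of_memLocalRing hM (idemSet aT) (by rw [← hE]; exact haR) ψ₁ hψ₁
  have hE₁ : Cfsg.IsPBlock M (Cfsg.blockOf M (ψ₁ : H → ℂ)) := ⟨ψ₁, rfl⟩
  have hεs : ∀ t : H, (t : G) ∉ Subgroup.centralizer (Q : Set G) →
      Cfsg.blockCoeff (Cfsg.blockOf M (ψ₁ : H → ℂ)) t = 0 := by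
    intro t ht
    have hPT' : IsPGroup p (Q.subgroupOf (H)) :=
      hQ.comap_of_injective (H).subtype (H).subtype_injective
    apply blockCoeff_eq_zero_of_notMem_centralizer hM (Q.subgroupOf (H)) hPT' _
      hE₁ t
    intro hcen
    apply ht
    rw [Subgroup.mem_centralizer_iff]
    intro u hu
    have := (Subgroup.mem_centralizer_iff.mp hcen) ⟨u, hQT hu⟩ (Subgroup.mem_subgroupOf.mpr hu)
    exact congrArg Subtype.val this
  have hεa : conv (Cfsg.blockCoeff (Cfsg.blockOf M (ψ₁ : H → ℂ))) aT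
      = Cfsg.blockCoeff (Cfsg.blockOf M (ψ₁ : H → ℂ)) := by
    conv_lhs => rw [hE]
    rw [conv_blockCoeff_blockCoeff, Set.inter_eq_left.mpr hE₁E]
  have hεne : Cfsg.blockCoeff (Cfsg.blockOf M (ψ₁ : H → ℂ)) ≠ 0 := by
    intro h0
    have h1 : Cfsg.blockCoeff (Cfsg.blockOf M (ψ₁ : H → ℂ))
        = Cfsg.blockCoeff (∅ : Set (Cfsg.IrrCharacter (H))) := by
      rw [blockCoeff_empty, h0]
    have h3 := blockCoeff_injective h1
    have : ψ₁ ∈ (∅ : Set (Cfsg.IrrCharacter (H))) := by
      rw [← h3]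
      exact mem_blockOf_self hM ψ₁
    exact this
  have hfin := eq_of_supported_of_conv hM hCT _ aT hεs has (blockCoeff_isClassFunction _)
    (blockCoeff_memLocalRing hM _ hE₁) (conv_blockCoeff_self _) hεne hεa f hf hrest
  have hEeq : Cfsg.blockOf M (ψ₁ : H → ℂ) = idemSet aT :=
    blockCoeff_injective (hfin.trans hE)
  refine ⟨idemSet aT, by rw [← hEeq]; exact hE₁, ?_⟩
  intro t
  rw [← hE]
  rfl


/-- the block of `H` given by `f` has, extended by zero to `G`, the idempotent of `f` -/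
theorem subgroupBlockCoeff_mid (Q : Subgroup G)
    (f : Set (Cfsg.IrrCharacter (Subgroup.centralizer (Q : Set G))))
    (H : Subgroup G) (hCH : Subgroup.centralizer (Q : Set G) ≤ H)
    (b : Set (Cfsg.IrrCharacter H))
    (hbc : ∀ t : H, Cfsg.blockCoeff b t
      = Cfsg.subgroupBlockCoeff (Subgroup.centralizer (Q : Set G)) f (t : G)) :
    Cfsg.subgroupBlockCoeff H b
      = Cfsg.subgroupBlockCoeff (Subgroup.centralizer (Q : Set G)) f := by
  funext g
  by_cases hg : g ∈ H
  · have h1 := subgroupBlockCoeff_coe H b ⟨g, hg⟩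
    have h2 := hbc ⟨g, hg⟩
    simp only at h1 h2
    rw [h1, h2]
  · rw [subgroupBlockCoeff_eq_extZ, extendByZero_apply_not_mem _ _ hg,
      subgroupBlockCoeff_eq_extZ, extendByZero_apply_not_mem _ _ (fun h => hg (hCH h))]

/-- **Brauer pairs of the block of `H` given by `f`**, on subgroups `R` with `Q ≤ R ≤ H`, are the
pairs `(R, g)` of `G` with `(Q, f) ⊴ (R, g)`. -/
theorem isBrauerPairOf_mid_iff (Q : Subgroup G) (hQ : IsPGroup p Q)
    (f : Set (Cfsg.IrrCharacter (Subgroup.centralizer (Q : Set G)))) (hf : Cfsg.IsPBlock M f)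
    (H : Subgroup G) (hCH : Subgroup.centralizer (Q : Set G) ≤ H)
    (hHT : H ≤ stabSubgroup Q f)
    (b : Set (Cfsg.IrrCharacter H)) (hb : Cfsg.IsPBlock M b)
    (hbc : ∀ t : H, Cfsg.blockCoeff b t
      = Cfsg.subgroupBlockCoeff (Subgroup.centralizer (Q : Set G)) f (t : G))
    (R : Subgroup G) (hQR : Q ≤ R) (hRH : R ≤ H)
    (e' : Set (Cfsg.IrrCharacter (Subgroup.centralizer ((R.subgroupOf H : Subgroup H) : Set H)))) :
    Cfsg.IsBrauerPairOf p M b (R.subgroupOf H) e' ↔
      Cfsg.IsNormalSubpair p M Q f R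
        (irrMap (centH H R hRH
          ((Subgroup.centralizer_le (SetLike.coe_subset_coe.mpr hQR)).trans hCH)) '' e') := by
  rw [isBrauerPairOf_centH_iff H R hRH
    ((Subgroup.centralizer_le (SetLike.coe_subset_coe.mpr hQR)).trans hCH) b e',
    subgroupBlockCoeff_mid Q f H hCH b hbc]
  constructor
  · rintro ⟨h1, _, h3⟩
    exact ⟨⟨hQ, hf⟩, h1, hQR, hRH.trans (hHT.trans (stabSubgroup_le_normalizer Q f)),
      fun x hx => ((mem_stabSubgroup Q f x).mp (hHT (hRH hx))).2, h3⟩
  · rintro ⟨_, h1, _, _, _, h3⟩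
    exact ⟨h1, hb, h3⟩

/-- **Inclusions of Brauer pairs of a subgroup `H` are inclusions of Brauer pairs of `G`**, as
long as the centralizers of the first components lie in `H`. -/
theorem subpairLE_of_subgroupOf_aux (H S : Subgroup G) (hSH : S ≤ H)
    (hCS : Subgroup.centralizer (S : Set G) ≤ H)
    (g' : Set (Cfsg.IrrCharacter (Subgroup.centralizer ((S.subgroupOf H : Subgroup H) : Set H))))
    (a : Cfsg.BrauerPairIdx H)
    (h : Relation.ReflTransGen (Cfsg.NormalSubpairRel p M) a ⟨S.subgroupOf H, g'⟩) :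
    ∀ (R : Subgroup G) (hRH : R ≤ H) (hCR : Subgroup.centralizer (R : Set G) ≤ H)
      (e' : Set (Cfsg.IrrCharacter
        (Subgroup.centralizer ((R.subgroupOf H : Subgroup H) : Set H)))),
      a = ⟨R.subgroupOf H, e'⟩ →
      Cfsg.SubpairLE p M R (irrMap (centH H R hRH hCR) '' e') S
        (irrMap (centH H S hSH hCS) '' g') := by
  induction h using Relation.ReflTransGen.head_induction_on with
  | refl =>
    intro R hRH hCR e' heq
    have h1 : S.subgroupOf H = R.subgroupOf H := congrArg Sigma.fst heq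
    have h2 : S = R := eq_of_subgroupOf_eq H S R hSH hRH h1
    subst h2
    have h3 : g' = e' := eq_of_heq (Sigma.mk.inj heq).2
    subst h3
    exact Relation.ReflTransGen.refl
  | head hab hbc ih =>
    rename_i a c
    intro R hRH hCR e' heq
    subst heq
    obtain ⟨S', g''⟩ := c
    obtain ⟨R', hR'H, rfl⟩ : ∃ R' : Subgroup G, R' ≤ H ∧ R'.subgroupOf H = S' :=
      ⟨S'.map H.subtype, Subgroup.map_subtype_le S',
        Subgroup.comap_map_eq_self_of_injective H.subtype_injective S'⟩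
    have hab' : Cfsg.IsNormalSubpair p M (R.subgroupOf H) e' (R'.subgroupOf H) g'' := hab
    have hRR' : R ≤ R' := by
      intro x hx
      have : (⟨x, hRH hx⟩ : H) ∈ R.subgroupOf H := Subgroup.mem_subgroupOf.mpr hx
      exact Subgroup.mem_subgroupOf.mp (hab'.2.2.1 this)
    have hCR' : Subgroup.centralizer (R' : Set G) ≤ H :=
      (Subgroup.centralizer_le (SetLike.coe_subset_coe.mpr hRR')).trans hCR
    have hG := (isNormalSubpair_centH_iff H R R' hRR' hR'H hCR e' g'').mp hab'
    have hrel : Cfsg.NormalSubpairRel p M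
        (⟨R, irrMap (centH H R hRH hCR) '' e'⟩ : Cfsg.BrauerPairIdx G)
        ⟨R', irrMap (centH H R' hR'H hCR') '' g''⟩ := hG
    exact Relation.ReflTransGen.head hrel (ih R' hR'H hCR' g'' rfl)

theorem subpairLE_of_subgroupOf (H R S : Subgroup G) (hRH : R ≤ H) (hSH : S ≤ H)
    (hCR : Subgroup.centralizer (R : Set G) ≤ H) (hCS : Subgroup.centralizer (S : Set G) ≤ H)
    (e' : Set (Cfsg.IrrCharacter (Subgroup.centralizer ((R.subgroupOf H : Subgroup H) : Set H))))
    (g' : Set (Cfsg.IrrCharacter (Subgroup.centralizer ((S.subgroupOf H : Subgroup H) : Set H))))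
    (h : Cfsg.SubpairLE p M (R.subgroupOf H) e' (S.subgroupOf H) g') :
    Cfsg.SubpairLE p M R (irrMap (centH H R hRH hCR) '' e') S
      (irrMap (centH H S hSH hCS) '' g') :=
  subpairLE_of_subgroupOf_aux H S hSH hCS g' _ h R hRH hCR e' rfl


/-- conjugation of a pair of `H` by `h ∈ H`, in terms of conjugation in `G` -/
theorem conjIdx_subgroupOf (H R : Subgroup G) (hRH : R ≤ H)
    (hCR : Subgroup.centralizer (R : Set G) ≤ H) (h : H)
    (hRh : R.map (MulAut.conj (h : G)).toMonoidHom ≤ H)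
    (hCRh : Subgroup.centralizer
      ((R.map (MulAut.conj (h : G)).toMonoidHom : Subgroup G) : Set G) ≤ H)
    (e' : Set (Cfsg.IrrCharacter (Subgroup.centralizer ((R.subgroupOf H : Subgroup H) : Set H)))) :
    conjIdx h (⟨R.subgroupOf H, e'⟩ : Cfsg.BrauerPairIdx H) =
      ⟨(R.map (MulAut.conj (h : G)).toMonoidHom).subgroupOf H,
        irrMap (centH H (R.map (MulAut.conj (h : G)).toMonoidHom) hRh hCRh).symm ''
          (Cfsg.conjBlock R (h : G) (irrMap (centH H R hRH hCR) '' e'))⟩ := by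
  classical
  haveI : Fintype H := Fintype.ofFinite _
  apply conjIdx_eq_of h (R.subgroupOf H) ((R.map (MulAut.conj (h : G)).toMonoidHom).subgroupOf H)
  · ext y
    rw [mem_map_conj_iff, Subgroup.mem_subgroupOf, Subgroup.mem_subgroupOf, mem_map_conj_iff]
    rfl
  · intro ξ'
    rw [conjBlock_eq_image]
    constructor
    · rintro ⟨η, ⟨ζ, ⟨ξ, hξ, rfl⟩, rfl⟩, rfl⟩
      refine ⟨ξ, hξ, ?_⟩
      intro c c' hcc
      rw [irrMap_apply, irrMap_apply, irrMap_apply]
      apply congrArg
      apply Subtype.ext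
      apply Subtype.ext
      show (h : G)⁻¹ * ((c' : H) : G) * (h : G) = ((c : H) : G)
      have := congrArg Subtype.val hcc
      rw [this]
      show (h : G)⁻¹ * ((h : G) * ((c : H) : G) * (h : G)⁻¹) * (h : G) = ((c : H) : G)
      group
    · rintro ⟨ξ, hξ, hprop⟩
      refine ⟨irrMap (conjCent R (h : G)) (irrMap (centH H R hRH hCR) ξ),
        ⟨_, ⟨ξ, hξ, rfl⟩, rfl⟩, ?_⟩
      apply Subtype.ext
      funext c'
      rw [irrMap_apply, irrMap_apply, irrMap_apply]
      symm
      apply hprop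
      apply Subtype.ext
      show ((c' : H) : G) = (h : G) * ((h : G)⁻¹ * ((c' : H) : G) * (h : G)) * (h : G)⁻¹
      group

/-- conjugation by an element of `N_G(P, e)` fixes the pair `(P, e)` -/
theorem conjIdx_of_mem_stabSubgroup (P : Subgroup G)
    (e : Set (Cfsg.IrrCharacter (Subgroup.centralizer (P : Set G)))) (y : G)
    (hy : y ∈ stabSubgroup P e) :
    conjIdx y (⟨P, e⟩ : Cfsg.BrauerPairIdx G) = ⟨P, e⟩ := by
  obtain ⟨hyN, hys⟩ := (mem_stabSubgroup P e y).mp hy
  have h1 := conjIdx_normalizer P ⟨y, hyN⟩ e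
  rw [stabilizesBlock_iff] at hys
  obtain ⟨hu, hsub⟩ := hys
  have h2 := image_conjIrr_eq_of_stabilizes _ e y hu hsub
  simp only at h1
  rw [h1, h2]

/-- conjugation by an element of `N_G(P, e)` preserves inclusion in `(P, e)` -/
theorem subpairLE_conj_of_mem_stabSubgroup {P Q : Subgroup G}
    {e : Set (Cfsg.IrrCharacter (Subgroup.centralizer (P : Set G)))}
    {f : Set (Cfsg.IrrCharacter (Subgroup.centralizer (Q : Set G)))} (y : G)
    (hy : y ∈ stabSubgroup P e) (hle : Cfsg.SubpairLE p M Q f P e) :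
    Cfsg.SubpairLE p M (Q.map (MulAut.conj y).toMonoidHom) (Cfsg.conjBlock Q y f) P e := by
  have h1 := subpairLE_conj (p := p) (M := M) y hle
  unfold Cfsg.SubpairLE at h1 ⊢
  have h3 : (⟨P.map (MulAut.conj y).toMonoidHom, Cfsg.conjBlock P y e⟩ : Cfsg.BrauerPairIdx G)
      = conjIdx y ⟨P, e⟩ := rfl
  rw [h3, conjIdx_of_mem_stabSubgroup P e y hy] at h1
  exact h1

/-- **Defect groups cover a Sylow subgroup of `T / K`**: if `K ≤ T ≤ N_G(K)` and the block `F` of
`T` has the idempotent of the block `f` of `K`, then `[T : K D]` is prime to `p` for every defect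
group `D` of `F`. -/
theorem not_dvd_index_sup_subgroupOf [Fact p.Prime] (hM : Cfsg.IsPModular p M)
    (T K : Subgroup G) (hKT : K ≤ T) (hTK : T ≤ Subgroup.normalizer (K : Set G))
    (f : Set (Cfsg.IrrCharacter K)) (hf : Cfsg.IsPBlock M f)
    (F : Set (Cfsg.IrrCharacter T)) (hF : Cfsg.IsPBlock M F)
    (hFc : ∀ t : T, Cfsg.blockCoeff F t = Cfsg.subgroupBlockCoeff K f (t : G))
    (D : Subgroup T) (hD : Cfsg.IsDefectGroup p M F D) :
    ¬ p ∣ (K.subgroupOf T ⊔ D).index := by
  classical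
  haveI : Fintype T := Fintype.ofFinite _
  haveI : Fintype K := Fintype.ofFinite _
  haveI : Fintype (K.subgroupOf T) := Fintype.ofFinite _
  haveI hn : (K.subgroupOf T).Normal := Subgroup.normal_subgroupOf_of_le_normalizer hTK
  have hc : Cfsg.IsPBlock M (irrMap (Subgroup.subgroupOfEquivOfLe hKT).symm '' f) :=
    isPBlock_image_irrMap _ hf
  have key : ∀ t : T, Cfsg.subgroupBlockCoeff (K.subgroupOf T)
      (irrMap (Subgroup.subgroupOfEquivOfLe hKT).symm '' f) t
      = Cfsg.subgroupBlockCoeff K f (t : G) := by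
    intro t
    rw [subgroupBlockCoeff_eq_extZ, subgroupBlockCoeff_eq_extZ]
    by_cases ht : (t : G) ∈ K
    · have ht' : t ∈ K.subgroupOf T := Subgroup.mem_subgroupOf.mpr ht
      rw [extendByZero_apply_mem _ _ ht', extendByZero_apply_mem _ _ ht, blockCoeff_image_irrMap]
      rfl
    · have ht' : t ∉ K.subgroupOf T := fun h => ht (Subgroup.mem_subgroupOf.mp h)
      rw [extendByZero_apply_not_mem _ _ ht', extendByZero_apply_not_mem _ _ ht]
  have hst : ∀ x : T, Cfsg.StabilizesBlock (K.subgroupOf T)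
      (irrMap (Subgroup.subgroupOfEquivOfLe hKT).symm '' f) x := by
    intro x
    apply stabilizesBlock_of_conj_invariant _ _ x
    · rw [Subgroup.normalizer_eq_top]
      exact Subgroup.mem_top x
    · intro g
      rw [key, key, ← hFc, ← hFc]
      exact blockCoeff_isClassFunction F g x
  exact not_dvd_index_sup_of_stable (K.subgroupOf T) hM _ hc hst F hF
    (fun t => by rw [hFc, key]) D hD

end MidBlock

end Cfsg.Agent.Lib.Helper24
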