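import Mathlib
import Cfsg.Prelude.Def_BlockFusion
import Cfsg.Agent.Lib.Helper24.MidPairs

/-!
# The fusion system of a block on a maximal Brauer pair (helper24 library)

* `IsBlockFusionMap`, `blockFusionSystem hM P e hPe : Cfsg.FusionSystem P`: the maps are the
  conjugations `c_g : Q → P` with `g (Q, f) ≤ (P, e)` for the pair `(Q, f) ≤ (P, e)`.
* `blockFusionSystem_isBlockFusionSystemOn`.
-/

set_option autoImplicit false

namespace Cfsg.Agent.Lib.Helper24

open Cfsg.Agent.Lib.Helper2 Cfsg.Agent.Lib.Helper7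
open scoped ComplexConjugate

section Construction

variable {G : Type*} [Group G] [Fintype G] {p : ℕ} {M : Ideal Cfsg.AlgInt}

theorem range_eq_map_conj (Q : Subgroup G) (g : G) (φ : Q →* G)
    (hg : ∀ u : Q, φ u = g * (u : G) * g⁻¹) :
    φ.range = Q.map (MulAut.conj g).toMonoidHom := by
  ext y
  rw [MonoidHom.mem_range, mem_map_conj_iff]
  constructor
  · rintro ⟨u, rfl⟩
    rw [hg]
    have e : g⁻¹ * (g * (u : G) * g⁻¹) * g = u := by group
    rw [e]
    exact u.2
  · intro h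
    refine ⟨⟨g⁻¹ * y * g, h⟩, ?_⟩
    rw [hg]
    show g * (g⁻¹ * y * g) * g⁻¹ = y
    group

theorem conjIdx_one (a : Cfsg.BrauerPairIdx G) : conjIdx (1 : G) a = a := by
  obtain ⟨Q, f⟩ := a
  apply conjIdx_eq_of
  · ext u
    rw [mem_map_conj_iff]
    simp
  · intro ξ'
    constructor
    · intro h
      refine ⟨ξ', h, ?_⟩
      intro c c' hcc
      have : c' = c := by
        apply Subtype.ext
        rw [hcc]
        simp
      rw [this]
    · rintro ⟨ξ, hξ, h⟩
      have : ξ' = ξ := by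
        apply Subtype.ext
        funext c
        exact h c c (by simp)
      rw [this]
      exact hξ

/-- the defining property of the maps of the fusion system of a block -/
def IsBlockFusionMap (p : ℕ) (M : Ideal Cfsg.AlgInt) (P : Subgroup G)
    (e : Set (Cfsg.IrrCharacter (Subgroup.centralizer (P : Set G)))) (Q : Subgroup G)
    (φ : Q →* G) : Prop :=
  Q ≤ P ∧ ∃ g : G, (∀ u : Q, φ u = g * (u : G) * g⁻¹) ∧
    Q.map (MulAut.conj g).toMonoidHom ≤ P ∧
    ∃ f : Set (Cfsg.IrrCharacter (Subgroup.centralizer (Q : Set G))),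
      Cfsg.SubpairLE p M Q f P e ∧
        Cfsg.SubpairLE p M (Q.map (MulAut.conj g).toMonoidHom) (Cfsg.conjBlock Q g f) P e

theorem isBlockFusionMap_conjHom {P : Subgroup G}
    {e : Set (Cfsg.IrrCharacter (Subgroup.centralizer (P : Set G)))} {Q : Subgroup G}
    (hQP : Q ≤ P) (g : G)
    (f : Set (Cfsg.IrrCharacter (Subgroup.centralizer (Q : Set G))))
    (h1 : Cfsg.SubpairLE p M Q f P e)
    (h2 : Cfsg.SubpairLE p M (Q.map (MulAut.conj g).toMonoidHom) (Cfsg.conjBlock Q g f) P e) :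
    IsBlockFusionMap p M P e Q (Cfsg.conjHom Q g) :=
  ⟨hQP, g, fun _ => rfl, le_of_reflTransGen h2, f, h1, h2⟩

/-- the inverse of a map of the block fusion system -/
theorem isBlockFusionMap_inv {P : Subgroup G}
    {e : Set (Cfsg.IrrCharacter (Subgroup.centralizer (P : Set G)))} {Q : Subgroup G}
    (g : G) (f : Set (Cfsg.IrrCharacter (Subgroup.centralizer (Q : Set G))))
    (h1 : Cfsg.SubpairLE p M Q f P e)
    (h2 : Cfsg.SubpairLE p M (Q.map (MulAut.conj g).toMonoidHom) (Cfsg.conjBlock Q g f) P e)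
    (R : Subgroup G) (hR : R = Q.map (MulAut.conj g).toMonoidHom) :
    IsBlockFusionMap p M P e R (Cfsg.conjHom R g⁻¹) := by
  subst hR
  have h3 : Cfsg.SubpairLE p M
      ((Q.map (MulAut.conj g).toMonoidHom).map (MulAut.conj g⁻¹).toMonoidHom)
      (Cfsg.conjBlock (Q.map (MulAut.conj g).toMonoidHom) g⁻¹ (Cfsg.conjBlock Q g f)) P e := by
    show Relation.ReflTransGen (Cfsg.NormalSubpairRel p M) (conjIdx g⁻¹ (conjIdx g ⟨Q, f⟩)) ⟨P, e⟩
    rw [conjIdx_mul, inv_mul_cancel, conjIdx_one]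
    exact h1
  exact isBlockFusionMap_conjHom (le_of_reflTransGen h2) g⁻¹ _ h2 h3

/-- **The fusion system of a block on a Brauer pair `(P, e)`.** -/
def blockFusionSystem (hM : Cfsg.IsPModular p M) (P : Subgroup G)
    (e : Set (Cfsg.IrrCharacter (Subgroup.centralizer (P : Set G))))
    (hPe : Cfsg.IsBrauerPair p M P e) : Cfsg.FusionSystem P where
  Hom Q := {φ | IsBlockFusionMap p M P e Q φ}
  le_of_mem := by
    rintro Q φ ⟨hQP, g, hg, hgP, -⟩
    refine ⟨hQP, fun x => hgP ?_⟩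
    rw [mem_map_conj_iff, hg]
    have e1 : g⁻¹ * (g * (x : G) * g⁻¹) * g = x := by group
    rw [e1]
    exact x.2
  injective_of_mem := by
    rintro Q φ ⟨-, g, hg, -⟩ a b hab
    have h : g * (a : G) * g⁻¹ = g * (b : G) * g⁻¹ := ((hg a).symm.trans hab).trans (hg b)
    exact Subtype.ext (mul_left_cancel (mul_right_cancel h))
  conj_mem := by
    intro Q g hQP hg
    haveI : Fact p.Prime := ⟨hM.1⟩
    obtain ⟨f, -, hle⟩ := exists_subpairLE hM P e hPe Q hQP
    exact isBlockFusionMap_conjHom hQP g f hle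
      (subpairLE_conj_of_mem_stabSubgroup g (le_stabSubgroup P e hg) hle)
  comp_mem := by
    rintro Q Q₂ φ ψ ⟨hQP, g, hg, hgP, f, hf1, hf2⟩ ⟨hQ₂P, k, hk, hkP, f₂, hf₂1, hf₂2⟩ h
    haveI : Fact p.Prime := ⟨hM.1⟩
    have hQgQ₂ : Q.map (MulAut.conj g).toMonoidHom ≤ Q₂ := by
      intro y hy
      rw [mem_map_conj_iff] at hy
      have := h ⟨_, hy⟩
      rw [hg] at this
      have e1 : g * (g⁻¹ * y * g) * g⁻¹ = y := by group
      simpa [e1] using this
    obtain ⟨fR, -, hfR2, hfR3⟩ := exists_intermediate_subpairLE hM hPe hQgQ₂ hQ₂P hf2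
    have hfR : fR = f₂ := subpairLE_unique hM P e hPe Q₂ hQ₂P fR f₂ hfR3 hf₂1
    subst hfR
    have h4 := Relation.ReflTransGen.trans (subpairLE_conj (p := p) (M := M) k hfR2) hf₂2
    have h5 : Cfsg.SubpairLE p M (Q.map (MulAut.conj (k * g)).toMonoidHom)
        (Cfsg.conjBlock Q (k * g) f) P e := by
      show Relation.ReflTransGen (Cfsg.NormalSubpairRel p M) (conjIdx (k * g) ⟨Q, f⟩) ⟨P, e⟩
      rw [← conjIdx_mul]
      exact h4
    refine ⟨hQP, k * g, fun u => ?_, le_of_reflTransGen h5, f, hf1, h5⟩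
    show ψ (φ.codRestrict Q₂ h u) = k * g * (u : G) * (k * g)⁻¹
    rw [hk]
    show k * φ u * k⁻¹ = _
    rw [hg, mul_inv_rev]
    simp only [mul_assoc]
  inv_mem := by
    rintro Q φ ⟨hQP, g, hg, hgP, f, hf1, hf2⟩
    refine ⟨Cfsg.conjHom φ.range g⁻¹,
      isBlockFusionMap_inv g f hf1 hf2 _ (range_eq_map_conj Q g φ hg), ?_⟩
    intro x
    show g⁻¹ * φ x * g⁻¹⁻¹ = x
    rw [hg, inv_inv]
    simp only [mul_assoc, inv_mul_cancel, mul_one, inv_mul_cancel_left]

theorem mem_blockFusionSystem_hom (hM : Cfsg.IsPModular p M) (P : Subgroup G)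
    (e : Set (Cfsg.IrrCharacter (Subgroup.centralizer (P : Set G))))
    (hPe : Cfsg.IsBrauerPair p M P e) (Q : Subgroup G) (φ : Q →* G) :
    φ ∈ (blockFusionSystem hM P e hPe).Hom Q ↔ IsBlockFusionMap p M P e Q φ := Iff.rfl

theorem blockFusionSystem_isBlockFusionSystemOn (hM : Cfsg.IsPModular p M)
    (B : Set (Cfsg.IrrCharacter G)) (P : Subgroup G)
    (e : Set (Cfsg.IrrCharacter (Subgroup.centralizer (P : Set G))))
    (hmax : Cfsg.IsMaximalBrauerPair p M B P e) :
    Cfsg.IsBlockFusionSystemOn p M B P e (blockFusionSystem hM P e hmax.1.1) :=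
  ⟨hmax, fun _ _ => Iff.rfl⟩

end Construction

end Cfsg.Agent.Lib.Helper24
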