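import Mathlib
import Cfsg.Agent.Lib.Helper11.Clifford
import Cfsg.Agent.Lib.Helper11.Clifford2
import Cfsg.Agent.Lib.Helper11.Frobenius
import Cfsg.Agent.Lib.Helper2.Induction

/-!
# Clifford correspondence over any subgroup containing the inertia group (helper24 library)

`H ⊴ G`, `H ≤ T ≤ G`.

* `resTo H T hHT ψ`: the restriction to `H` of a function on `T`.
* `classInner_indFun_subgroupOf`: Frobenius reciprocity `⟨θ^T, ψ⟩ = ⟨θ, ψ_H⟩`.
* `clifford_general`: if `T` contains the inertia group of `θ ∈ Irr(H)`, induction from `T` to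
  `G` maps the irreducible characters of `T` over `θ` injectively to irreducible characters of `G`.
* `classInner_resTo_expansion`, `liesOver_trans`, `exists_liesOver_between`.
-/

set_option autoImplicit false

namespace Cfsg.Agent.Lib.Helper24

open Cfsg.Agent.Lib.Helper2 Cfsg.Agent.Lib.Helper11
open scoped ComplexConjugate

section ResTo

variable {G : Type*} [Group G] (H T : Subgroup G)

/-- restriction to `H` of a function on `T ≥ H` -/
def resTo (hHT : H ≤ T) (ψ : T → ℂ) : H → ℂ := fun n => ψ ⟨n, hHT n.2⟩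

theorem resTo_apply (hHT : H ≤ T) (ψ : T → ℂ) (n : H) :
    resTo H T hHT ψ n = ψ ⟨n, hHT n.2⟩ := rfl

theorem resTo_restrict (hHT : H ≤ T) (χ : G → ℂ) :
    resTo H T hHT (fun t : T => χ t) = fun n : H => χ n := rfl

theorem resTo_sum (hHT : H ≤ T) {ι : Type*} (s : Finset ι) (f : ι → T → ℂ) :
    resTo H T hHT (∑ i ∈ s, f i) = ∑ i ∈ s, resTo H T hHT (f i) := by
  funext n
  rw [resTo_apply, Finset.sum_apply, Finset.sum_apply]
  rfl

theorem resTo_smul (hHT : H ≤ T) (c : ℂ) (f : T → ℂ) :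
    resTo H T hHT (c • f) = c • resTo H T hHT f := rfl

theorem resTo_isCharacter (hHT : H ≤ T) {ψ : T → ℂ} (hψ : Cfsg.IsCharacter T ψ) :
    Cfsg.IsCharacter H (resTo H T hHT ψ) :=
  IsCharacter.comp hψ (Subgroup.inclusion hHT)

variable [Fintype H] [Fintype T] [Fintype (H.subgroupOf T)]

theorem classInner_subgroupOf (hHT : H ≤ T) (θ : H → ℂ) (ψ : T → ℂ) :
    Cfsg.classInner (fun x : H.subgroupOf T => θ ⟨(x : T), Subgroup.mem_subgroupOf.mp x.2⟩)
        (fun x : H.subgroupOf T => ψ x)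
      = Cfsg.classInner θ (resTo H T hHT ψ) := by
  rw [classInner_def, classInner_def,
    Nat.card_congr (Subgroup.subgroupOfEquivOfLe hHT).toEquiv]
  congr 1
  exact Fintype.sum_equiv (Subgroup.subgroupOfEquivOfLe hHT).toEquiv _ _ (fun x => rfl)

theorem classInner_indFun_subgroupOf (hHT : H ≤ T) (θ : H → ℂ) (ψ : T → ℂ)
    (hψ : Cfsg.IsClassFunction T ψ) :
    Cfsg.classInner (Cfsg.indFun (H.subgroupOf T)
        (fun x => θ ⟨(x : T), Subgroup.mem_subgroupOf.mp x.2⟩)) ψ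
      = Cfsg.classInner θ (resTo H T hHT ψ) := by
  rw [frobenius_reciprocity (H.subgroupOf T) _ ψ hψ]
  exact classInner_subgroupOf H T hHT θ ψ

end ResTo

section Correspondence

variable {G : Type*} [Group G] [Fintype G] (H T : Subgroup G) [hN : H.Normal] [Fintype T]
  [Fintype H]

/-- Clifford correspondence over a subgroup `T` containing the inertia group of `θ`. -/
theorem clifford_general (θ : H → ℂ) (hθ : Cfsg.IsIrrCharacter H θ)
    (hT : ∀ g : G, conjFn H g θ = θ → g ∈ T) (hHT : H ≤ T)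
    (ψ ψ' : T → ℂ) (hψ : Cfsg.IsIrrCharacter T ψ) (hψ' : Cfsg.IsIrrCharacter T ψ')
    (hc : Cfsg.classInner (resTo H T hHT ψ) θ ≠ 0)
    (hc' : Cfsg.classInner (resTo H T hHT ψ') θ ≠ 0) :
    Cfsg.IsIrrCharacter G (Cfsg.indFun T ψ) ∧
      (Cfsg.indFun T ψ = Cfsg.indFun T ψ' → ψ = ψ') := by
  classical
  haveI : Fintype (H.subgroupOf T) := Fintype.ofFinite _
  haveI : Fintype (Cfsg.IrrCharacter T) := Fintype.ofFinite _
  set θ' : H.subgroupOf T → ℂ := fun x => θ ⟨(x : T), Subgroup.mem_subgroupOf.mp x.2⟩ with hθ'def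
  set Θ := Cfsg.indFun (H.subgroupOf T) θ' with hΘ
  have hθ'irr : Cfsg.IsIrrCharacter (H.subgroupOf T) θ' := by
    have := isIrrCharacter_comp_equiv (Subgroup.subgroupOfEquivOfLe hHT) hθ
    convert this using 1
    funext x
    rfl
  have hΘchar : Cfsg.IsCharacter T Θ :=
    indFun_isCharacter _ θ' (IsIrrCharacter.isCharacter hθ'irr)
  have hf : ∀ μ : Cfsg.IrrCharacter T, ∃ n : ℕ, Cfsg.classInner Θ (μ : T → ℂ) = n :=
    fun μ => classInner_isCharacter_nat hΘchar (IsIrrCharacter.isCharacter μ.2)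
  choose f hf using hf
  have hexp : Θ = ∑ μ : Cfsg.IrrCharacter T, (f μ : ℂ) • (μ : T → ℂ) := by
    conv_lhs => rw [classFunction_expansion Θ (IsCharacter.isClassFunction hΘchar)]
    simp only [hf]
  have hcc : ∀ μ ν : Cfsg.IrrCharacter T, ∃ n : ℕ,
      Cfsg.classInner (Cfsg.indFun T (μ : T → ℂ)) (Cfsg.indFun T (ν : T → ℂ)) = n :=
    fun μ ν => classInner_isCharacter_nat
      (indFun_isCharacter T _ (IsIrrCharacter.isCharacter μ.2))
      (indFun_isCharacter T _ (IsIrrCharacter.isCharacter ν.2))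
  choose c hcdef using hcc
  -- the two stabilizers have the same size
  have hstab : Nat.card {t : T // conjFn (H.subgroupOf T) t θ' = θ'}
      = Nat.card {g : G // conjFn H g θ = θ} := by
    apply Nat.card_congr
    refine
      { toFun := fun t => ⟨(t.1 : G), ?_⟩
        invFun := fun g => ⟨⟨g.1, hT g.1 g.2⟩, ?_⟩
        left_inv := fun t => rfl
        right_inv := fun g => rfl }
    · funext h
      have := congrFun t.2 ⟨⟨(h : G), hHT h.2⟩, Subgroup.mem_subgroupOf.mpr h.2⟩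
      exact this
    · funext x
      have := congrFun g.2 ⟨(x : T), Subgroup.mem_subgroupOf.mp x.2⟩
      exact this
  -- the two norms
  have hnormΘ : Cfsg.classInner Θ Θ
      = (Nat.card {g : G // conjFn H g θ = θ} : ℂ) / (Nat.card H : ℂ) := by
    rw [hΘ, classInner_indFun_self_of_irr (H.subgroupOf T) hθ'irr, hstab,
      Nat.card_congr (Subgroup.subgroupOfEquivOfLe hHT).toEquiv]
  have hnormG : Cfsg.classInner (Cfsg.indFun H θ) (Cfsg.indFun H θ)
      = (Nat.card {g : G // conjFn H g θ = θ} : ℂ) / (Nat.card H : ℂ) :=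
    classInner_indFun_self_of_irr H hθ
  have htrans : Cfsg.indFun T Θ = Cfsg.indFun H θ := indFun_trans H T hHT θ
  have h1 : Cfsg.classInner Θ Θ = ((∑ μ : Cfsg.IrrCharacter T, f μ ^ 2 : ℕ) : ℂ) := by
    have e : Cfsg.classInner Θ Θ
        = Cfsg.classInner (∑ μ : Cfsg.IrrCharacter T, (f μ : ℂ) • (μ : T → ℂ)) Θ :=
      congrArg (fun F => Cfsg.classInner F Θ) hexp
    rw [e, classInner_sum_left]
    push_cast
    apply Finset.sum_congr rfl
    intro μ _
    rw [classInner_smul_left, ← classInner_conj_symm, hf μ]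
    simp only [map_natCast]
    ring
  have h2 : Cfsg.classInner (Cfsg.indFun H θ) (Cfsg.indFun H θ)
      = ((∑ μ : Cfsg.IrrCharacter T, ∑ ν : Cfsg.IrrCharacter T, f μ * f ν * c μ ν : ℕ) : ℂ) := by
    rw [← htrans, hexp, indFun_sum, classInner_sum_left]
    push_cast
    apply Finset.sum_congr rfl
    intro μ _
    rw [classInner_sum_right]
    apply Finset.sum_congr rfl
    intro ν _
    rw [indFun_smul, indFun_smul, classInner_smul_left, classInner_smul_right, hcdef]
    simp only [map_natCast]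
    ring
  have hsum : ∑ μ : Cfsg.IrrCharacter T, ∑ ν : Cfsg.IrrCharacter T, f μ * f ν * c μ ν
      = ∑ μ : Cfsg.IrrCharacter T, f μ ^ 2 := by
    have : ((∑ μ : Cfsg.IrrCharacter T, ∑ ν : Cfsg.IrrCharacter T, f μ * f ν * c μ ν : ℕ) : ℂ)
        = ((∑ μ : Cfsg.IrrCharacter T, f μ ^ 2 : ℕ) : ℂ) := by
      rw [← h1, ← h2, hnormΘ, hnormG]
    exact_mod_cast this
  have hcpos : ∀ μ, f μ ≠ 0 → 1 ≤ c μ μ := by
    intro μ _
    by_contra h
    have h0 : c μ μ = 0 := by omega
    have h3 := hcdef μ μ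
    rw [h0, Nat.cast_zero] at h3
    have hz := eq_zero_of_classInner_self_eq_zero _ h3
    have h4 := indFun_apply_one T (μ : T → ℂ)
    rw [hz, Pi.zero_apply] at h4
    have h5 : (T.index : ℂ) ≠ 0 := by
      exact_mod_cast Subgroup.index_ne_zero_of_finite
    exact (mul_ne_zero h5 (IsIrrCharacter.apply_one_ne_zero μ.2)) h4.symm
  obtain ⟨hirr, horth⟩ := nat_gram_rigidity f c hcpos hsum
  have hfne : ∀ (ψ : T → ℂ) (hψ : Cfsg.IsIrrCharacter T ψ),
      Cfsg.classInner (resTo H T hHT ψ) θ ≠ 0 → f ⟨ψ, hψ⟩ ≠ 0 := by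
    intro ψ hψ hc h0
    apply hc
    have h3 := hf ⟨ψ, hψ⟩
    rw [h0, Nat.cast_zero] at h3
    have h4 : Cfsg.classInner Θ ψ = Cfsg.classInner θ (resTo H T hHT ψ) :=
      classInner_indFun_subgroupOf H T hHT θ ψ
        (IsCharacter.isClassFunction (IsIrrCharacter.isCharacter hψ))
    rw [h4] at h3
    rw [← classInner_conj_symm, h3, map_zero]
  have hfψ := hfne ψ hψ hc
  have hfψ' := hfne ψ' hψ' hc'
  have hnorm1 : Cfsg.classInner (Cfsg.indFun T ψ) (Cfsg.indFun T ψ) = 1 := by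
    have := hcdef ⟨ψ, hψ⟩ ⟨ψ, hψ⟩
    rw [hirr _ hfψ, Nat.cast_one] at this
    exact this
  refine ⟨isIrrCharacter_of_classInner_self_eq_one
    (indFun_isCharacter T ψ (IsIrrCharacter.isCharacter hψ)) hnorm1, ?_⟩
  intro heq
  by_contra hne
  have hne' : (⟨ψ, hψ⟩ : Cfsg.IrrCharacter T) ≠ ⟨ψ', hψ'⟩ := fun h => hne (congrArg Subtype.val h)
  have := hcdef ⟨ψ, hψ⟩ ⟨ψ', hψ'⟩
  rw [horth _ _ hne' hfψ hfψ', Nat.cast_zero] at this
  simp only at this
  rw [← heq, hnorm1] at this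
  exact one_ne_zero this

end Correspondence

section LiesOver

variable {G : Type*} [Group G] [Fintype G] (H T : Subgroup G) [Fintype T] [Fintype H]

/-- expansion of `⟨f_H, θ⟩` along the irreducible characters of `T` -/
theorem classInner_resTo_expansion [Fintype (Cfsg.IrrCharacter T)] (hHT : H ≤ T) (f : T → ℂ)
    (hf : Cfsg.IsClassFunction T f) (θ : H → ℂ) :
    Cfsg.classInner (resTo H T hHT f) θ
      = ∑ μ : Cfsg.IrrCharacter T, Cfsg.classInner f (μ : T → ℂ)
          * Cfsg.classInner (resTo H T hHT (μ : T → ℂ)) θ := by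
  conv_lhs => rw [classFunction_expansion f hf]
  rw [resTo_sum, classInner_sum_left]
  apply Finset.sum_congr rfl
  intro μ _
  rw [resTo_smul, classInner_smul_left]

/-- transitivity of "lies over" -/
theorem liesOver_trans (hHT : H ≤ T) (χ : Cfsg.IrrCharacter G) (ψ : Cfsg.IrrCharacter T)
    (θ : Cfsg.IrrCharacter H)
    (h1 : Cfsg.classInner (fun t : T => (χ : G → ℂ) t) (ψ : T → ℂ) ≠ 0)
    (h2 : Cfsg.classInner (resTo H T hHT (ψ : T → ℂ)) (θ : H → ℂ) ≠ 0) :
    Cfsg.classInner (fun n : H => (χ : G → ℂ) n) (θ : H → ℂ) ≠ 0 := by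
  classical
  haveI : Fintype (Cfsg.IrrCharacter T) := Fintype.ofFinite _
  have hχT : Cfsg.IsCharacter T (fun t : T => (χ : G → ℂ) t) :=
    IsCharacter.restrict (IsIrrCharacter.isCharacter χ.2) T
  have hexp := classInner_resTo_expansion H T hHT (fun t : T => (χ : G → ℂ) t)
    (IsCharacter.isClassFunction hχT) (θ : H → ℂ)
  rw [resTo_restrict] at hexp
  have hn : ∀ μ : Cfsg.IrrCharacter T, ∃ n : ℕ,
      Cfsg.classInner (fun t : T => (χ : G → ℂ) t) (μ : T → ℂ) = n :=
    fun μ => classInner_isCharacter_nat hχT (IsIrrCharacter.isCharacter μ.2)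
  have hk : ∀ μ : Cfsg.IrrCharacter T, ∃ k : ℕ,
      Cfsg.classInner (resTo H T hHT (μ : T → ℂ)) (θ : H → ℂ) = k :=
    fun μ => classInner_isCharacter_nat
      (resTo_isCharacter H T hHT (IsIrrCharacter.isCharacter μ.2))
      (IsIrrCharacter.isCharacter θ.2)
  choose n hn using hn
  choose k hk using hk
  rw [hexp]
  have e : ∑ μ : Cfsg.IrrCharacter T, Cfsg.classInner (fun t : T => (χ : G → ℂ) t) (μ : T → ℂ)
        * Cfsg.classInner (resTo H T hHT (μ : T → ℂ)) (θ : H → ℂ)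
      = ((∑ μ : Cfsg.IrrCharacter T, n μ * k μ : ℕ) : ℂ) := by
    push_cast
    apply Finset.sum_congr rfl
    intro μ _
    rw [hn, hk]
  rw [e]
  have hnψ : n ψ ≠ 0 := by
    intro h0
    apply h1
    rw [hn, h0, Nat.cast_zero]
  have hkψ : k ψ ≠ 0 := by
    intro h0
    apply h2
    rw [hk, h0, Nat.cast_zero]
  have hle : n ψ * k ψ ≤ ∑ μ : Cfsg.IrrCharacter T, n μ * k μ :=
    Finset.single_le_sum (f := fun μ => n μ * k μ) (fun _ _ => Nat.zero_le _)
      (Finset.mem_univ ψ)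
  have hpos : 0 < n ψ * k ψ := Nat.mul_pos (Nat.pos_of_ne_zero hnψ) (Nat.pos_of_ne_zero hkψ)
  exact_mod_cast (by omega : (∑ μ : Cfsg.IrrCharacter T, n μ * k μ) ≠ 0)

/-- an irreducible character of `T` between `χ` and `θ` -/
theorem exists_liesOver_between (hHT : H ≤ T) (χ : Cfsg.IrrCharacter G)
    (θ : Cfsg.IrrCharacter H)
    (h : Cfsg.classInner (fun n : H => (χ : G → ℂ) n) (θ : H → ℂ) ≠ 0) :
    ∃ ψ : Cfsg.IrrCharacter T,
      Cfsg.classInner (fun t : T => (χ : G → ℂ) t) (ψ : T → ℂ) ≠ 0 ∧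
      Cfsg.classInner (resTo H T hHT (ψ : T → ℂ)) (θ : H → ℂ) ≠ 0 := by
  classical
  haveI : Fintype (Cfsg.IrrCharacter T) := Fintype.ofFinite _
  have hχT : Cfsg.IsCharacter T (fun t : T => (χ : G → ℂ) t) :=
    IsCharacter.restrict (IsIrrCharacter.isCharacter χ.2) T
  have hexp := classInner_resTo_expansion H T hHT (fun t : T => (χ : G → ℂ) t)
    (IsCharacter.isClassFunction hχT) (θ : H → ℂ)
  rw [resTo_restrict] at hexp
  by_contra hcon
  push Not at hcon
  apply h
  rw [hexp]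
  apply Finset.sum_eq_zero
  intro μ _
  by_cases h1 : Cfsg.classInner (fun t : T => (χ : G → ℂ) t) (μ : T → ℂ) = 0
  · rw [h1, zero_mul]
  · rw [hcon μ h1, mul_zero]

end LiesOver

end Cfsg.Agent.Lib.Helper24
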