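import Mathlib
import Cfsg.Prelude.Def_Blocks
import Cfsg.Agent.Lib.Helper24.CliffordGeneral
import Cfsg.Agent.Lib.Helper24.BlockBasic
import Cfsg.Agent.Lib.Helper24.Defect
import Cfsg.Agent.Lib.Helper24.Transport
import Cfsg.Agent.Lib.Helper24.MaxPairs
import Cfsg.Agent.Lib.Helper24.OverNormalizer
import Cfsg.Agent.Lib.Helper7.Covering
import Cfsg.Agent.Lib.Helper7.InducedBlock
import Cfsg.Agent.S0953
import Cfsg.Agent.S0917
import Cfsg.Agent.Lib.Helper7.DefectOrder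
import Cfsg.Agent.Lib.Helper25.CharBasic

/-!
# The Fong–Reynolds correspondence (helper24 library)

`N ⊴ G`, `b` a block of `N`, `T` the stabilizer of `b` in `G`.
-/

set_option autoImplicit false

namespace Cfsg.Agent.Lib.Helper24

open Cfsg.Agent.Lib.Helper2 Cfsg.Agent.Lib.Helper11
open scoped ComplexConjugate

section FR

variable {G : Type*} [Group G] [Fintype G] {p : ℕ} {M : Ideal Cfsg.AlgInt}
  (N T : Subgroup G) [hN : N.Normal] [Fintype N] [Fintype T]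

/-- the conjugate of an irreducible character of the normal subgroup `N` -/
noncomputable def conjIrrN (g : G) (θ : Cfsg.IrrCharacter N) : Cfsg.IrrCharacter N :=
  ⟨conjFn N g (θ : N → ℂ), conjFn_isIrrCharacter N g θ.2⟩

theorem conjIrrN_coe (g : G) (θ : Cfsg.IrrCharacter N) :
    ((conjIrrN N g θ : Cfsg.IrrCharacter N) : N → ℂ) = conjFn N g (θ : N → ℂ) := rfl

/-- the stabilizer condition on `T` used in the Fong–Reynolds statements -/
def IsBlockStab (b : Set (Cfsg.IrrCharacter N)) : Prop :=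
  ∀ g : G, g ∈ T ↔ ∀ θ ∈ b, ∀ θ' : Cfsg.IrrCharacter N,
    (∀ n : N, (θ' : N → ℂ) n = (θ : N → ℂ) ⟨g * n * g⁻¹, hN.conj_mem n n.2 g⟩) → θ' ∈ b

variable {N T}

theorem IsBlockStab.conj_mem {b : Set (Cfsg.IrrCharacter N)} (hT : IsBlockStab N T b) {t : G}
    (ht : t ∈ T) {θ : Cfsg.IrrCharacter N} (hθ : θ ∈ b) : conjIrrN N t θ ∈ b :=
  (hT t).mp ht θ hθ (conjIrrN N t θ) (fun _ => rfl)

theorem IsBlockStab.mem_of_conj_mem (hM : Cfsg.IsPModular p M) {b : Set (Cfsg.IrrCharacter N)}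
    (hb : Cfsg.IsPBlock M b) (hT : IsBlockStab N T b) {g : G} {θ : Cfsg.IrrCharacter N}
    (hθ : θ ∈ b) (h : conjIrrN N g θ ∈ b) : g ∈ T := by
  rw [hT g]
  intro θ₁ hθ₁ θ' hθ'
  have e : θ' = conjIrrN N g θ₁ := Subtype.ext (funext hθ')
  rw [e, eq_blockOf_of_mem hM hb h]
  have hs : Cfsg.SameBlock M (θ : N → ℂ) (θ₁ : N → ℂ) := sameBlock_of_mem hM hb hθ hθ₁
  exact Cfsg.Agent.Lib.Helper7.sameBlock_conjFun N hs g

theorem IsBlockStab.inertia_le (hM : Cfsg.IsPModular p M) {b : Set (Cfsg.IrrCharacter N)}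
    (hb : Cfsg.IsPBlock M b) (hT : IsBlockStab N T b) {θ : Cfsg.IrrCharacter N}
    (hθ : θ ∈ b) (g : G) (h : conjFn N g (θ : N → ℂ) = (θ : N → ℂ)) : g ∈ T := by
  apply hT.mem_of_conj_mem hM hb hθ
  have e : conjIrrN N g θ = θ := Subtype.ext h
  rw [e]
  exact hθ

/-- the restriction to `N` of a class function of `T` is `T`-invariant -/
theorem conjFn_resTo (hNT : N ≤ T) {ψ : T → ℂ} (hψ : Cfsg.IsClassFunction T ψ) {t : G}
    (ht : t ∈ T) : conjFn N t (resTo N T hNT ψ) = resTo N T hNT ψ := by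
  funext n
  rw [conjFn_apply, resTo_apply, resTo_apply]
  exact hψ ⟨n, hNT n.2⟩ ⟨t, ht⟩

theorem classInner_resTo_conjFn (hNT : N ≤ T) {ψ : T → ℂ} (hψ : Cfsg.IsClassFunction T ψ)
    {t : G} (ht : t ∈ T) (θ : N → ℂ) :
    Cfsg.classInner (resTo N T hNT ψ) (conjFn N t θ) = Cfsg.classInner (resTo N T hNT ψ) θ := by
  conv_lhs => rw [← conjFn_resTo hNT hψ ht]
  exact classInner_conjFn_conjFn N t _ θ

/-- `ψ^G` lies over `ψ` -/
theorem classInner_restrict_indFun_self {ψ : T → ℂ}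
    (hirr : Cfsg.IsIrrCharacter G (Cfsg.indFun T ψ)) :
    Cfsg.classInner (fun t : T => Cfsg.indFun T ψ t) ψ = 1 := by
  rw [← classInner_indFun_right T ψ _ (indFun_isClassFunction T ψ)]
  exact classInner_irrCharacter_self (⟨_, hirr⟩ : Cfsg.IrrCharacter G)

/-- characters of `T` over `b` induce irreducibly -/
theorem IsBlockStab.isIrrCharacter_indFun (hM : Cfsg.IsPModular p M)
    {b : Set (Cfsg.IrrCharacter N)} (hb : Cfsg.IsPBlock M b) (hT : IsBlockStab N T b)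
    (hNT : N ≤ T) (ψ : Cfsg.IrrCharacter T) (θ : Cfsg.IrrCharacter N) (hθ : θ ∈ b)
    (hov : Cfsg.classInner (resTo N T hNT (ψ : T → ℂ)) (θ : N → ℂ) ≠ 0) :
    Cfsg.IsIrrCharacter G (Cfsg.indFun T (ψ : T → ℂ)) :=
  (clifford_general N T (θ : N → ℂ) θ.2 (fun g hg => hT.inertia_le hM hb hθ g hg) hNT
    (ψ : T → ℂ) (ψ : T → ℂ) ψ.2 ψ.2 hov hov).1

/-- induction is injective on the characters of `T` over `b` -/
theorem IsBlockStab.indFun_injective (hM : Cfsg.IsPModular p M)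
    {b : Set (Cfsg.IrrCharacter N)} (hb : Cfsg.IsPBlock M b) (hT : IsBlockStab N T b)
    (hNT : N ≤ T) (ψ ψ' : Cfsg.IrrCharacter T) (θ θ' : Cfsg.IrrCharacter N) (hθ : θ ∈ b)
    (hθ' : θ' ∈ b)
    (hov : Cfsg.classInner (resTo N T hNT (ψ : T → ℂ)) (θ : N → ℂ) ≠ 0)
    (hov' : Cfsg.classInner (resTo N T hNT (ψ' : T → ℂ)) (θ' : N → ℂ) ≠ 0)
    (heq : Cfsg.indFun T (ψ : T → ℂ) = Cfsg.indFun T (ψ' : T → ℂ)) : ψ = ψ' := by
  have hirr := hT.isIrrCharacter_indFun hM hb hNT ψ θ hθ hov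
  have hirr' := hT.isIrrCharacter_indFun hM hb hNT ψ' θ' hθ' hov'
  -- `χ = ψ^G` lies over `θ` and over `θ'`
  have h1 : Cfsg.classInner (fun n : N => Cfsg.indFun T (ψ : T → ℂ) n) (θ : N → ℂ) ≠ 0 := by
    apply liesOver_trans N T hNT ⟨_, hirr⟩ ψ θ _ hov
    show Cfsg.classInner (fun t : T => Cfsg.indFun T (ψ : T → ℂ) t) (ψ : T → ℂ) ≠ 0
    rw [classInner_restrict_indFun_self hirr]
    exact one_ne_zero
  have h2 : Cfsg.classInner (fun n : N => Cfsg.indFun T (ψ : T → ℂ) n) (θ' : N → ℂ) ≠ 0 := by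
    rw [heq]
    apply liesOver_trans N T hNT ⟨_, hirr'⟩ ψ' θ' _ hov'
    show Cfsg.classInner (fun t : T => Cfsg.indFun T (ψ' : T → ℂ) t) (ψ' : T → ℂ) ≠ 0
    rw [classInner_restrict_indFun_self hirr']
    exact one_ne_zero
  obtain ⟨g, hg⟩ := clifford_conj N hirr θ.2 θ'.2 h1 h2
  have hgT : g ∈ T := by
    apply hT.mem_of_conj_mem hM hb hθ
    have e : conjIrrN N g θ = θ' := Subtype.ext hg.symm
    rw [e]
    exact hθ'
  have hov'' : Cfsg.classInner (resTo N T hNT (ψ' : T → ℂ)) (θ : N → ℂ) ≠ 0 := by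
    rw [hg, classInner_resTo_conjFn hNT
      (IsCharacter.isClassFunction (IsIrrCharacter.isCharacter ψ'.2)) hgT] at hov'
    exact hov'
  have := (clifford_general N T (θ : N → ℂ) θ.2 (fun g hg => hT.inertia_le hM hb hθ g hg) hNT
    (ψ : T → ℂ) (ψ' : T → ℂ) ψ.2 ψ'.2 hov hov'').2 heq
  exact Subtype.ext this

omit [Fintype G] hN in
theorem classInner_comp_subgroupOfEquiv (hNT : N ≤ T) [Fintype (N.subgroupOf T)]
    (f g : N → ℂ) :
    Cfsg.classInner (fun x : N.subgroupOf T => f (Subgroup.subgroupOfEquivOfLe hNT x))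
        (fun x : N.subgroupOf T => g (Subgroup.subgroupOfEquivOfLe hNT x))
      = Cfsg.classInner f g := by
  rw [classInner_def, classInner_def,
    Nat.card_congr (Subgroup.subgroupOfEquivOfLe hNT).toEquiv]
  congr 1
  exact Fintype.sum_equiv (Subgroup.subgroupOfEquivOfLe hNT).toEquiv _ _ (fun x => rfl)

/-- a character with nonzero degree has an irreducible constituent -/
theorem exists_constituent_of_isClassFunction {K : Type*} [Group K] [Fintype K] (f : K → ℂ)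
    (hf : Cfsg.IsClassFunction K f) (h1 : f 1 ≠ 0) :
    ∃ ξ : Cfsg.IrrCharacter K, Cfsg.classInner f (ξ : K → ℂ) ≠ 0 := by
  classical
  haveI : Fintype (Cfsg.IrrCharacter K) := Fintype.ofFinite _
  by_contra hcon
  push Not at hcon
  apply h1
  rw [classFunction_expansion f hf]
  rw [Finset.sum_apply]
  apply Finset.sum_eq_zero
  intro ξ _
  rw [hcon ξ, zero_smul, Pi.zero_apply]

/-- every member of a block of `T` covering `b` lies over a member of `b` -/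
theorem IsBlockStab.exists_liesOver (hM : Cfsg.IsPModular p M)
    {b : Set (Cfsg.IrrCharacter N)} (hb : Cfsg.IsPBlock M b) (hT : IsBlockStab N T b)
    (hNT : N ≤ T) (B' : Set (Cfsg.IrrCharacter T)) (hB' : Cfsg.IsPBlock M B')
    (hcov : ∃ ψ ∈ B', ∃ θ ∈ b,
      Cfsg.classInner (resTo N T hNT ((ψ : Cfsg.IrrCharacter T) : T → ℂ)) (θ : N → ℂ) ≠ 0)
    (ψ : Cfsg.IrrCharacter T) (hψ : ψ ∈ B') :
    ∃ θ ∈ b, Cfsg.classInner (resTo N T hNT (ψ : T → ℂ)) (θ : N → ℂ) ≠ 0 := by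
  classical
  haveI : Fintype (N.subgroupOf T) := Fintype.ofFinite _
  obtain ⟨ψ₀, hψ₀, θ₀, hθ₀, hov₀⟩ := hcov
  have hb' : Cfsg.IsPBlock M (irrMap (Subgroup.subgroupOfEquivOfLe hNT).symm '' b) :=
    isPBlock_image_irrMap _ hb
  have hcon : Cfsg.classInner (fun n : N.subgroupOf T => (ψ₀ : T → ℂ) n)
      ((irrMap (Subgroup.subgroupOfEquivOfLe hNT).symm θ₀ : Cfsg.IrrCharacter (N.subgroupOf T))
        : N.subgroupOf T → ℂ) ≠ 0 := by
    have := classInner_comp_subgroupOfEquiv hNT (resTo N T hNT (ψ₀ : T → ℂ)) (θ₀ : N → ℂ)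
    rw [← this] at hov₀
    exact hov₀
  obtain ⟨ξ', hξ'⟩ := exists_constituent_of_isClassFunction
    (fun n : N.subgroupOf T => (ψ : T → ℂ) n)
    (IsCharacter.isClassFunction (IsCharacter.restrict (IsIrrCharacter.isCharacter ψ.2) _))
    (by
      show (ψ : T → ℂ) 1 ≠ 0
      exact IsIrrCharacter.apply_one_ne_zero ψ.2)
  have hmem := Cfsg.Agent.Lib.Helper7.constituent_mem_orbitUnion (N.subgroupOf T) hM
    (irrMap (Subgroup.subgroupOfEquivOfLe hNT).symm '' b) hb' ψ₀ ψ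
    (sameBlock_of_mem hM hB' hψ₀ hψ) (irrMap (Subgroup.subgroupOfEquivOfLe hNT).symm θ₀)
    ⟨θ₀, hθ₀, rfl⟩ hcon ξ' hξ'
  obtain ⟨t, θ₁, hθ₁, heq⟩ := hmem
  have hξ : irrMap (Subgroup.subgroupOfEquivOfLe hNT) ξ' = conjIrrN N ((t⁻¹ : T) : G) θ₁ := by
    apply Subtype.ext
    funext n
    rw [conjIrrN_coe, conjFn_apply, irrMap_apply]
    have h1 := congrArg (fun ζ : Cfsg.IrrCharacter (N.subgroupOf T) =>
      (ζ : N.subgroupOf T → ℂ) ((Subgroup.subgroupOfEquivOfLe hNT).symm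
        ⟨((t⁻¹ : T) : G) * n * ((t⁻¹ : T) : G)⁻¹, hN.conj_mem n n.2 _⟩)) heq
    rw [irrMap_apply, MulEquiv.symm_symm, MulEquiv.apply_symm_apply] at h1
    rw [h1]
    apply congrArg
    apply Subtype.ext
    apply Subtype.ext
    show (n : G) = (t : G) * (((t⁻¹ : T) : G) * n * ((t⁻¹ : T) : G)⁻¹) * ((t⁻¹ : T) : G)
    rw [Subgroup.coe_inv]
    group
  refine ⟨irrMap (Subgroup.subgroupOfEquivOfLe hNT) ξ', ?_, ?_⟩
  · rw [hξ]
    exact hT.conj_mem (T.inv_mem t.2) hθ₁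
  · have := classInner_comp_subgroupOfEquiv hNT (resTo N T hNT (ψ : T → ℂ))
      ((irrMap (Subgroup.subgroupOfEquivOfLe hNT) ξ' : Cfsg.IrrCharacter N) : N → ℂ)
    rw [← this]
    have e : (fun x : N.subgroupOf T =>
        ((irrMap (Subgroup.subgroupOfEquivOfLe hNT) ξ' : Cfsg.IrrCharacter N) : N → ℂ)
          (Subgroup.subgroupOfEquivOfLe hNT x)) = (ξ' : N.subgroupOf T → ℂ) := by
      funext x
      rw [irrMap_apply, MulEquiv.symm_apply_apply]
    rw [e]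
    exact hξ'

/-- the relative trace of a block idempotent of `T` has local-integral coefficients -/
theorem indFun_blockCoeff_memLocalRing (hM : Cfsg.IsPModular p M)
    (B' : Set (Cfsg.IrrCharacter T)) (hB' : Cfsg.IsPBlock M B') (g : G) :
    Cfsg.MemLocalRing M (Cfsg.indFun T (Cfsg.blockCoeff B') g) := by
  rw [indFun_apply]
  apply avg_memLocalRing hM T (fun x => Cfsg.extendByZero T (Cfsg.blockCoeff B') (x⁻¹ * g * x))
  · intro x t ht
    have e : (x * t)⁻¹ * g * (x * t) = t⁻¹ * (x⁻¹ * g * x) * t⁻¹⁻¹ := by group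
    show Cfsg.extendByZero T (Cfsg.blockCoeff B') ((x * t)⁻¹ * g * (x * t))
      = Cfsg.extendByZero T (Cfsg.blockCoeff B') (x⁻¹ * g * x)
    rw [e]
    exact extZ_conj_of_mem T _ (blockCoeff_isClassFunction B') t⁻¹ (T.inv_mem ht) _
  · intro x
    show Cfsg.MemLocalRing M (Cfsg.extendByZero T (Cfsg.blockCoeff B') (x⁻¹ * g * x))
    by_cases h : x⁻¹ * g * x ∈ T
    · rw [extendByZero_of_mem T _ h]
      exact blockCoeff_memLocalRing hM B' hB' _
    · rw [extendByZero_of_not_mem T _ h]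
      exact memLocalRing_zero hM

/-- the central character of `χ` at the relative trace of the idempotent of `B'` -/
theorem omega_indFun_blockCoeff (B' : Set (Cfsg.IrrCharacter T)) (χ : Cfsg.IrrCharacter G) :
    omega (χ : G → ℂ) (Cfsg.indFun T (Cfsg.blockCoeff B'))
      = (T.index : ℂ) / (χ : G → ℂ) 1 * ∑ᶠ μ ∈ B', (μ : T → ℂ) 1
          * Cfsg.classInner (fun t : T => (χ : G → ℂ) t) (μ : T → ℂ) := by
  classical
  haveI : Fintype (Cfsg.IrrCharacter T) := Fintype.ofFinite _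
  have hTne : (Nat.card T : ℂ) ≠ 0 := card_ne_zero_complex
  have hGne : (Nat.card G : ℂ) ≠ 0 := card_ne_zero_complex
  have hidx : (Nat.card G : ℂ) = (T.index : ℂ) * (Nat.card T : ℂ) := by
    rw [← Nat.cast_mul, Subgroup.index_mul_card]
  have hcf : Cfsg.IsClassFunction G (fun g => conj ((χ : G → ℂ) g)) := by
    intro g x
    show conj ((χ : G → ℂ) (x * g * x⁻¹)) = conj ((χ : G → ℂ) g)
    rw [IrrCharacter.isClassFunction χ g x]
  have hA : ∑ g : G, Cfsg.indFun T (Cfsg.blockCoeff B') g * (χ : G → ℂ) g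
      = (T.index : ℂ) * ∑ t : T, Cfsg.blockCoeff B' t * (χ : G → ℂ) t := by
    have h1 := classInner_indFun_left T (Cfsg.blockCoeff B') (fun g => conj ((χ : G → ℂ) g)) hcf
    rw [classInner_def, classInner_def] at h1
    simp only [Complex.conj_conj] at h1
    have h2 := (inv_mul_eq_iff_eq_mul₀ hGne).mp h1
    rw [h2, hidx, mul_assoc, mul_inv_cancel_left₀ hTne]
  have hB : ∑ t : T, Cfsg.blockCoeff B' t * (χ : G → ℂ) t
      = ∑ᶠ μ ∈ B', (μ : T → ℂ) 1
          * Cfsg.classInner (fun t : T => (χ : G → ℂ) t) (μ : T → ℂ) := by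
    rw [finsum_mem_eq_sum_ite]
    have h1 : ∀ t : T, Cfsg.blockCoeff B' t * (χ : G → ℂ) t
        = ∑ μ : Cfsg.IrrCharacter T, if μ ∈ B' then
            (Nat.card T : ℂ)⁻¹ * ((μ : T → ℂ) 1 * conj ((μ : T → ℂ) t)) * (χ : G → ℂ) t else 0 := by
      intro t
      rw [blockCoeff_eq_sum, Finset.mul_sum, Finset.sum_mul]
      apply Finset.sum_congr rfl
      intro μ _
      split_ifs
      · rfl
      · rw [mul_zero, zero_mul]
    rw [Finset.sum_congr rfl (fun t _ => h1 t), Finset.sum_comm]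
    apply Finset.sum_congr rfl
    intro μ _
    by_cases hμ : μ ∈ B'
    · simp only [if_pos hμ]
      rw [classInner_def, Finset.mul_sum, Finset.mul_sum]
      apply Finset.sum_congr rfl
      intro t _
      ring
    · simp only [if_neg hμ]
      exact Finset.sum_const_zero
  unfold omega
  rw [hA, hB]
  ring

/-- **Fong–Reynolds (i)**: a block of `T` covering `b` induces a block of `G` covering `b`,
induction is a bijection from its members onto the members of the induced block. -/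
theorem IsBlockStab.fongReynolds_induce (hM : Cfsg.IsPModular p M)
    {b : Set (Cfsg.IrrCharacter N)} (hb : Cfsg.IsPBlock M b) (hT : IsBlockStab N T b)
    (hNT : N ≤ T) (B' : Set (Cfsg.IrrCharacter T)) (hB' : Cfsg.IsPBlock M B')
    (hcov : ∃ ψ ∈ B', ∃ θ ∈ b,
      Cfsg.classInner (resTo N T hNT ((ψ : Cfsg.IrrCharacter T) : T → ℂ)) (θ : N → ℂ) ≠ 0) :
    ∃ B : Set (Cfsg.IrrCharacter G), Cfsg.IsInducedBlock M T B' B ∧
      (∃ χ ∈ B, ∃ θ ∈ b,
        Cfsg.classInner (fun n : N => ((χ : Cfsg.IrrCharacter G) : G → ℂ) n) (θ : N → ℂ) ≠ 0) ∧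
      (∀ ψ ∈ B', Cfsg.IsIrrCharacter G (Cfsg.indFun T ((ψ : Cfsg.IrrCharacter T) : T → ℂ))) ∧
      ∀ χ : Cfsg.IrrCharacter G, χ ∈ B ↔
        ∃ ψ ∈ B', (χ : G → ℂ) = Cfsg.indFun T ((ψ : Cfsg.IrrCharacter T) : T → ℂ) := by
  classical
  haveI : Fintype (Cfsg.IrrCharacter T) := Fintype.ofFinite _
  have hirrAll : ∀ ψ ∈ B', Cfsg.IsIrrCharacter G (Cfsg.indFun T ((ψ : Cfsg.IrrCharacter T) : T → ℂ)) := by
    intro ψ hψ
    obtain ⟨θ, hθ, hov⟩ := hT.exists_liesOver hM hb hNT B' hB' hcov ψ hψ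
    exact hT.isIrrCharacter_indFun hM hb hNT ψ θ hθ hov
  obtain ⟨ψ₀, hψ₀⟩ : ∃ ψ₀, ψ₀ ∈ B' := isPBlock_nonempty hM hB'
  obtain ⟨θ₀, hθ₀, hov₀⟩ := hT.exists_liesOver hM hb hNT B' hB' hcov ψ₀ hψ₀
  have hirr₀ := hirrAll ψ₀ hψ₀
  obtain ⟨χ₀, hχ₀⟩ : ∃ χ₀ : Cfsg.IrrCharacter G, χ₀ = ⟨_, hirr₀⟩ := ⟨_, rfl⟩
  have hχ₀coe : (χ₀ : G → ℂ) = Cfsg.indFun T (ψ₀ : T → ℂ) := by rw [hχ₀]
  have hBind : ∀ ψ ∈ B', Cfsg.IsInducedBlock M T B'
      (Cfsg.blockOf M (Cfsg.indFun T ((ψ : Cfsg.IrrCharacter T) : T → ℂ))) := by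
    intro ψ hψ
    have := Cfsg.Agent.Lib.Helper7.isInducedBlock_of_indFun_irr (H := T) hM ψ (hirrAll ψ hψ)
    rwa [← eq_blockOf_of_mem hM hB' hψ] at this
  have hself₀ : Cfsg.classInner (fun t : T => (χ₀ : G → ℂ) t) (ψ₀ : T → ℂ) = 1 := by
    rw [hχ₀coe]
    exact classInner_restrict_indFun_self hirr₀
  refine ⟨Cfsg.blockOf M (Cfsg.indFun T (ψ₀ : T → ℂ)), hBind ψ₀ hψ₀, ?_, hirrAll, ?_⟩
  · refine ⟨χ₀, ?_, θ₀, hθ₀, ?_⟩
    · rw [← hχ₀coe]
      exact mem_blockOf_self hM χ₀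
    · apply liesOver_trans N T hNT χ₀ ψ₀ θ₀ _ hov₀
      rw [hself₀]
      exact one_ne_zero
  · intro χ
    constructor
    · intro hχ
      have hsame : Cfsg.SameBlock M (χ : G → ℂ) (χ₀ : G → ℂ) := by
        rw [hχ₀coe]
        exact sameBlock_symm hM hχ
      have h1 := omega_sub_memLocalIdeal hM χ χ₀ hsame (Cfsg.indFun T (Cfsg.blockCoeff B'))
        (indFun_isClassFunction T _) (indFun_blockCoeff_memLocalRing hM B' hB')
      have h0 : omega (χ₀ : G → ℂ) (Cfsg.indFun T (Cfsg.blockCoeff B')) = 1 := by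
        rw [omega_indFun_blockCoeff]
        have hsum : ∑ᶠ μ ∈ B', (μ : T → ℂ) 1
            * Cfsg.classInner (fun t : T => (χ₀ : G → ℂ) t) (μ : T → ℂ) = (ψ₀ : T → ℂ) 1 := by
          rw [finsum_mem_eq_sum_ite, Finset.sum_eq_single ψ₀]
          · rw [if_pos hψ₀, hself₀, mul_one]
          · intro μ _ hne
            by_cases hμ : μ ∈ B'
            · rw [if_pos hμ]
              have hz : Cfsg.classInner (fun t : T => (χ₀ : G → ℂ) t) (μ : T → ℂ) = 0 := by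
                by_contra hcon
                rw [← classInner_indFun_right T (μ : T → ℂ) _
                  (IrrCharacter.isClassFunction χ₀)] at hcon
                have heq := eq_of_irr_of_classInner_ne_zero χ₀.2 (hirrAll μ hμ) hcon
                obtain ⟨θ, hθ, hov⟩ := hT.exists_liesOver hM hb hNT B' hB' hcov μ hμ
                apply hne
                apply hT.indFun_injective hM hb hNT μ ψ₀ θ θ₀ hθ hθ₀ hov hov₀
                rw [← heq, hχ₀coe]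
              rw [hz, mul_zero]
            · rw [if_neg hμ]
          · intro h
            exact absurd (Finset.mem_univ _) h
        rw [hsum, hχ₀coe, indFun_apply_one]
        have hn1 : (ψ₀ : T → ℂ) 1 ≠ 0 := IsIrrCharacter.apply_one_ne_zero ψ₀.2
        have hn2 : (T.index : ℂ) ≠ 0 := Nat.cast_ne_zero.mpr Subgroup.index_ne_zero_of_finite
        field_simp
      rw [h0] at h1
      have hne : omega (χ : G → ℂ) (Cfsg.indFun T (Cfsg.blockCoeff B')) ≠ 0 := by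
        intro h
        rw [h, zero_sub] at h1
        have := memLocalIdeal_neg h1
        rw [neg_neg] at this
        exact not_memLocalIdeal_one hM this
      rw [omega_indFun_blockCoeff] at hne
      have hex : ∃ μ ∈ B', Cfsg.classInner (fun t : T => (χ : G → ℂ) t) (μ : T → ℂ) ≠ 0 := by
        by_contra hcon
        push Not at hcon
        apply hne
        rw [finsum_mem_eq_zero_of_forall_eq_zero, mul_zero]
        intro μ hμ
        rw [hcon μ hμ, mul_zero]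
      obtain ⟨μ, hμ, hμne⟩ := hex
      refine ⟨μ, hμ, ?_⟩
      rw [← classInner_indFun_right T (μ : T → ℂ) _ (IrrCharacter.isClassFunction χ)] at hμne
      exact eq_of_irr_of_classInner_ne_zero χ.2 (hirrAll μ hμ) hμne
    · rintro ⟨ψ, hψ, heq⟩
      have h1 := hBind ψ hψ
      have h2 := hBind ψ₀ hψ₀
      have := Cfsg.Agent.S0953.isInducedBlock_unique hM T B' _ _ h1 h2
      rw [← this]
      show Cfsg.SameBlock M (Cfsg.indFun T (ψ : T → ℂ)) (χ : G → ℂ)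
      rw [heq]
      exact sameBlock_refl hM _

/-- **Fong–Reynolds (ii)**: distinct blocks of `T` covering `b` induce distinct blocks. -/
theorem IsBlockStab.fongReynolds_injective (hM : Cfsg.IsPModular p M)
    {b : Set (Cfsg.IrrCharacter N)} (hb : Cfsg.IsPBlock M b) (hT : IsBlockStab N T b)
    (hNT : N ≤ T) (B'₁ B'₂ : Set (Cfsg.IrrCharacter T)) (h₁ : Cfsg.IsPBlock M B'₁)
    (h₂ : Cfsg.IsPBlock M B'₂)
    (hcov₁ : ∃ ψ ∈ B'₁, ∃ θ ∈ b,
      Cfsg.classInner (resTo N T hNT ((ψ : Cfsg.IrrCharacter T) : T → ℂ)) (θ : N → ℂ) ≠ 0)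
    (hcov₂ : ∃ ψ ∈ B'₂, ∃ θ ∈ b,
      Cfsg.classInner (resTo N T hNT ((ψ : Cfsg.IrrCharacter T) : T → ℂ)) (θ : N → ℂ) ≠ 0)
    (B : Set (Cfsg.IrrCharacter G)) (hi₁ : Cfsg.IsInducedBlock M T B'₁ B)
    (hi₂ : Cfsg.IsInducedBlock M T B'₂ B) : B'₁ = B'₂ := by
  obtain ⟨B₁, hB₁, -, hirr₁, hmem₁⟩ := hT.fongReynolds_induce hM hb hNT B'₁ h₁ hcov₁
  obtain ⟨B₂, hB₂, -, hirr₂, hmem₂⟩ := hT.fongReynolds_induce hM hb hNT B'₂ h₂ hcov₂
  have e₁ : B₁ = B := Cfsg.Agent.S0953.isInducedBlock_unique hM T B'₁ B₁ B hB₁ hi₁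
  have e₂ : B₂ = B := Cfsg.Agent.S0953.isInducedBlock_unique hM T B'₂ B₂ B hB₂ hi₂
  obtain ⟨ψ₁, hψ₁⟩ := isPBlock_nonempty hM h₁
  have hχ : (⟨_, hirr₁ ψ₁ hψ₁⟩ : Cfsg.IrrCharacter G) ∈ B₂ := by
    rw [e₂, ← e₁]
    exact (hmem₁ _).mpr ⟨ψ₁, hψ₁, rfl⟩
  obtain ⟨ψ₂, hψ₂, heq⟩ := (hmem₂ _).mp hχ
  obtain ⟨θ₁, hθ₁, hov₁⟩ := hT.exists_liesOver hM hb hNT B'₁ h₁ hcov₁ ψ₁ hψ₁
  obtain ⟨θ₂, hθ₂, hov₂⟩ := hT.exists_liesOver hM hb hNT B'₂ h₂ hcov₂ ψ₂ hψ₂
  have hψeq : ψ₁ = ψ₂ := hT.indFun_injective hM hb hNT ψ₁ ψ₂ θ₁ θ₂ hθ₁ hθ₂ hov₁ hov₂ heq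
  rw [eq_blockOf_of_mem hM h₁ hψ₁, eq_blockOf_of_mem hM h₂ hψ₂, hψeq]

/-- **Fong–Reynolds (iii)**: every block of `G` covering `b` is induced from a block of `T`
covering `b`. -/
theorem IsBlockStab.fongReynolds_surjective (hM : Cfsg.IsPModular p M)
    {b : Set (Cfsg.IrrCharacter N)} (hb : Cfsg.IsPBlock M b) (hT : IsBlockStab N T b)
    (hNT : N ≤ T) (B : Set (Cfsg.IrrCharacter G)) (hB : Cfsg.IsPBlock M B)
    (hcov : ∃ χ ∈ B, ∃ θ ∈ b,
      Cfsg.classInner (fun n : N => ((χ : Cfsg.IrrCharacter G) : G → ℂ) n) (θ : N → ℂ) ≠ 0) :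
    ∃ B' : Set (Cfsg.IrrCharacter T), Cfsg.IsPBlock M B' ∧
      (∃ ψ ∈ B', ∃ θ ∈ b,
        Cfsg.classInner (resTo N T hNT ((ψ : Cfsg.IrrCharacter T) : T → ℂ)) (θ : N → ℂ) ≠ 0) ∧
      Cfsg.IsInducedBlock M T B' B := by
  obtain ⟨χ, hχ, θ, hθ, hov⟩ := hcov
  obtain ⟨ψ, h1, h2⟩ := exists_liesOver_between N T hNT χ θ hov
  have hirr := hT.isIrrCharacter_indFun hM hb hNT ψ θ hθ h2
  have heq : (χ : G → ℂ) = Cfsg.indFun T (ψ : T → ℂ) := by
    rw [← classInner_indFun_right T (ψ : T → ℂ) _ (IrrCharacter.isClassFunction χ)] at h1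
    exact eq_of_irr_of_classInner_ne_zero χ.2 hirr h1
  refine ⟨Cfsg.blockOf M (ψ : T → ℂ), ⟨ψ, rfl⟩, ⟨ψ, mem_blockOf_self hM ψ, θ, hθ, h2⟩, ?_⟩
  have := Cfsg.Agent.Lib.Helper7.isInducedBlock_of_indFun_irr (H := T) hM ψ hirr
  rw [← heq, ← eq_blockOf_of_mem hM hB hχ] at this
  exact this

theorem sInf_image_add {ι : Type*} (S : Set ι) (hS : S.Nonempty) (f : ι → ℕ) (a : ℕ) :
    sInf ((fun i => a + f i) '' S) = a + sInf (f '' S) := by
  have hne : (f '' S).Nonempty := hS.image f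
  have hne' : ((fun i => a + f i) '' S).Nonempty := hS.image _
  apply le_antisymm
  · obtain ⟨i, hi, hfi⟩ := Nat.sInf_mem hne
    rw [← hfi]
    exact Nat.sInf_le ⟨i, hi, rfl⟩
  · obtain ⟨j, hj, hfj⟩ := Nat.sInf_mem hne'
    rw [← hfj]
    have : sInf (f '' S) ≤ f j := Nat.sInf_le ⟨j, hj, rfl⟩
    show a + sInf (f '' S) ≤ a + f j
    omega

omit hN [Fintype N] in
theorem charDegree_indFun {ψ : T → ℂ} (hψ : Cfsg.IsCharacter T ψ) :
    Cfsg.charDegree (Cfsg.indFun T ψ) = T.index * Cfsg.charDegree ψ := by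
  have h1 : Cfsg.indFun T ψ 1 = ((T.index * Cfsg.charDegree ψ : ℕ) : ℂ) := by
    rw [indFun_apply_one, Cfsg.Agent.Lib.Helper25.char_one_eq_charDegree hψ, Nat.cast_mul]
  show ⌊(Cfsg.indFun T ψ 1).re⌋₊ = _
  rw [h1, Complex.natCast_re, Nat.floor_natCast]

theorem charDegree_ne_zero_of_irr {K : Type*} [Group K] [Fintype K] {ψ : K → ℂ}
    (hψ : Cfsg.IsIrrCharacter K ψ) : Cfsg.charDegree ψ ≠ 0 := by
  intro h
  apply IsIrrCharacter.apply_one_ne_zero hψ
  rw [Cfsg.Agent.Lib.Helper25.char_one_eq_charDegree (IsIrrCharacter.isCharacter hψ), h,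
    Nat.cast_zero]

/-- **Fong–Reynolds**: defect groups and heights are preserved. -/
theorem IsBlockStab.fongReynolds_defect_height [Fact p.Prime] (hM : Cfsg.IsPModular p M)
    {b : Set (Cfsg.IrrCharacter N)} (hb : Cfsg.IsPBlock M b) (hT : IsBlockStab N T b)
    (hNT : N ≤ T) (B' : Set (Cfsg.IrrCharacter T)) (hB' : Cfsg.IsPBlock M B')
    (hcov : ∃ ψ ∈ B', ∃ θ ∈ b,
      Cfsg.classInner (resTo N T hNT ((ψ : Cfsg.IrrCharacter T) : T → ℂ)) (θ : N → ℂ) ≠ 0)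
    (B : Set (Cfsg.IrrCharacter G)) (hind : Cfsg.IsInducedBlock M T B' B) :
    (∀ D : Subgroup T, Cfsg.IsDefectGroup p M B' D →
        Cfsg.IsDefectGroup p M B (D.map T.subtype)) ∧
      ∀ ψ ∈ B', ∃ χ ∈ B, (χ : G → ℂ) = Cfsg.indFun T ((ψ : Cfsg.IrrCharacter T) : T → ℂ) ∧
        Cfsg.blockHeight p B (χ : G → ℂ) = Cfsg.blockHeight p B' (ψ : T → ℂ) := by
  classical
  obtain ⟨B₁, hB₁, -, hirr, hmem⟩ := hT.fongReynolds_induce hM hb hNT B' hB' hcov
  have e₁ : B₁ = B := Cfsg.Agent.S0953.isInducedBlock_unique hM T B' B₁ B hB₁ hind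
  subst e₁
  have hidx : T.index ≠ 0 := Subgroup.index_ne_zero_of_finite
  have hdeg : ∀ ψ : Cfsg.IrrCharacter T,
      (Cfsg.charDegree (Cfsg.indFun T (ψ : T → ℂ))).factorization p
        = T.index.factorization p + (Cfsg.charDegree (ψ : T → ℂ)).factorization p := by
    intro ψ
    rw [charDegree_indFun (IsIrrCharacter.isCharacter ψ.2),
      Nat.factorization_mul hidx (charDegree_ne_zero_of_irr ψ.2), Finsupp.add_apply]
  have himage : (fun χ : Cfsg.IrrCharacter G =>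
        (Cfsg.charDegree (χ : G → ℂ)).factorization p) '' B₁
      = (fun ψ : Cfsg.IrrCharacter T => T.index.factorization p
          + (Cfsg.charDegree (ψ : T → ℂ)).factorization p) '' B' := by
    ext n
    constructor
    · rintro ⟨χ, hχ, rfl⟩
      obtain ⟨ψ, hψ, heq⟩ := (hmem χ).mp hχ
      refine ⟨ψ, hψ, ?_⟩
      show T.index.factorization p + (Cfsg.charDegree (ψ : T → ℂ)).factorization p
        = (Cfsg.charDegree (χ : G → ℂ)).factorization p
      rw [heq, hdeg]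
    · rintro ⟨ψ, hψ, rfl⟩
      refine ⟨⟨_, hirr ψ hψ⟩, (hmem _).mpr ⟨ψ, hψ, rfl⟩, ?_⟩
      exact hdeg ψ
  have hne : B'.Nonempty := isPBlock_nonempty hM hB'
  have hsInf : sInf ((fun ψ : Cfsg.IrrCharacter T => T.index.factorization p
          + (Cfsg.charDegree (ψ : T → ℂ)).factorization p) '' B')
      = T.index.factorization p + sInf ((fun ψ : Cfsg.IrrCharacter T =>
          (Cfsg.charDegree (ψ : T → ℂ)).factorization p) '' B') :=
    sInf_image_add B' hne _ _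
  have hcard : (Nat.card G).factorization p
      = T.index.factorization p + (Nat.card T).factorization p := by
    rw [← Subgroup.index_mul_card T, Nat.factorization_mul hidx Nat.card_pos.ne',
      Finsupp.add_apply]
  have hdefect : Cfsg.blockDefect p B₁ = Cfsg.blockDefect p B' := by
    unfold Cfsg.blockDefect
    rw [himage, hsInf, hcard]
    exact Nat.add_sub_add_left _ _ _
  constructor
  · intro D hD
    obtain ⟨E, hE, hle⟩ := Cfsg.Agent.S0917.result p M hM T B' hB' B₁ hB₁.2.1 hB₁ D hD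
    have hcE := Cfsg.Agent.Lib.Helper7.card_of_isDefectGroup hM B₁ hB₁.2.1 E hE
    have hcD := Cfsg.Agent.Lib.Helper7.card_of_isDefectGroup hM B' hB' D hD
    have hcmap : Nat.card (D.map T.subtype) = Nat.card D :=
      Subgroup.card_map_of_injective T.subtype_injective
    have hDE : D.map T.subtype = E := by
      apply Subgroup.eq_of_le_of_card_ge hle
      rw [hcE, hcmap, hcD, hdefect]
    rw [hDE]
    exact hE
  · intro ψ hψ
    refine ⟨⟨_, hirr ψ hψ⟩, (hmem _).mpr ⟨ψ, hψ, rfl⟩, rfl, ?_⟩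
    unfold Cfsg.blockHeight
    rw [himage, hsInf]
    show (Cfsg.charDegree (Cfsg.indFun T (ψ : T → ℂ))).factorization p - _ = _
    rw [hdeg]
    exact Nat.add_sub_add_left _ _ _

end FR

end Cfsg.Agent.Lib.Helper24
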