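import Mathlib
import Cfsg.Prelude.Def_Blocks
import Cfsg.Prelude.Def_BlockRank
import Cfsg.Agent.Lib.Helper24.Contribution
import Cfsg.Agent.Lib.Helper24.FongReynolds
import Cfsg.Agent.Lib.Helper7.InducedBlock
import Cfsg.Agent.Lib.Helper25.Codegree

/-!
# Degrees of induced characters and induced blocks (helper24 library)

For `b^G = B₀` and `ξ ∈ b`: the `B`-part of `ξ^G` has degree `ξ^G(1) ω_ξ(e_B|_H)`, where
`ω_ξ(e_B|_H) ≡ δ_{B, B₀}` modulo the local ideal.
-/

set_option autoImplicit false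

namespace Cfsg.Agent.Lib.Helper24

open Cfsg.Agent.Lib.Helper2
open scoped ComplexConjugate

section

variable {G : Type*} [Group G] [Fintype G] {p : ℕ} {M : Ideal Cfsg.AlgInt}
  (H : Subgroup G) [Fintype H]

theorem sum_indFun_mul (α : H → ℂ) (θ : G → ℂ) (hθ : Cfsg.IsClassFunction G θ) :
    ∑ g : G, Cfsg.indFun H α g * θ g = (H.index : ℂ) * ∑ h : H, α h * θ h := by
  have hTne : (Nat.card H : ℂ) ≠ 0 := Nat.cast_ne_zero.mpr (Nat.card_pos (α := H)).ne'
  have hGne : (Nat.card G : ℂ) ≠ 0 := Nat.cast_ne_zero.mpr (Nat.card_pos (α := G)).ne'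
  have hidx : (Nat.card G : ℂ) = (H.index : ℂ) * (Nat.card H : ℂ) := by
    rw [← Nat.cast_mul, Subgroup.index_mul_card]
  have hcf : Cfsg.IsClassFunction G (fun g => conj (θ g)) := by
    intro g x
    show conj (θ (x * g * x⁻¹)) = conj (θ g)
    rw [hθ g x]
  have h1 := Cfsg.Agent.Lib.Helper11.classInner_indFun_left H α (fun g => conj (θ g)) hcf
  rw [classInner_def, classInner_def] at h1
  simp only [Complex.conj_conj] at h1
  have h2 := (inv_mul_eq_iff_eq_mul₀ hGne).mp h1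
  rw [h2, hidx, mul_assoc, mul_inv_cancel_left₀ hTne]

omit [Fintype H] in
theorem blockPart_apply (B : Set (Cfsg.IrrCharacter G)) (θ : G → ℂ) (g : G) :
    Cfsg.blockPart B θ g = ∑ᶠ χ ∈ B, Cfsg.classInner θ (χ : G → ℂ) * (χ : G → ℂ) g := by
  unfold Cfsg.blockPart
  congr!

omit [Fintype H] in
theorem blockPart_one_eq_sum [Fintype (Cfsg.IrrCharacter G)] (B : Set (Cfsg.IrrCharacter G))
    [DecidablePred (· ∈ B)] (θ : G → ℂ) :
    Cfsg.blockPart B θ 1 = ∑ g : G, θ g * Cfsg.blockCoeff B g := by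
  rw [blockPart_apply, finsum_mem_eq_sum_ite]
  have h1 : ∀ g : G, θ g * Cfsg.blockCoeff B g = ∑ χ : Cfsg.IrrCharacter G,
      if χ ∈ B then (Nat.card G : ℂ)⁻¹ * (θ g * conj ((χ : G → ℂ) g)) * (χ : G → ℂ) 1 else 0 := by
    intro g
    rw [blockCoeff_eq_sum, Finset.mul_sum, Finset.mul_sum]
    apply Finset.sum_congr rfl
    intro χ _
    split_ifs
    · ring
    · rw [mul_zero, mul_zero]
  symm
  rw [Finset.sum_congr rfl (fun g _ => h1 g), Finset.sum_comm]
  apply Finset.sum_congr rfl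
  intro χ _
  by_cases hχ : χ ∈ B
  · simp only [if_pos hχ]
    rw [classInner_def, Finset.mul_sum, Finset.sum_mul]
  · simp only [if_neg hχ]
    exact Finset.sum_const_zero

/-- the degree of the `B`-part of an induced character, as a natural number -/
theorem exists_nat_blockPart_indFun [Fintype (Cfsg.IrrCharacter G)]
    (B : Set (Cfsg.IrrCharacter G)) [DecidablePred (· ∈ B)] (ξ : Cfsg.IrrCharacter H) :
    ∃ m : Cfsg.IrrCharacter G → ℕ,
      (∀ χ : Cfsg.IrrCharacter G,
        Cfsg.classInner (Cfsg.indFun H (ξ : H → ℂ)) (χ : G → ℂ) = (m χ : ℂ)) ∧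
      Cfsg.blockPart B (Cfsg.indFun H (ξ : H → ℂ)) 1
        = ((∑ χ : Cfsg.IrrCharacter G,
            if χ ∈ B then m χ * Cfsg.charDegree (χ : G → ℂ) else 0 : ℕ) : ℂ) := by
  have hθ : Cfsg.IsCharacter G (Cfsg.indFun H (ξ : H → ℂ)) :=
    indFun_isCharacter H _ (IsIrrCharacter.isCharacter ξ.2)
  choose m hm using fun χ : Cfsg.IrrCharacter G =>
    classInner_isCharacter_nat hθ (IsIrrCharacter.isCharacter χ.2)
  refine ⟨m, hm, ?_⟩
  rw [blockPart_apply, finsum_mem_eq_sum_ite, Nat.cast_sum]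
  apply Finset.sum_congr rfl
  intro χ _
  by_cases hχ : χ ∈ B
  · rw [if_pos hχ, if_pos hχ, hm, apply_one_eq_charDegree, Nat.cast_mul]
  · rw [if_neg hχ, if_neg hχ, Nat.cast_zero]

/-- the degree of the `B`-part of `ξ^G` is `ξ^G(1) ω_ξ(e_B|_H)` -/
theorem blockPart_indFun_one_eq (B : Set (Cfsg.IrrCharacter G)) (ξ : Cfsg.IrrCharacter H) :
    omega (ξ : H → ℂ) (fun h : H => Cfsg.blockCoeff B (h : G))
        * (Cfsg.charDegree (Cfsg.indFun H (ξ : H → ℂ)) : ℂ)
      = Cfsg.blockPart B (Cfsg.indFun H (ξ : H → ℂ)) 1 := by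
  classical
  haveI : Fintype (Cfsg.IrrCharacter G) := Fintype.ofFinite _
  have h1 : (ξ : H → ℂ) 1 ≠ 0 := IsIrrCharacter.apply_one_ne_zero ξ.2
  rw [blockPart_one_eq_sum, sum_indFun_mul H _ _ (blockCoeff_isClassFunction B),
    charDegree_indFun (IsIrrCharacter.isCharacter ξ.2), Nat.cast_mul,
    ← Cfsg.Agent.Lib.Helper25.char_one_eq_charDegree (IsIrrCharacter.isCharacter ξ.2)]
  unfold omega
  have e : ∑ h : H, Cfsg.blockCoeff B (h : G) * (ξ : H → ℂ) h
      = ∑ h : H, (ξ : H → ℂ) h * Cfsg.blockCoeff B (h : G) :=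
    Finset.sum_congr rfl (fun h _ => mul_comm _ _)
  rw [e]
  field_simp

/-- `ω_ξ(e_B|_H) ≡ δ_{B, B₀}` -/
theorem omega_restrict_blockCoeff [Fact p.Prime] (hM : Cfsg.IsPModular p M)
    (b : Set (Cfsg.IrrCharacter H)) (B₀ : Set (Cfsg.IrrCharacter G))
    (hind : Cfsg.IsInducedBlock M H b B₀) (ξ : Cfsg.IrrCharacter H) (hξ : ξ ∈ b)
    (B : Set (Cfsg.IrrCharacter G)) (hB : Cfsg.IsPBlock M B) :
    (B = B₀ → Cfsg.MemLocalIdeal M
      (omega (ξ : H → ℂ) (fun h : H => Cfsg.blockCoeff B (h : G)) - 1)) ∧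
    (B ≠ B₀ → Cfsg.MemLocalIdeal M
      (omega (ξ : H → ℂ) (fun h : H => Cfsg.blockCoeff B (h : G)))) := by
  classical
  obtain ⟨χ₀, hχ₀⟩ := isPBlock_nonempty hM hind.2.1
  have hcong := Cfsg.Agent.Lib.Helper7.omega_restrict_sub_memLocalIdeal H hM (ξ : H → ℂ) χ₀
    (hind.2.2 ξ hξ χ₀ hχ₀) (Cfsg.blockCoeff B) (blockCoeff_isClassFunction B)
    (blockCoeff_memLocalRing hM B hB)
  rw [omega_blockCoeff] at hcong
  constructor
  · intro hBB
    rw [if_pos (by rw [hBB]; exact hχ₀)] at hcong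
    exact hcong
  · intro hBB
    have hχB : χ₀ ∉ B := by
      intro h
      apply hBB
      rw [eq_blockOf_of_mem hM hB h, eq_blockOf_of_mem hM hind.2.1 hχ₀]
    rw [if_neg hχB, sub_zero] at hcong
    exact hcong

/-- valuations of the degrees of the block parts of an induced character -/
theorem blockPart_indFun_val [Fact p.Prime] (hM : Cfsg.IsPModular p M)
    (b : Set (Cfsg.IrrCharacter H)) (B₀ : Set (Cfsg.IrrCharacter G))
    (hind : Cfsg.IsInducedBlock M H b B₀) (ξ : Cfsg.IrrCharacter H) (hξ : ξ ∈ b)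
    (B : Set (Cfsg.IrrCharacter G)) (hB : Cfsg.IsPBlock M B) (n : ℕ)
    (hn : Cfsg.blockPart B (Cfsg.indFun H (ξ : H → ℂ)) 1 = (n : ℂ)) :
    (B = B₀ → n ≠ 0 ∧ n.factorization p
        = (Cfsg.charDegree (Cfsg.indFun H (ξ : H → ℂ))).factorization p) ∧
    (B ≠ B₀ → n = 0 ∨ (Cfsg.charDegree (Cfsg.indFun H (ξ : H → ℂ))).factorization p
        < n.factorization p) := by
  have hN0 : Cfsg.charDegree (Cfsg.indFun H (ξ : H → ℂ)) ≠ 0 := by
    rw [charDegree_indFun (IsIrrCharacter.isCharacter ξ.2)]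
    exact Nat.mul_ne_zero Subgroup.index_ne_zero_of_finite (charDegree_ne_zero ξ)
  have hw := blockPart_indFun_one_eq H B ξ
  rw [hn] at hw
  obtain ⟨h1, h2⟩ := omega_restrict_blockCoeff H hM b B₀ hind ξ hξ B hB
  constructor
  · intro hBB
    have hI := h1 hBB
    have hloc : Cfsg.MemLocalRing M
        (omega (ξ : H → ℂ) (fun h : H => Cfsg.blockCoeff B (h : G))) := by
      have := memLocalRing_add hM (memLocalRing_of_memLocalIdeal hI) (memLocalRing_one hM)
      rwa [sub_add_cancel] at this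
    have hnot : ¬ Cfsg.MemLocalIdeal M
        (omega (ξ : H → ℂ) (fun h : H => Cfsg.blockCoeff B (h : G))) := by
      intro h
      apply not_memLocalIdeal_one hM
      have := memLocalIdeal_sub hM h hI
      rwa [sub_sub_cancel] at this
    have hn0 : n ≠ 0 := by
      rintro rfl
      rw [Nat.cast_zero] at hw
      rcases mul_eq_zero.mp hw with h | h
      · apply hnot
        rw [h]
        exact memLocalIdeal_zero hM
      · exact hN0 (Nat.cast_eq_zero.mp h)
    exact ⟨hn0, (nat_val_lemma hM hn0 hN0 _ hw hloc).2.mp hnot⟩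
  · intro hBB
    have hI := h2 hBB
    by_cases hn0 : n = 0
    · left
      exact hn0
    · right
      refine (val_core hM (Nat.not_dvd_ordCompl hM.1 hn0) (Nat.not_dvd_ordCompl hM.1 hN0)
        (n.factorization p) ((Cfsg.charDegree (Cfsg.indFun H (ξ : H → ℂ))).factorization p)
        _ ?_).2.1 hI
      rw [← natCast_eq_pow_mul_ordCompl, ← natCast_eq_pow_mul_ordCompl]
      exact hw

/-- **S4725**: a height zero character of `b` has a height zero constituent of `ξ^G` in `b^G`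
of multiplicity prime to `p`, when `b` and `b^G` have the same defect -/
theorem exists_height_zero_constituent [Fact p.Prime] (hM : Cfsg.IsPModular p M)
    (b : Set (Cfsg.IrrCharacter H)) (B : Set (Cfsg.IrrCharacter G))
    (hind : Cfsg.IsInducedBlock M H b B) (hdef : Cfsg.blockDefect p b = Cfsg.blockDefect p B)
    (ζ : Cfsg.IrrCharacter H) (hζ : ζ ∈ b) (hζ0 : Cfsg.blockHeight p b (ζ : H → ℂ) = 0) :
    ∃ χ ∈ B, Cfsg.blockHeight p B ((χ : Cfsg.IrrCharacter G) : G → ℂ) = 0 ∧ ∃ a : ℕ,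
      Cfsg.classInner (Cfsg.indFun H (ζ : H → ℂ)) (χ : G → ℂ) = (a : ℂ) ∧ ¬ p ∣ a := by
  classical
  haveI : Fintype (Cfsg.IrrCharacter G) := Fintype.ofFinite _
  have hp : p.Prime := Fact.out
  obtain ⟨m, hm, hbp⟩ := exists_nat_blockPart_indFun H B ζ
  obtain ⟨hn0, hval⟩ := (blockPart_indFun_val H hM b B hind ζ hζ B hind.2.1 _ hbp).1 rfl
  rw [charDegree_indFun (IsIrrCharacter.isCharacter ζ.2),
    Nat.factorization_mul Subgroup.index_ne_zero_of_finite (charDegree_ne_zero ζ),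
    Finsupp.add_apply] at hval
  -- bookkeeping of valuations
  have hsb : sInf ((fun χ : Cfsg.IrrCharacter H =>
      (Cfsg.charDegree (χ : H → ℂ)).factorization p) '' b)
      ≤ (Cfsg.charDegree (ζ : H → ℂ)).factorization p := Nat.sInf_le ⟨ζ, hζ, rfl⟩
  have hsB : ∀ χ ∈ B, sInf ((fun χ : Cfsg.IrrCharacter G =>
      (Cfsg.charDegree (χ : G → ℂ)).factorization p) '' B)
      ≤ (Cfsg.charDegree ((χ : Cfsg.IrrCharacter G) : G → ℂ)).factorization p :=
    fun χ hχ => Nat.sInf_le ⟨χ, hχ, rfl⟩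
  have hζH : (Cfsg.charDegree (ζ : H → ℂ)).factorization p ≤ (Nat.card H).factorization p := by
    apply (Nat.Prime.pow_dvd_iff_le_factorization hp (Nat.card_pos (α := H)).ne').mp
    exact dvd_trans (Nat.ordProj_dvd _ p) (Cfsg.Agent.Lib.Helper25.charDegree_dvd_card ζ.2)
  obtain ⟨χ₁, hχ₁⟩ := isPBlock_nonempty hM hind.2.1
  have hχG : (Cfsg.charDegree (χ₁ : G → ℂ)).factorization p ≤ (Nat.card G).factorization p := by
    apply (Nat.Prime.pow_dvd_iff_le_factorization hp (Nat.card_pos (α := G)).ne').mp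
    exact dvd_trans (Nat.ordProj_dvd _ p) (Cfsg.Agent.Lib.Helper25.charDegree_dvd_card χ₁.2)
  have hsB₁ := hsB χ₁ hχ₁
  have hcard : (Nat.card G).factorization p
      = H.index.factorization p + (Nat.card H).factorization p := by
    rw [← Subgroup.index_mul_card H,
      Nat.factorization_mul Subgroup.index_ne_zero_of_finite (Nat.card_pos (α := H)).ne',
      Finsupp.add_apply]
  unfold Cfsg.blockHeight at hζ0
  unfold Cfsg.blockDefect at hdef
  -- the valuation of `n` is the least valuation in `B`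
  have hkey : (∑ χ : Cfsg.IrrCharacter G,
      if χ ∈ B then m χ * Cfsg.charDegree (χ : G → ℂ) else 0).factorization p
      = sInf ((fun χ : Cfsg.IrrCharacter G =>
        (Cfsg.charDegree (χ : G → ℂ)).factorization p) '' B) := by
    omega
  by_contra hcon
  push Not at hcon
  have hdvd : p ^ (sInf ((fun χ : Cfsg.IrrCharacter G =>
        (Cfsg.charDegree (χ : G → ℂ)).factorization p) '' B) + 1)
      ∣ ∑ χ : Cfsg.IrrCharacter G,
        if χ ∈ B then m χ * Cfsg.charDegree (χ : G → ℂ) else 0 := by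
    apply Finset.dvd_sum
    intro χ _
    by_cases hχ : χ ∈ B
    · rw [if_pos hχ]
      by_cases hh : Cfsg.blockHeight p B (χ : G → ℂ) = 0
      · have hpa := hcon χ hχ hh (m χ) (hm χ)
        rw [pow_succ, mul_comm]
        apply mul_dvd_mul hpa
        exact dvd_trans (pow_dvd_pow p (hsB χ hχ)) (Nat.ordProj_dvd _ p)
      · unfold Cfsg.blockHeight at hh
        apply Dvd.dvd.mul_left
        refine dvd_trans (pow_dvd_pow p ?_) (Nat.ordProj_dvd _ p)
        omega
    · rw [if_neg hχ]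
      exact dvd_zero _
  have := (Nat.Prime.pow_dvd_iff_le_factorization hp hn0).mp hdvd
  omega

/-- **S4431** -/
theorem induced_contrib [Fact p.Prime] (hM : Cfsg.IsPModular p M)
    (b : Set (Cfsg.IrrCharacter H)) (B₀ : Set (Cfsg.IrrCharacter G))
    (hind : Cfsg.IsInducedBlock M H b B₀) (χ : Cfsg.IrrCharacter G) (ψ : Cfsg.IrrCharacter H)
    (hψ : ψ ∈ b) :
    (χ ∉ B₀ → Cfsg.MemLocalIdeal M (Cfsg.classInner (fun h : H => if p ∣ orderOf h then (0 : ℂ)
        else ((p ^ (Nat.card H).factorization p : ℕ) : ℂ) * (χ : G → ℂ) h) (ψ : H → ℂ)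
        / (ψ : H → ℂ) 1)) ∧
    (χ ∈ B₀ → Cfsg.blockHeight p B₀ (χ : G → ℂ) = 0 →
      ¬ Cfsg.MemLocalIdeal M (Cfsg.classInner (fun h : H => if p ∣ orderOf h then (0 : ℂ)
        else ((p ^ (Nat.card H).factorization p : ℕ) : ℂ) * (χ : G → ℂ) h) (ψ : H → ℂ)
        / (ψ : H → ℂ) 1)) := by
  have hψ1 : (ψ : H → ℂ) 1 ≠ 0 := IsIrrCharacter.apply_one_ne_zero ψ.2
  have hcfA := regConj_isClassFunction (p := p) (χ : G → ℂ) (IrrCharacter.isClassFunction χ)
  -- the inner product in terms of the central character of `ψ`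
  have hrew : Cfsg.classInner (fun h : H => if p ∣ orderOf h then (0 : ℂ)
        else ((p ^ (Nat.card H).factorization p : ℕ) : ℂ) * (χ : G → ℂ) h) (ψ : H → ℂ)
        / (ψ : H → ℂ) 1
      = ((p : ℂ) ^ (Nat.card H).factorization p / (Nat.card H : ℂ))
        * omega (ψ : H → ℂ) (fun h : H => regConj p (χ : G → ℂ) (h : G)) := by
    rw [ite_singular_eq_smul p _ (fun h : H => (χ : G → ℂ) h), classInner_smul_left,
      classInner_def,
      sum_pRegularPart_mul_conj_symm (fun h : H => (χ : G → ℂ) h) (ψ : H → ℂ)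
        (fun h => by
          show (χ : G → ℂ) ((h⁻¹ : H) : G) = conj ((χ : G → ℂ) h)
          rw [Subgroup.coe_inv, IrrCharacter.apply_inv])
        (IrrCharacter.apply_inv ψ), Nat.cast_pow]
    unfold omega
    have e : ∑ h : H, Cfsg.pRegularPart p (ψ : H → ℂ) h * conj ((χ : G → ℂ) h)
        = ∑ h : H, regConj p (χ : G → ℂ) (h : G) * (ψ : H → ℂ) h := by
      apply Finset.sum_congr rfl
      intro h _
      unfold regConj
      by_cases hh : p ∣ orderOf h
      · have hh' : p ∣ orderOf (h : G) := by rwa [Subgroup.orderOf_coe]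
        rw [pRegularPart_of_singular _ hh, pRegularPart_of_singular _ hh', zero_mul, zero_mul]
      · have hh' : ¬ p ∣ orderOf (h : G) := by rwa [Subgroup.orderOf_coe]
        rw [pRegularPart_of_regular _ hh, pRegularPart_of_regular _ hh', mul_comm]
    rw [e]
    field_simp
  rw [hrew]
  have hHne : Nat.card H ≠ 0 := (Nat.card_pos (α := H)).ne'
  have hcongr : ∀ χ' ∈ B₀, Cfsg.MemLocalIdeal M
      (omega (ψ : H → ℂ) (fun h : H => regConj p (χ : G → ℂ) (h : G))
        - omega ((χ' : Cfsg.IrrCharacter G) : G → ℂ) (regConj p (χ : G → ℂ))) :=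
    fun χ' hχ' => Cfsg.Agent.Lib.Helper7.omega_restrict_sub_memLocalIdeal H hM (ψ : H → ℂ) χ'
      (hind.2.2 ψ hψ χ' hχ') (regConj p (χ : G → ℂ)) hcfA (regConj_memLocalRing hM χ)
  constructor
  · intro hχ
    obtain ⟨χ', hχ'⟩ := isPBlock_nonempty hM hind.2.1
    have h0 := classInner_pRegularPart_eq_zero hM B₀ hind.2.1 χ' χ hχ' hχ
    rw [classInner_pRegularPart_eq_omega (χ' : G → ℂ) (χ : G → ℂ)
      (IsIrrCharacter.apply_one_ne_zero χ'.2)] at h0
    have hG0 : (Nat.card G : ℂ)⁻¹ ≠ 0 :=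
      inv_ne_zero (Nat.cast_ne_zero.mpr (Nat.card_pos (α := G)).ne')
    have hω : omega (χ' : G → ℂ) (regConj p (χ : G → ℂ)) = 0 := by
      rcases mul_eq_zero.mp h0 with h | h
      · exact absurd h hG0
      · rcases mul_eq_zero.mp h with h' | h'
        · exact absurd h' (IsIrrCharacter.apply_one_ne_zero χ'.2)
        · exact h'
    have h1 := hcongr χ' hχ'
    rw [hω, sub_zero] at h1
    exact memLocalIdeal_mul_left hM (pow_factorization_div_memLocalRing hM hHne) h1
  · intro hχ h0 hI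
    have h1 := memLocalIdeal_of_pow_factorization_div_mul hM hHne hI
    have h2 := hcongr χ hχ
    have h3 : Cfsg.MemLocalIdeal M (omega (χ : G → ℂ) (regConj p (χ : G → ℂ))) := by
      have := memLocalIdeal_sub hM h1 h2
      rwa [sub_sub_cancel] at this
    apply contribR_not_memLocalIdeal_of_height_zero hM B₀ hind.2.1 χ hχ h0 χ hχ
    unfold contribR
    exact memLocalIdeal_mul_left hM
      (pow_factorization_div_memLocalRing hM (Nat.card_pos (α := G)).ne') h3

end

end Cfsg.Agent.Lib.Helper24
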