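import Mathlib
import Cfsg.Prelude.Def_GeometricClasses
import Cfsg.Agent.Lib.Helper7.AschDefs

/-!
# S5663 (Aschbacher's theorem for the unitary groups `GU_n(q)`, `n ≥ 3`): vocabulary and wrappers (helper24)

`F` is a finite field with `q ^ 2` elements, `f = hermForm n F q` (`f u v = ∑ i, u i * v i ^ q`, linear in the first
argument, `x ↦ x ^ q`-semilinear in the second), `GU n F q` its isometry group inside `GL (Fin n) F`.
`InClassU n q H` : `H` lies in a member of `InUnitaryClass n F q`.  The wrappers `InClassU.of_*` put a subgroup of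
`GU n F q` into `InClassU` through each of the eleven alternatives of `InUnitaryClass` (never unfold the nested `Or`s).
`perpU q W` is the orthogonal of `W` (a submodule without any hypothesis on `q`, because `f` is linear in its first
argument), `adjU q a` the adjoint matrix (conjugate transpose for `x ↦ x ^ q`).
-/

set_option autoImplicit false

namespace Cfsg.Agent.Lib.Helper24.AschU

open Matrix Cfsg Cfsg.Geo Cfsg.Agent.Lib.Helper7.Asch

variable {F : Type*} [Field F] {n : ℕ}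

/-- `H` lies in a member of one of the geometric classes of `GU_n(q)` -/
def InClassU [Fintype F] (n q : ℕ) (H : Subgroup (GL (Fin n) F)) : Prop :=
  ∃ M : Subgroup (GL (Fin n) F), InUnitaryClass n F q M ∧ H ≤ M

/-- the orthogonal of a subspace for `hermForm n F q` (vectors `v` with `f v w = 0` for all `w ∈ W`) -/
def perpU (q : ℕ) (W : Submodule F (Fin n → F)) : Submodule F (Fin n → F) where
  carrier := {v | ∀ w ∈ W, hermForm n F q v w = 0}
  add_mem' {a b} ha hb := by
    intro w hw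
    have h1 := ha w hw
    have h2 := hb w hw
    simp only [hermForm] at h1 h2 ⊢
    simp only [Pi.add_apply, add_mul, Finset.sum_add_distrib, h1, h2, add_zero]
  zero_mem' := by
    intro w _
    simp [hermForm]
  smul_mem' c {a} ha := by
    intro w hw
    have h1 := ha w hw
    simp only [hermForm] at h1 ⊢
    simp only [Pi.smul_apply, smul_eq_mul, mul_assoc]
    rw [← Finset.mul_sum, h1, mul_zero]

theorem mem_perpU (q : ℕ) (W : Submodule F (Fin n → F)) (v : Fin n → F) :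
    v ∈ perpU q W ↔ ∀ w ∈ W, hermForm n F q v w = 0 := Iff.rfl

/-- the adjoint of a matrix for `hermForm n F q`: the transpose with all entries raised to the power `q` -/
def adjU (q : ℕ) (a : Matrix (Fin n) (Fin n) F) : Matrix (Fin n) (Fin n) F :=
  (aᵀ).map (fun x => x ^ q)

theorem adjU_apply (q : ℕ) (a : Matrix (Fin n) (Fin n) F) (i j : Fin n) : adjU q a i j = a j i ^ q := rfl

variable [Fintype F] {q : ℕ}

theorem InClassU.mono {H K : Subgroup (GL (Fin n) F)} (h : H ≤ K) (hK : InClassU n q K) : InClassU n q H := by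
  obtain ⟨M, hM, hKM⟩ := hK
  exact ⟨M, hM, h.trans hKM⟩

/-- class 1, totally singular subspace -/
theorem InClassU.of_singular (H : Subgroup (GL (Fin n) F)) (hHU : H ≤ GU n F q) (W : Submodule F (Fin n → F))
    (h0 : W ≠ ⊥) (hW : IsTotallySingularFor (hermForm n F q) W) (hH : H ≤ subspaceStabilizer W) :
    InClassU n q H :=
  ⟨_, Or.inl (Or.inl ⟨W, h0, hW, rfl⟩), le_inf hH hHU⟩

/-- class 1, non-degenerate subspace of less than half the dimension -/
theorem InClassU.of_nondegenerate (H : Subgroup (GL (Fin n) F)) (hHU : H ≤ GU n F q)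
    (W : Submodule F (Fin n → F)) (h0 : W ≠ ⊥) (hW : IsNondegenerateOn (hermForm n F q) W)
    (hd : 2 * Module.finrank F W < n) (hH : H ≤ subspaceStabilizer W) : InClassU n q H :=
  ⟨_, Or.inl (Or.inr (Or.inl ⟨W, h0, hW, hd, rfl⟩)), le_inf hH hHU⟩

/-- class 2, orthogonal decomposition into non-degenerate subspaces -/
theorem InClassU.of_decomposition (H : Subgroup (GL (Fin n) F)) (hHU : H ≤ GU n F q) {t : ℕ} (k : ℕ)
    (D : Fin t → Submodule F (Fin n → F)) (hD : IsNondegenerateMDecomposition (hermForm n F q) k D)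
    (hH : H ≤ decompositionStabilizer D) : InClassU n q H :=
  ⟨_, Or.inl (Or.inr (Or.inr (Or.inl ⟨t, k, D, hD, rfl⟩))), le_inf hH hHU⟩

/-- class 2, pair of complementary totally singular subspaces -/
theorem InClassU.of_singularPair (H : Subgroup (GL (Fin n) F)) (hHU : H ≤ GU n F q) (k : ℕ)
    (D : Fin 2 → Submodule F (Fin n → F)) (hk : 2 * k = n) (hD : IsMDecomposition k D)
    (hs : ∀ i, IsTotallySingularFor (hermForm n F q) (D i)) (hH : H ≤ decompositionStabilizer D) :
    InClassU n q H :=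
  ⟨_, Or.inl (Or.inr (Or.inr (Or.inr (Or.inl ⟨k, D, hk, hD, hs, rfl⟩)))), le_inf hH hHU⟩

/-- class 5, subfield of odd prime index (unitary group over the subfield) -/
theorem InClassU.of_subfield_odd (H : Subgroup (GL (Fin n) F)) (hHU : H ≤ GU n F q) (F₀ : Subfield F) (r : ℕ)
    (P : GL (Fin n) F) (hr : r.Prime) (hodd : Odd r) (hc : Fintype.card F = Nat.card F₀ ^ r)
    (hP : IsFormRationalStructure (hermForm n F q) F₀ 1 P) (hH : H ≤ subfieldSubgroup F₀ P) :
    InClassU n q H :=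
  ⟨_, Or.inl (Or.inr (Or.inr (Or.inr (Or.inr (Or.inl ⟨F₀, r, P, hr, hodd, hc, hP, rfl⟩))))), le_inf hH hHU⟩

/-- class 5, subfield of index 2, `q` odd (orthogonal group over the subfield) -/
theorem InClassU.of_subfield_orth (H : Subgroup (GL (Fin n) F)) (hHU : H ≤ GU n F q) (F₀ : Subfield F)
    (P : GL (Fin n) F) (hq : Odd q) (hc : Fintype.card F = Nat.card F₀ ^ 2)
    (hP : IsFormRationalStructure (hermForm n F q) F₀ 1 P) (hH : H ≤ subfieldSubgroup F₀ P) :
    InClassU n q H :=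
  ⟨_, Or.inl (Or.inr (Or.inr (Or.inr (Or.inr (Or.inr (Or.inl ⟨F₀, P, hq, hc, hP, rfl⟩)))))), le_inf hH hHU⟩

/-- class 5, subfield of index 2, `n` even (symplectic group over the subfield) -/
theorem InClassU.of_subfield_symp (H : Subgroup (GL (Fin n) F)) (hHU : H ≤ GU n F q) (F₀ : Subfield F)
    (P : GL (Fin n) F) (ζ : F) (hn : Even n) (hc : Fintype.card F = Nat.card F₀ ^ 2) (hζ : ζ ≠ 0)
    (hζq : ζ + ζ ^ q = 0) (hP : IsFormRationalStructure (hermForm n F q) F₀ ζ P)
    (halt : ∀ u : Fin n → F, (∀ i, u i ∈ F₀) →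
      hermForm n F q ((P : Matrix (Fin n) (Fin n) F) *ᵥ u) ((P : Matrix (Fin n) (Fin n) F) *ᵥ u) = 0)
    (hH : H ≤ subfieldSubgroup F₀ P) : InClassU n q H :=
  ⟨_, Or.inl (Or.inr (Or.inr (Or.inr (Or.inr (Or.inr (Or.inr (Or.inl
    ⟨F₀, P, ζ, hn, hc, hζ, hζq, hP, halt, rfl⟩))))))), le_inf hH hHU⟩

/-- class 6, normaliser of a symplectic-type group -/
theorem InClassU.of_symplecticType (H : Subgroup (GL (Fin n) F)) (hHU : H ≤ GU n F q) (r : ℕ)
    (R : Subgroup (GL (Fin n) F)) (p e k : ℕ) (hR : IsSymplecticTypeGroup r R)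
    (habs : ActsAbsolutelyIrreducibly (matrixSet R)) (hsim : R ≤ similarityGroup (hermForm n F q))
    (hrp : r ≠ p) (hmin : IsMinimalFieldFor (Nat.card (Subgroup.center R)) p e F)
    (hcase : (Odd r ∧ Nat.card (Subgroup.center R) = r ∧ 1 ≤ k ∧ Nat.card R = r ^ (1 + 2 * k)) ∨
      (r = 2 ∧ e = 2 ∧ Nat.card (Subgroup.center R) = 4 ∧ Nat.card R = 2 ^ (2 + 2 * k)))
    (hH : H ≤ subgroupNormalizer R) : InClassU n q H :=
  ⟨_, Or.inl (Or.inr (Or.inr (Or.inr (Or.inr (Or.inr (Or.inr (Or.inr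
    ⟨r, R, p, e, k, hR, habs, hsim, hrp, hmin, hcase, rfl⟩))))))), le_inf hH hHU⟩

/-- class 3, normaliser of an adjoint-closed field of odd prime degree -/
theorem InClassU.of_field (H : Subgroup (GL (Fin n) F)) (hHU : H ≤ GU n F q) (r : ℕ)
    (K : Subalgebra F (Matrix (Fin n) (Fin n) F)) (hr : r.Prime) (hodd : Odd r) (hK : IsFieldSubalgebra r K)
    (hadj : IsAdjointClosedFor (hermForm n F q) K) (hH : H ≤ subalgebraNormalizer K) : InClassU n q H :=
  ⟨_, Or.inr (Or.inl ⟨r, K, hr, hodd, hK, hadj, rfl⟩), le_inf hH hHU⟩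

/-- class 4, tensor product of two unitary forms of different dimensions -/
theorem InClassU.of_tensor (H : Subgroup (GL (Fin n) F)) (hHU : H ≤ GU n F q) (n₁ n₂ : ℕ)
    (e : Fin n ≃ Fin n₁ × Fin n₂) (P : GL (Fin n) F) (f₁ : (Fin n₁ → F) → (Fin n₁ → F) → F)
    (f₂ : (Fin n₂ → F) → (Fin n₂ → F) → F) (h1 : 2 ≤ n₁) (h2 : n₁ < n₂) (hf₁ : IsUnitaryFormPow q f₁)
    (hf₂ : IsUnitaryFormPow q f₂)
    (hT : IsTensorFormStructure (fun x : F => x ^ q) (hermForm n F q) f₁ f₂ e P)
    (hH : H ≤ tensorProductSubgroup n₁ n₂ e P) : InClassU n q H :=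
  ⟨_, Or.inr (Or.inr (Or.inl ⟨n₁, n₂, e, P, f₁, f₂, h1, h2, hf₁, hf₂, hT, rfl⟩)), le_inf hH hHU⟩

/-- class 7, tensor power of a unitary form -/
theorem InClassU.of_tensorWreath (H : Subgroup (GL (Fin n) F)) (hHU : H ≤ GU n F q) (k t : ℕ)
    (e : Fin n ≃ (Fin t → Fin k)) (P : GL (Fin n) F) (f₁ : (Fin k → F) → (Fin k → F) → F) (hk : 3 ≤ k)
    (ht : 2 ≤ t) (hex : ¬ (q = 2 ∧ k = 3)) (hf₁ : IsUnitaryFormPow q f₁)
    (hT : IsTensorPowerFormStructure (fun x : F => x ^ q) (hermForm n F q) f₁ e P)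
    (hH : H ≤ tensorWreathSubgroup k t e P) : InClassU n q H :=
  ⟨_, Or.inr (Or.inr (Or.inr ⟨k, t, e, P, f₁, hk, ht, hex, hf₁, hT, rfl⟩)), le_inf hH hHU⟩

end Cfsg.Agent.Lib.Helper24.AschU
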