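import Mathlib
import Cfsg.Prelude.Def_Blocks
import Cfsg.Agent.Lib.Helper24.CenterFn
import Cfsg.Agent.Lib.Helper24.BlockBasic
import Cfsg.Agent.Lib.Helper24.Osima
import Cfsg.Agent.Lib.Helper24.Defect
import Cfsg.Agent.Lib.Helper24.FrobSchur
import Cfsg.Agent.Lib.Helper24.BrauerGood
import Cfsg.Agent.Lib.Helper7.MinMax
import Cfsg.Agent.Lib.Helper7.BrauerIdem
import Cfsg.Agent.Lib.Helper2.Expansion
import Cfsg.Agent.Lib.Helper2.Column

/-!
# Nilpotency of the radical of the centre of the local group algebra (helper24)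

Class functions `z : K → ℂ` with local-integral values, under `conv`, form the centre `Z(RK)` of
the group algebra over the local ring `R`.  Those all of whose central character values lie in the
local ideal form the radical; we prove that a product of sufficiently many of them has all its
coefficients in the local ideal.
-/

set_option autoImplicit false

namespace Cfsg.Agent.Lib.Helper24

open Cfsg.Agent.Lib.Helper2 Cfsg.Agent.Lib.Helper7
open scoped ComplexConjugate

section CenterRadical

variable {K : Type*} [Group K] [Fintype K] {p : ℕ} {M : Ideal Cfsg.AlgInt}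

/-- central character coordinates of a function -/
noncomputable def phiC (z : K → ℂ) : Cfsg.IrrCharacter K → ℂ := fun θ => omega (θ : K → ℂ) z

theorem phiC_apply (z : K → ℂ) (θ : Cfsg.IrrCharacter K) : phiC z θ = omega (θ : K → ℂ) z := rfl

theorem phiC_add (z w : K → ℂ) : phiC (z + w) = phiC z + phiC w := by
  funext θ; exact omega_add _ _ _

theorem phiC_neg (z : K → ℂ) : phiC (-z) = - phiC z := by
  funext θ; exact omega_neg _ _

theorem phiC_zero : phiC (0 : K → ℂ) = 0 := by
  funext θ; exact omega_zero _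

theorem phiC_smul (c : ℂ) (z : K → ℂ) : phiC (c • z) = c • phiC z := by
  funext θ; exact omega_smul _ _ _

theorem phiC_sum {ι : Type*} (s : Finset ι) (f : ι → K → ℂ) :
    phiC (∑ i ∈ s, f i) = ∑ i ∈ s, phiC (f i) := by
  classical
  induction s using Finset.induction_on with
  | empty => simp [phiC_zero]
  | insert i s hi ih => rw [Finset.sum_insert hi, Finset.sum_insert hi, phiC_add, ih]

theorem phiC_conv (z w : K → ℂ) (hz : Cfsg.IsClassFunction K z) (hw : Cfsg.IsClassFunction K w) :
    phiC (conv z w) = phiC z * phiC w := by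
  funext θ; exact omega_conv θ z w hz hw

theorem phiC_deltaOne : phiC (deltaOne : K → ℂ) = 1 := by
  funext θ
  exact omega_deltaOne _ (Cfsg.Agent.Lib.Helper25.irr_one_ne_zero θ.2)

theorem phiC_injective {z w : K → ℂ} (hz : Cfsg.IsClassFunction K z)
    (hw : Cfsg.IsClassFunction K w) (h : phiC z = phiC w) : z = w :=
  eq_of_omega_eq z w hz hw (fun θ => congrFun h θ)


theorem omega_memLocalIdeal (hM : Cfsg.IsPModular p M) (χ : Cfsg.IrrCharacter K) (a : K → ℂ)
    (ha : Cfsg.IsClassFunction K a) (hint : ∀ g, Cfsg.MemLocalIdeal M (a g)) :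
    Cfsg.MemLocalIdeal M (omega (χ : K → ℂ) a) := by
  rw [omega_eq_sum]
  apply sum_mul_inv_index_mem (MlocC hM)
  · intro g x
    simp only
    rw [ha, centralChar_isClassFunction _ (IrrCharacter.isClassFunction χ)]
  · intro g
    exact memLocalIdeal_mul_right hM (hint g) (centralChar_memLocalRing hM χ g)

/-- the centre of the local group algebra in central character coordinates -/
noncomputable def centerRing (hM : Cfsg.IsPModular p M) :
    Subring (Cfsg.IrrCharacter K → ℂ) where
  carrier := {v | ∃ z : K → ℂ, Cfsg.IsClassFunction K z ∧ (∀ g, Cfsg.MemLocalRing M (z g)) ∧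
    v = phiC z}
  mul_mem' := by
    rintro _ _ ⟨z, hz, hzR, rfl⟩ ⟨w, hw, hwR, rfl⟩
    exact ⟨conv z w, conv_isClassFunction z w hz hw,
      fun g => Cfsg.Agent.Lib.Helper7.conv_memLocalRing hM z w hzR hwR g,
      (phiC_conv z w hz hw).symm⟩
  one_mem' := ⟨deltaOne, deltaOne_isClassFunction, deltaOne_memLocalRing hM, phiC_deltaOne.symm⟩
  add_mem' := by
    rintro _ _ ⟨z, hz, hzR, rfl⟩ ⟨w, hw, hwR, rfl⟩
    exact ⟨z + w, isClassFunction_add hz hw, fun g => memLocalRing_add hM (hzR g) (hwR g),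
      (phiC_add z w).symm⟩
  zero_mem' := ⟨0, isClassFunction_zero, fun _ => memLocalRing_zero hM, phiC_zero.symm⟩
  neg_mem' := by
    rintro _ ⟨z, hz, hzR, rfl⟩
    exact ⟨-z, isClassFunction_neg hz, fun g => memLocalRing_neg (hzR g), (phiC_neg z).symm⟩

/-- the element of the centre given by a class function -/
noncomputable def ofFn (hM : Cfsg.IsPModular p M) (z : K → ℂ) (hz : Cfsg.IsClassFunction K z)
    (hzR : ∀ g, Cfsg.MemLocalRing M (z g)) : centerRing (K := K) hM :=
  ⟨phiC z, z, hz, hzR, rfl⟩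

theorem coe_ofFn (hM : Cfsg.IsPModular p M) (z : K → ℂ) (hz : Cfsg.IsClassFunction K z)
    (hzR : ∀ g, Cfsg.MemLocalRing M (z g)) :
    ((ofFn hM z hz hzR : centerRing (K := K) hM) : Cfsg.IrrCharacter K → ℂ) = phiC z := rfl

theorem coe_memLocalRing (hM : Cfsg.IsPModular p M) (v : centerRing (K := K) hM)
    (θ : Cfsg.IrrCharacter K) : Cfsg.MemLocalRing M ((v : Cfsg.IrrCharacter K → ℂ) θ) := by
  obtain ⟨z, hz, hzR, hv⟩ := v.2
  rw [hv]
  exact omega_memLocalRing hM θ z hz hzR

/-- the ideal of elements with coefficients in the local ideal -/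
noncomputable def idealM (hM : Cfsg.IsPModular p M) : Ideal (centerRing (K := K) hM) where
  carrier := {v | ∃ z : K → ℂ, Cfsg.IsClassFunction K z ∧ (∀ g, Cfsg.MemLocalIdeal M (z g)) ∧
    (v : Cfsg.IrrCharacter K → ℂ) = phiC z}
  add_mem' := by
    rintro v w ⟨z, hz, hzM, hv⟩ ⟨z', hz', hzM', hw⟩
    refine ⟨z + z', isClassFunction_add hz hz', fun g => memLocalIdeal_add hM (hzM g) (hzM' g), ?_⟩
    rw [phiC_add, ← hv, ← hw]; rfl
  zero_mem' := ⟨0, isClassFunction_zero, fun _ => memLocalIdeal_zero hM, by rw [phiC_zero]; rfl⟩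
  smul_mem' := by
    rintro a v ⟨z, hz, hzM, hv⟩
    obtain ⟨w, hw, hwR, ha⟩ := a.2
    refine ⟨conv z w, conv_isClassFunction z w hz hw,
      fun g => Cfsg.Agent.Lib.Helper7.conv_memLocalIdeal_left hM z w hzM hwR g, ?_⟩
    rw [phiC_conv z w hz hw, ← hv, ← ha, mul_comm]; rfl

/-- the radical: elements with all central character values in the local ideal -/
noncomputable def idealJ (hM : Cfsg.IsPModular p M) : Ideal (centerRing (K := K) hM) where
  carrier := {v | ∀ θ, Cfsg.MemLocalIdeal M ((v : Cfsg.IrrCharacter K → ℂ) θ)}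
  add_mem' := by
    intro v w hv hw θ
    exact memLocalIdeal_add hM (hv θ) (hw θ)
  zero_mem' := fun _ => memLocalIdeal_zero hM
  smul_mem' := by
    intro a v hv θ
    exact memLocalIdeal_mul_left hM (coe_memLocalRing hM a θ) (hv θ)

/-- constants -/
noncomputable def cstC (hM : Cfsg.IsPModular p M) (c : ℂ) (hc : Cfsg.MemLocalRing M c) :
    centerRing (K := K) hM :=
  ofFn hM (c • deltaOne) (isClassFunction_smul c deltaOne_isClassFunction)
    (fun g => memLocalRing_mul hM hc (deltaOne_memLocalRing hM g))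

theorem coe_cstC (hM : Cfsg.IsPModular p M) (c : ℂ) (hc : Cfsg.MemLocalRing M c)
    (θ : Cfsg.IrrCharacter K) :
    ((cstC hM c hc : centerRing (K := K) hM) : Cfsg.IrrCharacter K → ℂ) θ = c := by
  show phiC (c • deltaOne) θ = c
  rw [phiC_smul, phiC_deltaOne]
  simp

theorem cstC_mem_idealM (hM : Cfsg.IsPModular p M) (c : ℂ) (hc : Cfsg.MemLocalIdeal M c) :
    (cstC hM c (memLocalRing_of_memLocalIdeal hc) : centerRing (K := K) hM) ∈ idealM hM :=
  ⟨c • deltaOne, isClassFunction_smul c deltaOne_isClassFunction,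
    fun g => memLocalIdeal_mul_right hM hc (deltaOne_memLocalRing hM g), rfl⟩

/-- every element of the radical is nilpotent modulo `idealM` -/
theorem pow_card_mem_idealM (hM : Cfsg.IsPModular p M) [Fintype (Cfsg.IrrCharacter K)]
    (v : centerRing (K := K) hM) (hv : v ∈ idealJ hM) :
    v ^ Fintype.card (Cfsg.IrrCharacter K) ∈ idealM hM := by
  classical
  have key : ∀ S : Finset (Cfsg.IrrCharacter K),
      (∏ θ ∈ S, (v - cstC hM ((v : Cfsg.IrrCharacter K → ℂ) θ) (coe_memLocalRing hM v θ)))
        - v ^ S.card ∈ idealM hM := by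
    intro S
    induction S using Finset.induction_on with
    | empty => simp
    | insert θ S hθ ih =>
      rw [Finset.prod_insert hθ, Finset.card_insert_of_notMem hθ]
      have hc := cstC_mem_idealM (K := K) hM _ (hv θ)
      have e : (v - cstC hM ((v : Cfsg.IrrCharacter K → ℂ) θ) (coe_memLocalRing hM v θ))
          * (∏ θ ∈ S, (v - cstC hM ((v : Cfsg.IrrCharacter K → ℂ) θ) (coe_memLocalRing hM v θ)))
          - v ^ (S.card + 1)
          = (v - cstC hM ((v : Cfsg.IrrCharacter K → ℂ) θ) (coe_memLocalRing hM v θ))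
            * ((∏ θ ∈ S, (v - cstC hM ((v : Cfsg.IrrCharacter K → ℂ) θ)
                (coe_memLocalRing hM v θ))) - v ^ S.card)
            - cstC hM ((v : Cfsg.IrrCharacter K → ℂ) θ) (coe_memLocalRing hM v θ) * v ^ S.card := by
        ring
      rw [e]
      exact (idealM hM).sub_mem ((idealM hM).mul_mem_left _ ih) ((idealM hM).mul_mem_right _ hc)
  have h0 : (∏ θ ∈ (Finset.univ : Finset (Cfsg.IrrCharacter K)),
      (v - cstC hM ((v : Cfsg.IrrCharacter K → ℂ) θ) (coe_memLocalRing hM v θ))) = 0 := by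
    apply Subtype.ext
    funext θ₀
    rw [SubmonoidClass.coe_finset_prod, Finset.prod_apply]
    apply Finset.prod_eq_zero (Finset.mem_univ θ₀)
    show ((v : Cfsg.IrrCharacter K → ℂ) θ₀)
      - ((cstC hM ((v : Cfsg.IrrCharacter K → ℂ) θ₀) (coe_memLocalRing hM v θ₀) :
        centerRing (K := K) hM) : Cfsg.IrrCharacter K → ℂ) θ₀ = 0
    rw [coe_cstC, sub_self]
  have h1 := key Finset.univ
  rw [h0, zero_sub, Finset.card_univ] at h1
  have := (idealM hM).neg_mem h1
  rwa [neg_neg] at this

/-- a representative of the block of `θ`, depending only on the block -/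
noncomputable def blockRep (M : Ideal Cfsg.AlgInt) (θ : Cfsg.IrrCharacter K) :
    Cfsg.IrrCharacter K :=
  haveI : Nonempty (Cfsg.IrrCharacter K) := ⟨trivIrr K⟩
  Classical.epsilon (fun θ' => θ' ∈ Cfsg.blockOf M (θ : K → ℂ))

theorem blockRep_mem (hM : Cfsg.IsPModular p M) (θ : Cfsg.IrrCharacter K) :
    blockRep M θ ∈ Cfsg.blockOf M (θ : K → ℂ) := by
  unfold blockRep
  exact Classical.epsilon_spec (p := fun θ' => θ' ∈ Cfsg.blockOf M (θ : K → ℂ))
    ⟨θ, mem_blockOf_self hM θ⟩

theorem blockOf_blockRep (hM : Cfsg.IsPModular p M) (θ : Cfsg.IrrCharacter K) :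
    Cfsg.blockOf M ((blockRep M θ : Cfsg.IrrCharacter K) : K → ℂ) = Cfsg.blockOf M (θ : K → ℂ) :=
  (eq_blockOf_of_mem hM ⟨θ, rfl⟩ (blockRep_mem hM θ)).symm

theorem blockRep_eq_of_blockOf_eq {θ θ' : Cfsg.IrrCharacter K}
    (h : Cfsg.blockOf M (θ : K → ℂ) = Cfsg.blockOf M (θ' : K → ℂ)) :
    blockRep M θ = blockRep M θ' := by
  unfold blockRep
  rw [h]

/-- the block idempotent in the centre -/
noncomputable def idemC (hM : Cfsg.IsPModular p M) (ρ : Cfsg.IrrCharacter K) :
    centerRing (K := K) hM :=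
  ofFn hM (Cfsg.blockCoeff (Cfsg.blockOf M (ρ : K → ℂ))) (blockCoeff_isClassFunction _)
    (blockCoeff_memLocalRing hM _ ⟨ρ, rfl⟩)

theorem coe_idemC (hM : Cfsg.IsPModular p M) (ρ θ : Cfsg.IrrCharacter K)
    [Decidable (θ ∈ Cfsg.blockOf M (ρ : K → ℂ))] :
    ((idemC hM ρ : centerRing (K := K) hM) : Cfsg.IrrCharacter K → ℂ) θ
      = if θ ∈ Cfsg.blockOf M (ρ : K → ℂ) then 1 else 0 := by
  show omega (θ : K → ℂ) (Cfsg.blockCoeff (Cfsg.blockOf M (ρ : K → ℂ))) = _
  rw [omega_blockCoeff]

theorem sum_idemC (hM : Cfsg.IsPModular p M) [Fintype (Cfsg.IrrCharacter K)]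
    [DecidableEq (Cfsg.IrrCharacter K)] :
    ∑ ρ ∈ (Finset.univ.image (blockRep (K := K) M)), idemC hM ρ = 1 := by
  classical
  apply Subtype.ext
  funext θ
  rw [AddSubmonoidClass.coe_finset_sum, Finset.sum_apply]
  simp only [coe_idemC]
  rw [Finset.sum_eq_single (blockRep M θ)]
  · rw [if_pos]
    · rfl
    · rw [blockOf_blockRep hM]; exact mem_blockOf_self hM θ
  · intro ρ hρ hne
    rw [if_neg]
    intro hmem
    apply hne
    rw [Finset.mem_image] at hρ
    obtain ⟨θ', _, rfl⟩ := hρ
    rw [blockOf_blockRep hM] at hmem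
    have := eq_blockOf_of_mem hM ⟨θ', rfl⟩ hmem
    exact blockRep_eq_of_blockOf_eq this
  · intro h
    exact absurd (Finset.mem_image_of_mem _ (Finset.mem_univ θ)) h

/-- the class indicator elements -/
noncomputable def indC (hM : Cfsg.IsPModular p M) (g : K) : centerRing (K := K) hM :=
  ofFn hM (classIndicator g) (classIndicator_isClassFunction g) (fun x => by
    unfold classIndicator
    split_ifs
    · exact memLocalRing_one hM
    · exact memLocalRing_zero hM)

/-- the generators of the radical modulo `idealM` -/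
noncomputable def radGen (hM : Cfsg.IsPModular p M) (x : K × Cfsg.IrrCharacter K) :
    centerRing (K := K) hM :=
  (indC hM x.1 - cstC hM (omega (x.2 : K → ℂ) (classIndicator x.1))
    (omega_memLocalRing hM x.2 _ (classIndicator_isClassFunction x.1) (fun y => by
      unfold classIndicator
      split_ifs
      · exact memLocalRing_one hM
      · exact memLocalRing_zero hM))) * idemC hM x.2

theorem radGen_mem_idealJ (hM : Cfsg.IsPModular p M) (x : K × Cfsg.IrrCharacter K) :
    radGen hM x ∈ idealJ hM := by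
  classical
  intro θ
  show Cfsg.MemLocalIdeal M ((phiC (classIndicator x.1) θ
    - ((cstC hM _ _ : centerRing (K := K) hM) : Cfsg.IrrCharacter K → ℂ) θ)
    * ((idemC hM x.2 : centerRing (K := K) hM) : Cfsg.IrrCharacter K → ℂ) θ)
  rw [coe_cstC, coe_idemC]
  by_cases h : θ ∈ Cfsg.blockOf M (x.2 : K → ℂ)
  · rw [if_pos h, mul_one]
    apply omega_sub_memLocalIdeal hM θ x.2 (sameBlock_symm hM h) _
      (classIndicator_isClassFunction x.1)
    intro y
    unfold classIndicator
    split_ifs
    · exact memLocalRing_one hM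
    · exact memLocalRing_zero hM
  · rw [if_neg h, mul_zero]
    exact memLocalIdeal_zero hM

theorem sup_pow_le {R : Type*} [CommRing R] (A B : Ideal R) (n : ℕ) :
    (A ⊔ B) ^ n ≤ A ⊔ B ^ n := by
  induction n with
  | zero => simp
  | succ n ih =>
    rw [pow_succ]
    calc (A ⊔ B) ^ n * (A ⊔ B) ≤ (A ⊔ B ^ n) * (A ⊔ B) := Ideal.mul_mono_left ih
      _ ≤ A ⊔ B ^ (n + 1) := by
        rw [Ideal.sup_mul, Ideal.mul_sup, Ideal.mul_sup, pow_succ]
        refine sup_le (sup_le ?_ ?_) (sup_le ?_ ?_)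
        · exact le_sup_of_le_left Ideal.mul_le_left
        · exact le_sup_of_le_left Ideal.mul_le_left
        · exact le_sup_of_le_left Ideal.mul_le_right
        · exact le_sup_right

/-- decomposition of a class function along conjugacy classes -/
theorem eq_sum_classIndicator (z : K → ℂ) (hz : Cfsg.IsClassFunction K z)
    [Fintype (ConjClasses K)] :
    z = ∑ C : ConjClasses K, z (Quotient.out C) • classIndicator (Quotient.out C) := by
  classical
  funext g
  rw [Finset.sum_apply]
  simp only [Pi.smul_apply, smul_eq_mul]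
  rw [Finset.sum_eq_single (ConjClasses.mk g)]
  · have hc : IsConj (Quotient.out (ConjClasses.mk g)) g := by
      rw [← ConjClasses.mk_eq_mk_iff_isConj]
      exact Quotient.out_eq _
    unfold classIndicator
    rw [if_pos hc, mul_one, IsClassFunction.eq_of_isConj hz hc]
  · intro C _ hC
    unfold classIndicator
    rw [if_neg, mul_zero]
    intro hc
    apply hC
    exact (Quotient.out_eq C).symm.trans (ConjClasses.mk_eq_mk_iff_isConj.mpr hc)
  · intro h; exact absurd (Finset.mem_univ _) h

theorem idealJ_le (hM : Cfsg.IsPModular p M) :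
    idealJ (K := K) hM ≤ idealM hM ⊔ Ideal.span (Set.range (radGen (K := K) hM)) := by
  classical
  haveI : Fintype (Cfsg.IrrCharacter K) := Fintype.ofFinite _
  haveI : Fintype (ConjClasses K) := Fintype.ofFinite _
  intro v hv
  obtain ⟨z, hz, hzR, hvz⟩ := v.2
  -- v = Σ_C z(C) • ind_C
  have hv1 : v = ∑ C : ConjClasses K,
      cstC hM (z (Quotient.out C)) (hzR _) * indC hM (Quotient.out C) := by
    apply Subtype.ext
    rw [hvz, AddSubmonoidClass.coe_finset_sum]
    conv_lhs => rw [eq_sum_classIndicator z hz]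
    rw [phiC_sum]
    apply Finset.sum_congr rfl
    intro C _
    rw [phiC_smul]
    funext θ
    show _ = ((cstC hM (z (Quotient.out C)) (hzR _) : centerRing (K := K) hM) :
      Cfsg.IrrCharacter K → ℂ) θ * phiC (classIndicator (Quotient.out C)) θ
    rw [coe_cstC]
    rfl
  have hv2 : v = ∑ ρ ∈ (Finset.univ.image (blockRep (K := K) M)), v * idemC hM ρ := by
    rw [← Finset.mul_sum, sum_idemC hM, mul_one]
  rw [hv2]
  apply Ideal.sum_mem
  intro ρ _
  -- v * e_ρ = Σ_C c_C * radGen (C, ρ) + cst (v ρ) * e_ρ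
  have hlam : ∀ C : ConjClasses K, Cfsg.MemLocalRing M
      (omega (ρ : K → ℂ) (classIndicator (Quotient.out C))) := fun C =>
    omega_memLocalRing hM ρ _ (classIndicator_isClassFunction _) (fun y => by
      unfold classIndicator
      split_ifs
      · exact memLocalRing_one hM
      · exact memLocalRing_zero hM)
  have e1 : ∀ C : ConjClasses K, indC hM (Quotient.out C) * idemC hM ρ
      = radGen hM (Quotient.out C, ρ) + cstC hM _ (hlam C) * idemC hM ρ := by
    intro C
    unfold radGen
    ring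
  have e2 : (∑ C : ConjClasses K, cstC (K := K) hM (z (Quotient.out C)) (hzR _)
      * cstC (K := K) hM _ (hlam C))
      = cstC hM ((v : Cfsg.IrrCharacter K → ℂ) ρ) (coe_memLocalRing hM v ρ) := by
    apply Subtype.ext
    funext θ
    rw [AddSubmonoidClass.coe_finset_sum, Finset.sum_apply, coe_cstC]
    conv_rhs => rw [hv1]
    rw [AddSubmonoidClass.coe_finset_sum, Finset.sum_apply]
    apply Finset.sum_congr rfl
    intro C _
    rw [Subring.coe_mul, Pi.mul_apply, coe_cstC, coe_cstC, Subring.coe_mul, Pi.mul_apply,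
      coe_cstC]
    rfl
  have hsplit : v * idemC hM ρ = (∑ C : ConjClasses K,
      cstC hM (z (Quotient.out C)) (hzR _) * radGen hM (Quotient.out C, ρ))
      + cstC hM ((v : Cfsg.IrrCharacter K → ℂ) ρ) (coe_memLocalRing hM v ρ) * idemC hM ρ := by
    rw [← e2, Finset.sum_mul, ← Finset.sum_add_distrib]
    conv_lhs => rw [hv1]
    rw [Finset.sum_mul]
    apply Finset.sum_congr rfl
    intro C _
    rw [mul_assoc, e1 C]
    ring
  rw [hsplit]
  apply Ideal.add_mem
  · apply Ideal.sum_mem
    intro C _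
    apply Ideal.mul_mem_left
    exact Ideal.mem_sup_right (Ideal.subset_span ⟨_, rfl⟩)
  · apply Ideal.mul_mem_right
    exact Ideal.mem_sup_left (cstC_mem_idealM hM _ (hv ρ))

theorem exists_idealJ_pow_le (hM : Cfsg.IsPModular p M) :
    ∃ m : ℕ, idealJ (K := K) hM ^ m ≤ idealM hM := by
  classical
  haveI : Fintype (Cfsg.IrrCharacter K) := Fintype.ofFinite _
  have hrad : Ideal.span (Set.range (radGen (K := K) hM)) ≤ (idealM hM).radical := by
    rw [Ideal.span_le]
    rintro _ ⟨x, rfl⟩
    exact ⟨_, pow_card_mem_idealM hM _ (radGen_mem_idealJ hM x)⟩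
  have hfg : (Ideal.span (Set.range (radGen (K := K) hM))).FG :=
    ⟨(Set.finite_range (radGen (K := K) hM)).toFinset, by rw [Set.Finite.coe_toFinset]⟩
  obtain ⟨m, hm⟩ := Ideal.exists_pow_le_of_le_radical_of_fg hrad hfg
  refine ⟨m, ?_⟩
  calc idealJ (K := K) hM ^ m
      ≤ (idealM hM ⊔ Ideal.span (Set.range (radGen (K := K) hM))) ^ m :=
        Ideal.pow_right_mono (idealJ_le hM) m
    _ ≤ idealM hM ⊔ Ideal.span (Set.range (radGen (K := K) hM)) ^ m := sup_pow_le _ _ m
    _ ≤ idealM hM := sup_le le_rfl hm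

/-- products of `m` radical elements -/
inductive RadProd (hM : Cfsg.IsPModular p M) : ℕ → (K → ℂ) → Prop
  | zero : RadProd hM 0 deltaOne
  | succ {m : ℕ} {w z : K → ℂ} : Cfsg.IsClassFunction K w → (∀ g, Cfsg.MemLocalRing M (w g)) →
      (∀ θ : Cfsg.IrrCharacter K, Cfsg.MemLocalIdeal M (omega (θ : K → ℂ) w)) →
      RadProd hM m z → RadProd hM (m + 1) (conv w z)

theorem RadProd.spec (hM : Cfsg.IsPModular p M) {m : ℕ} {z : K → ℂ} (h : RadProd hM m z) :
    ∃ (hz : Cfsg.IsClassFunction K z) (hzR : ∀ g, Cfsg.MemLocalRing M (z g)),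
      ofFn hM z hz hzR ∈ idealJ (K := K) hM ^ m := by
  induction h with
  | zero =>
    exact ⟨deltaOne_isClassFunction, deltaOne_memLocalRing hM, by simp⟩
  | succ hw hwR hwJ _ ih =>
    obtain ⟨hz, hzR, hmem⟩ := ih
    refine ⟨conv_isClassFunction _ _ hw hz,
      fun g => Cfsg.Agent.Lib.Helper7.conv_memLocalRing hM _ _ hwR hzR g, ?_⟩
    have e : ofFn hM (conv _ _) (conv_isClassFunction _ _ hw hz)
        (fun g => Cfsg.Agent.Lib.Helper7.conv_memLocalRing hM _ _ hwR hzR g)
        = ofFn hM _ hw hwR * ofFn hM _ hz hzR := by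
      apply Subtype.ext
      exact phiC_conv _ _ hw hz
    rw [e, pow_succ']
    exact Ideal.mul_mem_mul (fun θ => hwJ θ) hmem

/-- **Nilpotency of the radical**: a product of sufficiently many radical elements of the centre
has all its coefficients in the local ideal. -/
theorem exists_radProd_memLocalIdeal (hM : Cfsg.IsPModular p M) :
    ∃ m : ℕ, ∀ z : K → ℂ, RadProd hM m z → ∀ g, Cfsg.MemLocalIdeal M (z g) := by
  obtain ⟨m, hm⟩ := exists_idealJ_pow_le (K := K) hM
  refine ⟨m, fun z hz g => ?_⟩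
  obtain ⟨hzc, hzR, hmem⟩ := hz.spec hM
  obtain ⟨z', hz', hzM', he⟩ := hm hmem
  have : z = z' := phiC_injective hzc hz' he
  rw [this]
  exact hzM' g

end CenterRadical

end Cfsg.Agent.Lib.Helper24
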