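import Mathlib
import Cfsg.Prelude.Def_Blocks
import Cfsg.Agent.Lib.Helper24.BrauerGood
import Cfsg.Agent.Lib.Helper7.SecondMain
import Cfsg.Agent.Lib.Helper7.BrauerIdem

/-!
# Coset components of group algebra elements (helper24)

For a normal subgroup `N` of a finite group `G`, functions `G → ℂ` (elements of the group algebra
under `conv`) are graded by `G ⧸ N`.  This file gives the component calculus used in the proof
that a covering block lies over every character of a covered block.
-/

set_option autoImplicit false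

namespace Cfsg.Agent.Lib.Helper24

open Cfsg.Agent.Lib.Helper2 Cfsg.Agent.Lib.Helper7
open scoped ComplexConjugate

section CosetComp

variable {G : Type*} [Group G] [Fintype G] (N : Subgroup G) [hN : N.Normal]

/-- the component of `a` on the coset `u` of `N` -/
noncomputable def cosetComp (u : G ⧸ N) (a : G → ℂ) : G → ℂ := fun g => by
  classical exact if (g : G ⧸ N) = u then a g else 0

/-- `a` is supported on the coset `u` -/
def SuppCoset (u : G ⧸ N) (a : G → ℂ) : Prop := ∀ g, a g ≠ 0 → (g : G ⧸ N) = u

/-- `a` is invariant under conjugation by `N` -/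
def NInv (a : G → ℂ) : Prop := ∀ n ∈ N, ∀ g, a (n * g * n⁻¹) = a g

theorem cosetComp_apply (u : G ⧸ N) (a : G → ℂ) (g : G) [Decidable ((g : G ⧸ N) = u)] :
    cosetComp N u a g = if (g : G ⧸ N) = u then a g else 0 := by
  unfold cosetComp
  split_ifs <;> rfl

theorem suppCoset_cosetComp (u : G ⧸ N) (a : G → ℂ) : SuppCoset N u (cosetComp N u a) := by
  classical
  intro g hg
  rw [cosetComp_apply] at hg
  by_contra h
  rw [if_neg h] at hg
  exact hg rfl

theorem sum_cosetComp [Fintype (G ⧸ N)] (a : G → ℂ) : ∑ u : G ⧸ N, cosetComp N u a = a := by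
  classical
  ext g
  rw [Finset.sum_apply]
  simp only [cosetComp_apply]
  rw [Finset.sum_ite_eq]
  simp

theorem cosetComp_of_suppCoset {u : G ⧸ N} {a : G → ℂ} (h : SuppCoset N u a) :
    cosetComp N u a = a := by
  classical
  ext g
  rw [cosetComp_apply]
  by_cases hg : (g : G ⧸ N) = u
  · rw [if_pos hg]
  · rw [if_neg hg]
    by_contra h0
    exact hg (h g (Ne.symm h0))

theorem suppCoset_conv {u v : G ⧸ N} {a b : G → ℂ} (ha : SuppCoset N u a)
    (hb : SuppCoset N v b) : SuppCoset N (u * v) (conv a b) := by
  intro g hg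
  rw [conv_apply] at hg
  obtain ⟨h, _, hh⟩ := Finset.exists_ne_zero_of_sum_ne_zero hg
  have h1 : a h ≠ 0 := left_ne_zero_of_mul hh
  have h2 : b (h⁻¹ * g) ≠ 0 := right_ne_zero_of_mul hh
  have e1 := ha h h1
  have e2 := hb _ h2
  rw [← e1, ← e2, ← QuotientGroup.mk_mul, mul_inv_cancel_left]

theorem suppCoset_deltaOne : SuppCoset N 1 (deltaOne : G → ℂ) := by
  classical
  intro g hg
  unfold deltaOne at hg
  by_cases h : g = 1
  · rw [h]; rfl
  · rw [if_neg h] at hg
    exact absurd rfl hg

/-- the `v`-component of `y * a` for `y` supported on the coset `u` -/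
theorem cosetComp_conv_left {u : G ⧸ N} {y : G → ℂ} (hy : SuppCoset N u y) (v : G ⧸ N)
    (a : G → ℂ) : cosetComp N v (conv y a) = conv y (cosetComp N (u⁻¹ * v) a) := by
  classical
  ext g
  rw [cosetComp_apply, conv_apply, conv_apply]
  by_cases hg : (g : G ⧸ N) = v
  · rw [if_pos hg]
    apply Finset.sum_congr rfl
    intro h _
    by_cases hh : y h = 0
    · rw [hh, zero_mul, zero_mul]
    · have e := hy h hh
      rw [cosetComp_apply, if_pos]
      rw [QuotientGroup.mk_mul, QuotientGroup.mk_inv, e, hg]
  · rw [if_neg hg]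
    symm
    apply Finset.sum_eq_zero
    intro h _
    by_cases hh : y h = 0
    · rw [hh, zero_mul]
    · have e := hy h hh
      rw [cosetComp_apply, if_neg, mul_zero]
      rw [QuotientGroup.mk_mul, QuotientGroup.mk_inv, e]
      intro h2
      apply hg
      have := congrArg (fun x => u * x) h2
      simpa using this

/-- the `v`-component of `a * z` for `z` supported on `N` -/
theorem cosetComp_conv_right {z : G → ℂ} (hz : SuppCoset N 1 z) (v : G ⧸ N)
    (a : G → ℂ) : cosetComp N v (conv a z) = conv (cosetComp N v a) z := by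
  classical
  ext g
  rw [cosetComp_apply, conv_apply, conv_apply]
  by_cases hg : (g : G ⧸ N) = v
  · rw [if_pos hg]
    apply Finset.sum_congr rfl
    intro h _
    by_cases hh : z (h⁻¹ * g) = 0
    · rw [hh, mul_zero, mul_zero]
    · have e := hz _ hh
      rw [cosetComp_apply, if_pos]
      rw [QuotientGroup.mk_mul, QuotientGroup.mk_inv] at e
      rw [← hg]
      have := congrArg (fun x => (h : G ⧸ N) * x) e
      simpa using this.symm
  · rw [if_neg hg]
    symm
    apply Finset.sum_eq_zero
    intro h _
    by_cases hh : z (h⁻¹ * g) = 0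
    · rw [hh, mul_zero]
    · have e := hz _ hh
      rw [cosetComp_apply, if_neg, zero_mul]
      rw [QuotientGroup.mk_mul, QuotientGroup.mk_inv] at e
      intro h2
      apply hg
      rw [← h2]
      have := congrArg (fun x => (h : G ⧸ N) * x) e
      simpa using this

theorem nInv_of_isClassFunction {a : G → ℂ} (ha : Cfsg.IsClassFunction G a) : NInv N a :=
  fun n _ g => ha g n

theorem nInv_conv {a b : G → ℂ} (ha : NInv N a) (hb : NInv N b) : NInv N (conv a b) :=
  fun n hn g => conv_conj_invariant a b n (ha n hn) (hb n hn) g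

theorem nInv_cosetComp (u : G ⧸ N) {a : G → ℂ} (ha : NInv N a) : NInv N (cosetComp N u a) := by
  classical
  intro n hn g
  rw [cosetComp_apply, cosetComp_apply, ha n hn g]
  have e : ((n * g * n⁻¹ : G) : G ⧸ N) = (g : G ⧸ N) := by
    rw [QuotientGroup.mk_mul, QuotientGroup.mk_mul, QuotientGroup.mk_inv,
      (QuotientGroup.eq_one_iff n).mpr hn]
    simp
  rw [e]

theorem nInv_deltaOne : NInv N (deltaOne : G → ℂ) :=
  nInv_of_isClassFunction N deltaOne_isClassFunction

theorem cosetComp_memLocalRing {p : ℕ} {M : Ideal Cfsg.AlgInt} (hM : Cfsg.IsPModular p M)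
    (u : G ⧸ N) {a : G → ℂ} (ha : ∀ g, Cfsg.MemLocalRing M (a g)) (g : G) :
    Cfsg.MemLocalRing M (cosetComp N u a g) := by
  classical
  rw [cosetComp_apply]
  split_ifs
  · exact ha g
  · exact memLocalRing_zero hM

/-- the identity component is the extension by zero of the restriction to `N` -/
theorem cosetComp_one_eq (a : G → ℂ) :
    cosetComp N 1 a = Cfsg.extendByZero N (fun n : N => a (n : G)) := by
  classical
  ext g
  rw [cosetComp_apply]
  by_cases hg : g ∈ N
  · rw [if_pos ((QuotientGroup.eq_one_iff g).mpr hg), extendByZero_apply_mem N _ hg]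
  · rw [if_neg (fun h => hg ((QuotientGroup.eq_one_iff g).mp h)),
      extendByZero_apply_not_mem N _ hg]

theorem suppCoset_extendByZero (z : N → ℂ) : SuppCoset N 1 (Cfsg.extendByZero N z) := by
  intro g hg
  by_contra h
  apply hg
  rw [extendByZero_apply_not_mem N _ (fun hgN => h ((QuotientGroup.eq_one_iff g).mpr hgN))]

theorem isClassFunction_restrict_of_nInv {a : G → ℂ} (ha : NInv N a) :
    Cfsg.IsClassFunction N (fun n : N => a (n : G)) := by
  intro g h
  show a ((h * g * h⁻¹ : N) : G) = a (g : G)
  have := ha (h : G) h.2 (g : G)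
  simpa using this

end CosetComp

end Cfsg.Agent.Lib.Helper24
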