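import Mathlib
import Cfsg.Prelude.Def_Blocks
import Cfsg.Agent.Lib.Helper24.CosetComp
import Cfsg.Agent.Lib.Helper24.CenterRadical
import Cfsg.Agent.Lib.Helper24.BlockOrtho
import Cfsg.Agent.Lib.Helper24.FongReynolds
import Cfsg.Agent.Lib.Helper7.Covering

/-!
# A covering block lies over every character of the covered block (helper24)

Navarro, Theorem 9.4: if the block `B` of `G` covers the block `b` of the normal subgroup `N`,
then every `θ ∈ b` lies under some `χ ∈ B`.  The proof is by graded nilpotency: if `θ` is not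
under `B`, then for every `N`-invariant `y` in the local group algebra the `N`-component of
`y * f_B` lies in the radical of the centre of the local group algebra of `N`; a pigeonhole
argument on the `G ⧸ N`-grading then shows that a power of `f_B` has coefficients in the maximal
ideal, which is absurd for an idempotent with `ω_χ(f_B) = 1`.
-/

set_option autoImplicit false

namespace Cfsg.Agent.Lib.Helper24

open Cfsg.Agent.Lib.Helper2 Cfsg.Agent.Lib.Helper7
open scoped ComplexConjugate

section ListProd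

variable {G : Type*} [Group G] [Fintype G]

/-- product (for `conv`) of a list of members of a family -/
noncomputable def convL {ι : Type*} (c : ι → G → ℂ) : List ι → G → ℂ
  | [] => deltaOne
  | u :: L => conv (c u) (convL c L)

theorem convL_nil {ι : Type*} (c : ι → G → ℂ) : convL c [] = deltaOne := rfl

theorem convL_cons {ι : Type*} (c : ι → G → ℂ) (u : ι) (L : List ι) :
    convL c (u :: L) = conv (c u) (convL c L) := rfl

theorem convL_append {ι : Type*} (c : ι → G → ℂ) (L₁ L₂ : List ι) :
    convL c (L₁ ++ L₂) = conv (convL c L₁) (convL c L₂) := by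
  induction L₁ with
  | nil => rw [List.nil_append, convL_nil, conv_deltaOne_left]
  | cons u L ih => rw [List.cons_append, convL_cons, convL_cons, ih, conv_assoc]

/-- powers of an element for `conv` -/
noncomputable def convPw (a : G → ℂ) : ℕ → G → ℂ
  | 0 => deltaOne
  | k + 1 => conv a (convPw a k)

theorem convPw_succ (a : G → ℂ) (k : ℕ) : convPw a (k + 1) = conv a (convPw a k) := rfl

theorem convPw_of_idem {a : G → ℂ} (ha : conv a a = a) (k : ℕ) : convPw a (k + 1) = a := by
  induction k with
  | zero => exact conv_deltaOne_right a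
  | succ k ih => rw [convPw_succ, ih, ha]

theorem conv_zero_right' (a : G → ℂ) : conv a (0 : G → ℂ) = 0 := by
  ext g; simp [conv_apply]

theorem conv_finsum_left {ι : Type*} (s : Finset ι) (f : ι → G → ℂ) (b : G → ℂ) :
    conv (∑ i ∈ s, f i) b = ∑ i ∈ s, conv (f i) b := by
  classical
  induction s using Finset.induction_on with
  | empty => ext g; simp [conv_apply]
  | insert i s hi ih => rw [Finset.sum_insert hi, Finset.sum_insert hi, conv_add_left, ih]

/-- a power of a sum is a sum of list products -/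
theorem convPw_induction {ι : Type*} [Fintype ι] (c : ι → G → ℂ) (a : G → ℂ)
    (ha : ∑ u, c u = a) :
    ∀ (k : ℕ) (Pred : (G → ℂ) → Prop), Pred 0 → (∀ x y, Pred x → Pred y → Pred (x + y)) →
      (∀ L : List ι, L.length = k → Pred (convL c L)) → Pred (convPw a k) := by
  classical
  subst ha
  intro k
  induction k with
  | zero =>
    intro Pred _ _ h
    exact h [] rfl
  | succ k ih =>
    intro Pred h0 hadd h
    rw [convPw_succ, conv_finsum_left]
    have hsum : ∀ s : Finset ι, Pred (∑ u ∈ s, conv (c u) (convPw (∑ u, c u) k)) := by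
      intro s
      induction s using Finset.induction_on with
      | empty => simpa using h0
      | insert i s hi ihs =>
        rw [Finset.sum_insert hi]
        refine hadd _ _ ?_ ihs
        apply ih (fun x => Pred (conv (c i) x))
        · show Pred (conv (c i) 0)
          rw [conv_zero_right']; exact h0
        · intro x y hx hy
          show Pred (conv (c i) (x + y))
          rw [conv_add_right]; exact hadd _ _ hx hy
        · intro L hL
          exact h (i :: L) (by simp [hL])
    exact hsum Finset.univ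

variable {p : ℕ} {M : Ideal Cfsg.AlgInt}

theorem convL_memLocalRing (hM : Cfsg.IsPModular p M) {ι : Type*} (c : ι → G → ℂ)
    (hc : ∀ u g, Cfsg.MemLocalRing M (c u g)) (L : List ι) (g : G) :
    Cfsg.MemLocalRing M (convL c L g) := by
  induction L generalizing g with
  | nil => exact deltaOne_memLocalRing hM g
  | cons u L ih => exact conv_memLocalRing hM _ _ (hc u) ih g

theorem conv_memLocalIdeal_right' (hM : Cfsg.IsPModular p M) (a b : G → ℂ)
    (ha : ∀ g, Cfsg.MemLocalRing M (a g)) (hb : ∀ g, Cfsg.MemLocalIdeal M (b g)) (g : G) :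
    Cfsg.MemLocalIdeal M (conv a b g) := by
  rw [conv_apply]
  apply memLocalIdeal_sum hM
  intro h _
  exact memLocalIdeal_mul_left hM (ha h) (hb _)

end ListProd

section Occ

variable {Q : Type*} [Group Q] [DecidableEq Q]

/-- number of `i ≥ 1` with `P * (L.take i).prod = v` -/
def occ (v : Q) : Q → List Q → ℕ
  | _, [] => 0
  | P, u :: L => (if P * u = v then 1 else 0) + occ v (P * u) L

theorem occ_nil (v P : Q) : occ v P [] = 0 := rfl

theorem occ_cons (v P u : Q) (L : List Q) :
    occ v P (u :: L) = (if P * u = v then 1 else 0) + occ v (P * u) L := rfl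

theorem occ_translate (a v : Q) (P : Q) (L : List Q) : occ (a * v) (a * P) L = occ v P L := by
  induction L generalizing P with
  | nil => rfl
  | cons u L ih =>
    rw [occ_cons, occ_cons, mul_assoc, ih]
    congr 1
    simp only [mul_right_inj]

theorem sum_occ [Fintype Q] (P : Q) (L : List Q) : ∑ v : Q, occ v P L = L.length := by
  induction L generalizing P with
  | nil => simp [occ_nil]
  | cons u L ih =>
    simp only [occ_cons]
    rw [Finset.sum_add_distrib, ih, Finset.sum_ite_eq]
    simp [add_comm]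

theorem occ_split (v : Q) : ∀ (L : List Q) (P : Q), 1 ≤ occ v P L →
    ∃ L₁ L₂ : List Q, L = L₁ ++ L₂ ∧ occ v P L = 1 + occ v v L₂ := by
  intro L
  induction L with
  | nil => intro P h; simp [occ_nil] at h
  | cons u L ih =>
    intro P h
    rw [occ_cons] at h ⊢
    by_cases hu : P * u = v
    · refine ⟨[u], L, rfl, ?_⟩
      rw [if_pos hu, hu]
    · rw [if_neg hu, zero_add] at h ⊢
      obtain ⟨L₁, L₂, hL, hocc⟩ := ih (P * u) h
      exact ⟨u :: L₁, L₂, by rw [hL]; rfl, hocc⟩

theorem exists_split_of_length [Fintype Q] (m : ℕ) (L : List Q)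
    (hL : m * Fintype.card Q < L.length) :
    ∃ L₁ L₂ : List Q, L = L₁ ++ L₂ ∧ m ≤ occ 1 1 L₂ := by
  have hex : ∃ v : Q, m + 1 ≤ occ v 1 L := by
    by_contra hcon
    push Not at hcon
    have h1 : ∑ v : Q, occ v 1 L ≤ ∑ _v : Q, m :=
      Finset.sum_le_sum (fun v _ => Nat.lt_succ_iff.mp (hcon v))
    rw [sum_occ, Finset.sum_const, Finset.card_univ, smul_eq_mul, mul_comm] at h1
    omega
  obtain ⟨v, hv⟩ := hex
  obtain ⟨L₁, L₂, hLL, hocc⟩ := occ_split v L 1 (by omega)
  refine ⟨L₁, L₂, hLL, ?_⟩
  have h2 := occ_translate v⁻¹ v v L₂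
  rw [inv_mul_cancel] at h2
  omega

end Occ

section HStar

variable {G : Type*} [Group G] [Fintype G] (N : Subgroup G) [hN : N.Normal] [Fintype N]
variable {p : ℕ} {M : Ideal Cfsg.AlgInt}

/-- the set of irreducible characters of `N` not lying under any member of `B` -/
def notUnder (B : Set (Cfsg.IrrCharacter G)) : Set (Cfsg.IrrCharacter N) :=
  {ψ | ∀ χ ∈ B, Cfsg.classInner (fun n : N => (χ : G → ℂ) n) (ψ : N → ℂ) = 0}

theorem notUnder_stable (B : Set (Cfsg.IrrCharacter G)) (y : G) (ψ : Cfsg.IrrCharacter N) :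
    Cfsg.Agent.Lib.Helper7.conjIrr N y ψ ∈ notUnder N B ↔ ψ ∈ notUnder N B := by
  constructor
  · intro h χ hχ
    have h1 : Cfsg.classInner (fun n : N => (χ : G → ℂ) n) (conjFun N y (ψ : N → ℂ)) = 0 :=
      h χ hχ
    rwa [classInner_restrict_conjFun N (IrrCharacter.isClassFunction χ)] at h1
  · intro h χ hχ
    show Cfsg.classInner (fun n : N => (χ : G → ℂ) n) (conjFun N y (ψ : N → ℂ)) = 0
    rw [classInner_restrict_conjFun N (IrrCharacter.isClassFunction χ)]
    exact h χ hχ

theorem conv_blockCoeff_coverFn_notUnder (B : Set (Cfsg.IrrCharacter G)) :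
    conv (Cfsg.blockCoeff B) (coverFn N (notUnder N B)) = 0 := by
  classical
  have hc := coverFn_isClassFunction N _ (notUnder_stable N B)
  apply eq_of_omega_eq _ _ (conv_isClassFunction _ _ (blockCoeff_isClassFunction B) hc)
    isClassFunction_zero
  intro χ
  rw [omega_conv χ _ _ (blockCoeff_isClassFunction B) hc, omega_blockCoeff, omega_zero]
  by_cases hχ : χ ∈ B
  · rw [if_pos hχ, one_mul]
    have hcf : Cfsg.IsClassFunction N (fun n : N => (χ : G → ℂ) n) := by
      intro n m
      exact IrrCharacter.isClassFunction χ n m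
    obtain ⟨ψ, hψ⟩ := exists_constituent_of_isClassFunction (fun n : N => (χ : G → ℂ) n) hcf
      (IsIrrCharacter.apply_one_ne_zero χ.2)
    rw [omega_coverFn N _ (notUnder_stable N B) χ ψ hψ, if_neg]
    intro hmem
    exact hψ (hmem χ hχ)
  · rw [if_neg hχ, zero_mul]

theorem conv_blockCoeff_coverFn_orbitUnion (hM : Cfsg.IsPModular p M)
    (B : Set (Cfsg.IrrCharacter G)) (hB : Cfsg.IsPBlock M B)
    (b : Set (Cfsg.IrrCharacter N)) (hb : Cfsg.IsPBlock M b)
    (hcov : ∃ χ ∈ B, ∃ θ ∈ b, Cfsg.classInner (fun n : N => (χ : G → ℂ) n) (θ : N → ℂ) ≠ 0) :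
    conv (Cfsg.blockCoeff B) (coverFn N (orbitUnion N b)) = Cfsg.blockCoeff B := by
  classical
  have hc := coverFn_isClassFunction N _ (orbitUnion_stable N b)
  apply eq_of_omega_eq _ _ (conv_isClassFunction _ _ (blockCoeff_isClassFunction B) hc)
    (blockCoeff_isClassFunction B)
  intro χ
  rw [omega_conv χ _ _ (blockCoeff_isClassFunction B) hc, omega_blockCoeff]
  by_cases hχ : χ ∈ B
  · rw [if_pos hχ, one_mul]
    have hcf : Cfsg.IsClassFunction N (fun n : N => (χ : G → ℂ) n) := by
      intro n m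
      exact IrrCharacter.isClassFunction χ n m
    obtain ⟨ψ, hψ⟩ := exists_constituent_of_isClassFunction (fun n : N => (χ : G → ℂ) n) hcf
      (IsIrrCharacter.apply_one_ne_zero χ.2)
    obtain ⟨χ₀, hχ₀, θ₀, hθ₀, hcon⟩ := hcov
    have hmem : ψ ∈ orbitUnion N b :=
      constituent_mem_orbitUnion N hM b hb χ₀ χ (sameBlock_of_mem_block hM hB hχ₀ hχ) θ₀ hθ₀ hcon
        ψ hψ
    rw [omega_coverFn N _ (orbitUnion_stable N b) χ ψ hψ, if_pos hmem]
  · rw [if_neg hχ, zero_mul]

theorem restrict_conv_extZ (a : G → ℂ) (e : N → ℂ) :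
    (fun n : N => conv a (Cfsg.extendByZero N e) (n : G)) = conv (fun n : N => a (n : G)) e := by
  have h1 := cosetComp_conv_right N (suppCoset_extendByZero N e) 1 a
  rw [cosetComp_one_eq, cosetComp_one_eq, conv_extZ] at h1
  funext n
  have h2 := congrFun h1 (n : G)
  rwa [extendByZero_apply_coe, extendByZero_apply_coe] at h2

/-- if `θ ∈ b` is not under the covering block `B`, then the `N`-part of `y * f_B` lies in the
radical of the centre of the local group algebra of `N`, for every `N`-invariant `y` -/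
theorem omega_restrict_conv_blockCoeff_mem (hM : Cfsg.IsPModular p M)
    (B : Set (Cfsg.IrrCharacter G)) (hB : Cfsg.IsPBlock M B)
    (b : Set (Cfsg.IrrCharacter N)) (hb : Cfsg.IsPBlock M b)
    (hcov : ∃ χ ∈ B, ∃ θ ∈ b, Cfsg.classInner (fun n : N => (χ : G → ℂ) n) (θ : N → ℂ) ≠ 0)
    (θ : Cfsg.IrrCharacter N) (hθ : θ ∈ b) (hno : θ ∈ notUnder N B)
    (y : G → ℂ) (hy : NInv N y) (hyR : ∀ g, Cfsg.MemLocalRing M (y g))
    (θ' : Cfsg.IrrCharacter N) :
    Cfsg.MemLocalIdeal M
      (omega (θ' : N → ℂ) (fun n : N => conv y (Cfsg.blockCoeff B) (n : G))) := by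
  classical
  have hfBc : Cfsg.IsClassFunction G (Cfsg.blockCoeff B) := blockCoeff_isClassFunction B
  have hw : NInv N (conv y (Cfsg.blockCoeff B)) :=
    nInv_conv N hy (nInv_of_isClassFunction N hfBc)
  have hwc : Cfsg.IsClassFunction N (fun n : N => conv y (Cfsg.blockCoeff B) (n : G)) :=
    isClassFunction_restrict_of_nInv N hw
  have hwR : ∀ n : N, Cfsg.MemLocalRing M (conv y (Cfsg.blockCoeff B) (n : G)) :=
    fun n => conv_memLocalRing hM _ _ hyR (blockCoeff_memLocalRing hM B hB) _
  have key0 : ∀ θ'' ∈ notUnder N B,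
      omega (θ'' : N → ℂ) (fun n : N => conv y (Cfsg.blockCoeff B) (n : G)) = 0 := by
    intro θ'' hθ''
    have h1 : conv (conv y (Cfsg.blockCoeff B)) (coverFn N (notUnder N B)) = 0 := by
      rw [conv_assoc, conv_blockCoeff_coverFn_notUnder, conv_zero_right']
    have h2 := restrict_conv_extZ N (conv y (Cfsg.blockCoeff B)) (Cfsg.blockCoeff (notUnder N B))
    have h3 : conv (fun n : N => conv y (Cfsg.blockCoeff B) (n : G))
        (Cfsg.blockCoeff (notUnder N B)) = 0 := by
      rw [← h2]
      funext n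
      show conv (conv y (Cfsg.blockCoeff B)) (coverFn N (notUnder N B)) (n : G) = 0
      rw [h1]; rfl
    have h4 := omega_conv θ'' _ _ hwc (blockCoeff_isClassFunction (notUnder N B))
    rw [h3, omega_zero, omega_blockCoeff, if_pos hθ'', mul_one] at h4
    exact h4.symm
  by_cases hU : θ' ∈ orbitUnion N b
  · obtain ⟨x, hx⟩ := hU
    have hs : Cfsg.SameBlock M (conjFun N x (θ' : N → ℂ)) (θ : N → ℂ) :=
      sameBlock_of_mem_block hM hb hx hθ
    have hs2 := sameBlock_conjFun N hs x⁻¹
    rw [← conjFun_mul, mul_inv_cancel, conjFun_one] at hs2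
    have hθ'' : Cfsg.Agent.Lib.Helper7.conjIrr N x⁻¹ θ ∈ notUnder N B :=
      (notUnder_stable N B x⁻¹ θ).mpr hno
    have h5 := omega_sub_memLocalIdeal hM θ' (Cfsg.Agent.Lib.Helper7.conjIrr N x⁻¹ θ) hs2 _
      hwc hwR
    rw [key0 _ hθ'', sub_zero] at h5
    exact h5
  · have h1 : conv (conv y (Cfsg.blockCoeff B)) (coverFn N (orbitUnion N b))
        = conv y (Cfsg.blockCoeff B) := by
      rw [conv_assoc, conv_blockCoeff_coverFn_orbitUnion N hM B hB b hb hcov]
    have h2 := restrict_conv_extZ N (conv y (Cfsg.blockCoeff B))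
      (Cfsg.blockCoeff (orbitUnion N b))
    have h3 : conv (fun n : N => conv y (Cfsg.blockCoeff B) (n : G))
        (Cfsg.blockCoeff (orbitUnion N b))
        = fun n : N => conv y (Cfsg.blockCoeff B) (n : G) := by
      rw [← h2]
      funext n
      show conv (conv y (Cfsg.blockCoeff B)) (coverFn N (orbitUnion N b)) (n : G) = _
      rw [h1]
    have h4 := omega_conv θ' _ _ hwc (blockCoeff_isClassFunction (orbitUnion N b))
    rw [h3, omega_blockCoeff, if_neg hU, mul_zero] at h4
    rw [h4]
    exact memLocalIdeal_zero hM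

end HStar

section Greedy

variable {G : Type*} [Group G] [Fintype G] (N : Subgroup G) [hN : N.Normal] [Fintype N]
variable {p : ℕ} {M : Ideal Cfsg.AlgInt}

theorem greedy_radProd (hM : Cfsg.IsPModular p M) [DecidableEq (G ⧸ N)] (f : G → ℂ)
    (hfR : ∀ g, Cfsg.MemLocalRing M (f g)) (hfN : NInv N f)
    (hstar : ∀ y : G → ℂ, NInv N y → (∀ g, Cfsg.MemLocalRing M (y g)) →
      ∀ θ' : Cfsg.IrrCharacter N,
        Cfsg.MemLocalIdeal M (omega (θ' : N → ℂ) (fun n : N => conv y f (n : G)))) :
    ∀ (m : ℕ) (L : List (G ⧸ N)) (P : G ⧸ N) (y : G → ℂ), SuppCoset N P y → NInv N y →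
      (∀ g, Cfsg.MemLocalRing M (y g)) → m ≤ occ 1 P L →
      ∃ (z : N → ℂ) (x : G → ℂ), RadProd hM m z ∧ (∀ g, Cfsg.MemLocalRing M (x g)) ∧
        conv y (convL (fun u => cosetComp N u f) L) = conv (Cfsg.extendByZero N z) x := by
  intro m
  induction m with
  | zero =>
    intro L P y _ _ hyR _
    refine ⟨deltaOne, conv y (convL (fun u => cosetComp N u f) L), RadProd.zero, ?_, ?_⟩
    · exact conv_memLocalRing hM _ _ hyR
        (convL_memLocalRing hM _ (fun u g => cosetComp_memLocalRing N hM u hfR g) L)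
    · rw [extZ_deltaOne, conv_deltaOne_left]
  | succ m ihm =>
    intro L
    induction L with
    | nil =>
      intro P y _ _ _ h
      simp [occ_nil] at h
    | cons u L ihL =>
      intro P y hyS hyN hyR h
      rw [occ_cons] at h
      rw [convL_cons, ← conv_assoc]
      have hy'S : SuppCoset N (P * u) (conv y (cosetComp N u f)) :=
        suppCoset_conv N hyS (suppCoset_cosetComp N u f)
      have hy'N : NInv N (conv y (cosetComp N u f)) :=
        nInv_conv N hyN (nInv_cosetComp N u hfN)
      have hy'R : ∀ g, Cfsg.MemLocalRing M (conv y (cosetComp N u f) g) :=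
        conv_memLocalRing hM _ _ hyR (fun g => cosetComp_memLocalRing N hM u hfR g)
      by_cases hu : P * u = 1
      · rw [if_pos hu, hu] at h
        have hm : m ≤ occ 1 1 L := by omega
        obtain ⟨z', x', hz', hx'R, he⟩ := ihm L 1 deltaOne (suppCoset_deltaOne N)
          (nInv_deltaOne N) (deltaOne_memLocalRing hM) hm
        rw [conv_deltaOne_left] at he
        have hu' : u = P⁻¹ * 1 := by
          rw [mul_one]; exact eq_inv_of_mul_eq_one_right hu
        have hy' : conv y (cosetComp N u f)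
            = Cfsg.extendByZero N (fun n : N => conv y f (n : G)) := by
          rw [hu', ← cosetComp_conv_left N hyS 1 f, cosetComp_one_eq]
        refine ⟨conv (fun n : N => conv y f (n : G)) z', x',
          RadProd.succ ?_ ?_ ?_ hz', hx'R, ?_⟩
        · exact isClassFunction_restrict_of_nInv N (nInv_conv N hyN hfN)
        · intro n
          exact conv_memLocalRing hM _ _ hyR hfR _
        · exact hstar y hyN hyR
        · rw [hy', he, ← conv_assoc, conv_extZ]
      · rw [if_neg hu, zero_add] at h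
        exact ihL (P * u) _ hy'S hy'N hy'R h

theorem exists_length_memLocalIdeal (hM : Cfsg.IsPModular p M) (f : G → ℂ)
    (hfR : ∀ g, Cfsg.MemLocalRing M (f g)) (hfN : NInv N f)
    (hstar : ∀ y : G → ℂ, NInv N y → (∀ g, Cfsg.MemLocalRing M (y g)) →
      ∀ θ' : Cfsg.IrrCharacter N,
        Cfsg.MemLocalIdeal M (omega (θ' : N → ℂ) (fun n : N => conv y f (n : G)))) :
    ∃ k : ℕ, ∀ L : List (G ⧸ N), L.length = k + 1 →
      ∀ g, Cfsg.MemLocalIdeal M (convL (fun u => cosetComp N u f) L g) := by
  classical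
  haveI : Fintype (G ⧸ N) := Fintype.ofFinite _
  obtain ⟨m, hm⟩ := exists_radProd_memLocalIdeal (K := N) hM
  refine ⟨m * Fintype.card (G ⧸ N), fun L hL g => ?_⟩
  obtain ⟨L₁, L₂, hLL, hocc⟩ := exists_split_of_length m L (by omega)
  obtain ⟨z, x, hz, hxR, he⟩ := greedy_radProd N hM f hfR hfN hstar m L₂ 1 deltaOne
    (suppCoset_deltaOne N) (nInv_deltaOne N) (deltaOne_memLocalRing hM) hocc
  rw [conv_deltaOne_left] at he
  rw [hLL, convL_append, he]
  apply conv_memLocalIdeal_right' hM
  · exact convL_memLocalRing hM _ (fun u g => cosetComp_memLocalRing N hM u hfR g) L₁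
  · intro g'
    apply conv_memLocalIdeal_left hM _ _ _ hxR
    intro g''
    by_cases hg : g'' ∈ N
    · rw [extendByZero_apply_mem N _ hg]; exact hm z hz _
    · rw [extendByZero_apply_not_mem N _ hg]; exact memLocalIdeal_zero hM

/-- **Navarro, Theorem 9.4**: a covering block lies over every character of the covered block -/
theorem exists_over_of_covering (hM : Cfsg.IsPModular p M)
    (B : Set (Cfsg.IrrCharacter G)) (hB : Cfsg.IsPBlock M B)
    (b : Set (Cfsg.IrrCharacter N)) (hb : Cfsg.IsPBlock M b)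
    (hcov : ∃ χ ∈ B, ∃ θ ∈ b, Cfsg.classInner (fun n : N => (χ : G → ℂ) n) (θ : N → ℂ) ≠ 0)
    (θ : Cfsg.IrrCharacter N) (hθ : θ ∈ b) :
    ∃ χ ∈ B, Cfsg.classInner (fun n : N => (χ : G → ℂ) n) (θ : N → ℂ) ≠ 0 := by
  classical
  by_contra hcon
  push Not at hcon
  have hno : θ ∈ notUnder N B := hcon
  have hfc := blockCoeff_isClassFunction B
  have hfR := blockCoeff_memLocalRing hM B hB
  have hfN := nInv_of_isClassFunction N hfc
  obtain ⟨k, hk⟩ := exists_length_memLocalIdeal N hM (Cfsg.blockCoeff B) hfR hfN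
    (fun y hy hyR θ' =>
      omega_restrict_conv_blockCoeff_mem N hM B hB b hb hcov θ hθ hno y hy hyR θ')
  haveI : Fintype (G ⧸ N) := Fintype.ofFinite _
  have hpw : ∀ g, Cfsg.MemLocalIdeal M (convPw (Cfsg.blockCoeff B) (k + 1) g) := by
    apply convPw_induction (fun u => cosetComp N u (Cfsg.blockCoeff B)) (Cfsg.blockCoeff B)
      (sum_cosetComp N _) (k + 1) (fun x => ∀ g, Cfsg.MemLocalIdeal M (x g))
    · intro g; exact memLocalIdeal_zero hM
    · intro x y hx hy g; exact memLocalIdeal_add hM (hx g) (hy g)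
    · exact hk
  rw [convPw_of_idem (conv_blockCoeff_self B)] at hpw
  obtain ⟨ξ, rfl⟩ := hB
  have hξ : ξ ∈ Cfsg.blockOf M (ξ : G → ℂ) := mem_blockOf_self hM ξ
  have h1 := omega_memLocalIdeal hM ξ _ hfc hpw
  rw [omega_blockCoeff, if_pos hξ] at h1
  exact not_memLocalIdeal_one hM h1

end Greedy

end Cfsg.Agent.Lib.Helper24
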