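import Mathlib
import Cfsg.Prelude.Def_Characters
import Cfsg.Agent.Lib.Helper11.S3282Defs
import Cfsg.Agent.Lib.Helper11.Frobenius
import Cfsg.Agent.Lib.Helper2.Linear
import Cfsg.Agent.Lib.Helper2.Column
import Cfsg.Agent.Lib.Helper2.Expansion
import Cfsg.Agent.Lib.Helper2.Orthogonality
import Cfsg.Agent.Lib.Helper2.NormalInduction

/-!
S3282 (Brauer–Suzuki–Wall), pieces CT4 and CT5: characters of the abelian group `K`.
-/

set_option autoImplicit false
set_option linter.unusedSectionVars false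

namespace Cfsg.Agent.Lib.Helper24.S3282CT45

open Cfsg Cfsg.Agent.Lib.Helper11 Cfsg.Agent.Lib.Helper11.S3282 Cfsg.Agent.Lib.Helper2
open scoped ComplexConjugate

universe u

variable {G : Type u} [Group G] {t s : G} {K : Subgroup G}

theorem comm_sub (hK : ∀ x ∈ K, ∀ y ∈ K, x * y = y * x) (a b : K) : a * b = b * a :=
  Subtype.ext (hK a a.2 b b.2)

/-- characters of the abelian group `K` -/
theorem CT5_mul (hK : ∀ x ∈ K, ∀ y ∈ K, x * y = y * x) {μ : K → ℂ}
    (hμ : Cfsg.IsIrrCharacter K μ) : μ 1 = 1 ∧ ∀ x y : K, μ (x * y) = μ x * μ y := by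
  have h1 : μ 1 = 1 := IsIrrCharacter.apply_one_of_comm (comm_sub hK) hμ
  refine ⟨h1, ?_⟩
  obtain ⟨φ, rfl⟩ := exists_monoidHom_of_isIrrCharacter_of_apply_one hμ h1
  intro x y
  simp

section CT
variable [Fintype G] [Fintype K]

theorem CT5_sum (hK : ∀ x ∈ K, ∀ y ∈ K, x * y = y * x) [Fintype (Cfsg.IrrCharacter K)]
    {y : K} (hy : y ≠ 1) : ∑ μ : Cfsg.IrrCharacter K, (μ : K → ℂ) y = 0 := by
  classical
  have h := column_orthogonality (G := K) y 1
  have hc : ¬ IsConj y 1 := by
    intro hc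
    exact hy (isConj_one_left.mp hc)
  rw [if_neg hc] at h
  rw [← h]
  apply Finset.sum_congr rfl
  intro μ _
  rw [(CT5_mul hK μ.2).1]
  simp

theorem CT5_card (hK : ∀ x ∈ K, ∀ y ∈ K, x * y = y * x) [Fintype (Cfsg.IrrCharacter K)] :
    Fintype.card (Cfsg.IrrCharacter K) = Nat.card K := by
  classical
  have h := column_orthogonality (G := K) 1 1
  rw [if_pos (IsConj.refl _)] at h
  have h2 : ∑ μ : Cfsg.IrrCharacter K, (μ : K → ℂ) 1 * conj ((μ : K → ℂ) 1)
      = (Fintype.card (Cfsg.IrrCharacter K) : ℂ) := by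
    rw [Finset.sum_congr rfl (g := fun _ => (1 : ℂ))]
    · simp
    · intro μ _
      rw [(CT5_mul hK μ.2).1]
      simp
  rw [h2] at h
  have h3 : Subgroup.centralizer ({(1 : K)} : Set K) = ⊤ := by
    ext x
    simp [Subgroup.mem_centralizer_iff]
  rw [h3, Subgroup.card_top] at h
  exact_mod_cast h

/-- `∑_μ μ z = |K|` if `z = 1`, else `0`. -/
theorem sum_irr_apply (hK : ∀ x ∈ K, ∀ y ∈ K, x * y = y * x) [Fintype (Cfsg.IrrCharacter K)]
    (z : K) [Decidable (z = 1)] :
    ∑ μ : Cfsg.IrrCharacter K, (μ : K → ℂ) z = if z = 1 then (Nat.card K : ℂ) else 0 := by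
  by_cases hz : z = 1
  · rw [if_pos hz, hz, ← CT5_card hK]
    rw [Finset.sum_congr rfl (g := fun _ => (1 : ℂ))]
    · simp
    · intro μ _
      exact (CT5_mul hK μ.2).1
  · rw [if_neg hz]
    exact CT5_sum hK hz

/-- `χ|_K = ∑_μ ⟨χ|_K, μ⟩ μ`, `⟨Del μ, χ⟩ = conj (⟨χ|_K, 1⟩ - ⟨χ|_K, μ⟩)`, `∑_μ μ y = 0`. -/
theorem CT4_apply (hK : ∀ x ∈ K, ∀ y ∈ K, x * y = y * x) [Fintype (Cfsg.IrrCharacter K)]
    {χ : G → ℂ} (hχ : Cfsg.IsClassFunction G χ) (y : K) (hy1 : y ≠ 1) :
    χ (y : G) = - ∑ μ : Cfsg.IrrCharacter K,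
      conj (Cfsg.classInner (Del K (μ : K → ℂ)) χ) * (μ : K → ℂ) y := by
  classical
  set ψ : K → ℂ := fun h : K => χ (h : G) with hψdef
  have hψ : Cfsg.IsClassFunction K ψ := by
    intro g h
    simp only [hψdef]
    have := hχ (g : G) (h : G)
    simpa using this
  have hexp := congrFun (classFunction_expansion ψ hψ) y
  simp only [Finset.sum_apply, Pi.smul_apply, smul_eq_mul] at hexp
  have hD : ∀ μ : Cfsg.IrrCharacter K,
      conj (Cfsg.classInner (Del K (μ : K → ℂ)) χ)
        = Cfsg.classInner ψ (fun _ => (1 : ℂ)) - Cfsg.classInner ψ (μ : K → ℂ) := by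
    intro μ
    unfold Del
    rw [classInner_indFun_left K _ χ hχ]
    have : (fun y : K => (1 : ℂ) - (μ : K → ℂ) y) = (fun _ => (1 : ℂ)) - (μ : K → ℂ) := by
      ext; simp
    rw [this, classInner_sub_left, map_sub, classInner_conj_symm, classInner_conj_symm]
  simp_rw [hD, sub_mul]
  rw [Finset.sum_sub_distrib, ← Finset.mul_sum, CT5_sum hK hy1, mul_zero, zero_sub, neg_neg]
  exact hexp

/-- the only elements of `K` of square one are `1` and `t`. -/
theorem sq_eq_one_cases (h : Hyp t s K) (y : K) (hy : y * y = 1) :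
    y = 1 ∨ y = ⟨t, h.htK⟩ := by
  have hyy : (y : G) * y = 1 := by exact_mod_cast congrArg Subtype.val hy
  have hyinv : (y : G)⁻¹ = y := inv_eq_of_mul_eq_one_left hyy
  have hs := h.hinv y y.2
  rw [hyinv] at hs
  have hmem : (y : G) ∈ K ⊓ Subgroup.centralizer ({s} : Set G) := by
    refine Subgroup.mem_inf.mpr ⟨y.2, ?_⟩
    rw [Subgroup.mem_centralizer_iff]
    intro g hg
    rw [Set.mem_singleton_iff] at hg
    subst hg
    calc g * (y : G) = g * y * g⁻¹ * g := by group
      _ = y * g := by rw [hs]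
  rw [h.hCK] at hmem
  obtain ⟨n, hn⟩ := Subgroup.mem_zpowers_iff.mp hmem
  have ht2 : t ^ (2 : ℤ) = 1 := by
    have := pow_orderOf_eq_one t
    rw [h.ht] at this
    exact_mod_cast this
  rcases Int.even_or_odd' n with ⟨m, hm | hm⟩
  · left
    apply Subtype.ext
    rw [← hn, hm, zpow_mul, ht2, one_zpow]
    rfl
  · right
    apply Subtype.ext
    rw [← hn, hm, zpow_add, zpow_mul, ht2, one_zpow, one_mul, zpow_one]

theorem t_ne_one (h : Hyp t s K) : t ≠ 1 := by
  intro h1
  have := h.ht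
  rw [h1, orderOf_one] at this
  omega

theorem t_mul_self (h : Hyp t s K) : t * t = 1 := by
  have := pow_orderOf_eq_one t
  rw [h.ht, pow_two] at this
  exact this

theorem isIrr_one (K : Type*) [Group K] : Cfsg.IsIrrCharacter K (fun _ => (1 : ℂ)) := by
  have := isIrrCharacter_of_monoidHom (1 : K →* ℂˣ)
  simpa using this

/-- `#{μ real} = ∑_μ ⟨μ, cj μ⟩ = k⁻¹ ∑_y ∑_μ μ y * conj (μ y⁻¹) = #{y : y² = 1} = 2`. -/
theorem CT5_real (h : Hyp t s K) [Fintype (Cfsg.IrrCharacter K)] :
    ∃ σ : K → ℂ, Cfsg.IsIrrCharacter K σ ∧ σ ≠ (fun _ => 1) ∧ cj σ = σ ∧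
      ∀ μ : K → ℂ, Cfsg.IsIrrCharacter K μ → cj μ = μ → μ = (fun _ => 1) ∨ μ = σ := by
  classical
  have hK := h.comm
  let cjI : Cfsg.IrrCharacter K → Cfsg.IrrCharacter K :=
    fun μ => ⟨cj μ.1, isIrrCharacter_conj μ.2⟩
  have hKne : (Nat.card K : ℂ) ≠ 0 := card_ne_zero_complex
  have hcount : ((Finset.univ.filter (fun μ : Cfsg.IrrCharacter K => cjI μ = μ)).card : ℂ)
      = 2 := by
    have h1 : ((Finset.univ.filter (fun μ : Cfsg.IrrCharacter K => cjI μ = μ)).card : ℂ)
        = ∑ μ : Cfsg.IrrCharacter K, Cfsg.classInner (μ : K → ℂ) (cjI μ : K → ℂ) := by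
      rw [Finset.card_filter]
      push_cast
      apply Finset.sum_congr rfl
      intro μ _
      rw [classInner_irrCharacter]
      by_cases hμ : cjI μ = μ
      · rw [if_pos hμ, if_pos hμ.symm]
      · rw [if_neg hμ, if_neg (fun h => hμ h.symm)]
    rw [h1]
    have h2 : ∀ μ : Cfsg.IrrCharacter K, Cfsg.classInner (μ : K → ℂ) (cjI μ : K → ℂ)
        = (Nat.card K : ℂ)⁻¹ * ∑ y : K, (μ : K → ℂ) (y * y) := by
      intro μ
      rw [classInner_def]
      congr 1
      apply Finset.sum_congr rfl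
      intro y _
      show (μ : K → ℂ) y * conj (conj ((μ : K → ℂ) y)) = _
      rw [Complex.conj_conj, (CT5_mul hK μ.2).2]
    simp_rw [h2]
    rw [← Finset.mul_sum, Finset.sum_comm]
    simp_rw [sum_irr_apply hK]
    rw [← Finset.sum_filter, Finset.sum_const, nsmul_eq_mul]
    have hfilt : (Finset.univ.filter (fun y : K => y * y = 1))
        = {1, ⟨t, h.htK⟩} := by
      ext y
      simp only [Finset.mem_filter, Finset.mem_univ, true_and, Finset.mem_insert,
        Finset.mem_singleton]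
      constructor
      · exact sq_eq_one_cases h y
      · rintro (rfl | rfl)
        · simp
        · apply Subtype.ext
          exact t_mul_self h
    rw [hfilt, Finset.card_pair]
    · push_cast
      field_simp
    · intro h1
      exact t_ne_one h (congrArg Subtype.val h1).symm
  have hcount' : (Finset.univ.filter (fun μ : Cfsg.IrrCharacter K => cjI μ = μ)).card = 2 := by
    exact_mod_cast hcount
  obtain ⟨a, b, hab, hfab⟩ := Finset.card_eq_two.mp hcount'
  let one : Cfsg.IrrCharacter K := ⟨fun _ => 1, isIrr_one K⟩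
  have hmem : ∀ μ : Cfsg.IrrCharacter K, cj μ.1 = μ.1 → μ = a ∨ μ = b := by
    intro μ hμ
    have : μ ∈ Finset.univ.filter (fun μ : Cfsg.IrrCharacter K => cjI μ = μ) := by
      simp only [Finset.mem_filter, Finset.mem_univ, true_and]
      exact Subtype.ext hμ
    rw [hfab] at this
    simpa using this
  have hreal : ∀ μ : Cfsg.IrrCharacter K,
      μ ∈ Finset.univ.filter (fun μ : Cfsg.IrrCharacter K => cjI μ = μ) → cj μ.1 = μ.1 := by
    intro μ hμ
    simp only [Finset.mem_filter, Finset.mem_univ, true_and] at hμ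
    exact congrArg Subtype.val hμ
  have ha : cj a.1 = a.1 := hreal a (by rw [hfab]; simp)
  have hb : cj b.1 = b.1 := hreal b (by rw [hfab]; simp)
  have hone : cj one.1 = one.1 := by
    ext y
    simp [cj, one]
  rcases hmem one hone with h1 | h1
  · refine ⟨b.1, b.2, ?_, hb, ?_⟩
    · intro hb1
      apply hab
      rw [← h1]
      exact (Subtype.ext hb1).symm
    · intro μ hμ hμr
      rcases hmem ⟨μ, hμ⟩ hμr with h2 | h2
      · left
        rw [← h1] at h2
        exact congrArg Subtype.val h2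
      · right
        exact congrArg Subtype.val h2
  · refine ⟨a.1, a.2, ?_, ha, ?_⟩
    · intro ha1
      apply hab
      rw [← h1]
      exact Subtype.ext ha1
    · intro μ hμ hμr
      rcases hmem ⟨μ, hμ⟩ hμr with h2 | h2
      · right
        exact congrArg Subtype.val h2
      · left
        rw [← h1] at h2
        exact congrArg Subtype.val h2

end CT

end Cfsg.Agent.Lib.Helper24.S3282CT45
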