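import Mathlib
import Cfsg.Prelude.Def_Characters
import Cfsg.Agent.Lib.Helper11.S3282Defs
import Cfsg.Agent.Lib.Helper11.S3282Eval
import Cfsg.Agent.Lib.Helper11.Frobenius
import Cfsg.Agent.Lib.Helper7.PairCountIrr
import Cfsg.Agent.Lib.Helper25.CharBasic
import Cfsg.Agent.Lib.Helper24.S3282CT45
import Cfsg.Agent.Lib.Helper12.S3282G1a
import Cfsg.Agent.Lib.Helper14.S3282G2a

/-!
S3282 (Brauer–Suzuki–Wall), piece CT7: the class-algebra constant for involutions and the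
"soft" evaluation of `Del μ`.  Versions with the group-theoretic inputs (`|C(t)| = 2k`,
`S3282.beta y = k` on `K#`) as explicit hypotheses.
-/

set_option autoImplicit false
set_option linter.unusedSectionVars false

namespace Cfsg.Agent.Lib.Helper24.S3282CT7

open Cfsg Cfsg.Agent.Lib.Helper11 Cfsg.Agent.Lib.Helper11.S3282 Cfsg.Agent.Lib.Helper2
open scoped ComplexConjugate

universe u

variable {G : Type u} [Group G] {t s : G} {K : Subgroup G}

section CT
variable [Fintype G] [Fintype K]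

theorem isConj_t_iff (h : Hyp t s K) (p : G) : IsConj t p ↔ orderOf p = 2 := by
  constructor
  · intro hc
    obtain ⟨g, hg⟩ := isConj_iff.mp hc
    rw [← hg]
    have : orderOf (g * t * g⁻¹) = orderOf t := by
      have := orderOf_injective (MulAut.conj g).toMonoidHom (MulAut.conj g).injective t
      simpa using this
    rw [this, h.ht]
  · intro hp
    exact h.hconj t p h.ht hp

theorem beta_eq_card_conj (h : Hyp t s K) (x : G) :
    S3282.beta x = Nat.card {p : G × G // IsConj t p.1 ∧ IsConj t p.2 ∧ p.1 * p.2 = x} := by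
  unfold S3282.beta
  apply Nat.card_congr
  apply Equiv.subtypeEquivRight
  intro p
  rw [isConj_t_iff h, isConj_t_iff h]

theorem t_inv (h : Hyp t s K) : t⁻¹ = t :=
  inv_eq_of_mul_eq_one_left (S3282CT45.t_mul_self h)

theorem conj_apply_t (h : Hyp t s K) {χ : G → ℂ} (hχ : Cfsg.IsCharacter G χ) :
    conj (χ t) = χ t := by
  rw [← Cfsg.Agent.Lib.Helper25.char_inv hχ t, t_inv h]

/-- `CT7_beta`, with `|C(t)| = 2k` as a hypothesis. -/
theorem CT7_beta_aux (h : Hyp t s K)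
    (hH : Nat.card (Subgroup.centralizer ({t} : Set G)) = 2 * Nat.card K)
    [Fintype (Cfsg.IrrCharacter G)] (x : G) :
    4 * (Nat.card K : ℂ) ^ 2 * (S3282.beta x : ℂ) = (Nat.card G : ℂ) *
      ∑ χ : Cfsg.IrrCharacter G, (χ : G → ℂ) t ^ 2 / (χ : G → ℂ) 1 * (χ : G → ℂ) x := by
  classical
  have key := Cfsg.Agent.Lib.Helper7.card_centralizer_sq_mul_card_pairs t x
  rw [← beta_eq_card_conj h x, hH] at key
  have hsum : ∀ χ : Cfsg.IrrCharacter G,
      conj ((χ : G → ℂ) t * (χ : G → ℂ) t / (χ : G → ℂ) 1) * (χ : G → ℂ) x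
        = (χ : G → ℂ) t ^ 2 / (χ : G → ℂ) 1 * (χ : G → ℂ) x := by
    intro χ
    have hχ : Cfsg.IsCharacter G (χ : G → ℂ) := Cfsg.Agent.Lib.Helper25.isCharacter_of_irr χ.2
    obtain ⟨n, hn⟩ := Cfsg.Agent.Lib.Helper25.char_one_eq hχ
    rw [map_div₀, map_mul, conj_apply_t h hχ, hn, Complex.conj_natCast, pow_two]
  simp_rw [hsum] at key
  rw [← key]
  push_cast
  ring

/-- `∑_y μ y = 0` for a nontrivial irreducible character. -/
theorem sum_irr_eq_zero {μ : K → ℂ} (hμ : Cfsg.IsIrrCharacter K μ) (hμ1 : μ ≠ fun _ => 1) :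
    ∑ y : K, μ y = 0 := by
  classical
  have h0 := classInner_irrCharacter_ne (χ := (⟨μ, hμ⟩ : Cfsg.IrrCharacter K))
    (ψ := ⟨fun _ => 1, S3282CT45.isIrr_one K⟩) (by
      intro h
      exact hμ1 (congrArg Subtype.val h))
  rw [classInner_def] at h0
  have hKne : (Nat.card K : ℂ) ≠ 0 := card_ne_zero_complex
  have := (mul_eq_zero.mp h0).resolve_left (inv_ne_zero hKne)
  simpa using this

/-- `CT7_soft`, with `|C(t)| = 2k` and `S3282.beta y = k` on `K#` as hypotheses. -/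
theorem CT7_soft_aux (h : Hyp t s K)
    (hH : Nat.card (Subgroup.centralizer ({t} : Set G)) = 2 * Nat.card K)
    (hβ : ∀ y : G, y ∈ K → y ≠ 1 → S3282.beta y = Nat.card K)
    [Fintype (Cfsg.IrrCharacter G)] {μ : K → ℂ}
    (hμ : Cfsg.IsIrrCharacter K μ) (hμ1 : μ ≠ fun _ => 1) :
    evalF (fun χ => χ t ^ 2 / χ 1) (Del K μ) = 4 * (Nat.card K : ℂ) ^ 3 / (Nat.card G : ℂ) := by
  classical
  have hKne : (Nat.card K : ℂ) ≠ 0 := card_ne_zero_complex
  have hGne : (Nat.card G : ℂ) ≠ 0 := card_ne_zero_complex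
  have hμone : μ 1 = 1 := (S3282CT45.CT5_mul h.comm hμ).1
  -- the key sum for `y ≠ 1`
  have hy : ∀ y : K, y ≠ 1 →
      ∑ χ : Cfsg.IrrCharacter G, conj ((χ : G → ℂ) (y : G)) *
        ((χ : G → ℂ) t ^ 2 / (χ : G → ℂ) 1)
        = 4 * (Nat.card K : ℂ) ^ 3 / (Nat.card G : ℂ) := by
    intro y hy1
    have hb := CT7_beta_aux h hH ((y : G)⁻¹)
    have hyK : (y : G)⁻¹ ∈ K := K.inv_mem y.2
    have hy1' : (y : G)⁻¹ ≠ 1 := by
      intro h1
      apply hy1
      apply Subtype.ext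
      simpa using h1
    rw [hβ _ hyK hy1'] at hb
    have hsum : ∑ χ : Cfsg.IrrCharacter G, conj ((χ : G → ℂ) (y : G)) *
        ((χ : G → ℂ) t ^ 2 / (χ : G → ℂ) 1)
        = ∑ χ : Cfsg.IrrCharacter G, (χ : G → ℂ) t ^ 2 / (χ : G → ℂ) 1 *
            (χ : G → ℂ) ((y : G)⁻¹) := by
      apply Finset.sum_congr rfl
      intro χ _
      rw [Cfsg.Agent.Lib.Helper25.char_inv (Cfsg.Agent.Lib.Helper25.isCharacter_of_irr χ.2)]
      ring
    rw [hsum, eq_div_iff hGne, mul_comm, ← hb]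
    ring
  unfold evalF
  have hD : ∀ χ : Cfsg.IrrCharacter G, Cfsg.classInner (Del K μ) (χ : G → ℂ)
      = (Nat.card K : ℂ)⁻¹ * ∑ y : K, (1 - μ y) * conj ((χ : G → ℂ) (y : G)) := by
    intro χ
    unfold Del
    rw [classInner_indFun_left K _ _ (IrrCharacter.isClassFunction χ), classInner_def]
  simp_rw [hD, mul_assoc, Finset.sum_mul]
  rw [← Finset.mul_sum, Finset.sum_comm]
  have hinner : ∀ y : K, ∑ χ : Cfsg.IrrCharacter G,
      (1 - μ y) * conj ((χ : G → ℂ) (y : G)) * ((χ : G → ℂ) t ^ 2 / (χ : G → ℂ) 1)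
      = (1 - μ y) * (4 * (Nat.card K : ℂ) ^ 3 / (Nat.card G : ℂ)) := by
    intro y
    by_cases hy1 : y = 1
    · subst hy1
      rw [hμone]
      simp
    · rw [← hy y hy1, Finset.mul_sum]
      apply Finset.sum_congr rfl
      intro χ _
      ring
  simp_rw [hinner]
  rw [← Finset.sum_mul, Finset.sum_sub_distrib, sum_irr_eq_zero hμ hμ1]
  simp only [Finset.sum_const, Finset.card_univ, nsmul_eq_mul, mul_one, sub_zero]
  rw [← Nat.card_eq_fintype_card]
  field_simp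

/-- class-algebra constants (exact skeleton signature). -/
theorem CT7_beta (h : Hyp t s K) [Fintype (Cfsg.IrrCharacter G)] (x : G) :
    4 * (Nat.card K : ℂ) ^ 2 * (S3282.beta x : ℂ) = (Nat.card G : ℂ) *
      ∑ χ : Cfsg.IrrCharacter G, (χ : G → ℂ) t ^ 2 / (χ : G → ℂ) 1 * (χ : G → ℂ) x :=
  CT7_beta_aux h (Cfsg.Agent.Lib.Helper12.S3282G1a.G1_card_H h) x

/-- the soft evaluation (exact skeleton signature). -/
theorem CT7_soft (h : Hyp t s K) [Fintype (Cfsg.IrrCharacter G)] {μ : K → ℂ}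
    (hμ : Cfsg.IsIrrCharacter K μ) (hμ1 : μ ≠ fun _ => 1) :
    evalF (fun χ => χ t ^ 2 / χ 1) (Del K μ) = 4 * (Nat.card K : ℂ) ^ 3 / (Nat.card G : ℂ) :=
  CT7_soft_aux h (Cfsg.Agent.Lib.Helper12.S3282G1a.G1_card_H h)
    (fun _ hy hy1 => Cfsg.Agent.Lib.Helper14.S3282G2a.G2_beta_K h hy hy1) hμ hμ1

end CT

end Cfsg.Agent.Lib.Helper24.S3282CT7
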