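import Mathlib
import Cfsg.Prelude.Def_Characters
import Cfsg.Agent.Lib.Helper11.S3282Defs
import Cfsg.Agent.Lib.Helper2.Linear
import Cfsg.Agent.Lib.Helper25.CharBasic

/-!
S3282 (Brauer–Suzuki–Wall), piece B2a: centralizers of elements of `NR K` (aux version with
`G1_commute` and `G2_cent` as explicit hypotheses).
-/

set_option autoImplicit false
set_option linter.unusedSectionVars false

namespace Cfsg.Agent.Lib.Helper24.S3282B2a

open Cfsg Cfsg.Agent.Lib.Helper11 Cfsg.Agent.Lib.Helper11.S3282 Cfsg.Agent.Lib.Helper2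
open scoped ComplexConjugate

universe u

variable {G : Type u} [Group G] {t s : G} {K : Subgroup G}

section B
variable [Fintype G]

/-- `B2_cent` with `G1_commute` and `G2_cent` as hypotheses. -/
theorem B2_cent_aux
    (hcommute : ∀ {x y : G}, y ∈ conjSet K → x * y = y * x → x ≠ 1 → x ∈ conjSet K)
    (hcent : ∀ {x y : G}, x ∈ RO K → y ∈ Subgroup.centralizer ({x} : Set G) → y ≠ 1 →
      y ∈ RO K ∧ Subgroup.centralizer ({y} : Set G) = Subgroup.centralizer ({x} : Set G))
    (X : G → ℂ) (hX : Cfsg.IsIrrCharacter G X)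
    (hX1 : X 1 = 2 * (Nat.card K : ℂ) - 1) (hX0 : ∀ x ∈ NR K, X x = 0) {x : G} (hx : x ∈ NR K) :
    (∀ y ∈ Subgroup.centralizer ({x} : Set G), y ≠ 1 → y ∈ NR K) ∧
    Nat.card (Subgroup.centralizer ({x} : Set G)) ∣ 2 * Nat.card K - 1 := by
  obtain ⟨hx1, hxK, hxR⟩ := hx
  have hNR : ∀ y ∈ Subgroup.centralizer ({x} : Set G), y ≠ 1 → y ∈ NR K := by
    intro y hy hy1
    have hyx : y * x = x * y := by
      rw [Subgroup.mem_centralizer_iff] at hy
      exact (hy x (Set.mem_singleton x)).symm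
    have hyK : y ∉ conjSet K := fun hyK => hxK (hcommute hyK hyx.symm hx1)
    refine ⟨hy1, hyK, ?_⟩
    intro hyR
    have hyRO : y ∈ RO K := ⟨hy1, hyK, hyR⟩
    have hxy : x ∈ Subgroup.centralizer ({y} : Set G) := by
      rw [Subgroup.mem_centralizer_iff]
      intro g hg
      rw [Set.mem_singleton_iff] at hg
      subst hg
      exact hyx
    exact hxR (hcent hyRO hxy hx1).1.2.2
  refine ⟨hNR, ?_⟩
  obtain ⟨m, hm⟩ := card_dvd_degree_of_vanish (Subgroup.centralizer ({x} : Set G)) X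
    (Cfsg.Agent.Lib.Helper25.isCharacter_of_irr hX) (fun g hg hg1 => hX0 g (hNR g hg hg1))
  rw [hX1] at hm
  have hkpos : 1 ≤ Nat.card K := Nat.card_pos
  have hcast : ((2 * Nat.card K - 1 : ℕ) : ℂ) = 2 * (Nat.card K : ℂ) - 1 := by
    rw [Nat.cast_sub (by omega)]
    push_cast
    ring
  refine ⟨m, ?_⟩
  have : ((2 * Nat.card K - 1 : ℕ) : ℂ)
      = ((Nat.card (Subgroup.centralizer ({x} : Set G)) * m : ℕ) : ℂ) := by
    rw [hcast, hm]
    push_cast
    ring
  exact_mod_cast this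

end B

end Cfsg.Agent.Lib.Helper24.S3282B2a
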