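import Mathlib
import Cfsg.Prelude.Def_Characters
import Cfsg.Agent.Lib.Helper11.S3282Defs
import Cfsg.Agent.Lib.Helper11.CoverSum
import Cfsg.Agent.Lib.Helper11.Frobenius
import Cfsg.Agent.Lib.Helper2.Column
import Cfsg.Agent.Lib.Helper12.S3282G1a

/-!
S3282 (Brauer–Suzuki–Wall), the two counting lemmas `G1_card_invol` and `G1_card_KG`.
-/

set_option autoImplicit false
set_option linter.unusedSectionVars false

namespace Cfsg.Agent.Lib.Helper24.S3282G1c

open Cfsg Cfsg.Agent.Lib.Helper11 Cfsg.Agent.Lib.Helper11.S3282 Cfsg.Agent.Lib.Helper2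
open Cfsg.Agent.Lib.Helper12.S3282G1a
open scoped ComplexConjugate

universe u

variable {G : Type u} [Group G] {t s : G} {K : Subgroup G}

theorem isConj_t_iff' (h : Hyp t s K) (p : G) : IsConj t p ↔ orderOf p = 2 := by
  constructor
  · intro hc
    obtain ⟨g, hg⟩ := isConj_iff.mp hc
    rw [← hg]
    have : orderOf (g * t * g⁻¹) = orderOf t := by
      have := orderOf_injective (MulAut.conj g).toMonoidHom (MulAut.conj g).injective t
      simpa using this
    rw [this, h.ht]
  · intro hp
    exact h.hconj t p h.ht hp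

section G1
variable [Finite G]

/-- one class of involutions with centralizer of order `2k`. -/
theorem G1_card_invol (h : Hyp t s K) :
    2 * Nat.card K * Nat.card {u : G // orderOf u = 2} = Nat.card G := by
  have h1 := card_centralizer_mul_card_conj t
  rw [G1_card_H h] at h1
  rw [← h1]
  congr 1
  apply Nat.card_congr
  apply Equiv.subtypeEquivRight
  intro p
  exact (isConj_t_iff' h p).symm

theorem K_ne_bot (h : Hyp t s K) : K ≠ ⊥ := by
  intro hK
  have ht := h.htK
  rw [hK, Subgroup.mem_bot] at ht
  have := h.ht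
  rw [ht, orderOf_one] at this
  omega

/-- `|K^G#| = |G : H| (k - 1)`. -/
theorem G1_card_KG (h : Hyp t s K) :
    Nat.card (conjSet K) * (2 * Nat.card K) = Nat.card G * (Nat.card K - 1) := by
  classical
  haveI : Fintype G := Fintype.ofFinite G
  set L : Subgroup G := Subgroup.centralizer ({t} : Set G) with hL
  haveI : Fintype L := Fintype.ofFinite L
  have hN : Subgroup.normalizer (K : Set G) = L := G1_normalizer h le_rfl (K_ne_bot h)
  have hHL : K ≤ L := h.hKH
  have hHn : ∀ x ∈ L, ∀ k ∈ K, x * k * x⁻¹ ∈ K := by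
    intro x hx k hk
    rw [← hN, Subgroup.mem_normalizer_iff] at hx
    exact (hx k).mp hk
  have hTI : IsTISubset (K : Set G) := by
    intro g hg x hx hgx
    by_contra hx1
    apply hg
    rw [hN]
    exact G1_fusion h hx hx1 hgx
  have hind := indFun_cutIndicator K L hHL hHn hTI hN
  have hfrob := classInner_indFun_left L (Set.indicator (cutSet K L) (fun _ => (1 : ℂ)))
    (fun _ => (1 : ℂ)) (fun _ _ => rfl)
  rw [classInner_cutIndicator_one K L hHL, classInner_def] at hfrob
  have hsum : ∑ g : G, indFun L (Set.indicator (cutSet K L) (fun _ => (1 : ℂ))) g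
      * conj ((fun _ : G => (1 : ℂ)) g) = (Nat.card (conjSet K) : ℂ) := by
    simp_rw [hind]
    simp only [map_one, mul_one]
    rw [Finset.sum_boole]
    congr 1
    rw [Nat.card_eq_fintype_card, Fintype.card_subtype]
  rw [hsum, G1_card_H h] at hfrob
  have hG : (Nat.card G : ℂ) ≠ 0 := card_ne_zero_complex
  have hKpos : 1 ≤ Nat.card K := Nat.card_pos
  have hK : (Nat.card K : ℂ) ≠ 0 := by
    have : Nat.card K ≠ 0 := by omega
    exact_mod_cast this
  have key : (Nat.card (conjSet K) : ℂ) * (2 * (Nat.card K : ℂ))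
      = (Nat.card G : ℂ) * ((Nat.card K : ℂ) - 1) := by
    push_cast at hfrob
    field_simp at hfrob
    linear_combination hfrob
  have : ((Nat.card (conjSet K) * (2 * Nat.card K) : ℕ) : ℂ)
      = ((Nat.card G * (Nat.card K - 1) : ℕ) : ℂ) := by
    push_cast [Nat.cast_sub hKpos]
    exact key
  exact_mod_cast this

end G1

end Cfsg.Agent.Lib.Helper24.S3282G1c
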