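import Mathlib

/-!
# Symmetric algebras: duality lemmas (helper24 library)

`B` a finite dimensional algebra over a field `F` with a symmetrizing form `lam`
(`lam (x y) = lam (y x)`, nondegenerate).  The span of commutators has codimension at most the
dimension of the centre, and `e B`, `B e` have equal dimension for an idempotent `e`.
-/

set_option autoImplicit false

namespace Cfsg.Agent.Lib.Helper24.SymAlg

open Module

/-- span of all commutators -/
def commSpan (F : Type*) (B : Type*) [Field F] [Ring B] [Algebra F B] : Submodule F B :=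
  Submodule.span F {z | ∃ x y : B, z = x * y - y * x}

/-- a symmetrizing form -/
structure IsSymmForm {F B : Type*} [Field F] [Ring B] [Algebra F B] (lam : B →ₗ[F] F) : Prop where
  symm : ∀ x y, lam (x * y) = lam (y * x)
  nondeg : ∀ x, (∀ y, lam (x * y) = 0) → x = 0

variable {F B : Type*} [Field F] [Ring B] [Algebra F B]

/-- the bilinear form `(x, y) ↦ lam (x y)` -/
noncomputable def bil (lam : B →ₗ[F] F) : B →ₗ[F] B →ₗ[F] F := (LinearMap.mul F B).compr₂ lam

@[simp] theorem bil_apply (lam : B →ₗ[F] F) (x y : B) : bil lam x y = lam (x * y) := rfl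

theorem IsSymmForm.nondeg' {lam : B →ₗ[F] F} (h : IsSymmForm lam) (x : B)
    (hx : ∀ y, lam (y * x) = 0) : x = 0 := by
  apply h.nondeg
  intro y
  rw [h.symm]
  exact hx y

theorem bil_injective {lam : B →ₗ[F] F} (h : IsSymmForm lam) : Function.Injective (bil lam) := by
  rw [← LinearMap.ker_eq_bot, LinearMap.ker_eq_bot']
  intro t ht
  apply h.nondeg
  intro y
  have := LinearMap.congr_fun ht y
  simpa using this

variable [FiniteDimensional F B]

theorem bil_surjective {lam : B →ₗ[F] F} (h : IsSymmForm lam) :
    Function.Surjective (bil lam) := by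
  have hd : finrank F B = finrank F (Module.Dual F B) := Subspace.dual_finrank_eq.symm
  exact (LinearMap.injective_iff_surjective_of_finrank_eq_finrank hd).mp (bil_injective h)

theorem mem_dualAnnihilator_commSpan_iff (τ : Module.Dual F B) :
    τ ∈ (commSpan F B).dualAnnihilator ↔ ∀ x y : B, τ (x * y - y * x) = 0 := by
  rw [Submodule.mem_dualAnnihilator]
  constructor
  · intro hτ x y
    exact hτ _ (Submodule.subset_span ⟨x, y, rfl⟩)
  · intro hτ w hw
    induction hw using Submodule.span_induction with
    | mem z hz =>
      obtain ⟨x, y, rfl⟩ := hz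
      exact hτ x y
    | zero => exact map_zero _
    | add a b _ _ ha hb => rw [map_add, ha, hb, add_zero]
    | smul c a _ ha => rw [map_smul, ha, smul_zero]

/-- a functional vanishing on commutators is `lam (t ·)` for a central `t` -/
theorem exists_center_of_vanish {lam : B →ₗ[F] F} (h : IsSymmForm lam) (τ : Module.Dual F B)
    (hτ : ∀ x y : B, τ (x * y - y * x) = 0) :
    ∃ t ∈ Subalgebra.center F B, ∀ x, τ x = lam (t * x) := by
  obtain ⟨t, ht⟩ := bil_surjective h τ
  refine ⟨t, ?_, ?_⟩
  · rw [Subalgebra.mem_center_iff]
    intro x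
    have hz : x * t - t * x = 0 := by
      apply h.nondeg
      intro y
      have h1 : lam (t * (y * x - x * y)) = 0 := by
        have := hτ y x
        rw [← ht] at this
        simpa using this
      have h2 : lam (x * t * y) = lam (t * (y * x)) := by
        rw [mul_assoc, h.symm, mul_assoc]
      rw [sub_mul, map_sub, h2, mul_assoc t x y, ← map_sub, ← mul_sub]
      exact h1
    exact sub_eq_zero.mp hz
  · intro x
    rw [← ht]
    rfl

/-- the codimension of the span of commutators is at most the dimension of the centre -/
theorem finrank_le_commSpan_add_center {lam : B →ₗ[F] F} (h : IsSymmForm lam) :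
    finrank F B ≤ finrank F (commSpan F B) + finrank F (Subalgebra.center F B) := by
  have h1 := Subspace.finrank_add_finrank_dualAnnihilator_eq (commSpan F B)
  have h2 : (commSpan F B).dualAnnihilator
      ≤ (Subalgebra.toSubmodule (Subalgebra.center F B)).map (bil lam) := by
    intro τ hτ
    obtain ⟨t, htc, ht⟩ := exists_center_of_vanish h τ
      ((mem_dualAnnihilator_commSpan_iff τ).mp hτ)
    refine ⟨t, htc, ?_⟩
    apply LinearMap.ext
    intro x
    rw [ht x]
    rfl
  have h3 : finrank F (commSpan F B).dualAnnihilator
      ≤ finrank F (Subalgebra.center F B) := by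
    refine le_trans (Submodule.finrank_mono h2) ?_
    exact Submodule.finrank_map_le _ _
  omega

/-- the dual annihilator of the commutator span has dimension at most that of the centre -/
theorem finrank_dualAnnihilator_le {lam : B →ₗ[F] F} (h : IsSymmForm lam) :
    finrank F (commSpan F B).dualAnnihilator ≤ finrank F (Subalgebra.center F B) := by
  have h1 := Subspace.finrank_add_finrank_dualAnnihilator_eq (commSpan F B)
  have h2 := finrank_le_commSpan_add_center h
  omega

/-- linearly independent functionals vanishing on commutators: at most `dim Z(B)` of them -/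
theorem card_le_of_linearIndependent {lam : B →ₗ[F] F} (h : IsSymmForm lam) {ι : Type*}
    [Fintype ι] (τ : ι → Module.Dual F B) (hτ : ∀ i, ∀ x y : B, τ i (x * y - y * x) = 0)
    (hli : LinearIndependent F τ) :
    Fintype.card ι ≤ finrank F (Subalgebra.center F B) := by
  let W := (commSpan F B).dualAnnihilator
  let τ' : ι → W := fun i => ⟨τ i, (mem_dualAnnihilator_commSpan_iff _).mpr (hτ i)⟩
  have hli' : LinearIndependent F τ' := by
    apply LinearIndependent.of_comp W.subtype
    exact hli
  exact le_trans hli'.fintype_card_le_finrank (finrank_dualAnnihilator_le h)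

/-- if there are `dim Z(B)` independent trace-like functionals, an element whose right multiples
are killed by all of them vanishes -/
theorem eq_zero_of_forall_vanish {lam : B →ₗ[F] F} (h : IsSymmForm lam) {ι : Type*}
    [Fintype ι] (τ : ι → Module.Dual F B) (hτ : ∀ i, ∀ x y : B, τ i (x * y - y * x) = 0)
    (hli : LinearIndependent F τ)
    (hcard : finrank F (Subalgebra.center F B) ≤ Fintype.card ι)
    (j : B) (hj : ∀ i, ∀ y : B, τ i (j * y) = 0) : j = 0 := by
  let W := (commSpan F B).dualAnnihilator
  have hle : Submodule.span F (Set.range τ) ≤ W := by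
    rw [Submodule.span_le]
    rintro _ ⟨i, rfl⟩
    exact (mem_dualAnnihilator_commSpan_iff _).mpr (hτ i)
  have hfr : finrank F (Submodule.span F (Set.range τ)) = Fintype.card ι :=
    finrank_span_eq_card hli
  have heq : Submodule.span F (Set.range τ) = W := by
    apply Submodule.eq_of_le_of_finrank_le hle
    rw [hfr]
    exact le_trans (finrank_dualAnnihilator_le h) hcard
  have hlam : lam ∈ W := by
    rw [mem_dualAnnihilator_commSpan_iff]
    intro x y
    rw [map_sub, h.symm, sub_self]
  rw [← heq] at hlam
  obtain ⟨c, hc⟩ := (Submodule.mem_span_range_iff_exists_fun F).mp hlam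
  apply h.nondeg
  intro y
  rw [← hc]
  simp only [LinearMap.sum_apply, LinearMap.smul_apply, hj, smul_zero,
    Finset.sum_const_zero]

/-- `e B` and `B e` have the same dimension -/
theorem finrank_range_mulLeft_eq {lam : B →ₗ[F] F} (h : IsSymmForm lam) (e : B)
    (he : IsIdempotentElem e) :
    finrank F (LinearMap.range (LinearMap.mulLeft F e))
      = finrank F (LinearMap.range (LinearMap.mulRight F e)) := by
  set U := LinearMap.range (LinearMap.mulLeft F e) with hU
  set V := LinearMap.range (LinearMap.mulRight F e) with hV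
  -- `V → U*`
  let φ : V →ₗ[F] Module.Dual F U := U.subtype.dualMap ∘ₗ ((bil lam).flip ∘ₗ V.subtype)
  have hφ : Function.Injective φ := by
    rw [← LinearMap.ker_eq_bot, LinearMap.ker_eq_bot']
    intro y hy
    obtain ⟨y0, hy0⟩ := y.2
    have hye : (y : B) * e = y := by
      rw [← hy0]
      simp only [LinearMap.mulRight_apply, mul_assoc, he.eq]
    apply Subtype.ext
    show (y : B) = 0
    apply h.nondeg' 
    intro b
    have h1 : φ y ⟨e * b, ⟨b, rfl⟩⟩ = 0 := by rw [hy]; rfl
    have h2 : φ y ⟨e * b, ⟨b, rfl⟩⟩ = lam (e * b * (y : B)) := rfl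
    rw [h2, h.symm, ← mul_assoc, hye] at h1
    rw [h.symm]
    exact h1
  let ψ : U →ₗ[F] Module.Dual F V := V.subtype.dualMap ∘ₗ ((bil lam) ∘ₗ U.subtype)
  have hψ : Function.Injective ψ := by
    rw [← LinearMap.ker_eq_bot, LinearMap.ker_eq_bot']
    intro x hx
    obtain ⟨x0, hx0⟩ := x.2
    have hex : e * (x : B) = x := by
      rw [← hx0]
      simp only [LinearMap.mulLeft_apply, ← mul_assoc, he.eq]
    apply Subtype.ext
    show (x : B) = 0
    apply h.nondeg
    intro b
    have h1 : ψ x ⟨b * e, ⟨b, rfl⟩⟩ = 0 := by rw [hx]; rfl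
    have h2 : ψ x ⟨b * e, ⟨b, rfl⟩⟩ = lam ((x : B) * (b * e)) := rfl
    rw [h2, h.symm, mul_assoc, hex, h.symm] at h1
    exact h1
  have h1 := LinearMap.finrank_le_finrank_of_injective hφ
  have h2 := LinearMap.finrank_le_finrank_of_injective hψ
  rw [Subspace.dual_finrank_eq] at h1 h2
  exact le_antisymm h2 h1

end Cfsg.Agent.Lib.Helper24.SymAlg
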