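import Mathlib
import Cfsg.Agent.Lib.Helper24.SymAlgDual

/-!
# The group algebra of a finite group as a symmetric algebra (helper24 library)

Coefficient at the identity as symmetrizing form, principal left ideals as spans of translates,
and the dimension of `ℂ[G] e` for an idempotent `e` as a trace.
-/

set_option autoImplicit false

namespace Cfsg.Agent.Lib.Helper24.GroupAlgForm

open Module Cfsg.Agent.Lib.Helper24.SymAlg

section Generic

variable {G : Type*} [Group G] [Fintype G] {K : Type*} [Field K]

theorem coeff_mul_eq_sum (x y : MonoidAlgebra K G) (g : G) :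
    (x * y).coeff g = ∑ h : G, x.coeff h * y.coeff (h⁻¹ * g) := by
  rw [MonoidAlgebra.coeff_mul_apply_left, Finsupp.sum_fintype _ _ (by simp)]

/-- the coefficient at the identity -/
noncomputable def coeffOne : MonoidAlgebra K G →ₗ[K] K where
  toFun x := x.coeff 1
  map_add' x y := by simp [MonoidAlgebra.coeff_add]
  map_smul' c x := by simp [MonoidAlgebra.coeff_smul]

theorem coeffOne_apply (x : MonoidAlgebra K G) : coeffOne x = x.coeff 1 := rfl

theorem coeffOne_isSymmForm : IsSymmForm (coeffOne (G := G) (K := K)) := by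
  constructor
  · intro x y
    rw [coeffOne_apply, coeffOne_apply, coeff_mul_eq_sum, coeff_mul_eq_sum,
      ← Equiv.sum_comp (Equiv.inv G)]
    apply Finset.sum_congr rfl
    intro h _
    simp only [Equiv.inv_apply, inv_inv, mul_one]
    rw [mul_comm]
  · intro x hx
    apply MonoidAlgebra.coeff_injective
    ext g
    have := hx (MonoidAlgebra.single g⁻¹ 1)
    rw [coeffOne_apply, MonoidAlgebra.coeff_mul_single_apply, inv_inv, one_mul, mul_one] at this
    rw [this]
    rfl

/-- the coefficient function of an element of the group algebra -/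
noncomputable def toFn : MonoidAlgebra K G →ₗ[K] (G → K) where
  toFun x := fun g => x.coeff g
  map_add' x y := by
    funext g
    simp [MonoidAlgebra.coeff_add]
  map_smul' c x := by
    funext g
    simp [MonoidAlgebra.coeff_smul]

theorem toFn_apply (x : MonoidAlgebra K G) (g : G) : toFn x g = x.coeff g := rfl

theorem toFn_injective : Function.Injective (toFn (G := G) (K := K)) := by
  intro x y h
  apply MonoidAlgebra.coeff_injective
  ext g
  exact congrFun h g

theorem map_range_mulRight (e : MonoidAlgebra K G) :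
    (LinearMap.range (LinearMap.mulRight K e)).map toFn
      = Submodule.span K (Set.range (fun g : G => fun x : G => e.coeff (g⁻¹ * x))) := by
  apply le_antisymm
  · rintro _ ⟨_, ⟨y, rfl⟩, rfl⟩
    have h1 : toFn (LinearMap.mulRight K e y)
        = ∑ g : G, y.coeff g • (fun x : G => e.coeff (g⁻¹ * x)) := by
      funext x
      rw [toFn_apply, LinearMap.mulRight_apply, coeff_mul_eq_sum, Finset.sum_apply]
      rfl
    rw [h1]
    apply Submodule.sum_mem
    intro g _
    exact Submodule.smul_mem _ _ (Submodule.subset_span ⟨g, rfl⟩)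
  · apply Submodule.span_le.mpr
    rintro _ ⟨g, rfl⟩
    refine ⟨MonoidAlgebra.single g 1 * e, ⟨MonoidAlgebra.single g 1, rfl⟩, ?_⟩
    funext x
    rw [toFn_apply, MonoidAlgebra.coeff_single_mul_apply, one_mul]

theorem finrank_range_mulRight_eq_span (e : MonoidAlgebra K G) :
    finrank K (LinearMap.range (LinearMap.mulRight K e))
      = finrank K (Submodule.span K
          (Set.range (fun g : G => fun x : G => e.coeff (g⁻¹ * x)))) := by
  rw [← map_range_mulRight]
  exact (Submodule.equivMapOfInjective toFn toFn_injective _).finrank_eq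

instance instFiniteDimensionalMonoidAlgebra : FiniteDimensional K (MonoidAlgebra K G) :=
  Module.Finite.of_basis (MonoidAlgebra.basis G K)

theorem finrank_monoidAlgebra' : finrank K (MonoidAlgebra K G) = Nat.card G :=
  Module.finrank_eq_nat_card_basis (MonoidAlgebra.basis G K)

/-- complementary summands -/
theorem finrank_range_add_compl (e : MonoidAlgebra K G) (he : IsIdempotentElem e) :
    finrank K (LinearMap.range (LinearMap.mulRight K e))
      + finrank K (LinearMap.range (LinearMap.mulRight K (1 - e))) = Nat.card G := by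
  obtain ⟨M₁, hM₁⟩ : ∃ M₁ : Submodule K (MonoidAlgebra K G),
      M₁ = LinearMap.range (LinearMap.mulRight K e) := ⟨_, rfl⟩
  obtain ⟨M₂, hM₂⟩ : ∃ M₂ : Submodule K (MonoidAlgebra K G),
      M₂ = LinearMap.range (LinearMap.mulRight K (1 - e)) := ⟨_, rfl⟩
  rw [← hM₁, ← hM₂]
  have hsup : M₁ ⊔ M₂ = ⊤ := by
    rw [eq_top_iff]
    intro x _
    have hx : x = x * e + x * (1 - e) := by rw [← mul_add, add_sub_cancel, mul_one]
    rw [hx]
    apply Submodule.add_mem_sup
    · rw [hM₁]
      exact ⟨x, rfl⟩
    · rw [hM₂]
      exact ⟨x, rfl⟩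
  have hinf : M₁ ⊓ M₂ = ⊥ := by
    rw [eq_bot_iff]
    rintro x ⟨h1, h2⟩
    rw [SetLike.mem_coe, hM₁] at h1
    rw [SetLike.mem_coe, hM₂] at h2
    obtain ⟨y, rfl⟩ := h1
    obtain ⟨z, hz⟩ := h2
    simp only [LinearMap.mulRight_apply] at hz ⊢
    have h3 : y * e = (y * e) * e := by rw [mul_assoc, he.eq]
    have h4 : (y * e) * e = 0 := by
      rw [← hz, mul_assoc, sub_mul, one_mul, he.eq, sub_self, mul_zero]
    rw [Submodule.mem_bot, h3, h4]
  have := Submodule.finrank_sup_add_finrank_inf_eq M₁ M₂
  rw [hsup, hinf, finrank_bot, add_zero, finrank_top, finrank_monoidAlgebra'] at this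
  exact this.symm

end Generic

section Complex

variable {G : Type*} [Group G] [Fintype G]

/-- the dimension of `ℂ[G] e` for an idempotent `e` is `|G| e(1)` -/
theorem finrank_range_mulRight_complex (e : MonoidAlgebra ℂ G) (he : IsIdempotentElem e) :
    (finrank ℂ (LinearMap.range (LinearMap.mulRight ℂ e)) : ℂ) = (Nat.card G : ℂ) * e.coeff 1 := by
  classical
  have hproj : LinearMap.IsProj (LinearMap.range (LinearMap.mulRight ℂ e))
      (LinearMap.mulRight ℂ e) := by
    refine ⟨fun x => LinearMap.mem_range_self _ x, ?_⟩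
    rintro _ ⟨y, rfl⟩
    simp only [LinearMap.mulRight_apply]
    rw [mul_assoc, he.eq]
  rw [← hproj.trace, LinearMap.trace_eq_matrix_trace ℂ (MonoidAlgebra.basis G ℂ), Matrix.trace]
  have hdiag : ∀ g : G, Matrix.diag (LinearMap.toMatrix (MonoidAlgebra.basis G ℂ)
      (MonoidAlgebra.basis G ℂ) (LinearMap.mulRight ℂ e)) g = e.coeff 1 := by
    intro g
    rw [Matrix.diag_apply, LinearMap.toMatrix_apply, MonoidAlgebra.basis_apply,
      LinearMap.mulRight_apply]
    show (MonoidAlgebra.single g 1 * e).coeff g = e.coeff 1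
    rw [MonoidAlgebra.coeff_single_mul_apply, one_mul, inv_mul_cancel]
  rw [Finset.sum_congr rfl (fun g _ => hdiag g), Finset.sum_const, Finset.card_univ,
    nsmul_eq_mul, Nat.card_eq_fintype_card]

end Complex

end Cfsg.Agent.Lib.Helper24.GroupAlgForm
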