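import Mathlib

/-!
# Heisenberg matrices of a bicharacter (helper24)

`V` a finite additive group (the index set), `χ : V → V → F` a bicharacter.  `hm χ c j k = c • Z_j X_k` where
`Z_j = diag (χ j ·)` and `X_k` is the permutation matrix of the translation `y ↦ y + k`:
`hm χ c j k x y = if x = y + k then c * χ j y else 0`.
Multiplication law `hm_mul`; Kronecker products `hm_kron`; action on the standard basis `hm_mulVec_single`.
Used for the extraspecial group `3^(1+4) ≤ GU_9(2)` (S5663, the corner `(n, q) = (9, 2)`).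
-/

set_option autoImplicit false

namespace Cfsg.Agent.Lib.Helper24.Heis

open Matrix
open scoped Kronecker

variable {F : Type*} [Field F] {V : Type} [Fintype V] [DecidableEq V] [AddCommGroup V]

/-- a bicharacter of the finite additive group `V` with values in `F` -/
structure IsBichar (χ : V → V → F) : Prop where
  add_left : ∀ j j' y, χ (j + j') y = χ j y * χ j' y
  add_right : ∀ j y y', χ j (y + y') = χ j y * χ j y'
  ne_zero : ∀ j y, χ j y ≠ 0

namespace IsBichar

variable {χ : V → V → F}

theorem zero_left (h : IsBichar χ) (y : V) : χ 0 y = 1 := by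
  have h1 := h.add_left 0 0 y
  rw [add_zero] at h1
  have h2 := h.ne_zero 0 y
  field_simp at h1
  exact h1.symm

theorem zero_right (h : IsBichar χ) (j : V) : χ j 0 = 1 := by
  have h1 := h.add_right j 0 0
  rw [add_zero] at h1
  have h2 := h.ne_zero j 0
  field_simp at h1
  exact h1.symm

theorem neg_left (h : IsBichar χ) (j y : V) : χ (-j) y = (χ j y)⁻¹ := by
  have h1 := h.add_left j (-j) y
  rw [add_neg_cancel, h.zero_left] at h1
  exact eq_inv_of_mul_eq_one_right h1.symm

theorem neg_right (h : IsBichar χ) (j y : V) : χ j (-y) = (χ j y)⁻¹ := by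
  have h1 := h.add_right j y (-y)
  rw [add_neg_cancel, h.zero_right] at h1
  exact eq_inv_of_mul_eq_one_right h1.symm

theorem nsmul_left (h : IsBichar χ) (m : ℕ) (j y : V) : χ (m • j) y = χ j y ^ m := by
  induction m with
  | zero => rw [zero_smul, h.zero_left, pow_zero]
  | succ m ih => rw [succ_nsmul, h.add_left, ih, pow_succ]

theorem nsmul_right (h : IsBichar χ) (m : ℕ) (j y : V) : χ j (m • y) = χ j y ^ m := by
  induction m with
  | zero => rw [zero_smul, h.zero_right, pow_zero]
  | succ m ih => rw [succ_nsmul, h.add_right, ih, pow_succ]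

end IsBichar

/-- the Heisenberg matrix `c • Z_j X_k` -/
def hm (χ : V → V → F) (c : F) (j k : V) : Matrix V V F :=
  fun x y => if x = y + k then c * χ j y else 0

theorem hm_apply (χ : V → V → F) (c : F) (j k x y : V) :
    hm χ c j k x y = if x = y + k then c * χ j y else 0 := rfl

theorem hm_mul {χ : V → V → F} (h : IsBichar χ) (c c' : F) (j k j' k' : V) :
    hm χ c j k * hm χ c' j' k' = hm χ (c * c' * χ j k') (j + j') (k + k') := by
  ext x z
  rw [Matrix.mul_apply, hm_apply]
  rw [Finset.sum_eq_single (z + k')]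
  · rw [hm_apply, hm_apply, if_pos rfl]
    by_cases hx : x = z + k' + k
    · rw [if_pos hx, if_pos (by rw [hx]; abel), h.add_right, h.add_left]
      ring
    · rw [if_neg hx, if_neg (by intro h'; apply hx; rw [h']; abel), zero_mul]
  · intro y _ hy
    rw [hm_apply, hm_apply, if_neg hy, mul_zero]
  · intro hn
    exact absurd (Finset.mem_univ _) hn

theorem hm_one {χ : V → V → F} (h : IsBichar χ) : hm χ 1 0 0 = 1 := by
  ext x y
  rw [hm_apply, add_zero, h.zero_left, mul_one, Matrix.one_apply]

theorem hm_smul (χ : V → V → F) (a c : F) (j k : V) : a • hm χ c j k = hm χ (a * c) j k := by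
  ext x y
  rw [Matrix.smul_apply, hm_apply, hm_apply, smul_eq_mul]
  split_ifs
  · ring
  · ring

theorem hm_scalar {χ : V → V → F} (h : IsBichar χ) (c : F) : hm χ c 0 0 = c • (1 : Matrix V V F) := by
  rw [← hm_one h, hm_smul, mul_one]

/-- the inverse of a Heisenberg matrix -/
theorem hm_mul_inv {χ : V → V → F} (h : IsBichar χ) (c : F) (hc : c ≠ 0) (j k : V) :
    hm χ c j k * hm χ (c⁻¹ * χ j k) (-j) (-k) = 1 := by
  rw [hm_mul h, add_neg_cancel, add_neg_cancel, h.neg_right, ← hm_one h]
  congr 1
  have := h.ne_zero j k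
  field_simp

theorem hm_inv_mul {χ : V → V → F} (h : IsBichar χ) (c : F) (hc : c ≠ 0) (j k : V) :
    hm χ (c⁻¹ * χ j k) (-j) (-k) * hm χ c j k = 1 := by
  rw [hm_mul h, neg_add_cancel, neg_add_cancel, h.neg_left, ← hm_one h]
  congr 1
  have := h.ne_zero j k
  field_simp

/-- the commutation rule -/
theorem hm_comm {χ : V → V → F} (h : IsBichar χ) (c c' : F) (j k j' k' : V) :
    hm χ c j k * hm χ c' j' k' = (χ j k' * (χ j' k)⁻¹) • (hm χ c' j' k' * hm χ c j k) := by
  rw [hm_mul h, hm_mul h, hm_smul, add_comm j' j, add_comm k' k]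
  congr 1
  have := h.ne_zero j' k
  field_simp

/-- powers of a Heisenberg matrix, up to the scalar -/
theorem hm_pow {χ : V → V → F} (h : IsBichar χ) (c : F) (j k : V) (m : ℕ) :
    ∃ d : F, hm χ c j k ^ m = hm χ d (m • j) (m • k) ∧ d = c ^ m * χ j k ^ (m * (m - 1) / 2) := by
  induction m with
  | zero =>
    refine ⟨1, ?_, by simp⟩
    rw [pow_zero, zero_smul, zero_smul, hm_one h]
  | succ m ih =>
    obtain ⟨d, hd, hdv⟩ := ih
    refine ⟨d * c * χ (m • j) k, ?_, ?_⟩
    · rw [pow_succ, hd, hm_mul h, succ_nsmul, succ_nsmul]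
    · rw [hdv, h.nsmul_left, pow_succ]
      have hm2 : (m + 1) * (m + 1 - 1) / 2 = m * (m - 1) / 2 + m := by
        have h1 : (m + 1) * (m + 1 - 1) = m * (m - 1) + 2 * m := by
          rcases m with _ | m
          · rfl
          · simp only [Nat.add_sub_cancel]; ring
        rw [h1, Nat.add_mul_div_left _ _ (by norm_num : 0 < 2)]
      rw [hm2, pow_add]
      ring

/-- action on the standard basis -/
theorem hm_mulVec_single (χ : V → V → F) (c : F) (j k y : V) :
    hm χ c j k *ᵥ Pi.single y 1 = (c * χ j y) • Pi.single (y + k) 1 := by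
  funext x
  rw [Matrix.mulVec_single_one]
  change hm χ c j k x y = _
  rw [hm_apply, Pi.smul_apply, Pi.single_apply, smul_eq_mul]
  split_ifs <;> simp

/-- the action on an arbitrary vector -/
theorem hm_mulVec (χ : V → V → F) (c : F) (j k : V) (v : V → F) (x : V) :
    (hm χ c j k *ᵥ v) x = c * χ j (x - k) * v (x - k) := by
  rw [Matrix.mulVec, dotProduct, Finset.sum_eq_single (x - k)]
  · rw [hm_apply, if_pos (by abel)]
  · intro y _ hy
    rw [hm_apply, if_neg (by intro h'; apply hy; rw [h']; abel), zero_mul]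
  · intro hn
    exact absurd (Finset.mem_univ _) hn

/-- the product bicharacter on `V × V'` -/
def prodChar {V' : Type} (χ : V → V → F) (χ' : V' → V' → F) : V × V' → V × V' → F :=
  fun j y => χ j.1 y.1 * χ' j.2 y.2

theorem IsBichar.prod {V' : Type} [Fintype V'] [DecidableEq V'] [AddCommGroup V'] {χ : V → V → F}
    {χ' : V' → V' → F} (h : IsBichar χ) (h' : IsBichar χ') : IsBichar (prodChar χ χ') where
  add_left := by
    intro j j' y
    simp only [prodChar, Prod.fst_add, Prod.snd_add, h.add_left, h'.add_left]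
    ring
  add_right := by
    intro j y y'
    simp only [prodChar, Prod.fst_add, Prod.snd_add, h.add_right, h'.add_right]
    ring
  ne_zero := fun j y => mul_ne_zero (h.ne_zero _ _) (h'.ne_zero _ _)

/-- Kronecker products of Heisenberg matrices -/
theorem hm_kron {V' : Type} [Fintype V'] [DecidableEq V'] [AddCommGroup V'] (χ : V → V → F)
    (χ' : V' → V' → F) (c c' : F) (j k : V) (j' k' : V') :
    hm χ c j k ⊗ₖ hm χ' c' j' k' = hm (prodChar χ χ') (c * c') (j, j') (k, k') := by
  ext ⟨x, x'⟩ ⟨y, y'⟩
  rw [Matrix.kroneckerMap_apply, hm_apply, hm_apply, hm_apply]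
  simp only [prodChar, Prod.mk_add_mk, Prod.mk.injEq]
  by_cases h1 : x = y + k
  · by_cases h2 : x' = y' + k'
    · rw [if_pos h1, if_pos h2, if_pos ⟨h1, h2⟩]
      ring
    · rw [if_neg h2, if_neg (fun h : x = y + k ∧ x' = y' + k' => h2 h.2), mul_zero]
  · rw [if_neg h1, if_neg (fun h : x = y + k ∧ x' = y' + k' => h1 h.1), zero_mul]

end Cfsg.Agent.Lib.Helper24.Heis
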