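import Mathlib
import Cfsg.Prelude.Def_GeometricClasses
import Cfsg.Agent.Lib.Helper24.Heis

/-!
# The Heisenberg group of a bicharacter inside `GL V F` (helper24)

`heisGroup h C hC = { hm χ c j k | c ∈ C }` for a subgroup `C ≤ Fˣ` containing the values of `χ`.
Absolute irreducibility (`heis_absIrred`) for a non-degenerate `χ` with `(card V : F) ≠ 0`, and `pow_eq_one`.
-/

set_option autoImplicit false

namespace Cfsg.Agent.Lib.Helper24.Heis

open Matrix Cfsg Cfsg.Geo

variable {F : Type*} [Field F] {V : Type} [Fintype V] [DecidableEq V] [AddCommGroup V] {χ : V → V → F}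

/-- the Heisenberg matrix as an invertible matrix -/
def heisUnit (h : IsBichar χ) (c : F) (hc : c ≠ 0) (j k : V) : GL V F :=
  ⟨hm χ c j k, hm χ (c⁻¹ * χ j k) (-j) (-k), hm_mul_inv h c hc j k, hm_inv_mul h c hc j k⟩

theorem heisUnit_val (h : IsBichar χ) (c : F) (hc : c ≠ 0) (j k : V) :
    ((heisUnit h c hc j k : GL V F) : Matrix V V F) = hm χ c j k := rfl

/-- the Heisenberg group -/
def heisGroup (h : IsBichar χ) (C : Subgroup Fˣ) (hC : ∀ j y, ∃ u ∈ C, (u : F) = χ j y) : Subgroup (GL V F) where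
  carrier := {g | ∃ c ∈ C, ∃ j k, (g : Matrix V V F) = hm χ (c : F) j k}
  mul_mem' := by
    rintro a b ⟨c, hc, j, k, ha⟩ ⟨c', hc', j', k', hb⟩
    obtain ⟨u, hu, hux⟩ := hC j k'
    refine ⟨c * c' * u, C.mul_mem (C.mul_mem hc hc') hu, j + j', k + k', ?_⟩
    rw [Units.val_mul, ha, hb, hm_mul h, Units.val_mul, Units.val_mul, hux]
  one_mem' := ⟨1, C.one_mem, 0, 0, by rw [Units.val_one, Units.val_one, hm_one h]⟩
  inv_mem' := by
    rintro a ⟨c, hc, j, k, ha⟩
    obtain ⟨u, hu, hux⟩ := hC j k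
    refine ⟨c⁻¹ * u, C.mul_mem (C.inv_mem hc) hu, -j, -k, ?_⟩
    have h1 : (a : Matrix V V F) * hm χ ((c : F)⁻¹ * χ j k) (-j) (-k) = 1 := by
      rw [ha]
      exact hm_mul_inv h c c.ne_zero j k
    have h2 : ((a⁻¹ : GL V F) : Matrix V V F) = ((a⁻¹ : GL V F) : Matrix V V F) *
        ((a : Matrix V V F) * hm χ ((c : F)⁻¹ * χ j k) (-j) (-k)) := by rw [h1, mul_one]
    rw [h2, ← mul_assoc, ← Units.val_mul, inv_mul_cancel, Units.val_one, one_mul, Units.val_mul,
      Units.val_inv_eq_inv_val, hux]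

theorem mem_heisGroup (h : IsBichar χ) (C : Subgroup Fˣ) (hC : ∀ j y, ∃ u ∈ C, (u : F) = χ j y) (g : GL V F) :
    g ∈ heisGroup h C hC ↔ ∃ c ∈ C, ∃ j k, (g : Matrix V V F) = hm χ (c : F) j k := Iff.rfl

theorem heisUnit_mem (h : IsBichar χ) (C : Subgroup Fˣ) (hC : ∀ j y, ∃ u ∈ C, (u : F) = χ j y) (c : Fˣ)
    (hc : c ∈ C) (j k : V) : heisUnit h (c : F) c.ne_zero j k ∈ heisGroup h C hC :=
  ⟨c, hc, j, k, rfl⟩

theorem hm_mem_matrixSet (h : IsBichar χ) (C : Subgroup Fˣ) (hC : ∀ j y, ∃ u ∈ C, (u : F) = χ j y) (c : Fˣ)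
    (hc : c ∈ C) (j k : V) : hm χ (c : F) j k ∈ matrixSet (heisGroup h C hC) :=
  ⟨heisUnit h (c : F) c.ne_zero j k, heisUnit_mem h C hC c hc j k, rfl⟩

/-- non-degeneracy of a bicharacter in the second variable -/
def NondegR (χ : V → V → F) : Prop := ∀ z : V, z ≠ 0 → ∃ j, χ j z ≠ 1

/-- non-degeneracy of a bicharacter in the first variable -/
def NondegL (χ : V → V → F) : Prop := ∀ z : V, z ≠ 0 → ∃ y, χ z y ≠ 1

/-- orthogonality of characters -/
theorem sum_char (h : IsBichar χ) (hnd : NondegR χ) (z : V) :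
    ∑ j : V, χ j z = if z = 0 then (Fintype.card V : F) else 0 := by
  by_cases hz : z = 0
  · subst hz
    rw [if_pos rfl]
    simp only [h.zero_right, Finset.sum_const, Finset.card_univ, nsmul_eq_mul, mul_one]
  · rw [if_neg hz]
    obtain ⟨j₀, hj₀⟩ := hnd z hz
    have h1 : ∑ j : V, χ j z = χ j₀ z * ∑ j : V, χ j z := by
      rw [Finset.mul_sum]
      rw [← Equiv.sum_comp (Equiv.addLeft j₀) (fun j => χ j z)]
      refine Finset.sum_congr rfl fun j _ => ?_
      rw [Equiv.coe_addLeft, h.add_left]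
    have h2 : (1 - χ j₀ z) * ∑ j : V, χ j z = 0 := by
      rw [sub_mul, one_mul, ← h1, sub_self]
    rcases mul_eq_zero.mp h2 with h3 | h3
    · exact absurd (sub_eq_zero.mp h3).symm hj₀
    · exact h3

/-- the commutant of the Heisenberg group consists of the scalars -/
theorem heis_commutant (h : IsBichar χ) (hnd : NondegR χ) (C : Subgroup Fˣ)
    (hC : ∀ j y, ∃ u ∈ C, (u : F) = χ j y) (M : Matrix V V F)
    (hM : ∀ s ∈ matrixSet (heisGroup h C hC), M * s = s * M) : ∃ c : F, M = c • (1 : Matrix V V F) := by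
  have hZ : ∀ j, M * hm χ 1 j 0 = hm χ 1 j 0 * M := fun j => by
    have := hM _ (hm_mem_matrixSet h C hC 1 C.one_mem j 0)
    rwa [Units.val_one] at this
  have hX : ∀ k, M * hm χ 1 0 k = hm χ 1 0 k * M := fun k => by
    have := hM _ (hm_mem_matrixSet h C hC 1 C.one_mem 0 k)
    rwa [Units.val_one] at this
  have hoff : ∀ x y, x ≠ y → M x y = 0 := by
    intro x y hxy
    obtain ⟨j, hj⟩ := hnd (x - y) (sub_ne_zero.mpr hxy)
    have h1 := congrFun (congrFun (hZ j) x) y
    rw [Matrix.mul_apply, Matrix.mul_apply, Finset.sum_eq_single y, Finset.sum_eq_single x] at h1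
    · rw [hm_apply, hm_apply, add_zero, add_zero, if_pos rfl, if_pos rfl, one_mul, one_mul] at h1
      have h2 : χ j x = χ j (x - y) * χ j y := by rw [← h.add_right, sub_add_cancel]
      rw [h2] at h1
      have h3 : M x y * (χ j y * (1 - χ j (x - y))) = 0 := by linear_combination h1
      rcases mul_eq_zero.mp h3 with h4 | h4
      · exact h4
      · rcases mul_eq_zero.mp h4 with h5 | h5
        · exact absurd h5 (h.ne_zero j y)
        · exact absurd (sub_eq_zero.mp h5).symm hj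
    · intro z _ hz
      rw [hm_apply, add_zero, if_neg (Ne.symm hz), zero_mul]
    · intro hn
      exact absurd (Finset.mem_univ x) hn
    · intro z _ hz
      rw [hm_apply, add_zero, if_neg hz, mul_zero]
    · intro hn
      exact absurd (Finset.mem_univ y) hn
  have hdiag : ∀ a, M a a = M 0 0 := by
    intro a
    have h1 := congrFun (congrFun (hX a) a) 0
    rw [Matrix.mul_apply, Matrix.mul_apply, Finset.sum_eq_single a, Finset.sum_eq_single 0] at h1
    · simp only [hm_apply, zero_add, h.zero_left, mul_one, one_mul, if_true] at h1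
      exact h1
    · intro z _ hz
      rw [hm_apply, if_neg, zero_mul]
      intro h'
      apply hz
      have h2 : z = (z + a) - a := by abel
      rw [← h', sub_self] at h2
      exact h2
    · intro hn
      exact absurd (Finset.mem_univ (0 : V)) hn
    · intro z _ hz
      rw [hm_apply, zero_add, if_neg hz, mul_zero]
    · intro hn
      exact absurd (Finset.mem_univ a) hn
  refine ⟨M 0 0, ?_⟩
  ext a a'
  rw [Matrix.smul_apply, Matrix.one_apply, smul_eq_mul]
  by_cases haa : a = a'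
  · subst haa
    rw [if_pos rfl, mul_one, hdiag]
  · rw [if_neg haa, mul_zero, hoff a a' haa]

/-- the Heisenberg group acts irreducibly -/
theorem heis_irreducible (h : IsBichar χ) (hnd : NondegR χ) (hcard : (Fintype.card V : F) ≠ 0)
    (C : Subgroup Fˣ) (hC : ∀ j y, ∃ u ∈ C, (u : F) = χ j y) :
    ActsIrreducibly (matrixSet (heisGroup h C hC)) := by
  intro W hW
  by_cases hbot : W = ⊥
  · exact Or.inl hbot
  right
  have hinv : ∀ s ∈ matrixSet (heisGroup h C hC), ∀ w ∈ W, s *ᵥ w ∈ W := by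
    intro s hs w hw
    apply hW s hs
    exact ⟨w, hw, by rw [Matrix.toLin'_apply]⟩
  have hZ : ∀ j, ∀ w ∈ W, hm χ 1 j 0 *ᵥ w ∈ W := fun j w hw => by
    have := hinv _ (hm_mem_matrixSet h C hC 1 C.one_mem j 0) w hw
    rwa [Units.val_one] at this
  have hX : ∀ k, ∀ w ∈ W, hm χ 1 0 k *ᵥ w ∈ W := fun k w hw => by
    have := hinv _ (hm_mem_matrixSet h C hC 1 C.one_mem 0 k) w hw
    rwa [Units.val_one] at this
  obtain ⟨w, hw, hw0⟩ := Submodule.exists_mem_ne_zero_of_ne_bot hbot
  obtain ⟨a₀, ha₀⟩ : ∃ a, w a ≠ 0 := by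
    by_contra hcon
    push Not at hcon
    exact hw0 (funext hcon)
  have hv : (∑ j : V, (χ j a₀)⁻¹ • (hm χ 1 j 0 *ᵥ w)) ∈ W :=
    W.sum_mem fun j _ => W.smul_mem _ (hZ j w hw)
  have hveq : (∑ j : V, (χ j a₀)⁻¹ • (hm χ 1 j 0 *ᵥ w)) =
      ((Fintype.card V : F) * w a₀) • Pi.single a₀ (1 : F) := by
    funext a
    rw [Finset.sum_apply]
    simp only [Pi.smul_apply, smul_eq_mul, hm_mulVec, sub_zero, one_mul]
    have h1 : ∀ j : V, (χ j a₀)⁻¹ * (χ j a * w a) = χ j (a - a₀) * w a := by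
      intro j
      rw [sub_eq_add_neg, h.add_right, h.neg_right]
      ring
    simp only [h1]
    rw [← Finset.sum_mul, sum_char h hnd, Pi.single_apply]
    by_cases haa : a = a₀
    · subst haa
      rw [if_pos (sub_self a), if_pos rfl, mul_one]
    · rw [if_neg (sub_ne_zero.mpr haa), if_neg haa, zero_mul, mul_zero]
  have he0 : (Pi.single a₀ (1 : F) : V → F) ∈ W := by
    rw [hveq] at hv
    have := W.smul_mem ((Fintype.card V : F) * w a₀)⁻¹ hv
    rwa [smul_smul, inv_mul_cancel₀ (mul_ne_zero hcard ha₀), one_smul] at this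
  have he : ∀ b : V, (Pi.single b (1 : F) : V → F) ∈ W := by
    intro b
    have := hX (b - a₀) _ he0
    rw [hm_mulVec_single, h.zero_left, mul_one, one_smul] at this
    have hb : a₀ + (b - a₀) = b := by abel
    rwa [hb] at this
  rw [Submodule.eq_top_iff']
  intro v
  have hv' : v = ∑ b : V, v b • (Pi.single b (1 : F) : V → F) := by
    funext a
    rw [Finset.sum_apply, Finset.sum_eq_single a]
    · simp
    · intro b _ hb
      simp [Pi.single_apply, hb.symm]
    · intro hn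
      exact absurd (Finset.mem_univ a) hn
  rw [hv']
  exact W.sum_mem fun b _ => W.smul_mem _ (he b)

/-- the Heisenberg group acts absolutely irreducibly -/
theorem heis_absIrred (h : IsBichar χ) (hnd : NondegR χ) (hcard : (Fintype.card V : F) ≠ 0)
    (C : Subgroup Fˣ) (hC : ∀ j y, ∃ u ∈ C, (u : F) = χ j y) :
    ActsAbsolutelyIrreducibly (matrixSet (heisGroup h C hC)) :=
  ⟨heis_irreducible h hnd hcard C hC, heis_commutant h hnd C hC⟩

/-- in odd exponent `m` every element of the Heisenberg group has order dividing `m` -/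
theorem heis_pow_eq_one (h : IsBichar χ) (C : Subgroup Fˣ) (hC : ∀ j y, ∃ u ∈ C, (u : F) = χ j y) (m : ℕ)
    (hm : Odd m) (hV : ∀ v : V, m • v = 0) (hCm : ∀ c ∈ C, c ^ m = 1) (g : GL V F)
    (hg : g ∈ heisGroup h C hC) : g ^ m = 1 := by
  obtain ⟨c, hc, j, k, hgv⟩ := hg
  apply Units.ext
  rw [Units.val_pow_eq_pow_val, hgv, Units.val_one]
  obtain ⟨d, hd, hdv⟩ := hm_pow h (c : F) j k m
  rw [hd, hV, hV, ← hm_one h]
  congr 1
  rw [hdv]
  have h1 : (c : F) ^ m = 1 := by
    have := hCm c hc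
    have h2 := congrArg Units.val this
    rwa [Units.val_pow_eq_pow_val, Units.val_one] at h2
  obtain ⟨t, ht⟩ := hm
  have h3 : m * (m - 1) / 2 = m * t := by
    rw [ht]
    have : (2 * t + 1) * (2 * t + 1 - 1) = 2 * ((2 * t + 1) * t) := by
      simp only [Nat.add_sub_cancel]; ring
    rw [this, Nat.mul_div_cancel_left _ (by norm_num : 0 < 2)]
  rw [h1, h3, pow_mul, ← h.nsmul_left, hV, h.zero_left, one_pow, one_mul]

end Cfsg.Agent.Lib.Helper24.Heis
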