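import Mathlib
import Cfsg.Prelude.Def_GeometricClasses
import Cfsg.Agent.Lib.Helper24.Heis
import Cfsg.Agent.Lib.Helper24.HeisGroup

/-!
# The Heisenberg group of a non-degenerate bicharacter: order and centre (helper24)
-/

set_option autoImplicit false

namespace Cfsg.Agent.Lib.Helper24.Heis

open Matrix Cfsg Cfsg.Geo

variable {F : Type*} [Field F] {V : Type} [Fintype V] [DecidableEq V] [AddCommGroup V] {χ : V → V → F}

/-- the parameters of a Heisenberg matrix are determined by the matrix -/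
theorem hm_injective (h : IsBichar χ) (hndL : NondegL χ) {c c' : F} (hc : c ≠ 0) {j k j' k' : V}
    (heq : hm χ c j k = hm χ c' j' k') : c = c' ∧ j = j' ∧ k = k' := by
  have h1 := congrFun (congrFun heq k) 0
  rw [hm_apply, hm_apply, zero_add, zero_add, if_pos rfl, h.zero_right, mul_one] at h1
  have hk : k = k' := by
    by_contra hne
    rw [if_neg hne] at h1
    exact hc h1
  subst hk
  rw [if_pos rfl, h.zero_right, mul_one] at h1
  subst h1
  refine ⟨rfl, ?_, rfl⟩
  by_contra hne
  obtain ⟨y, hy⟩ := hndL (j - j') (sub_ne_zero.mpr hne)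
  apply hy
  have h2 := congrFun (congrFun heq (y + k)) y
  rw [hm_apply, hm_apply, if_pos rfl, if_pos rfl] at h2
  have h3 : χ j y = χ j' y := mul_left_cancel₀ hc h2
  rw [sub_eq_add_neg, h.add_left, h.neg_left, h3, mul_inv_cancel₀ (h.ne_zero j' y)]

/-- the order of the Heisenberg group -/
theorem card_heisGroup (h : IsBichar χ) (hndL : NondegL χ) (C : Subgroup Fˣ)
    (hC : ∀ j y, ∃ u ∈ C, (u : F) = χ j y) :
    Nat.card (heisGroup h C hC) = Nat.card C * (Fintype.card V * Fintype.card V) := by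
  have e : (C × V × V) ≃ heisGroup h C hC := by
    refine Equiv.ofBijective
      (fun p => ⟨heisUnit h ((p.1 : Fˣ) : F) (p.1 : Fˣ).ne_zero p.2.1 p.2.2,
        heisUnit_mem h C hC p.1 p.1.2 p.2.1 p.2.2⟩) ⟨?_, ?_⟩
    · rintro ⟨⟨c, hc⟩, j, k⟩ ⟨⟨c', hc'⟩, j', k'⟩ heq
      have h1 := congrArg (fun g : heisGroup h C hC => ((g : GL V F) : Matrix V V F)) heq
      simp only [heisUnit_val] at h1
      obtain ⟨h2, h3, h4⟩ := hm_injective h hndL c.ne_zero h1
      have h5 : c = c' := Units.ext h2
      subst h5 h3 h4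
      rfl
    · rintro ⟨g, c, hc, j, k, hg⟩
      refine ⟨⟨⟨c, hc⟩, j, k⟩, ?_⟩
      apply Subtype.ext
      apply Units.ext
      rw [heisUnit_val]
      exact hg.symm
  rw [← Nat.card_congr e, Nat.card_prod, Nat.card_prod, Nat.card_eq_fintype_card (α := V)]

/-- central elements of the Heisenberg group are scalar -/
theorem heis_central_iff (h : IsBichar χ) (hndL : NondegL χ) (hndR : NondegR χ) (C : Subgroup Fˣ)
    (hC : ∀ j y, ∃ u ∈ C, (u : F) = χ j y) (c : F) (hc : c ≠ 0) (j k : V) :
    (∀ j' k', hm χ c j k * hm χ 1 j' k' = hm χ 1 j' k' * hm χ c j k) ↔ j = 0 ∧ k = 0 := by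
  constructor
  · intro hcomm
    constructor
    · by_contra hne
      obtain ⟨y, hy⟩ := hndL j hne
      apply hy
      have h1 := hcomm 0 y
      rw [hm_mul h, hm_mul h, h.zero_left] at h1
      obtain ⟨h2, -, -⟩ := hm_injective h hndL (by
        rw [mul_one]; exact mul_ne_zero hc (h.ne_zero j y)) h1
      have h3 : c * χ j y = c * 1 := by linear_combination h2
      exact mul_left_cancel₀ hc h3
    · by_contra hne
      obtain ⟨y, hy⟩ := hndR k hne
      apply hy
      have h1 := hcomm y 0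
      rw [hm_mul h, hm_mul h, h.zero_right] at h1
      obtain ⟨h2, -, -⟩ := hm_injective h hndL (by
        rw [mul_one, mul_one]; exact hc) h1
      have h3 : c * χ y k = c * 1 := by linear_combination -h2
      exact mul_left_cancel₀ hc h3
  · rintro ⟨rfl, rfl⟩ j' k'
    rw [hm_mul h, hm_mul h, h.zero_left, h.zero_right, add_comm (0 : V) j', add_comm (0 : V) k']
    congr 1
    ring

/-- the centre of the Heisenberg group consists of its scalar matrices -/
theorem mem_center_heis_iff (h : IsBichar χ) (hndL : NondegL χ) (hndR : NondegR χ) (C : Subgroup Fˣ)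
    (hC : ∀ j y, ∃ u ∈ C, (u : F) = χ j y) (g : heisGroup h C hC) :
    g ∈ Subgroup.center (heisGroup h C hC) ↔
      ∃ c ∈ C, ((g : GL V F) : Matrix V V F) = ((c : Fˣ) : F) • (1 : Matrix V V F) := by
  obtain ⟨g, c, hc, j, k, hg⟩ := g
  rw [Subgroup.mem_center_iff]
  constructor
  · intro hcomm
    have h1 : ∀ j' k', hm χ (c : F) j k * hm χ 1 j' k' = hm χ 1 j' k' * hm χ (c : F) j k := by
      intro j' k'
      have h2 := hcomm ⟨heisUnit h ((1 : Fˣ) : F) (1 : Fˣ).ne_zero j' k', heisUnit_mem h C hC 1 C.one_mem j' k'⟩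
      have h3 := congrArg (fun x : heisGroup h C hC => ((x : GL V F) : Matrix V V F)) h2
      simp only [Subgroup.coe_mul, Units.val_mul, heisUnit_val, Units.val_one] at h3
      rw [hg] at h3
      exact h3.symm
    obtain ⟨rfl, rfl⟩ := (heis_central_iff h hndL hndR C hC c c.ne_zero j k).1 h1
    exact ⟨c, hc, by rw [hg, hm_scalar h]⟩
  · rintro ⟨c', hc', hg'⟩ ⟨x, hx⟩
    apply Subtype.ext
    apply Units.ext
    simp only [Subgroup.coe_mul, Units.val_mul]
    change (x : Matrix V V F) * (g : Matrix V V F) = (g : Matrix V V F) * (x : Matrix V V F)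
    have hg'' : (g : Matrix V V F) = ((c' : Fˣ) : F) • (1 : Matrix V V F) := hg'
    rw [hg'', Matrix.mul_smul, Matrix.smul_mul, Matrix.mul_one, Matrix.one_mul]

/-- the order of the centre -/
theorem card_center_heisGroup (h : IsBichar χ) (hndL : NondegL χ) (hndR : NondegR χ) (C : Subgroup Fˣ)
    (hC : ∀ j y, ∃ u ∈ C, (u : F) = χ j y) [Nonempty V] :
    Nat.card (Subgroup.center (heisGroup h C hC)) = Nat.card C := by
  have e : C ≃ Subgroup.center (heisGroup h C hC) := by
    refine Equiv.ofBijective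
      (fun c => ⟨⟨heisUnit h ((c : Fˣ) : F) (c : Fˣ).ne_zero 0 0, heisUnit_mem h C hC c c.2 0 0⟩, ?_⟩) ⟨?_, ?_⟩
    · rw [mem_center_heis_iff h hndL hndR]
      exact ⟨c, c.2, by rw [heisUnit_val, hm_scalar h]⟩
    · rintro ⟨c, hc⟩ ⟨c', hc'⟩ heq
      have h1 := congrArg (fun g : Subgroup.center (heisGroup h C hC) =>
        (((g : heisGroup h C hC) : GL V F) : Matrix V V F)) heq
      simp only [heisUnit_val] at h1
      obtain ⟨h2, -, -⟩ := hm_injective h hndL c.ne_zero h1
      exact Subtype.ext (Units.ext h2)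
    · rintro ⟨g, hg⟩
      obtain ⟨c, hc, hgc⟩ := (mem_center_heis_iff h hndL hndR C hC g).1 hg
      refine ⟨⟨c, hc⟩, ?_⟩
      apply Subtype.ext
      apply Subtype.ext
      apply Units.ext
      rw [heisUnit_val, hm_scalar h]
      exact hgc.symm
  rw [← Nat.card_congr e]

end Cfsg.Agent.Lib.Helper24.Heis
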