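import Mathlib
import Cfsg.Prelude.Def_GeometricClasses
import Cfsg.Agent.Lib.Helper24.Heis
import Cfsg.Agent.Lib.Helper24.HeisGroup
import Cfsg.Agent.Lib.Helper24.HeisCard

/-!
# The Heisenberg groups `3^(1+2) ≤ GL_3(F)` and `3^(1+4) ≤ GL_9(F)` for a primitive cube root of unity `ω` (helper24)

`chi3 ω j y = ω ^ (j * y)` on `Fin 3 = ℤ/3`, `chi9 ω = prodChar (chi3 ω) (chi3 ω)` on `Fin 3 × Fin 3`.
-/

set_option autoImplicit false

namespace Cfsg.Agent.Lib.Helper24.Heis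

open Matrix Cfsg Cfsg.Geo

variable {F : Type*} [Field F]

/-- the standard bicharacter of `ℤ/3` attached to a cube root of unity -/
def chi3 (ω : F) (j y : Fin 3) : F := ω ^ ((j * y : Fin 3) : ℕ)

theorem pow_fin3_add {ω : F} (hω : ω ^ 3 = 1) (u v : Fin 3) :
    ω ^ ((u + v : Fin 3) : ℕ) = ω ^ (u : ℕ) * ω ^ (v : ℕ) := by
  have h4 : ω ^ 4 = ω := by
    have : ω ^ 4 = ω ^ 3 * ω := by ring
    rw [this, hω, one_mul]
  fin_cases u <;> fin_cases v <;> simp [Fin.add_def]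
  · ring
  · rw [← hω]; ring
  · rw [← hω]; ring
  · nth_rewrite 1 [← h4]; ring

theorem chi3_symm (ω : F) (j y : Fin 3) : chi3 ω j y = chi3 ω y j := by
  unfold chi3
  rw [mul_comm]

theorem ne_zero_of_pow_three {ω : F} (hω : ω ^ 3 = 1) : ω ≠ 0 := by
  rintro rfl
  norm_num at hω

theorem isBichar_chi3 {ω : F} (hω : ω ^ 3 = 1) : IsBichar (chi3 ω) where
  add_left := by
    intro j j' y
    unfold chi3
    rw [add_mul, pow_fin3_add hω]
  add_right := by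
    intro j y y'
    unfold chi3
    rw [mul_add, pow_fin3_add hω]
  ne_zero := fun j y => pow_ne_zero _ (ne_zero_of_pow_three hω)

theorem nondegR_chi3 {ω : F} (hω : ω ^ 3 = 1) (h1 : ω ≠ 1) : NondegR (chi3 ω) := by
  intro z hz
  refine ⟨1, ?_⟩
  unfold chi3
  rw [one_mul]
  have h2 : ω ^ 2 ≠ 1 := by
    intro h
    apply h1
    have : ω = ω ^ 3 * (ω ^ 2)⁻¹ := by
      have := ne_zero_of_pow_three hω
      field_simp
    rw [this, hω, h, inv_one, mul_one]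
  fin_cases z
  · exact absurd rfl hz
  · simpa using h1
  · simpa using h2

theorem nondegL_chi3 {ω : F} (hω : ω ^ 3 = 1) (h1 : ω ≠ 1) : NondegL (chi3 ω) := by
  intro z hz
  obtain ⟨j, hj⟩ := nondegR_chi3 hω h1 z hz
  exact ⟨j, by rwa [chi3_symm]⟩

/-- the bicharacter of `(ℤ/3)²` -/
def chi9 (ω : F) : Fin 3 × Fin 3 → Fin 3 × Fin 3 → F := prodChar (chi3 ω) (chi3 ω)

theorem isBichar_chi9 {ω : F} (hω : ω ^ 3 = 1) : IsBichar (chi9 ω) :=
  (isBichar_chi3 hω).prod (isBichar_chi3 hω)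

theorem chi9_symm (ω : F) (j y : Fin 3 × Fin 3) : chi9 ω j y = chi9 ω y j := by
  unfold chi9 prodChar
  rw [chi3_symm ω j.1, chi3_symm ω j.2]

theorem nondegR_chi9 {ω : F} (hω : ω ^ 3 = 1) (h1 : ω ≠ 1) : NondegR (chi9 ω) := by
  rintro ⟨z, z'⟩ hz
  by_cases hz0 : z = 0
  · subst hz0
    have hz' : z' ≠ 0 := by
      rintro rfl
      exact hz rfl
    obtain ⟨j, hj⟩ := nondegR_chi3 hω h1 z' hz'
    refine ⟨(0, j), ?_⟩
    unfold chi9 prodChar
    rw [(isBichar_chi3 hω).zero_left, one_mul]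
    exact hj
  · obtain ⟨j, hj⟩ := nondegR_chi3 hω h1 z hz0
    refine ⟨(j, 0), ?_⟩
    unfold chi9 prodChar
    rw [(isBichar_chi3 hω).zero_left, mul_one]
    exact hj

theorem nondegL_chi9 {ω : F} (hω : ω ^ 3 = 1) (h1 : ω ≠ 1) : NondegL (chi9 ω) := by
  intro z hz
  obtain ⟨j, hj⟩ := nondegR_chi9 hω h1 z hz
  exact ⟨j, by rwa [chi9_symm]⟩

/-- every value of a bicharacter is a unit, so `⊤ ≤ Fˣ` contains the values -/
theorem values_mem_top {V : Type} {χ : V → V → F} (h : ∀ j y, χ j y ≠ 0) :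
    ∀ j y, ∃ u ∈ (⊤ : Subgroup Fˣ), (u : F) = χ j y :=
  fun j y => ⟨Units.mk0 _ (h j y), Subgroup.mem_top _, rfl⟩

/-- the group `Fˣ ∘ 3^(1+2)` (`= 3^(1+2)` when `|F| = 4`) inside `GL_3(F)` -/
def R27 {ω : F} (hω : ω ^ 3 = 1) : Subgroup (GL (Fin 3) F) :=
  heisGroup (isBichar_chi3 hω) ⊤ (values_mem_top (isBichar_chi3 hω).ne_zero)

/-- the group `Fˣ ∘ 3^(1+4)` (`= 3^(1+4)` when `|F| = 4`) inside `GL (Fin 3 × Fin 3) F` -/
def R243 {ω : F} (hω : ω ^ 3 = 1) : Subgroup (GL (Fin 3 × Fin 3) F) :=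
  heisGroup (isBichar_chi9 hω) ⊤ (values_mem_top (isBichar_chi9 hω).ne_zero)

end Cfsg.Agent.Lib.Helper24.Heis
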