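import Mathlib
import Cfsg.Prelude.Def_GeometricClasses
import Cfsg.Agent.Lib.Helper24.Heis
import Cfsg.Agent.Lib.Helper24.HeisGroup
import Cfsg.Agent.Lib.Helper24.HeisCard

/-!
# The Fourier matrix of a symmetric bicharacter normalises the Heisenberg group (helper24)

`four χ x y = χ x y`.  `four_mul_hm : four χ * hm χ c j k = hm χ (c * χ k (-j)) k (-j) * four χ`;
`four χ * fourBar χ = card V • 1`.  Characteristic abelian subgroups of a group all of whose non-central elements are
moved off their centraliser by an automorphism are central (`le_center_of_moves`).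
-/

set_option autoImplicit false

namespace Cfsg.Agent.Lib.Helper24.Heis

open Matrix Cfsg Cfsg.Geo
open scoped Kronecker

variable {F : Type*} [Field F] {V : Type} [Fintype V] [DecidableEq V] [AddCommGroup V] {χ : V → V → F}

/-- the Fourier matrix -/
def four (χ : V → V → F) : Matrix V V F := fun x y => χ x y

/-- the conjugate Fourier matrix -/
def fourBar (χ : V → V → F) : Matrix V V F := fun x y => χ x (-y)

theorem four_mul_hm (h : IsBichar χ) (hs : ∀ x y, χ x y = χ y x) (c : F) (j k : V) :
    four χ * hm χ c j k = hm χ (c * χ k (-j)) k (-j) * four χ := by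
  ext x y
  rw [Matrix.mul_apply, Matrix.mul_apply, Finset.sum_eq_single (y + k), Finset.sum_eq_single (x + j)]
  · rw [hm_apply, hm_apply, if_pos rfl, if_pos (by abel)]
    unfold four
    rw [h.add_right, h.add_left, h.add_right k x j, h.neg_right, hs k x]
    have := h.ne_zero k j
    field_simp
  · intro z _ hz
    rw [hm_apply, if_neg, zero_mul]
    intro h'
    apply hz
    rw [h']
    abel
  · intro hn
    exact absurd (Finset.mem_univ _) hn
  · intro z _ hz
    rw [hm_apply, if_neg hz, mul_zero]
  · intro hn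
    exact absurd (Finset.mem_univ _) hn

theorem four_mul_fourBar (h : IsBichar χ) (hs : ∀ x y, χ x y = χ y x) (hnd : NondegR χ) :
    four χ * fourBar χ = (Fintype.card V : F) • (1 : Matrix V V F) := by
  ext x y
  rw [Matrix.mul_apply, Matrix.smul_apply, Matrix.one_apply, smul_eq_mul]
  unfold four fourBar
  have h1 : ∀ z, χ x z * χ z (-y) = χ z (x - y) := by
    intro z
    rw [hs x z, sub_eq_add_neg, h.add_right]
  simp only [h1]
  rw [sum_char h hnd]
  by_cases hxy : x = y
  · subst hxy
    rw [if_pos (sub_self x), if_pos rfl, mul_one]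
  · rw [if_neg (sub_ne_zero.mpr hxy), if_neg hxy, mul_zero]

theorem fourBar_mul_four (h : IsBichar χ) (hs : ∀ x y, χ x y = χ y x) (hnd : NondegR χ) :
    fourBar χ * four χ = (Fintype.card V : F) • (1 : Matrix V V F) := by
  ext x y
  rw [Matrix.mul_apply, Matrix.smul_apply, Matrix.one_apply, smul_eq_mul]
  unfold four fourBar
  have h1 : ∀ z, χ x (-z) * χ z y = χ z (y - x) := by
    intro z
    rw [h.neg_right, hs x z, ← h.neg_right, hs z y, hs z (-x), ← h.add_left, hs, add_comm, ← sub_eq_add_neg]
  simp only [h1]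
  rw [sum_char h hnd]
  by_cases hxy : x = y
  · subst hxy
    rw [if_pos (sub_self x), if_pos rfl, mul_one]
  · rw [if_neg (sub_ne_zero.mpr (Ne.symm hxy)), if_neg hxy, mul_zero]

/-- the Fourier matrix as an invertible matrix -/
noncomputable def fourUnit (h : IsBichar χ) (hs : ∀ x y, χ x y = χ y x) (hnd : NondegR χ)
    (hcard : (Fintype.card V : F) ≠ 0) : GL V F :=
  ⟨four χ, (Fintype.card V : F)⁻¹ • fourBar χ,
    by rw [Matrix.mul_smul, four_mul_fourBar h hs hnd, smul_smul, inv_mul_cancel₀ hcard, one_smul],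
    by rw [Matrix.smul_mul, fourBar_mul_four h hs hnd, smul_smul, inv_mul_cancel₀ hcard, one_smul]⟩

theorem fourUnit_val (h : IsBichar χ) (hs : ∀ x y, χ x y = χ y x) (hnd : NondegR χ)
    (hcard : (Fintype.card V : F) ≠ 0) : ((fourUnit h hs hnd hcard : GL V F) : Matrix V V F) = four χ := rfl

/-! ### group-theoretic lemmas -/

/-- a characteristic abelian subgroup is central if every non-central element is moved off its centraliser by some
automorphism -/
theorem le_center_of_moves {R : Type*} [Group R] (A : Subgroup R) (hA : A.Characteristic)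
    (hAc : IsMulCommutative A)
    (hmove : ∀ g : R, g ∉ Subgroup.center R → ∃ φ : R ≃* R, φ g * g ≠ g * φ g) :
    A ≤ Subgroup.center R := by
  intro g hg
  by_contra hgc
  obtain ⟨φ, hφ⟩ := hmove g hgc
  have h1 : φ g ∈ A := by
    have h2 := hA.fixed φ
    have h3 : g ∈ A.comap φ.toMonoidHom := by rw [h2]; exact hg
    exact h3
  apply hφ
  have h4 := hAc.is_comm.comm ⟨φ g, h1⟩ ⟨g, hg⟩
  exact congrArg Subtype.val h4

/-- conjugation by a normalising element as an automorphism of the subgroup -/
def conjAut {G : Type*} [Group G] (R : Subgroup G) (N : G) (h1 : ∀ g ∈ R, N * g * N⁻¹ ∈ R)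
    (h2 : ∀ g ∈ R, N⁻¹ * g * N ∈ R) : R ≃* R where
  toFun g := ⟨N * g * N⁻¹, h1 g g.2⟩
  invFun g := ⟨N⁻¹ * g * N, h2 g g.2⟩
  left_inv g := by
    apply Subtype.ext
    simp only
    group
  right_inv g := by
    apply Subtype.ext
    simp only
    group
  map_mul' a b := by
    apply Subtype.ext
    simp only [Subgroup.coe_mul]
    group

theorem conjAut_apply {G : Type*} [Group G] (R : Subgroup G) (N : G) (h1 : ∀ g ∈ R, N * g * N⁻¹ ∈ R)
    (h2 : ∀ g ∈ R, N⁻¹ * g * N ∈ R) (g : R) : ((conjAut R N h1 h2 g : R) : G) = N * g * N⁻¹ := rfl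

end Cfsg.Agent.Lib.Helper24.Heis
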