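import Mathlib
import Cfsg.Prelude.Def_GeometricClasses
import Cfsg.Agent.Lib.Helper13.TensorNM
import Cfsg.Agent.Lib.Helper13.TensorHerm
import Cfsg.Agent.Lib.Helper24.Heis
import Cfsg.Agent.Lib.Helper24.HeisGroup
import Cfsg.Agent.Lib.Helper24.HeisCard
import Cfsg.Agent.Lib.Helper24.Heis3
import Cfsg.Agent.Lib.Helper24.HeisFourier

/-!
# The extraspecial group `3^(1+4) = R243 ≤ GL_9(F_4)` is of symplectic type (helper24; S5663, piece K2 of U4T-92)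
-/

set_option autoImplicit false

namespace Cfsg.Agent.Lib.Helper24.Heis

open Matrix Cfsg Cfsg.Geo Cfsg.Agent.Lib.Helper13.TNM
open scoped Kronecker

variable {F : Type*} [Field F]

theorem pow_three_of_root {ω : F} (hω : ω ^ 2 + ω + 1 = 0) : ω ^ 3 = 1 := by
  have : ω ^ 3 - 1 = (ω - 1) * (ω ^ 2 + ω + 1) := by ring
  rw [hω, mul_zero] at this
  exact sub_eq_zero.mp this

theorem ne_one_of_root (h2 : (2 : F) = 0) {ω : F} (hω : ω ^ 2 + ω + 1 = 0) : ω ≠ 1 := by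
  rintro rfl
  have h3 : (3 : F) = 0 := by linear_combination hω
  have h1 : (1 : F) = 0 := by linear_combination h3 - h2
  exact one_ne_zero h1

theorem chi3_neg_self (ω : F) (j : Fin 3) : chi3 ω j (-j) = if j = 0 then 1 else ω ^ 2 := by
  have key : ∀ j : Fin 3, (((j * -j : Fin 3) : ℕ)) = if j = 0 then 0 else 2 := by decide
  unfold chi3
  rw [key]
  split_ifs <;> simp

theorem chi3_self (ω : F) (k : Fin 3) : chi3 ω k k = if k = 0 then 1 else ω := by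
  have key : ∀ k : Fin 3, (((k * k : Fin 3) : ℕ)) = if k = 0 then 0 else 1 := by decide
  unfold chi3
  rw [key]
  split_ifs <;> simp

/-- the key arithmetic fact: `-1` is not a square modulo `3` -/
theorem chi3_move {ω : F} (hω : ω ^ 3 = 1) (h1 : ω ≠ 1) (j k : Fin 3)
    (h : chi3 ω j (-j) = chi3 ω k k) : j = 0 ∧ k = 0 := by
  have h0 := ne_zero_of_pow_three hω
  have h2 : ω ^ 2 ≠ 1 := by
    intro h'
    apply h1
    have : ω = ω ^ 3 * (ω ^ 2)⁻¹ := by field_simp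
    rw [this, hω, h', inv_one, mul_one]
  have h3 : ω ^ 2 ≠ ω := by
    intro h'
    apply h1
    have h4 : ω * (ω - 1) = 0 := by linear_combination h'
    rcases mul_eq_zero.mp h4 with h5 | h5
    · exact absurd h5 h0
    · exact sub_eq_zero.mp h5
  rw [chi3_neg_self, chi3_self] at h
  by_cases hj : j = 0
  · by_cases hk : k = 0
    · exact ⟨hj, hk⟩
    · rw [if_pos hj, if_neg hk] at h
      exact absurd h.symm h1
  · by_cases hk : k = 0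
    · rw [if_neg hj, if_pos hk] at h
      exact absurd h h2
    · rw [if_neg hj, if_neg hk] at h
      exact absurd h h3

section moves

variable {ω : F} (hω : ω ^ 3 = 1) (h1 : ω ≠ 1) (hcard : ((Fintype.card (Fin 3) : ℕ) : F) ≠ 0)

/-- the Fourier matrix of `ℤ/3` -/
noncomputable def phi3 : GL (Fin 3) F :=
  fourUnit (isBichar_chi3 hω) (chi3_symm ω) (nondegR_chi3 hω h1) hcard

/-- the partial Fourier transform on the first factor -/
noncomputable def N1 : GL (Fin 3 × Fin 3) F := kronGL (phi3 hω h1 hcard) 1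

/-- the partial Fourier transform on the second factor -/
noncomputable def N2 : GL (Fin 3 × Fin 3) F := kronGL 1 (phi3 hω h1 hcard)

theorem N1_mul_hm (c : F) (j k : Fin 3 × Fin 3) :
    ((N1 hω h1 hcard : GL (Fin 3 × Fin 3) F) : Matrix (Fin 3 × Fin 3) (Fin 3 × Fin 3) F) * hm (chi9 ω) c j k =
      hm (chi9 ω) (c * chi3 ω k.1 (-j.1)) (k.1, j.2) (-j.1, k.2) *
        ((N1 hω h1 hcard : GL (Fin 3 × Fin 3) F) : Matrix (Fin 3 × Fin 3) (Fin 3 × Fin 3) F) := by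
  obtain ⟨j₁, j₂⟩ := j
  obtain ⟨k₁, k₂⟩ := k
  have e1 : hm (chi9 ω) c (j₁, j₂) (k₁, k₂) = hm (chi3 ω) c j₁ k₁ ⊗ₖ hm (chi3 ω) 1 j₂ k₂ := by
    rw [hm_kron, mul_one]
    rfl
  have e2 : hm (chi9 ω) (c * chi3 ω k₁ (-j₁)) (k₁, j₂) (-j₁, k₂) =
      hm (chi3 ω) (c * chi3 ω k₁ (-j₁)) k₁ (-j₁) ⊗ₖ hm (chi3 ω) 1 j₂ k₂ := by
    rw [hm_kron, mul_one]
    rfl
  unfold N1
  rw [kronGL_val, e1, e2, ← Matrix.mul_kronecker_mul, ← Matrix.mul_kronecker_mul, Units.val_one, Matrix.one_mul,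
    Matrix.mul_one]
  unfold phi3
  rw [fourUnit_val, four_mul_hm (isBichar_chi3 hω) (chi3_symm ω)]

theorem N2_mul_hm (c : F) (j k : Fin 3 × Fin 3) :
    ((N2 hω h1 hcard : GL (Fin 3 × Fin 3) F) : Matrix (Fin 3 × Fin 3) (Fin 3 × Fin 3) F) * hm (chi9 ω) c j k =
      hm (chi9 ω) (c * chi3 ω k.2 (-j.2)) (j.1, k.2) (k.1, -j.2) *
        ((N2 hω h1 hcard : GL (Fin 3 × Fin 3) F) : Matrix (Fin 3 × Fin 3) (Fin 3 × Fin 3) F) := by
  obtain ⟨j₁, j₂⟩ := j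
  obtain ⟨k₁, k₂⟩ := k
  have e1 : hm (chi9 ω) c (j₁, j₂) (k₁, k₂) = hm (chi3 ω) 1 j₁ k₁ ⊗ₖ hm (chi3 ω) c j₂ k₂ := by
    rw [hm_kron, one_mul]
    rfl
  have e2 : hm (chi9 ω) (c * chi3 ω k₂ (-j₂)) (j₁, k₂) (k₁, -j₂) =
      hm (chi3 ω) 1 j₁ k₁ ⊗ₖ hm (chi3 ω) (c * chi3 ω k₂ (-j₂)) k₂ (-j₂) := by
    rw [hm_kron, one_mul]
    rfl
  unfold N2
  rw [kronGL_val, e1, e2, ← Matrix.mul_kronecker_mul, ← Matrix.mul_kronecker_mul, Units.val_one, Matrix.one_mul,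
    Matrix.mul_one]
  unfold phi3
  rw [fourUnit_val, four_mul_hm (isBichar_chi3 hω) (chi3_symm ω)]

end moves

/-- a matrix intertwining the Heisenberg matrices bijectively normalises the Heisenberg group `R243` -/
theorem conj_mem_R243 {ω : F} (hω : ω ^ 3 = 1) (N : GL (Fin 3 × Fin 3) F)
    (mv : (Fin 3 × Fin 3) × (Fin 3 × Fin 3) → (Fin 3 × Fin 3) × (Fin 3 × Fin 3))
    (d : (Fin 3 × Fin 3) → (Fin 3 × Fin 3) → F) (hd : ∀ j k, d j k ≠ 0)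
    (hN : ∀ (c : F) (j k : Fin 3 × Fin 3), (N : Matrix (Fin 3 × Fin 3) (Fin 3 × Fin 3) F) * hm (chi9 ω) c j k =
      hm (chi9 ω) (c * d j k) (mv (j, k)).1 (mv (j, k)).2 * (N : Matrix (Fin 3 × Fin 3) (Fin 3 × Fin 3) F))
    (g : GL (Fin 3 × Fin 3) F) (hg : g ∈ R243 hω) : N * g * N⁻¹ ∈ R243 hω := by
  obtain ⟨c, -, j, k, hgv⟩ := hg
  have hne : (c : F) * d j k ≠ 0 := mul_ne_zero c.ne_zero (hd j k)
  refine ⟨Units.mk0 _ hne, Subgroup.mem_top _, (mv (j, k)).1, (mv (j, k)).2, ?_⟩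
  rw [Units.val_mul, Units.val_mul, hgv, hN, mul_assoc, ← Units.val_mul, mul_inv_cancel, Units.val_one, mul_one]
  rfl

theorem conj_inv_mem_R243 {ω : F} (hω : ω ^ 3 = 1) (N : GL (Fin 3 × Fin 3) F)
    (mv : (Fin 3 × Fin 3) × (Fin 3 × Fin 3) → (Fin 3 × Fin 3) × (Fin 3 × Fin 3))
    (hmv : Function.Surjective mv)
    (d : (Fin 3 × Fin 3) → (Fin 3 × Fin 3) → F) (hd : ∀ j k, d j k ≠ 0)
    (hN : ∀ (c : F) (j k : Fin 3 × Fin 3), (N : Matrix (Fin 3 × Fin 3) (Fin 3 × Fin 3) F) * hm (chi9 ω) c j k =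
      hm (chi9 ω) (c * d j k) (mv (j, k)).1 (mv (j, k)).2 * (N : Matrix (Fin 3 × Fin 3) (Fin 3 × Fin 3) F))
    (g : GL (Fin 3 × Fin 3) F) (hg : g ∈ R243 hω) : N⁻¹ * g * N ∈ R243 hω := by
  obtain ⟨c, -, j, k, hgv⟩ := hg
  obtain ⟨⟨j', k'⟩, hjk⟩ := hmv (j, k)
  have hne : (c : F) * (d j' k')⁻¹ ≠ 0 := mul_ne_zero c.ne_zero (inv_ne_zero (hd j' k'))
  refine ⟨Units.mk0 _ hne, Subgroup.mem_top _, j', k', ?_⟩
  have h1 := hN ((c : F) * (d j' k')⁻¹) j' k'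
  rw [hjk, mul_assoc, inv_mul_cancel₀ (hd j' k'), mul_one] at h1
  -- `N * hm c' j' k' = hm c j k * N`
  rw [Units.val_mul, Units.val_mul, hgv]
  change ((N⁻¹ : GL (Fin 3 × Fin 3) F) : Matrix (Fin 3 × Fin 3) (Fin 3 × Fin 3) F) * hm (chi9 ω) (c : F) j k *
    (N : Matrix (Fin 3 × Fin 3) (Fin 3 × Fin 3) F) = hm (chi9 ω) ((c : F) * (d j' k')⁻¹) j' k'
  rw [mul_assoc, ← h1, ← mul_assoc, ← Units.val_mul, inv_mul_cancel, Units.val_one, one_mul]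

end Cfsg.Agent.Lib.Helper24.Heis
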