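import Mathlib
import Cfsg.Prelude.Def_GeometricClasses
import Cfsg.Agent.Lib.Helper24.Heis243

/-!
# `R243 = 3^(1+4) ≤ GL_9(F_4)`: symplectic type, order, centre, absolute irreducibility (helper24; S5663 K2)
-/

set_option autoImplicit false

namespace Cfsg.Agent.Lib.Helper24.Heis

open Matrix Cfsg Cfsg.Geo Cfsg.Agent.Lib.Helper13.TNM
open scoped Kronecker

section generic

variable {F : Type*} [Field F] {V : Type} [Fintype V] [DecidableEq V] [AddCommGroup V] {χ : V → V → F}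

/-- commuting Heisenberg matrices -/
theorem hm_commute_imp (h : IsBichar χ) (hndL : NondegL χ) {c c' : F} (hc : c ≠ 0) (hc' : c' ≠ 0)
    {j k j' k' : V} (heq : hm χ c j k * hm χ c' j' k' = hm χ c' j' k' * hm χ c j k) : χ j k' = χ j' k := by
  rw [hm_mul h, hm_mul h, add_comm j' j, add_comm k' k] at heq
  have h1 := (hm_injective h hndL (mul_ne_zero (mul_ne_zero hc hc') (h.ne_zero j k')) heq).1
  have h2 : c * c' * (χ j k' - χ j' k) = 0 := by linear_combination h1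
  rcases mul_eq_zero.mp h2 with h3 | h3
  · exact absurd h3 (mul_ne_zero hc hc')
  · exact sub_eq_zero.mp h3

end generic

variable {F : Type*} [Field F]

/-- the value of a conjugate -/
theorem conj_val243 {ω : F} (N : GL (Fin 3 × Fin 3) F)
    (mv : (Fin 3 × Fin 3) × (Fin 3 × Fin 3) → (Fin 3 × Fin 3) × (Fin 3 × Fin 3))
    (d : (Fin 3 × Fin 3) → (Fin 3 × Fin 3) → F)
    (hN : ∀ (c : F) (j k : Fin 3 × Fin 3), (N : Matrix (Fin 3 × Fin 3) (Fin 3 × Fin 3) F) * hm (chi9 ω) c j k =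
      hm (chi9 ω) (c * d j k) (mv (j, k)).1 (mv (j, k)).2 * (N : Matrix (Fin 3 × Fin 3) (Fin 3 × Fin 3) F))
    (g : GL (Fin 3 × Fin 3) F) (c : F) (j k : Fin 3 × Fin 3)
    (hg : (g : Matrix (Fin 3 × Fin 3) (Fin 3 × Fin 3) F) = hm (chi9 ω) c j k) :
    ((N * g * N⁻¹ : GL (Fin 3 × Fin 3) F) : Matrix (Fin 3 × Fin 3) (Fin 3 × Fin 3) F) =
      hm (chi9 ω) (c * d j k) (mv (j, k)).1 (mv (j, k)).2 := by
  rw [Units.val_mul, Units.val_mul, hg, hN, mul_assoc, ← Units.val_mul, mul_inv_cancel, Units.val_one, mul_one]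

section moves

variable {ω : F} (hω : ω ^ 3 = 1) (h1 : ω ≠ 1) (hcard : ((Fintype.card (Fin 3) : ℕ) : F) ≠ 0)

/-- the index map of the first partial Fourier transform -/
def mv1 (p : (Fin 3 × Fin 3) × (Fin 3 × Fin 3)) : (Fin 3 × Fin 3) × (Fin 3 × Fin 3) :=
  ((p.2.1, p.1.2), (-p.1.1, p.2.2))

/-- the index map of the second partial Fourier transform -/
def mv2 (p : (Fin 3 × Fin 3) × (Fin 3 × Fin 3)) : (Fin 3 × Fin 3) × (Fin 3 × Fin 3) :=
  ((p.1.1, p.2.2), (p.2.1, -p.1.2))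

theorem mv1_surj : Function.Surjective mv1 := by
  rintro ⟨⟨a, b⟩, ⟨c, d⟩⟩
  exact ⟨((-c, b), (a, d)), by simp [mv1]⟩

theorem mv2_surj : Function.Surjective mv2 := by
  rintro ⟨⟨a, b⟩, ⟨c, d⟩⟩
  exact ⟨((a, -d), (c, b)), by simp [mv2]⟩

theorem N1_mul_hm' (c : F) (j k : Fin 3 × Fin 3) :
    ((N1 hω h1 hcard : GL (Fin 3 × Fin 3) F) : Matrix (Fin 3 × Fin 3) (Fin 3 × Fin 3) F) * hm (chi9 ω) c j k =
      hm (chi9 ω) (c * chi3 ω k.1 (-j.1)) (mv1 (j, k)).1 (mv1 (j, k)).2 *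
        ((N1 hω h1 hcard : GL (Fin 3 × Fin 3) F) : Matrix (Fin 3 × Fin 3) (Fin 3 × Fin 3) F) :=
  N1_mul_hm hω h1 hcard c j k

theorem N2_mul_hm' (c : F) (j k : Fin 3 × Fin 3) :
    ((N2 hω h1 hcard : GL (Fin 3 × Fin 3) F) : Matrix (Fin 3 × Fin 3) (Fin 3 × Fin 3) F) * hm (chi9 ω) c j k =
      hm (chi9 ω) (c * chi3 ω k.2 (-j.2)) (mv2 (j, k)).1 (mv2 (j, k)).2 *
        ((N2 hω h1 hcard : GL (Fin 3 × Fin 3) F) : Matrix (Fin 3 × Fin 3) (Fin 3 × Fin 3) F) :=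
  N2_mul_hm hω h1 hcard c j k

/-- conjugation by the first partial Fourier transform, as an automorphism of `R243` -/
noncomputable def aut1 : R243 hω ≃* R243 hω :=
  conjAut (R243 hω) (N1 hω h1 hcard)
    (conj_mem_R243 hω _ mv1 (fun j k => chi3 ω k.1 (-j.1)) (fun j k => (isBichar_chi3 hω).ne_zero _ _)
      (N1_mul_hm' hω h1 hcard))
    (conj_inv_mem_R243 hω _ mv1 mv1_surj (fun j k => chi3 ω k.1 (-j.1))
      (fun j k => (isBichar_chi3 hω).ne_zero _ _) (N1_mul_hm' hω h1 hcard))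

/-- conjugation by the second partial Fourier transform, as an automorphism of `R243` -/
noncomputable def aut2 : R243 hω ≃* R243 hω :=
  conjAut (R243 hω) (N2 hω h1 hcard)
    (conj_mem_R243 hω _ mv2 (fun j k => chi3 ω k.2 (-j.2)) (fun j k => (isBichar_chi3 hω).ne_zero _ _)
      (N2_mul_hm' hω h1 hcard))
    (conj_inv_mem_R243 hω _ mv2 mv2_surj (fun j k => chi3 ω k.2 (-j.2))
      (fun j k => (isBichar_chi3 hω).ne_zero _ _) (N2_mul_hm' hω h1 hcard))

theorem aut1_val (g : R243 hω) (c : F) (j k : Fin 3 × Fin 3)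
    (hg : ((g : GL (Fin 3 × Fin 3) F) : Matrix (Fin 3 × Fin 3) (Fin 3 × Fin 3) F) = hm (chi9 ω) c j k) :
    (((aut1 hω h1 hcard g : R243 hω) : GL (Fin 3 × Fin 3) F) : Matrix (Fin 3 × Fin 3) (Fin 3 × Fin 3) F) =
      hm (chi9 ω) (c * chi3 ω k.1 (-j.1)) (mv1 (j, k)).1 (mv1 (j, k)).2 := by
  unfold aut1
  rw [conjAut_apply]
  exact conj_val243 _ mv1 (fun j k => chi3 ω k.1 (-j.1)) (N1_mul_hm' hω h1 hcard) _ c j k hg

theorem aut2_val (g : R243 hω) (c : F) (j k : Fin 3 × Fin 3)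
    (hg : ((g : GL (Fin 3 × Fin 3) F) : Matrix (Fin 3 × Fin 3) (Fin 3 × Fin 3) F) = hm (chi9 ω) c j k) :
    (((aut2 hω h1 hcard g : R243 hω) : GL (Fin 3 × Fin 3) F) : Matrix (Fin 3 × Fin 3) (Fin 3 × Fin 3) F) =
      hm (chi9 ω) (c * chi3 ω k.2 (-j.2)) (mv2 (j, k)).1 (mv2 (j, k)).2 := by
  unfold aut2
  rw [conjAut_apply]
  exact conj_val243 _ mv2 (fun j k => chi3 ω k.2 (-j.2)) (N2_mul_hm' hω h1 hcard) _ c j k hg

include h1 hcard in
/-- every non-central element of `R243` is moved off its centraliser by one of the two partial Fourier transforms -/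
theorem R243_moves (g : R243 hω) (hg : g ∉ Subgroup.center (R243 hω)) :
    ∃ φ : R243 hω ≃* R243 hω, φ g * g ≠ g * φ g := by
  obtain ⟨c, -, j, k, hgv⟩ := g.2
  have hb := isBichar_chi9 hω
  have hL := nondegL_chi9 hω h1
  have hc0 : (c : F) ≠ 0 := c.ne_zero
  by_cases h00 : (j.1 = 0 ∧ k.1 = 0) ∧ (j.2 = 0 ∧ k.2 = 0)
  · exfalso
    apply hg
    have hj : j = 0 := Prod.ext h00.1.1 h00.2.1
    have hk : k = 0 := Prod.ext h00.1.2 h00.2.2
    refine (mem_center_heis_iff hb hL (nondegR_chi9 hω h1) ⊤ (values_mem_top hb.ne_zero) g).mpr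
      ⟨c, Subgroup.mem_top _, ?_⟩
    rw [hgv, hj, hk, hm_scalar hb]
  · rw [not_and_or] at h00
    rcases h00 with h00 | h00
    · refine ⟨aut1 hω h1 hcard, fun heq => h00 ?_⟩
      have h2 := congrArg (fun x : R243 hω => ((x : GL (Fin 3 × Fin 3) F) : Matrix (Fin 3 × Fin 3) (Fin 3 × Fin 3) F)) heq
      simp only [Subgroup.coe_mul, Units.val_mul] at h2
      rw [aut1_val hω h1 hcard g c j k hgv, hgv] at h2
      have h3 := hm_commute_imp hb hL (mul_ne_zero hc0 ((isBichar_chi3 hω).ne_zero _ _)) hc0 h2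
      -- `χ (k₁, j₂) k = χ j (-j₁, k₂)`
      unfold chi9 prodChar mv1 at h3
      simp only at h3
      have h4 : chi3 ω k.1 k.1 = chi3 ω j.1 (-j.1) := by
        have h5 := (isBichar_chi3 hω).ne_zero j.2 k.2
        exact mul_right_cancel₀ h5 h3
      exact chi3_move hω h1 _ _ h4.symm
    · refine ⟨aut2 hω h1 hcard, fun heq => h00 ?_⟩
      have h2 := congrArg (fun x : R243 hω => ((x : GL (Fin 3 × Fin 3) F) : Matrix (Fin 3 × Fin 3) (Fin 3 × Fin 3) F)) heq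
      simp only [Subgroup.coe_mul, Units.val_mul] at h2
      rw [aut2_val hω h1 hcard g c j k hgv, hgv] at h2
      have h3 := hm_commute_imp hb hL (mul_ne_zero hc0 ((isBichar_chi3 hω).ne_zero _ _)) hc0 h2
      unfold chi9 prodChar mv2 at h3
      simp only at h3
      have h4 : chi3 ω k.2 k.2 = chi3 ω j.2 (-j.2) := by
        have h5 := (isBichar_chi3 hω).ne_zero j.1 k.1
        exact mul_left_cancel₀ h5 h3
      exact chi3_move hω h1 _ _ h4.symm

end moves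

end Cfsg.Agent.Lib.Helper24.Heis
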