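import Mathlib
import Cfsg.Prelude.Def_GeometricClasses
import Cfsg.Agent.Lib.Helper24.Heis243b

/-!
# `R243 = 3^(1+4) ≤ GL_9(F_4)` is of symplectic type (helper24; S5663 K2, final part)
-/

set_option autoImplicit false

namespace Cfsg.Agent.Lib.Helper24.Heis

open Matrix Cfsg Cfsg.Geo Cfsg.Agent.Lib.Helper13.TNM
open scoped Kronecker

variable {F : Type*} [Field F] [Fintype F]

theorem two_eq_zero_of_card (hF : Fintype.card F = 4) : (2 : F) = 0 := by
  have h := Nat.cast_card_eq_zero F
  rw [hF] at h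
  have h4 : (4 : F) = 2 * 2 := by norm_num
  have h5 : (2 : F) * 2 = 0 := by
    rw [← h4]
    exact_mod_cast h
  rcases mul_eq_zero.mp h5 with h6 | h6 <;> exact h6

theorem card_units_of_card (hF : Fintype.card F = 4) : Nat.card Fˣ = 3 := by
  rw [Nat.card_units, Nat.card_eq_fintype_card, hF]

theorem card_top_units (hF : Fintype.card F = 4) : Nat.card (⊤ : Subgroup Fˣ) = 3 := by
  rw [Subgroup.card_top, card_units_of_card hF]

theorem units_pow_three (hF : Fintype.card F = 4) (c : Fˣ) : c ^ 3 = 1 := by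
  rw [← card_units_of_card hF]
  exact pow_card_eq_one'

theorem three_ne_zero_of_card (hF : Fintype.card F = 4) : ((Fintype.card (Fin 3) : ℕ) : F) ≠ 0 := by
  have h2 := two_eq_zero_of_card hF
  rw [Fintype.card_fin]
  intro h3
  have h3' : (3 : F) = 0 := by exact_mod_cast h3
  have : (1 : F) = 0 := by linear_combination h3' - h2
  exact one_ne_zero this

theorem nine_ne_zero_of_card (hF : Fintype.card F = 4) : ((Fintype.card (Fin 3 × Fin 3) : ℕ) : F) ≠ 0 := by
  have h2 := two_eq_zero_of_card hF
  rw [Fintype.card_prod, Fintype.card_fin]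
  intro h9
  have h9' : (9 : F) = 0 := by exact_mod_cast h9
  have : (1 : F) = 0 := by linear_combination h9' - 4 * h2
  exact one_ne_zero this

variable {ω : F}

theorem card_R243 (hF : Fintype.card F = 4) (hω : ω ^ 3 = 1) (h1 : ω ≠ 1) : Nat.card (R243 hω) = 243 := by
  unfold R243
  rw [card_heisGroup (isBichar_chi9 hω) (nondegL_chi9 hω h1), card_top_units hF, Fintype.card_prod, Fintype.card_fin]

theorem card_center_R243 (hF : Fintype.card F = 4) (hω : ω ^ 3 = 1) (h1 : ω ≠ 1) :
    Nat.card (Subgroup.center (R243 hω)) = 3 := by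
  unfold R243
  rw [card_center_heisGroup (isBichar_chi9 hω) (nondegL_chi9 hω h1) (nondegR_chi9 hω h1), card_top_units hF]

theorem absIrred_R243 (hF : Fintype.card F = 4) (hω : ω ^ 3 = 1) (h1 : ω ≠ 1) :
    ActsAbsolutelyIrreducibly (matrixSet (R243 hω)) :=
  heis_absIrred (isBichar_chi9 hω) (nondegR_chi9 hω h1) (nine_ne_zero_of_card hF) ⊤ _

theorem R243_pow_three (hF : Fintype.card F = 4) (hω : ω ^ 3 = 1) (g : GL (Fin 3 × Fin 3) F) (hg : g ∈ R243 hω) :
    g ^ 3 = 1 := by
  refine heis_pow_eq_one (isBichar_chi9 hω) ⊤ _ 3 (by decide) ?_ (fun c _ => units_pow_three hF c) g hg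
  intro v
  revert v
  decide

theorem isSymplecticTypeGroup_R243 (hF : Fintype.card F = 4) (hω : ω ^ 3 = 1) (h1 : ω ≠ 1) :
    IsSymplecticTypeGroup 3 (R243 hω) := by
  have hcard := card_R243 hF hω h1
  have hfin : Finite (R243 hω) := Nat.finite_of_card_ne_zero (by rw [hcard]; norm_num)
  refine ⟨Nat.prime_three, IsPGroup.of_card (n := 5) (by rw [hcard]; norm_num), ?_, ?_⟩
  · intro A hA hAc
    have hle : A ≤ Subgroup.center (R243 hω) :=
      le_center_of_moves A hA hAc (R243_moves hω h1 (three_ne_zero_of_card hF))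
    have hdvd : Nat.card A ∣ 3 := by
      have h5 := Subgroup.card_dvd_of_le hle
      rwa [card_center_R243 hF hω h1] at h5
    rcases (Nat.dvd_prime Nat.prime_three).mp hdvd with h | h
    · haveI : Subsingleton A := (Nat.card_eq_one_iff_unique.mp h).1
      exact isCyclic_of_subsingleton
    · haveI : Fact (Nat.Prime 3) := ⟨Nat.prime_three⟩
      exact isCyclic_of_prime_card h
  · have h3 : Monoid.exponent (R243 hω) ∣ 3 := by
      apply Monoid.exponent_dvd_of_forall_pow_eq_one
      intro g
      apply Subtype.ext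
      rw [Subgroup.coe_pow, Subgroup.coe_one]
      exact R243_pow_three hF hω g g.2
    have hne : Monoid.exponent (R243 hω) ≠ 1 := by
      intro h
      rw [Monoid.exp_eq_one_iff] at h
      have := Nat.card_eq_one_iff_unique.mpr ⟨h, ⟨1⟩⟩
      rw [hcard] at this
      norm_num at this
    rcases (Nat.dvd_prime Nat.prime_three).mp h3 with h | h
    · exact absurd h hne
    · rw [h]
      norm_num

end Cfsg.Agent.Lib.Helper24.Heis
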