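import Mathlib
import Cfsg.Prelude.Def_GeometricClasses
import Cfsg.Agent.Lib.Helper24.Heis243c

/-!
# S5663, U4T-92: linear-algebra lemmas for the corner `(n, q) = (9, 2)` (helper24)

* `kron_eq_one`: `X ⊗ₖ Y = 1` forces `X = a • 1`, `Y = a⁻¹ • 1`;
* `hm_unitary`: a Heisenberg matrix whose character values have norm one is a unitary similitude;
* `exists_omega`: a field with four elements has a root of `X² + X + 1`;
* `kron_conj_mem`: a Kronecker product of two unitary similitudes of `F_4³` normalises `R243 = 3^(1+4)`, given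
  that every unitary similitude of `F_4³` normalises the Heisenberg matrices (`K1`).
-/

set_option autoImplicit false

namespace Cfsg.Agent.Lib.Helper24.U92

open Matrix Cfsg Cfsg.Geo Cfsg.Agent.Lib.Helper13.TNM Cfsg.Agent.Lib.Helper24.Heis
open scoped Kronecker

variable {F : Type*} [Field F]

/-- Kronecker uniqueness at the identity -/
theorem kron_eq_one {m n : Type} [DecidableEq m] [DecidableEq n] [Nonempty m] [Nonempty n]
    (X : Matrix m m F) (Y : Matrix n n F) (h : X ⊗ₖ Y = 1) :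
    ∃ a : F, a ≠ 0 ∧ X = a • (1 : Matrix m m F) ∧ Y = a⁻¹ • (1 : Matrix n n F) := by
  obtain ⟨i₀⟩ := ‹Nonempty m›
  obtain ⟨k₀⟩ := ‹Nonempty n›
  have hent : ∀ i j k l, X i j * Y k l = if (i, k) = (j, l) then 1 else 0 := by
    intro i j k l
    have := congrFun (congrFun h (i, k)) (j, l)
    rwa [Matrix.kroneckerMap_apply, Matrix.one_apply] at this
  have h00 : X i₀ i₀ * Y k₀ k₀ = 1 := by
    rw [hent, if_pos rfl]
  have ha : X i₀ i₀ ≠ 0 := left_ne_zero_of_mul_eq_one h00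
  have hb : Y k₀ k₀ = (X i₀ i₀)⁻¹ := eq_inv_of_mul_eq_one_right h00
  refine ⟨X i₀ i₀, ha, ?_, ?_⟩
  · ext i j
    rw [Matrix.smul_apply, Matrix.one_apply, smul_eq_mul]
    have h1 := hent i j k₀ k₀
    rw [hb] at h1
    by_cases hij : i = j
    · subst hij
      rw [if_pos rfl] at h1
      rw [if_pos rfl, mul_one]
      field_simp at h1
      exact h1
    · rw [if_neg (by intro h'; exact hij (Prod.ext_iff.mp h').1)] at h1
      rw [if_neg hij, mul_zero]
      rcases mul_eq_zero.mp h1 with h2 | h2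
      · exact h2
      · exact absurd h2 (inv_ne_zero ha)
  · ext k l
    rw [Matrix.smul_apply, Matrix.one_apply, smul_eq_mul]
    have h1 := hent i₀ i₀ k l
    by_cases hkl : k = l
    · subst hkl
      rw [if_pos rfl] at h1
      rw [if_pos rfl, mul_one]
      exact eq_inv_of_mul_eq_one_right h1
    · rw [if_neg (by intro h'; exact hkl (Prod.ext_iff.mp h').2)] at h1
      rw [if_neg hkl, mul_zero]
      rcases mul_eq_zero.mp h1 with h2 | h2
      · exact absurd h2 ha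
      · exact h2

/-- a Heisenberg matrix whose character values have norm one is a unitary similitude -/
theorem hm_unitary {V : Type} [Fintype V] [DecidableEq V] [AddCommGroup V] (σ : F → F) (h0 : σ 0 = 0)
    (hmul : ∀ a b, σ (a * b) = σ a * σ b) (χ : V → V → F) (hχ : ∀ j y, χ j y * σ (χ j y) = 1) (c : F) (j k : V) :
    (hm χ c j k)ᵀ * (hm χ c j k).map σ = (c * σ c) • (1 : Matrix V V F) := by
  ext x z
  rw [Matrix.mul_apply, Finset.sum_eq_single (x + k)]
  · rw [Matrix.transpose_apply, Matrix.map_apply, hm_apply, hm_apply, if_pos rfl, Matrix.smul_apply,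
      Matrix.one_apply, smul_eq_mul]
    by_cases hxz : x = z
    · subst hxz
      rw [if_pos rfl, if_pos rfl, hmul, mul_one]
      linear_combination (c * σ c) * hχ j x
    · rw [if_neg (by intro h; exact hxz (add_right_cancel h)), if_neg hxz, h0, mul_zero, mul_zero]
  · intro y _ hy
    rw [Matrix.transpose_apply, hm_apply, if_neg hy, zero_mul]
  · intro hn
    exact absurd (Finset.mem_univ _) hn

/-- the values of `chi9` have norm one for `x ↦ x ^ 2` -/
theorem chi3_norm {ω : F} (hω : ω ^ 3 = 1) (j y : Fin 3) : chi3 ω j y * (chi3 ω j y) ^ 2 = 1 := by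
  unfold chi3
  rw [← pow_succ', ← pow_mul, mul_comm, pow_mul, hω, one_pow]

theorem chi9_norm {ω : F} (hω : ω ^ 3 = 1) (j y : Fin 3 × Fin 3) : chi9 ω j y * (chi9 ω j y) ^ 2 = 1 := by
  unfold chi9 prodChar
  rw [mul_pow]
  linear_combination (chi3 ω j.2 y.2 * chi3 ω j.2 y.2 ^ 2) * chi3_norm hω j.1 y.1 + chi3_norm hω j.2 y.2

/-- a field with four elements has a primitive cube root of unity -/
theorem exists_omega [Fintype F] (hF : Fintype.card F = 4) : ∃ ω : F, ω ^ 2 + ω + 1 = 0 := by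
  have hcard : Nat.card Fˣ = 3 := card_units_of_card hF
  obtain ⟨u, hu⟩ : ∃ u : Fˣ, u ≠ 1 := by
    by_contra hcon
    push Not at hcon
    have hs : Subsingleton Fˣ := ⟨fun a b => by rw [hcon a, hcon b]⟩
    have := Nat.card_eq_one_iff_unique.mpr ⟨hs, ⟨1⟩⟩
    omega
  refine ⟨(u : F), ?_⟩
  have h3 : (u : F) ^ 3 = 1 := by
    have := congrArg Units.val (units_pow_three hF u)
    rwa [Units.val_pow_eq_pow_val, Units.val_one] at this
  have h1 : (u : F) ≠ 1 := fun h => hu (Units.ext h)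
  have : ((u : F) - 1) * ((u : F) ^ 2 + u + 1) = 0 := by linear_combination h3
  rcases mul_eq_zero.mp this with h | h
  · exact absurd (sub_eq_zero.mp h) h1
  · exact h

/-- the statement of piece `K1`: unitary similitudes of `F_4³` normalise the Heisenberg matrices -/
def K1 (F : Type*) [Field F] (ω : F) : Prop :=
  ∀ (A : Matrix (Fin 3) (Fin 3) F) (a : F), a ≠ 0 →
    Aᵀ * A.map (fun x => x ^ 2) = a • (1 : Matrix (Fin 3) (Fin 3) F) →
    ∀ (c : F), c ≠ 0 → ∀ j k : Fin 3,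
      ∃ (c' : F) (j' k' : Fin 3), c' ≠ 0 ∧ A * hm (chi3 ω) c j k = hm (chi3 ω) c' j' k' * A

/-- a Kronecker product of two unitary similitudes normalises `R243` -/
theorem kron_conj_mem {ω : F} (hω : ω ^ 3 = 1) (hK1 : K1 F ω) (A₁ A₂ : GL (Fin 3) F) (a₁ a₂ : F) (ha₁ : a₁ ≠ 0)
    (ha₂ : a₂ ≠ 0)
    (h₁ : (A₁ : Matrix (Fin 3) (Fin 3) F)ᵀ * (A₁ : Matrix (Fin 3) (Fin 3) F).map (fun x => x ^ 2) =
      a₁ • (1 : Matrix (Fin 3) (Fin 3) F))
    (h₂ : (A₂ : Matrix (Fin 3) (Fin 3) F)ᵀ * (A₂ : Matrix (Fin 3) (Fin 3) F).map (fun x => x ^ 2) =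
      a₂ • (1 : Matrix (Fin 3) (Fin 3) F))
    (g : GL (Fin 3 × Fin 3) F) (hg : g ∈ R243 hω) : kronGL A₁ A₂ * g * (kronGL A₁ A₂)⁻¹ ∈ R243 hω := by
  obtain ⟨c, -, ⟨j₁, j₂⟩, ⟨k₁, k₂⟩, hgv⟩ := hg
  obtain ⟨c₁, j₁', k₁', hc₁, e₁⟩ := hK1 A₁ a₁ ha₁ h₁ c c.ne_zero j₁ k₁
  obtain ⟨c₂, j₂', k₂', hc₂, e₂⟩ := hK1 A₂ a₂ ha₂ h₂ 1 one_ne_zero j₂ k₂
  refine ⟨Units.mk0 (c₁ * c₂) (mul_ne_zero hc₁ hc₂), Subgroup.mem_top _, (j₁', j₂'), (k₁', k₂'), ?_⟩
  have e3 : hm (chi9 ω) (c : F) (j₁, j₂) (k₁, k₂) = hm (chi3 ω) (c : F) j₁ k₁ ⊗ₖ hm (chi3 ω) 1 j₂ k₂ := by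
    rw [hm_kron, mul_one]
    rfl
  have e4 : hm (chi9 ω) (c₁ * c₂) (j₁', j₂') (k₁', k₂') = hm (chi3 ω) c₁ j₁' k₁' ⊗ₖ hm (chi3 ω) c₂ j₂' k₂' := by
    rw [hm_kron]
    rfl
  rw [Units.val_mul, Units.val_mul, hgv, Units.val_mk0, e3, e4, kronGL_val, ← Matrix.mul_kronecker_mul, e₁, e₂,
    Matrix.mul_kronecker_mul, ← kronGL_val, mul_assoc, ← Units.val_mul, mul_inv_cancel, Units.val_one, mul_one]

end Cfsg.Agent.Lib.Helper24.U92
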