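import Mathlib
import Cfsg.Prelude.Def_GeometricClasses
import Cfsg.Agent.Lib.Helper24.AschUDefs
import Cfsg.Agent.Lib.Helper24.AschU92a
import Cfsg.Agent.Lib.Helper12.S5781TR

/-!
# S5663, U4T-92: a subgroup of `GU_9(2)` preserving a tensor decomposition `3 ⊗ 3` of the form lies in the normaliser
of `3^(1+4)` (class 6) - standard-form version (helper24)
-/

set_option autoImplicit false

namespace Cfsg.Agent.Lib.Helper24.U92

open Matrix Cfsg Cfsg.Geo Cfsg.Agent.Lib.Helper13.TNM Cfsg.Agent.Lib.Helper24.Heis Cfsg.Agent.Lib.Helper24.AschU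
open Cfsg.Agent.Lib.Helper12.S5781TR
open scoped Kronecker

variable {F : Type*} [Field F] [Fintype F] {n : ℕ}

/-- the squaring map -/
def sq2 (x : F) : F := x ^ 2

theorem sq2_zero : sq2 (0 : F) = 0 := by unfold sq2; norm_num

theorem sq2_one : sq2 (1 : F) = 1 := by unfold sq2; norm_num

theorem sq2_mul (a b : F) : sq2 (a * b) = sq2 a * sq2 b := by unfold sq2; ring

theorem sq2_add (h2 : (2 : F) = 0) (a b : F) : sq2 (a + b) = sq2 a + sq2 b := by
  unfold sq2
  linear_combination (a * b) * h2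

/-- the form with Gram matrix a scalar -/
theorem fog_smul_one {κ : Type} [Fintype κ] [DecidableEq κ] (σ : F → F) (a : F) (x y : κ → F) :
    formOfGram σ (a • (1 : Matrix κ κ F)) x y = a * formOfGram σ 1 x y := by
  unfold formOfGram
  rw [Finset.mul_sum]
  apply Finset.sum_congr rfl
  intro i _
  rw [Finset.mul_sum]
  apply Finset.sum_congr rfl
  intro k _
  rw [Matrix.smul_apply, smul_eq_mul]
  ring

theorem inClassU_of_tensor33_std (hF : Fintype.card F = 4) (ω : F) (hω : ω ^ 2 + ω + 1 = 0) (hK1 : K1 F ω)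
    (H : Subgroup (GL (Fin n) F)) (hHU : H ≤ GU n F 2) (e : Fin n ≃ Fin 3 × Fin 3) (P : GL (Fin n) F) (c : F)
    (hc : c ≠ 0)
    (hstd : ∀ x y : Fin 3 × Fin 3 → F,
      hermForm n F 2 (TT e P x) (TT e P y) = c * formOfGram (fun x : F => x ^ 2) 1 x y)
    (hH : H ≤ tensorProductSubgroup 3 3 e P) : InClassU n 2 H := by
  have h2 : (2 : F) = 0 := two_eq_zero_of_card hF
  have hω3 : ω ^ 3 = 1 := pow_three_of_root hω
  have h1 : ω ≠ 1 := ne_one_of_root h2 hω
  have hσ : (fun x : F => x ^ 2) = sq2 := rfl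
  rw [hσ] at hstd
  -- the group
  let R₀ : Subgroup (GL (Fin 3 × Fin 3) F) := R243 hω3
  let R : Subgroup (GL (Fin n) F) := R₀.map (psi e P)
  let E : R₀ ≃* R := R₀.equivMapOfInjective (psi e P) (psi_injective e P)
  have hsymp : IsSymplecticTypeGroup 3 R :=
    symplecticTypeGroup_of_mulEquiv E (isSymplecticTypeGroup_R243 hF hω3 h1)
  have habs : ActsAbsolutelyIrreducibly (matrixSet R) := absIrred_map e P R₀ (absIrred_R243 hF hω3 h1)
  have hcardR : Nat.card R = 243 := by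
    rw [← Nat.card_congr E.toEquiv]
    exact card_R243 hF hω3 h1
  have hcardZ : Nat.card (Subgroup.center R) = 3 := by
    rw [← Nat.card_congr (Subgroup.centerCongr E).toEquiv]
    exact card_center_R243 hF hω3 h1
  -- similarity
  have hsim : R ≤ similarityGroup (hermForm n F 2) := by
    rintro g ⟨g₀, hg₀, rfl⟩
    obtain ⟨c', -, j, k, hgv⟩ := hg₀
    have hmult : (c' : F) * sq2 (c' : F) ≠ 0 := by
      unfold sq2
      exact mul_ne_zero c'.ne_zero (pow_ne_zero _ c'.ne_zero)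
    refine ⟨Units.mk0 _ hmult, fun u v => ?_⟩
    obtain ⟨x, rfl⟩ := TT_surj e P u
    obtain ⟨y, rfl⟩ := TT_surj e P v
    rw [psi_mulVec, psi_mulVec, hstd, hstd, formOfGram_mulVec sq2 sq2_zero (sq2_add h2) sq2_mul, hgv, Matrix.mul_one,
      hm_unitary sq2 sq2_zero sq2_mul (chi9 ω) (chi9_norm hω3), fog_smul_one, Units.val_mk0]
    ring
  -- the field
  have hchar : ringChar F = 2 := CharP.ringChar_of_prime_eq_zero Nat.prime_two (by exact_mod_cast h2)
  haveI : CharP F 2 := hchar ▸ ringChar.charP F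
  have hmin : IsMinimalFieldFor (Nat.card (Subgroup.center R)) 2 2 F := by
    rw [hcardZ]
    refine ⟨Nat.prime_two, inferInstance, by rw [hF]; norm_num, by norm_num, ?_⟩
    intro d hd0 hd2
    have hd1 : d = 1 := by omega
    subst hd1
    norm_num
  -- the normaliser
  have hconj : ∀ h ∈ H, ∀ r ∈ R, h * r * h⁻¹ ∈ R := by
    intro h hh r hr
    have hh1 := hH hh
    rw [tps_eq] at hh1
    obtain ⟨M, hM, rfl⟩ := hh1
    obtain ⟨A₁, A₂, rfl⟩ := eq_kronGL_of_mem hM
    obtain ⟨r₀, hr₀, rfl⟩ := hr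
    have hpres := (psi_mem_preserving_iff e P (f := hermForm n F 2) (φ := formOfGram sq2 1) hc hstd
      (kronGL A₁ A₂)).mp (hHU hh)
    rw [preserves_iff sq2 sq2_zero sq2_one (sq2_add h2) sq2_mul, Matrix.mul_one, kronGL_val] at hpres
    have hmap : ((A₁ : Matrix (Fin 3) (Fin 3) F) ⊗ₖ (A₂ : Matrix (Fin 3) (Fin 3) F)).map sq2 =
        (A₁ : Matrix (Fin 3) (Fin 3) F).map sq2 ⊗ₖ (A₂ : Matrix (Fin 3) (Fin 3) F).map sq2 := by
      ext ⟨i, k⟩ ⟨j, l⟩
      simp only [Matrix.map_apply, Matrix.kroneckerMap_apply]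
      exact sq2_mul _ _
    rw [hmap, ← Matrix.kroneckerMap_transpose, ← Matrix.mul_kronecker_mul] at hpres
    obtain ⟨a, ha, hX, hY⟩ := kron_eq_one _ _ hpres
    have hmem := kron_conj_mem hω3 hK1 A₁ A₂ a a⁻¹ ha (inv_ne_zero ha) hX hY r₀ hr₀
    refine ⟨kronGL A₁ A₂ * r₀ * (kronGL A₁ A₂)⁻¹, hmem, ?_⟩
    rw [map_mul, map_mul, map_inv]
  have hnorm : H ≤ subgroupNormalizer R := by
    intro h hh
    unfold subgroupNormalizer
    rw [Subgroup.mem_normalizer_iff]
    intro r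
    constructor
    · exact hconj h hh r
    · intro hr
      have := hconj h⁻¹ (H.inv_mem hh) _ hr
      have e1 : h⁻¹ * (h * r * h⁻¹) * h⁻¹⁻¹ = r := by group
      rwa [e1] at this
  exact InClassU.of_symplecticType H hHU 3 R 2 2 2 hsymp habs hsim (by norm_num) hmin
    (Or.inl ⟨by decide, hcardZ, by norm_num, by rw [hcardR]; norm_num⟩) hnorm

end Cfsg.Agent.Lib.Helper24.U92
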