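import Mathlib
import Cfsg.Prelude.Def_GeometricClasses
import Cfsg.Agent.Lib.Helper24.AschU92b
import Cfsg.Agent.Lib.Helper1.GUS1

/-!
# S5663, U4T-92: `inClassU_of_tensor33` modulo piece `K1` (helper24)

Reduction of two arbitrary unitary forms `f₁`, `f₂` on `F_4³` to the standard ones, then `inClassU_of_tensor33_std`.
-/

set_option autoImplicit false

namespace Cfsg.Agent.Lib.Helper24.U92

open Matrix Cfsg Cfsg.Geo Cfsg.Agent.Lib.Helper13.TNM Cfsg.Agent.Lib.Helper24.Heis Cfsg.Agent.Lib.Helper24.AschU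
open scoped Kronecker

variable {F : Type*} [Field F] [Fintype F] {n q : ℕ}

/-- the Gram matrix of a form equivalent to the standard one through `B` -/
theorem gram_of_std (f : (Fin 3 → F) → (Fin 3 → F) → F) (B : GL (Fin 3) F)
    (hB : ∀ x y, hermForm 3 F 2 ((B : Matrix (Fin 3) (Fin 3) F) *ᵥ x) ((B : Matrix (Fin 3) (Fin 3) F) *ᵥ y) = f x y) :
    gramMatrix f = (B : Matrix (Fin 3) (Fin 3) F)ᵀ * (B : Matrix (Fin 3) (Fin 3) F).map sq2 := by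
  ext a b
  unfold gramMatrix
  rw [← hB, Matrix.mulVec_single_one, Matrix.mulVec_single_one, Matrix.mul_apply]
  rfl

theorem inClassU_of_tensor33_of (hK1 : ∀ ω : F, ω ^ 2 + ω + 1 = 0 → K1 F ω) (hF : Fintype.card F = q ^ 2)
    (hq : q = 2) (H : Subgroup (GL (Fin n) F)) (hHU : H ≤ GU n F q) (e : Fin n ≃ Fin 3 × Fin 3)
    (P : GL (Fin n) F) (f₁ f₂ : (Fin 3 → F) → (Fin 3 → F) → F) (hf₁ : IsUnitaryFormPow q f₁)
    (hf₂ : IsUnitaryFormPow q f₂)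
    (hT : IsTensorFormStructure (fun x : F => x ^ q) (hermForm n F q) f₁ f₂ e P)
    (hH : H ≤ tensorProductSubgroup 3 3 e P) : InClassU n q H := by
  subst hq
  have hF4 : Fintype.card F = 4 := by rw [hF]; norm_num
  have h2 : (2 : F) = 0 := two_eq_zero_of_card hF4
  obtain ⟨ω, hω⟩ := exists_omega hF4
  obtain ⟨B₁, hB₁⟩ := Cfsg.Agent.Lib.Helper1.GUS.exists_std hF f₁ hf₁
  obtain ⟨B₂, hB₂⟩ := Cfsg.Agent.Lib.Helper1.GUS.exists_std hF f₂ hf₂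
  obtain ⟨c, hc, hTT⟩ := hT
  have hσ : (fun x : F => x ^ 2) = sq2 := rfl
  rw [hσ, gram_of_std f₁ B₁ hB₁, gram_of_std f₂ B₂ hB₂] at hTT
  have hG : ((B₁ : Matrix (Fin 3) (Fin 3) F)ᵀ * (B₁ : Matrix (Fin 3) (Fin 3) F).map sq2) ⊗ₖ
      ((B₂ : Matrix (Fin 3) (Fin 3) F)ᵀ * (B₂ : Matrix (Fin 3) (Fin 3) F).map sq2) =
      ((kronGL B₁ B₂ : GL (Fin 3 × Fin 3) F) : Matrix (Fin 3 × Fin 3) (Fin 3 × Fin 3) F)ᵀ * 1 *
        ((kronGL B₁ B₂ : GL (Fin 3 × Fin 3) F) : Matrix (Fin 3 × Fin 3) (Fin 3 × Fin 3) F).map sq2 := by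
    have hmap : ((B₁ : Matrix (Fin 3) (Fin 3) F) ⊗ₖ (B₂ : Matrix (Fin 3) (Fin 3) F)).map sq2 =
        (B₁ : Matrix (Fin 3) (Fin 3) F).map sq2 ⊗ₖ (B₂ : Matrix (Fin 3) (Fin 3) F).map sq2 := by
      ext ⟨i, k⟩ ⟨j, l⟩
      simp only [Matrix.map_apply, Matrix.kroneckerMap_apply]
      exact sq2_mul _ _
    rw [kronGL_val, Matrix.mul_one, hmap, ← Matrix.kroneckerMap_transpose, ← Matrix.mul_kronecker_mul]
  rw [hG] at hTT
  have hstd : ∀ x y : Fin 3 × Fin 3 → F,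
      hermForm n F 2 (TT e (P * glReindex e.symm (kronGL B₁ B₂)⁻¹) x)
        (TT e (P * glReindex e.symm (kronGL B₁ B₂)⁻¹) y) = c * formOfGram (fun x : F => x ^ 2) 1 x y := by
    intro x y
    rw [TT_change, TT_change]
    have h3 := hTT ((((kronGL B₁ B₂)⁻¹ : GL (Fin 3 × Fin 3) F) : Matrix (Fin 3 × Fin 3) (Fin 3 × Fin 3) F) *ᵥ x)
      ((((kronGL B₁ B₂)⁻¹ : GL (Fin 3 × Fin 3) F) : Matrix (Fin 3 × Fin 3) (Fin 3 × Fin 3) F) *ᵥ y)
    rw [← formOfGram_mulVec sq2 sq2_zero (sq2_add h2) sq2_mul, Matrix.mulVec_mulVec, Matrix.mulVec_mulVec,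
      ← Units.val_mul, mul_inv_cancel, Units.val_one, Matrix.one_mulVec, Matrix.one_mulVec] at h3
    exact h3
  have hH' : H ≤ tensorProductSubgroup 3 3 e (P * glReindex e.symm (kronGL B₁ B₂)⁻¹) := by
    rw [tps_change 3 3 e P _ (Subgroup.inv_mem _ (kronGL_mem B₁ B₂))]
    exact hH
  exact inClassU_of_tensor33_std hF4 ω hω (hK1 ω hω) H hHU e _ c hc hstd hH'

end Cfsg.Agent.Lib.Helper24.U92
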