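import Mathlib
import Cfsg.Prelude.Def_GeometricClasses
import Cfsg.Agent.Lib.Helper24.AschU92c
import Cfsg.Agent.Lib.Helper2.S5663K1

/-!
# S5663, U4T-92: `inClassU_of_tensor33` (helper24; piece `K1` by helper2)

A subgroup of `GU_9(2)` preserving a tensor decomposition `3 ⊗ 3` of the hermitian form lies in the normaliser of an
extraspecial group `3^(1+4)` (class 6): `GU_3(2) = 3^(1+2) : SL_2(3)` normalises the Heisenberg group `3^(1+2)`.
-/

set_option autoImplicit false

namespace Cfsg.Agent.Lib.Helper24.U92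

open Matrix Cfsg Cfsg.Geo Cfsg.Agent.Lib.Helper24.AschU

variable {F : Type*} [Field F] [Fintype F] {n q : ℕ}

theorem inClassU_of_tensor33 (hF : Fintype.card F = q ^ 2) (hq : q = 2) (H : Subgroup (GL (Fin n) F))
    (hHU : H ≤ GU n F q) (e : Fin n ≃ Fin 3 × Fin 3) (P : GL (Fin n) F)
    (f₁ f₂ : (Fin 3 → F) → (Fin 3 → F) → F) (hf₁ : IsUnitaryFormPow q f₁) (hf₂ : IsUnitaryFormPow q f₂)
    (hT : IsTensorFormStructure (fun x : F => x ^ q) (hermForm n F q) f₁ f₂ e P)
    (hH : H ≤ tensorProductSubgroup 3 3 e P) : InClassU n q H := by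
  have hF4 : Fintype.card F = 4 := by rw [hF, hq]; norm_num
  exact inClassU_of_tensor33_of
    (fun ω hω A a ha hA c hc j k => Cfsg.Agent.Lib.Helper2.S5663K1.gu32_normalizes hF4 ω hω A a ha hA c hc j k)
    hF hq H hHU e P f₁ f₂ hf₁ hf₂ hT hH

end Cfsg.Agent.Lib.Helper24.U92
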