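import Mathlib

/-!
# Helper24 library: metacyclic presentations

* `card_le_of_metacyclic_relations`: a group generated by `A`, `B` with `A ^ n = 1`, `B ^ m = 1`,
  `A⁻¹ B A = B ^ r` is finite of order at most `n * m`.
* `nonempty_mulEquiv_presented`: a finite group of order `n * m` generated by such `x`, `y` is
  isomorphic to the presented group `⟨x, y | x ^ n, y ^ m, x⁻¹ y x y ^ (-r)⟩`.
-/

set_option autoImplicit false

namespace Cfsg.Agent.Lib.Helper24.ZFrob

section Pres

variable {P : Type*} [Group P]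

theorem pow_mul_of_conj {A B : P} {r : ℕ} (hAB : A⁻¹ * B * A = B ^ r) (j : ℕ) :
    B ^ j * A = A * B ^ (r * j) := by
  have h1 : A⁻¹ * B ^ j * A = (B ^ r) ^ j := by
    rw [← hAB]
    have := conj_pow (a := A⁻¹) (b := B) (i := j)
    rw [inv_inv] at this
    exact this.symm
  rw [pow_mul, ← h1]
  group

/-- a group generated by `A`, `B` subject to the metacyclic relations has at most `n * m`
elements -/
theorem card_le_of_metacyclic_relations (A B : P) (n m r : ℕ) (hn : 0 < n) (hm : 0 < m)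
    (hA : A ^ n = 1) (hB : B ^ m = 1) (hAB : A⁻¹ * B * A = B ^ r)
    (hgen : Subgroup.closure {A, B} = ⊤) : Finite P ∧ Nat.card P ≤ n * m := by
  have stepA : ∀ z : P, (∃ i j : ℕ, z = A ^ i * B ^ j) → ∃ i j : ℕ, z * A = A ^ i * B ^ j := by
    rintro z ⟨i, j, rfl⟩
    refine ⟨i + 1, r * j, ?_⟩
    rw [mul_assoc, pow_mul_of_conj hAB, ← mul_assoc, ← pow_succ]
  have stepB : ∀ z : P, (∃ i j : ℕ, z = A ^ i * B ^ j) → ∃ i j : ℕ, z * B = A ^ i * B ^ j := by
    rintro z ⟨i, j, rfl⟩
    exact ⟨i, j + 1, by rw [mul_assoc, ← pow_succ]⟩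
  have stepAk : ∀ k : ℕ, ∀ z : P, (∃ i j : ℕ, z = A ^ i * B ^ j) →
      ∃ i j : ℕ, z * A ^ k = A ^ i * B ^ j := by
    intro k
    induction k with
    | zero => intro z hz; simpa using hz
    | succ k ih =>
      intro z hz
      rw [pow_succ, ← mul_assoc]
      exact stepA _ (ih z hz)
  have stepBk : ∀ k : ℕ, ∀ z : P, (∃ i j : ℕ, z = A ^ i * B ^ j) →
      ∃ i j : ℕ, z * B ^ k = A ^ i * B ^ j := by
    intro k
    induction k with
    | zero => intro z hz; simpa using hz
    | succ k ih =>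
      intro z hz
      rw [pow_succ, ← mul_assoc]
      exact stepB _ (ih z hz)
  have hAinv : A⁻¹ = A ^ (n - 1) := by
    rw [inv_eq_iff_mul_eq_one, ← pow_succ', Nat.sub_add_cancel hn, hA]
  have hBinv : B⁻¹ = B ^ (m - 1) := by
    rw [inv_eq_iff_mul_eq_one, ← pow_succ', Nat.sub_add_cancel hm, hB]
  have hall : ∀ z : P, ∃ i j : ℕ, z = A ^ i * B ^ j := by
    intro z
    have hz : z ∈ Subgroup.closure ({A, B} : Set P) := by rw [hgen]; exact Subgroup.mem_top z
    induction hz using Subgroup.closure_induction_right with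
    | one => exact ⟨0, 0, by simp⟩
    | mul_right x hx y hy ih =>
      rcases hy with rfl | rfl
      · exact stepA x ih
      · exact stepB x ih
    | mul_inv_cancel x hx y hy ih =>
      rcases hy with rfl | rfl
      · rw [hAinv]; exact stepAk _ x ih
      · rw [hBinv]; exact stepBk _ x ih
  let g : Fin n × Fin m → P := fun ij => A ^ (ij.1 : ℕ) * B ^ (ij.2 : ℕ)
  have hg : Function.Surjective g := by
    intro z
    obtain ⟨i, j, rfl⟩ := hall z
    refine ⟨(⟨i % n, Nat.mod_lt _ hn⟩, ⟨j % m, Nat.mod_lt _ hm⟩), ?_⟩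
    show A ^ (i % n) * B ^ (j % m) = A ^ i * B ^ j
    rw [← pow_eq_pow_mod i hA, ← pow_eq_pow_mod j hB]
  have hfin : Finite P := Finite.of_surjective g hg
  refine ⟨hfin, ?_⟩
  have := Nat.card_le_card_of_surjective g hg
  simpa [Nat.card_prod] using this

end Pres

section Iso

open FreeGroup

/-- a finite group of order `n * m` generated by `x`, `y` with `x ^ n = 1`, `y ^ m = 1`,
`x⁻¹ y x = y ^ r` has the metacyclic presentation -/
theorem nonempty_mulEquiv_presented {K : Type*} [Group K] [Finite K] (x y : K) (n m r : ℕ)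
    (hn : 0 < n) (hm : 0 < m) (hx : x ^ n = 1) (hy : y ^ m = 1) (hxy : x⁻¹ * y * x = y ^ r)
    (hgen : Subgroup.closure {x, y} = ⊤) (hcard : Nat.card K = n * m) :
    Nonempty (K ≃* PresentedGroup
      ({FreeGroup.of (0 : Fin 2) ^ n, FreeGroup.of (1 : Fin 2) ^ m,
        (FreeGroup.of (0 : Fin 2))⁻¹ * FreeGroup.of 1 * FreeGroup.of 0 *
          (FreeGroup.of (1 : Fin 2) ^ r)⁻¹} : Set (FreeGroup (Fin 2)))) := by
  set rels : Set (FreeGroup (Fin 2)) :=
    {FreeGroup.of (0 : Fin 2) ^ n, FreeGroup.of (1 : Fin 2) ^ m,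
        (FreeGroup.of (0 : Fin 2))⁻¹ * FreeGroup.of 1 * FreeGroup.of 0 *
          (FreeGroup.of (1 : Fin 2) ^ r)⁻¹} with hrels
  let f : Fin 2 → K := ![x, y]
  have hf : ∀ w ∈ rels, FreeGroup.lift f w = 1 := by
    rintro _ (rfl | rfl | rfl)
    · simp [f, hx]
    · simp [f, hy]
    · simp [f, hxy]
  let φ : PresentedGroup rels →* K := PresentedGroup.toGroup hf
  have hφ0 : φ (PresentedGroup.of 0) = x := PresentedGroup.toGroup.of hf
  have hφ1 : φ (PresentedGroup.of 1) = y := PresentedGroup.toGroup.of hf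
  have hsurj : Function.Surjective φ := by
    rw [← MonoidHom.range_eq_top, eq_top_iff, ← hgen, Subgroup.closure_le]
    rintro _ (rfl | rfl)
    · exact ⟨_, hφ0⟩
    · exact ⟨_, hφ1⟩
  set A : PresentedGroup rels := PresentedGroup.of 0 with hAdef
  set B : PresentedGroup rels := PresentedGroup.of 1 with hBdef
  have hA : A ^ n = 1 := by
    have : PresentedGroup.mk rels (FreeGroup.of (0 : Fin 2) ^ n) = 1 :=
      PresentedGroup.one_of_mem (by simp [rels])
    simpa [A, PresentedGroup.of] using this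
  have hB : B ^ m = 1 := by
    have : PresentedGroup.mk rels (FreeGroup.of (1 : Fin 2) ^ m) = 1 :=
      PresentedGroup.one_of_mem (by simp [rels])
    simpa [B, PresentedGroup.of] using this
  have hAB : A⁻¹ * B * A = B ^ r := by
    have : PresentedGroup.mk rels ((FreeGroup.of (0 : Fin 2))⁻¹ * FreeGroup.of 1 * FreeGroup.of 0 *
          (FreeGroup.of (1 : Fin 2) ^ r)⁻¹) = 1 :=
      PresentedGroup.one_of_mem (by simp [rels])
    simp only [_root_.map_mul, _root_.map_inv, _root_.map_pow] at this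
    rw [mul_inv_eq_one] at this
    exact this
  have hgenP : Subgroup.closure {A, B} = ⊤ := by
    rw [← PresentedGroup.closure_range_of rels]
    congr 1
    ext z
    constructor
    · rintro (rfl | rfl)
      · exact ⟨0, rfl⟩
      · exact ⟨1, rfl⟩
    · rintro ⟨i, rfl⟩
      fin_cases i
      · left; rfl
      · right; rfl
  obtain ⟨hfin, hle⟩ := card_le_of_metacyclic_relations A B n m r hn hm hA hB hAB hgenP
  have hbij : Function.Bijective φ :=
    hsurj.bijective_of_nat_card_le (by rw [hcard]; exact hle)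
  exact ⟨(MulEquiv.ofBijective φ hbij).symm⟩

end Iso

end Cfsg.Agent.Lib.Helper24.ZFrob
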