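import Mathlib
import Cfsg.Agent.Lib.Helper1.FpfCenter
import Cfsg.Agent.Lib.Helper11.Semidirect
import Cfsg.Agent.Lib.Helper24.ZFrobPres

/-!
# Helper24 library: Z-groups in which subgroups of order `pq` are cyclic

* `PQ G`: every subgroup of `G` whose order is a product of two primes is cyclic.
* `PQ.commute_of_prime`: elements of prime order, one normalizing the other, commute.
* `exists_metacyclic_data`: a finite Z-group with `PQ` has generators `x`, `y` with
  `x ^ n = 1`, `y ^ m = 1`, `x⁻¹ y x = y ^ r`, `|G| = n m`, `gcd (n, m) = gcd (r - 1, m) = 1`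
  and `r ^ (n / rad n) ≡ 1 mod m`.
-/

set_option autoImplicit false

namespace Cfsg.Agent.Lib.Helper24.ZFrob

open Cfsg.Agent.Lib

/-- every subgroup whose order is a product of two primes is cyclic -/
def PQ (G : Type*) [Group G] : Prop :=
  ∀ (A : Subgroup G) (p q : ℕ), p.Prime → q.Prime → Nat.card A = p * q → IsCyclic A

theorem PQ.of_injective {G X : Type*} [Group G] [Group X] (h : PQ G) (f : X →* G)
    (hf : Function.Injective f) : PQ X := by
  intro A p q hp hq hA
  have h1 : IsCyclic (A.map f) := h (A.map f) p q hp hq (by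
    rw [Subgroup.card_map_of_injective hf]; exact hA)
  exact isCyclic_of_surjective (A.equivMapOfInjective f hf).symm
    (A.equivMapOfInjective f hf).symm.surjective

theorem PQ.subgroup {G : Type*} [Group G] (h : PQ G) (H : Subgroup G) : PQ H :=
  h.of_injective H.subtype H.subtype_injective

section Commute

variable {G : Type*} [Group G] [Finite G]

/-- under `PQ`, an element of prime order normalizing a subgroup of prime order centralizes it -/
theorem PQ.commute_of_prime (h : PQ G) {v y : G} (hv : (orderOf v).Prime)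
    (hy : (orderOf y).Prime) (hne : orderOf v ≠ orderOf y)
    (hnorm : y * v * y⁻¹ ∈ Subgroup.zpowers v) : y * v = v * y := by
  have hyN : Subgroup.zpowers y ≤ Subgroup.normalizer (Subgroup.zpowers v : Set G) := by
    rw [Subgroup.zpowers_le]
    apply Subgroup.mem_normalizer_fintype
    intro n hn
    obtain ⟨k, rfl⟩ := Subgroup.mem_zpowers_iff.mp hn
    have h2 : y * v ^ k * y⁻¹ = (y * v * y⁻¹) ^ k := by simp [conj_zpow]
    rw [h2]
    exact Subgroup.zpow_mem _ hnorm k
  have hdisj : Subgroup.zpowers v ⊓ Subgroup.zpowers y = ⊥ := by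
    apply (Subgroup.disjoint_of_coprime_natCard _).eq_bot
    rw [Nat.card_zpowers, Nat.card_zpowers]
    exact (Nat.coprime_primes hv hy).mpr hne
  have hcard := Helper11.card_sup_eq (Subgroup.zpowers v) (Subgroup.zpowers y) hyN hdisj
  rw [Nat.card_zpowers, Nat.card_zpowers] at hcard
  have hcyc : IsCyclic ↥(Subgroup.zpowers v ⊔ Subgroup.zpowers y) := h _ _ _ hv hy hcard
  have hvA : v ∈ Subgroup.zpowers v ⊔ Subgroup.zpowers y :=
    Subgroup.mem_sup_left (Subgroup.mem_zpowers v)
  have hyA : y ∈ Subgroup.zpowers v ⊔ Subgroup.zpowers y :=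
    Subgroup.mem_sup_right (Subgroup.mem_zpowers y)
  have hcomm := (IsCyclic.commGroup (α := ↥(Subgroup.zpowers v ⊔ Subgroup.zpowers y))).mul_comm
    ⟨y, hyA⟩ ⟨v, hvA⟩
  exact congrArg Subtype.val hcomm

end Commute

section Arith

/-- the arithmetic behind `r ^ (n / rad n) ≡ 1` -/
theorem dvd_div_prod_primeFactors {n o : ℕ} (hn : 0 < n) (ho : o ∣ n)
    (h : ∀ p : ℕ, p.Prime → p ∣ n → o ∣ n / p) : o ∣ n / ∏ p ∈ n.primeFactors, p := by
  obtain ⟨d, hnd⟩ := ho
  have ho0 : 0 < o := Nat.pos_of_ne_zero (by rintro rfl; simp at hnd; omega)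
  have hd : ∀ p ∈ n.primeFactors, p ∣ d := by
    intro p hp
    have hpp := Nat.prime_of_mem_primeFactors hp
    have hpn := Nat.dvd_of_mem_primeFactors hp
    obtain ⟨c, hc⟩ := h p hpp hpn
    have h1 : o * d = o * (c * p) := by
      calc o * d = n := hnd.symm
        _ = n / p * p := (Nat.div_mul_cancel hpn).symm
        _ = o * (c * p) := by rw [hc, mul_assoc]
    have h2 : d = c * p := Nat.eq_of_mul_eq_mul_left ho0 h1
    exact ⟨c, by rw [h2, mul_comm]⟩
  have hR : (∏ p ∈ n.primeFactors, p) ∣ d :=
    Finset.prod_primes_dvd d (fun p hp => (Nat.prime_of_mem_primeFactors hp).prime) hd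
  obtain ⟨e, he⟩ := hR
  have hRpos : 0 < ∏ p ∈ n.primeFactors, p :=
    Finset.prod_pos fun p hp => (Nat.prime_of_mem_primeFactors hp).pos
  refine ⟨e, ?_⟩
  apply Nat.div_eq_of_eq_mul_right hRpos
  generalize (∏ p ∈ n.primeFactors, p) = R at he ⊢
  rw [hnd, he]; ring

end Arith

section Meta

variable {K : Type*} [Group K]

theorem conj_pow_iter {x y : K} {r : ℕ} (h : x⁻¹ * y * x = y ^ r) (k : ℕ) :
    (x ^ k)⁻¹ * y * x ^ k = y ^ (r ^ k) := by
  induction k with
  | zero => simp
  | succ k ih =>
    have h1 : (x ^ (k + 1))⁻¹ * y * x ^ (k + 1) = x⁻¹ * ((x ^ k)⁻¹ * y * x ^ k) * x := by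
      rw [pow_succ]; group
    rw [h1, ih, pow_succ, mul_comm (r ^ k) r, pow_mul, ← h]
    have := conj_pow (a := x⁻¹) (b := y) (i := r ^ k)
    rw [inv_inv] at this
    rw [this]

variable [Finite K]

/-- the metacyclic data of a finite Z-group in which subgroups of order `pq` are cyclic -/
theorem exists_metacyclic_data [IsZGroup K] (hpq : PQ K) :
    ∃ (n m r : ℕ) (x y : K), 0 < n ∧ 0 < m ∧ Nat.Coprime (r - 1) m ∧ Nat.Coprime n m ∧ 1 ≤ r ∧
      r ^ (n / ∏ p ∈ n.primeFactors, p) % m = 1 % m ∧ x ^ n = 1 ∧ y ^ m = 1 ∧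
      x⁻¹ * y * x = y ^ r ∧ Subgroup.closure {x, y} = ⊤ ∧ Nat.card K = n * m := by
  set M : Subgroup K := commutator K with hM
  have hMn : M.Normal := inferInstance
  have hMcyc : IsCyclic M := IsZGroup.isCyclic_commutator K
  have hcop : (Nat.card M).Coprime M.index := IsZGroup.coprime_commutator_index K
  obtain ⟨H, hH⟩ := Subgroup.exists_right_complement'_of_coprime hcop
  have hHcyc : IsCyclic H := by
    have h1 : Abelianization K ≃* H := hH.symm.QuotientMulEquiv
    exact isCyclic_of_surjective _ h1.surjective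
  have hHcard : Nat.card H = M.index := hH.symm.index_eq_card.symm
  obtain ⟨x0, hx0⟩ := IsCyclic.exists_generator (α := H)
  obtain ⟨y0, hy0⟩ := IsCyclic.exists_generator (α := M)
  set x : K := (x0 : K) with hx
  set y : K := (y0 : K) with hy
  set n := Nat.card H with hn
  set m := Nat.card M with hm
  have hn0 : 0 < n := Nat.card_pos
  have hm0 : 0 < m := Nat.card_pos
  have hxord : orderOf x = n := by
    rw [hx, Subgroup.orderOf_coe, orderOf_eq_card_of_forall_mem_zpowers hx0]
  have hyord : orderOf y = m := by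
    rw [hy, Subgroup.orderOf_coe, orderOf_eq_card_of_forall_mem_zpowers hy0]
  have hxn : x ^ n = 1 := by rw [← hxord]; exact pow_orderOf_eq_one x
  have hym : y ^ m = 1 := by rw [← hyord]; exact pow_orderOf_eq_one y
  have hyM : y ∈ M := y0.2
  have hMy : ∀ g ∈ M, g ∈ Subgroup.zpowers y := by
    intro g hg
    obtain ⟨k, hk⟩ := Subgroup.mem_zpowers_iff.mp (hy0 ⟨g, hg⟩)
    refine Subgroup.mem_zpowers_iff.mpr ⟨k, ?_⟩
    have := congrArg Subtype.val hk
    simpa using this
  have hHx : ∀ g ∈ H, g ∈ Subgroup.zpowers x := by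
    intro g hg
    obtain ⟨k, hk⟩ := Subgroup.mem_zpowers_iff.mp (hx0 ⟨g, hg⟩)
    refine Subgroup.mem_zpowers_iff.mpr ⟨k, ?_⟩
    have := congrArg Subtype.val hk
    simpa using this
  -- the conjugation exponent
  have hconjM : x⁻¹ * y * x ∈ M := by
    have := hMn.conj_mem y hyM x⁻¹
    rwa [inv_inv] at this
  obtain ⟨k, hk⟩ : ∃ k : ℕ, y ^ k = x⁻¹ * y * x := by
    have h1 := hMy _ hconjM
    rw [← (isOfFinOrder_of_finite y).mem_powers_iff_mem_zpowers, Submonoid.mem_powers_iff] at h1
    exact h1
  set r := k + m with hr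
  have hyr : x⁻¹ * y * x = y ^ r := by rw [hr, pow_add, hym, mul_one, hk]
  have hr1 : 1 ≤ r := by omega
  have hnm : Nat.Coprime n m := by
    rw [hHcard]; exact hcop.symm
  have hgen : Subgroup.closure {x, y} = ⊤ := by
    rw [eq_top_iff, ← hH.sup_eq_top, sup_le_iff]
    constructor
    · intro g hg
      have h1 := hMy g hg
      exact (Subgroup.zpowers_le.mpr (Subgroup.subset_closure (by simp))) h1
    · intro g hg
      have h1 := hHx g hg
      exact (Subgroup.zpowers_le.mpr (Subgroup.subset_closure (by simp))) h1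
  have hcard : Nat.card K = n * m := by
    rw [← hH.card_mul_card, mul_comm]
  -- gcd (r - 1, m) = 1
  have hr1m : Nat.Coprime (r - 1) m := by
    set d : K := y ^ (r - 1) with hd
    have hdM : d ∈ M := M.pow_mem hyM _
    have hNn : (Subgroup.zpowers d).Normal := by
      refine ⟨fun g hg h => ?_⟩
      obtain ⟨j, rfl⟩ := Subgroup.mem_zpowers_iff.mp hg
      have h1 := Helper1.conj_mem_zpowers_of_isCyclic_normal M hMcyc hdM h
      have h2 : h * d ^ j * h⁻¹ = (h * d * h⁻¹) ^ j := by simp [conj_zpow]
      rw [h2]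
      exact Subgroup.zpow_mem _ h1 j
    have hcommq : (QuotientGroup.mk' (Subgroup.zpowers d)) y * (QuotientGroup.mk' (Subgroup.zpowers d)) x
        = (QuotientGroup.mk' (Subgroup.zpowers d)) x * (QuotientGroup.mk' (Subgroup.zpowers d)) y := by
      rw [← map_mul, ← map_mul]
      symm
      rw [QuotientGroup.mk'_eq_mk']
      refine ⟨d, Subgroup.mem_zpowers d, ?_⟩
      have h1 : y ^ r = y * d := by
        rw [hd, ← pow_succ', Nat.sub_add_cancel hr1]
      calc x * y * d = x * (y * d) := mul_assoc _ _ _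
        _ = x * (x⁻¹ * y * x) := by rw [← h1, ← hyr]
        _ = y * x := by group
    have hqcomm : ∀ a b : K ⧸ Subgroup.zpowers d, a * b = b * a := by
      have hcl : Subgroup.closure
          ({(QuotientGroup.mk' (Subgroup.zpowers d)) x, (QuotientGroup.mk' (Subgroup.zpowers d)) y} :
            Set (K ⧸ Subgroup.zpowers d)) = ⊤ := by
        have h1 := congrArg (Subgroup.map (QuotientGroup.mk' (Subgroup.zpowers d))) hgen
        rw [MonoidHom.map_closure, Subgroup.map_top_of_surjective _
          (QuotientGroup.mk'_surjective _)] at h1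
        rw [← h1]
        congr 1
        ext z
        simp [Set.image_pair]
      have hc : IsMulCommutative ↥(Subgroup.closure
          ({(QuotientGroup.mk' (Subgroup.zpowers d)) x, (QuotientGroup.mk' (Subgroup.zpowers d)) y} :
            Set (K ⧸ Subgroup.zpowers d))) := by
        apply Subgroup.isMulCommutative_closure
        rintro _ (rfl | rfl) _ (rfl | rfl)
        · rfl
        · exact hcommq.symm
        · exact hcommq
        · rfl
      intro a b
      have ha : a ∈ Subgroup.closure
          ({(QuotientGroup.mk' (Subgroup.zpowers d)) x, (QuotientGroup.mk' (Subgroup.zpowers d)) y} :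
            Set (K ⧸ Subgroup.zpowers d)) := by rw [hcl]; exact Subgroup.mem_top a
      have hb : b ∈ Subgroup.closure
          ({(QuotientGroup.mk' (Subgroup.zpowers d)) x, (QuotientGroup.mk' (Subgroup.zpowers d)) y} :
            Set (K ⧸ Subgroup.zpowers d)) := by rw [hcl]; exact Subgroup.mem_top b
      have := hc.is_comm.comm ⟨a, ha⟩ ⟨b, hb⟩
      exact congrArg Subtype.val this
    have hMle : M ≤ Subgroup.zpowers d := by
      rw [hM, commutator_def, Subgroup.commutator_le]
      intro g₁ _ g₂ _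
      rw [← QuotientGroup.eq_one_iff, ← QuotientGroup.mk'_apply, map_commutatorElement,
        commutatorElement_eq_one_iff_mul_comm]
      exact hqcomm _ _
    obtain ⟨j, hj⟩ := Subgroup.mem_zpowers_iff.mp (hMle hyM)
    -- y ^ ((r-1) j - 1) = 1
    have h1 : y ^ (((r - 1 : ℕ) : ℤ) * j - 1) = 1 := by
      rw [zpow_sub, zpow_mul, zpow_natCast, zpow_one, hj, mul_inv_cancel]
    rw [← orderOf_dvd_iff_zpow_eq_one, hyord] at h1
    obtain ⟨c, hc⟩ := h1
    rw [← Nat.isCoprime_iff_coprime]
    exact ⟨j, -c, by linarith⟩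
  -- the power condition
  have hpow : r ^ (n / ∏ p ∈ n.primeFactors, p) % m = 1 % m := by
    have key : ∀ j : ℕ, (x ^ j)⁻¹ * y * x ^ j = y → (r : ZMod m) ^ j = 1 := by
      intro j hj
      rw [conj_pow_iter hyr] at hj
      have h1 : y ^ (r ^ j) = y ^ 1 := by rw [hj, pow_one]
      rw [pow_eq_pow_iff_modEq, hyord] at h1
      have h2 := (ZMod.natCast_eq_natCast_iff _ _ _).mpr h1
      simpa using h2
    have hon : orderOf (r : ZMod m) ∣ n := by
      rw [orderOf_dvd_iff_pow_eq_one]
      apply key
      rw [hxn]; simp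
    have hop : ∀ p : ℕ, p.Prime → p ∣ n → orderOf (r : ZMod m) ∣ n / p := by
      intro p hp hpn
      rw [orderOf_dvd_iff_pow_eq_one]
      apply key
      set xp : K := x ^ (n / p) with hxp
      have hxpord : orderOf xp = p := by
        have hne : n / p ≠ 0 := by
          have := Nat.div_pos (Nat.le_of_dvd hn0 hpn) hp.pos
          omega
        rw [hxp, orderOf_pow_of_dvd hne (by rw [hxord]; exact Nat.div_dvd_of_dvd hpn), hxord,
          Nat.div_div_self hpn hn0.ne']
      have hMc : IsMulCommutative M :=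
        ⟨⟨fun a b => (IsCyclic.commGroup (α := M)).mul_comm a b⟩⟩
      have hcopA : (Nat.card (Subgroup.zpowers xp)).Coprime (Nat.card M) := by
        rw [Nat.card_zpowers, hxpord]
        exact Nat.Coprime.coprime_dvd_left hpn hnm
      have hcent : Subgroup.zpowers xp ≤ Subgroup.centralizer (M : Set K) := by
        apply Helper1.le_centralizer_of_centralizes_prime_order (Subgroup.zpowers xp) M
          (by rw [Subgroup.normalizer_eq_top]; exact le_top) hcopA
        intro v hv hvp a ha
        have hvne : orderOf v ≠ orderOf xp := by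
          intro h
          have h1 : orderOf v ∣ m := by
            have := orderOf_dvd_natCard (⟨v, hv⟩ : M)
            rwa [Subgroup.orderOf_mk] at this
          rw [h, hxpord] at h1
          have h2 : p ∣ Nat.gcd n m := Nat.dvd_gcd hpn h1
          rw [hnm.gcd_eq_one] at h2
          exact hp.one_lt.ne' (Nat.dvd_one.mp h2)
        have hc : xp * v = v * xp :=
          hpq.commute_of_prime hvp (hxpord ▸ hp) hvne
            (Helper1.conj_mem_zpowers_of_isCyclic_normal M hMcyc hv xp)
        obtain ⟨j, rfl⟩ := Subgroup.mem_zpowers_iff.mp ha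
        exact ((show Commute xp v from hc).zpow_left j).eq
      have h1 : y * xp = xp * y :=
        (Subgroup.mem_centralizer_iff.mp (hcent (Subgroup.mem_zpowers xp))) y hyM
      rw [mul_assoc, h1, ← mul_assoc, inv_mul_cancel, one_mul]
    have hdvd := dvd_div_prod_primeFactors hn0 hon hop
    rw [orderOf_dvd_iff_pow_eq_one] at hdvd
    have h2 : ((r ^ (n / ∏ p ∈ n.primeFactors, p) : ℕ) : ZMod m) = ((1 : ℕ) : ZMod m) := by
      simpa using hdvd
    exact (ZMod.natCast_eq_natCast_iff _ _ _).mp h2
  exact ⟨n, m, r, x, y, hn0, hm0, hr1m, hnm, hr1, hpow, hxn, hym, hyr, hgen, hcard⟩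

end Meta

end Cfsg.Agent.Lib.Helper24.ZFrob
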