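import Mathlib
import Cfsg.Agent.Lib.Helper10.PComponent
import Cfsg.Agent.Lib.Helper10.UniqueOrderP
import Cfsg.Agent.Lib.Helper16.Q8Aut
import Cfsg.Agent.H26.AutTwoGroup
import Cfsg.Agent.Lib.Helper24.ZFrobMeta

/-!
# Helper24 library: the `2`-structure of solvable groups with `PQ`

* `PQ.uniqueOrderP`: `p`-groups with `PQ` have at most one subgroup of order `p`.
* `exists_hom_perm_four`: a finite solvable group with `PQ` has a homomorphism to `S₄` whose
  kernel has abelian `2`-subgroups.
-/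

set_option autoImplicit false

namespace Cfsg.Agent.Lib.Helper24.ZFrob

open Cfsg Cfsg.Agent.Lib
open Cfsg.Agent.Lib.Helper10 (UniqueOrderP)

section Unique

variable {P : Type*} [Group P] [Finite P]

theorem PQ.mem_zpowers_of_commute (h : PQ P) {p : ℕ} [Fact p.Prime] {x y : P}
    (hxy : x * y = y * x) (hx : x ^ p = 1) (hx1 : x ≠ 1) (hy : y ^ p = 1) :
    y ∈ Subgroup.zpowers x := by
  have hp : p.Prime := Fact.out
  by_contra hyx
  have hy1 : y ≠ 1 := by
    rintro rfl
    exact hyx (Subgroup.one_mem _)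
  have hox : orderOf x = p := orderOf_eq_prime hx hx1
  have hoy : orderOf y = p := orderOf_eq_prime hy hy1
  have hyN : Subgroup.zpowers y ≤ Subgroup.normalizer (Subgroup.zpowers x : Set P) := by
    rw [Subgroup.zpowers_le]
    apply Subgroup.mem_normalizer_fintype
    intro n hn
    obtain ⟨k, rfl⟩ := Subgroup.mem_zpowers_iff.mp hn
    have hc : Commute y (x ^ k) := (show Commute y x from hxy.symm).zpow_right k
    rw [hc.eq, mul_inv_cancel_right]
    exact Subgroup.zpow_mem _ (Subgroup.mem_zpowers x) k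
  have hdisj : Subgroup.zpowers x ⊓ Subgroup.zpowers y = ⊥ := by
    rw [eq_bot_iff]
    intro g hg
    rw [Subgroup.mem_bot]
    by_contra hg1
    obtain ⟨hgx, hgy⟩ := Subgroup.mem_inf.mp hg
    have hcardy : Nat.card ↥(Subgroup.zpowers y) = p := by rw [Nat.card_zpowers, hoy]
    have h1 : (⟨y, Subgroup.mem_zpowers y⟩ : ↥(Subgroup.zpowers y)) ∈
        Subgroup.zpowers (⟨g, hgy⟩ : ↥(Subgroup.zpowers y)) :=
      mem_zpowers_of_prime_card hcardy (fun h0 => hg1 (congrArg Subtype.val h0))
    obtain ⟨k, hk⟩ := Subgroup.mem_zpowers_iff.mp h1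
    have hk' : g ^ k = y := by
      have := congrArg Subtype.val hk
      simpa using this
    apply hyx
    rw [← hk']
    exact Subgroup.zpow_mem _ hgx k
  have hcard := Helper11.card_sup_eq (Subgroup.zpowers x) (Subgroup.zpowers y) hyN hdisj
  rw [Nat.card_zpowers, Nat.card_zpowers, hox, hoy] at hcard
  have hcyc : IsCyclic ↥(Subgroup.zpowers x ⊔ Subgroup.zpowers y) := h _ _ _ hp hp hcard
  have hxA : x ∈ Subgroup.zpowers x ⊔ Subgroup.zpowers y :=
    Subgroup.mem_sup_left (Subgroup.mem_zpowers x)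
  have hyA : y ∈ Subgroup.zpowers x ⊔ Subgroup.zpowers y :=
    Subgroup.mem_sup_right (Subgroup.mem_zpowers y)
  exact hyx (Helper10.mem_zpowers_of_orderOf_dvd' _ hcyc hyA hxA (by rw [hox, hoy]))

/-- a `p`-group in which subgroups of order `p²` are cyclic has at most one subgroup of order `p` -/
theorem PQ.uniqueOrderP (h : PQ P) {p : ℕ} [Fact p.Prime] (hP : IsPGroup p P) :
    UniqueOrderP p P := by
  have hp : p.Prime := Fact.out
  intro x y hx hx1 hy
  have hnt : Nontrivial P := ⟨⟨x, 1, hx1⟩⟩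
  have hcn : Nontrivial (Subgroup.center P) := hP.center_nontrivial
  obtain ⟨z0, hz0⟩ := exists_ne (1 : Subgroup.center P)
  obtain ⟨z, hzc, hz1, hzp⟩ : ∃ z : P, z ∈ Subgroup.center P ∧ z ≠ 1 ∧ z ^ p = 1 := by
    have hex : ∃ k, (z0 : P) ^ p ^ k = 1 := hP (z0 : P)
    classical
    have hk := Nat.find_spec hex
    have hk0 : Nat.find hex ≠ 0 := by
      intro h0
      rw [h0, pow_zero, pow_one] at hk
      exact hz0 (Subtype.ext hk)
    obtain ⟨j, hj⟩ := Nat.exists_eq_succ_of_ne_zero hk0
    refine ⟨(z0 : P) ^ p ^ j, pow_mem z0.2 _, ?_, ?_⟩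
    · exact Nat.find_min hex (by omega)
    · rw [← pow_mul, ← pow_succ, ← Nat.succ_eq_add_one, ← hj]
      exact hk
  have hzx : z ∈ Subgroup.zpowers x :=
    h.mem_zpowers_of_commute (Subgroup.mem_center_iff.mp hzc x) hx hx1 hzp
  have hyz : y ∈ Subgroup.zpowers z :=
    h.mem_zpowers_of_commute (Subgroup.mem_center_iff.mp hzc y).symm hzp hz1 hy
  exact (Subgroup.zpowers_le.mpr hzx) hyz

end Unique

theorem uniqueOrderP_of_injective {X Y : Type*} [Group X] [Group Y] {p : ℕ}
    (h : UniqueOrderP p Y) (f : X →* Y) (hf : Function.Injective f) : UniqueOrderP p X := by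
  intro x y hx hx1 hy
  have h1 := h (f x) (f y) (by rw [← map_pow, hx, map_one])
    (fun h0 => hx1 (hf (by rw [h0, map_one]))) (by rw [← map_pow, hy, map_one])
  obtain ⟨k, hk⟩ := Subgroup.mem_zpowers_iff.mp h1
  refine Subgroup.mem_zpowers_iff.mpr ⟨k, ?_⟩
  apply hf
  rw [map_zpow, hk]

section AutTwo

/-- if `T` is a self-centralizing normal `2`-subgroup with `Aut T` a `2`-group, the whole group is
a `2`-group -/
theorem isPGroup_two_of_mulAut {X : Type*} [Group X] (T : Subgroup X) [T.Normal]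
    (hT : IsPGroup 2 T) (hcent : Subgroup.centralizer (T : Set X) ≤ T)
    (hA : IsPGroup 2 (MulAut T)) : IsPGroup 2 X := by
  intro g
  obtain ⟨k, hk⟩ := hA (MulAut.conjNormal g)
  have hgc : g ^ 2 ^ k ∈ Subgroup.centralizer (T : Set X) := by
    rw [Subgroup.mem_centralizer_iff]
    intro t ht
    have h1 : MulAut.conjNormal (g ^ 2 ^ k) (⟨t, ht⟩ : T) = ⟨t, ht⟩ := by
      rw [map_pow, hk]; rfl
    have h2 := congrArg Subtype.val h1
    rw [MulAut.conjNormal_apply] at h2
    simp only at h2
    calc t * g ^ 2 ^ k = (g ^ 2 ^ k * t * (g ^ 2 ^ k)⁻¹) * g ^ 2 ^ k := by rw [h2]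
      _ = g ^ 2 ^ k * t := by group
  obtain ⟨l, hl⟩ := hT ⟨g ^ 2 ^ k, hcent hgc⟩
  refine ⟨k + l, ?_⟩
  have := congrArg Subtype.val hl
  simp only [Subgroup.coe_pow, Subgroup.coe_one] at this
  rw [pow_add, pow_mul]
  exact this

theorem isPGroup_two_mulAut_of_isCyclic {T : Type*} [Group T] [Finite T] [IsCyclic T]
    (hT : IsPGroup 2 T) : IsPGroup 2 (MulAut T) := by
  obtain ⟨k, hk⟩ := hT.exists_card_eq
  rcases Nat.eq_zero_or_pos k with rfl | hk0
  · apply IsPGroup.of_card (n := 0)
    rw [IsCyclic.card_mulAut, hk]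
    simp
  · apply IsPGroup.of_card (n := k - 1)
    rw [IsCyclic.card_mulAut, hk, Nat.totient_prime_pow Nat.prime_two hk0]
    simp

end AutTwo

section QuatSign

/-- the homomorphism of a generalized quaternion group onto a group of order two inside `S₄` -/
def quatSign (m : ℕ) : QuaternionGroup m →* Equiv.Perm (Fin 4) where
  toFun g := match g with
    | .a _ => 1
    | .xa _ => Equiv.swap 0 1
  map_one' := rfl
  map_mul' := by
    rintro (i | i) (j | j)
    · simp [QuaternionGroup.a_mul_a]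
    · simp [QuaternionGroup.a_mul_xa]
    · simp [QuaternionGroup.xa_mul_a]
    · simp [QuaternionGroup.xa_mul_xa]

theorem quatSign_eq_one {m : ℕ} {g : QuaternionGroup m} (h : quatSign m g = 1) :
    ∃ i, g = QuaternionGroup.a i := by
  cases g with
  | a i => exact ⟨i, rfl⟩
  | xa i =>
    exfalso
    have h1 : (Equiv.swap (0 : Fin 4) 1) = 1 := h
    have h2 := congrArg (fun σ : Equiv.Perm (Fin 4) => σ 0) h1
    simp at h2

theorem commute_of_quatSign {m : ℕ} {g h : QuaternionGroup m} (hg : quatSign m g = 1)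
    (hh : quatSign m h = 1) : g * h = h * g := by
  obtain ⟨i, rfl⟩ := quatSign_eq_one hg
  obtain ⟨j, rfl⟩ := quatSign_eq_one hh
  rw [QuaternionGroup.a_mul_a, QuaternionGroup.a_mul_a, add_comm]

end QuatSign

section Main

/-- a `2`-group with a unique involution maps to `S₄` with abelian kernel -/
theorem exists_hom_of_two_group {X : Type*} [Group X] [Finite X] (hX : IsPGroup 2 X)
    (hu : UniqueOrderP 2 X) :
    ∃ ψ : X →* Equiv.Perm (Fin 4), ∀ a ∈ ψ.ker, ∀ b ∈ ψ.ker, a * b = b * a := by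
  have : Fact (Nat.Prime 2) := ⟨Nat.prime_two⟩
  rcases Helper10.isCyclic_or_quaternion_of_uniqueOrderP hX hu with hc | ⟨-, n, ⟨e⟩⟩
  · refine ⟨1, fun a _ b _ => ?_⟩
    exact (IsCyclic.commGroup (α := X)).mul_comm a b
  · refine ⟨(quatSign _).comp e.toMonoidHom, fun a ha b hb => ?_⟩
    have ha' : quatSign _ (e a) = 1 := ha
    have hb' : quatSign _ (e b) = 1 := hb
    have := commute_of_quatSign ha' hb'
    apply e.injective
    rw [map_mul, map_mul, this]

variable {G : Type*} [Group G] [Finite G]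

theorem eq_one_of_mem_two_group_of_mem_odd {P O : Subgroup G} (hP : IsPGroup 2 P)
    (hO : (Nat.card O).Coprime 2) {g : G} (hgP : g ∈ P) (hgO : g ∈ O) : g = 1 := by
  obtain ⟨k, hk⟩ := hP ⟨g, hgP⟩
  have hk' : g ^ 2 ^ k = 1 := by
    have := congrArg Subtype.val hk
    simpa using this
  have h1 : orderOf g ∣ 2 ^ k := orderOf_dvd_of_pow_eq_one hk'
  have h2 : orderOf g ∣ Nat.card O := Subgroup.orderOf_dvd_natCard O hgO
  have h3 : (2 ^ k).Coprime (Nat.card O) := (Nat.Coprime.pow_right k hO).symm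
  exact orderOf_eq_one_iff.mp (Nat.eq_one_of_dvd_coprimes h3 h1 h2)

/-- the homomorphism to `S₄` on the quotient by the odd core -/
theorem exists_hom_quot (hsol : Group.IsSolvable G) (hpq : PQ G) :
    ∃ ψ : (G ⧸ pPrimeCore 2 G) →* Equiv.Perm (Fin 4),
      ∀ a ∈ ψ.ker, ∀ b ∈ ψ.ker, a * b = b * a := by
  have hf2 : Fact (Nat.Prime 2) := ⟨Nat.prime_two⟩
  set O : Subgroup G := pPrimeCore 2 G with hO
  have hOn : O.Normal := Helper1.pPrimeCore_normal 2
  have hOodd : (Nat.card O).Coprime 2 := Helper1.pPrimeCore_coprime 2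
  set π : G →* G ⧸ O := QuotientGroup.mk' O with hπ
  have hπs : Function.Surjective π := QuotientGroup.mk'_surjective O
  have hbot : pPrimeCore 2 (G ⧸ O) = ⊥ := Helper10.pPrimeCore_quotient_eq_bot 2
  have hsolq : Group.IsSolvable (G ⧸ O) := solvable_of_surjective hπs
  set T : Subgroup (G ⧸ O) := pCore 2 (G ⧸ O) with hT
  have hTn : T.Normal := Helper1.pCore_normal 2
  have hT2 : IsPGroup 2 T := Helper1.pCore_isPGroup 2
  have hcent : Subgroup.centralizer (T : Set (G ⧸ O)) ≤ T := Helper1.centralizer_pCore_le 2 hbot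
  -- a Sylow 2-subgroup and its image
  let S : Sylow 2 G := default
  have hSu : UniqueOrderP 2 S := (hpq.subgroup S).uniqueOrderP S.2
  let φ : S →* ↥((S : Subgroup G).map π) := π.subgroupMap S
  have hφs : Function.Surjective φ := π.subgroupMap_surjective S
  have hφi : Function.Injective φ := by
    rw [injective_iff_map_eq_one]
    intro s hs
    have h1 : π (s : G) = 1 := congrArg Subtype.val hs
    have h2 : (s : G) ∈ O := (QuotientGroup.eq_one_iff _).mp h1
    exact Subtype.ext (eq_one_of_mem_two_group_of_mem_odd S.2 hOodd s.2 h2)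
  let e : S ≃* ↥((S : Subgroup G).map π) := MulEquiv.ofBijective φ ⟨hφi, hφs⟩
  have hSbar : UniqueOrderP 2 ↥((S : Subgroup G).map π) :=
    uniqueOrderP_of_injective hSu e.symm.toMonoidHom e.symm.injective
  have hTS : T ≤ (S : Subgroup G).map π := by
    have := Helper1.pCore_le_sylow (S.mapSurjective hπs)
    rwa [Sylow.coe_mapSurjective] at this
  have hTu : UniqueOrderP 2 T :=
    uniqueOrderP_of_injective hSbar (Subgroup.inclusion hTS) (Subgroup.inclusion_injective hTS)
  -- the `2`-group case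
  have htwo : IsPGroup 2 (G ⧸ O) → ∃ ψ : (G ⧸ O) →* Equiv.Perm (Fin 4),
      ∀ a ∈ ψ.ker, ∀ b ∈ ψ.ker, a * b = b * a := by
    intro h2
    apply exists_hom_of_two_group h2
    have htop : (S : Subgroup G).map π = ⊤ := by
      have h3 : IsPGroup 2 (⊤ : Subgroup (G ⧸ O)) := h2.to_subgroup ⊤
      have := (S.mapSurjective hπs).is_maximal' h3 le_top
      exact this.symm
    let e2 : (G ⧸ O) ≃* ↥((S : Subgroup G).map π) :=
      (Subgroup.topEquiv.symm).trans (MulEquiv.subgroupCongr htop.symm)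
    exact uniqueOrderP_of_injective hSbar e2.toMonoidHom e2.injective
  rcases Helper10.isCyclic_or_quaternion_of_uniqueOrderP hT2 hTu with hTc | ⟨-, j, ⟨eT⟩⟩
  · exact htwo (isPGroup_two_of_mulAut T hT2 hcent (isPGroup_two_mulAut_of_isCyclic hT2))
  · rcases Nat.lt_or_ge j 1 with hj | hj
    · -- `j = 0`: cyclic of order four
      have hj0 : j = 0 := by omega
      subst hj0
      have hcyc : IsCyclic (QuaternionGroup (2 ^ 0)) := by
        rw [pow_zero]; exact QuaternionGroup.quaternionGroup_one_isCyclic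
      have hTc : IsCyclic T := isCyclic_of_surjective eT.symm eT.symm.surjective
      exact htwo (isPGroup_two_of_mulAut T hT2 hcent (isPGroup_two_mulAut_of_isCyclic hT2))
    · rcases Nat.lt_or_ge j 2 with hj2 | hj2
      · -- `j = 1`: `T ≅ Q₈`
        have hj1 : j = 1 := by omega
        subst hj1
        rw [pow_one] at eT
        obtain ⟨eA⟩ := Helper16.mulAut_q8_equiv_perm
        refine ⟨eA.toMonoidHom.comp ((MulAut.congr eT).toMonoidHom.comp MulAut.conjNormal), ?_⟩
        have hker : ∀ a : G ⧸ O, a ∈ (eA.toMonoidHom.comp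
            ((MulAut.congr eT).toMonoidHom.comp (MulAut.conjNormal (H := T)))).ker →
            a ∈ Subgroup.centralizer (T : Set (G ⧸ O)) := by
          intro a ha
          have h1 : eA ((MulAut.congr eT) (MulAut.conjNormal a)) = 1 := ha
          have h2 : (MulAut.conjNormal a : MulAut T) = 1 := by
            have h3 : (MulAut.congr eT) (MulAut.conjNormal a) = 1 := by
              apply eA.injective; rw [h1, map_one]
            apply (MulAut.congr eT).injective; rw [h3, map_one]
          rw [Subgroup.mem_centralizer_iff]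
          intro t ht
          have h4 : MulAut.conjNormal a (⟨t, ht⟩ : T) = ⟨t, ht⟩ := by rw [h2]; rfl
          have h5 := congrArg Subtype.val h4
          rw [MulAut.conjNormal_apply] at h5
          simp only at h5
          calc t * a = (a * t * a⁻¹) * a := by rw [h5]
            _ = a * t := by group
        intro a ha b hb
        have hac := hker a ha
        have hbT : b ∈ T := hcent (hker b hb)
        exact ((Subgroup.mem_centralizer_iff.mp hac) b hbT).symm
      · -- `j ≥ 2`
        have hA : IsPGroup 2 (MulAut (QuaternionGroup (2 ^ j))) := by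
          have h0 := Cfsg.Agent.H26.isPGroup_two_mulAut_quaternion (j + 2) (by omega)
          rwa [Nat.add_sub_cancel] at h0
        have hAT : IsPGroup 2 (MulAut T) := hA.of_equiv (MulAut.congr eT).symm
        exact htwo (isPGroup_two_of_mulAut T hT2 hcent hAT)

/-- **the `2`-structure**: a finite solvable group with `PQ` has a homomorphism to `S₄` whose
kernel has abelian `2`-subgroups -/
theorem exists_hom_perm_four (hsol : Group.IsSolvable G) (hpq : PQ G) :
    ∃ f : G →* Equiv.Perm (Fin 4), ∀ P : Subgroup G, IsPGroup 2 P → P ≤ f.ker →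
      ∀ a ∈ P, ∀ b ∈ P, a * b = b * a := by
  obtain ⟨ψ, hψ⟩ := exists_hom_quot hsol hpq
  have hOn : (pPrimeCore 2 G).Normal := Helper1.pPrimeCore_normal 2
  have hOodd : (Nat.card (pPrimeCore 2 G)).Coprime 2 := Helper1.pPrimeCore_coprime 2
  refine ⟨ψ.comp (QuotientGroup.mk' (pPrimeCore 2 G)), fun P hP hPk a ha b hb => ?_⟩
  have h1 := hψ (QuotientGroup.mk' (pPrimeCore 2 G) a) (hPk ha)
    (QuotientGroup.mk' (pPrimeCore 2 G) b) (hPk hb)
  rw [← map_mul, ← map_mul, QuotientGroup.mk'_eq_mk'] at h1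
  obtain ⟨z, hz, hzab⟩ := h1
  have hzP : z ∈ P := by
    have : z = (a * b)⁻¹ * (b * a) := by rw [← hzab]; group
    rw [this]
    exact P.mul_mem (P.inv_mem (P.mul_mem ha hb)) (P.mul_mem hb ha)
  have hz1 := eq_one_of_mem_two_group_of_mem_odd hP hOodd hzP hz
  rw [hz1, mul_one] at hzab
  exact hzab

end Main

end Cfsg.Agent.Lib.Helper24.ZFrob
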