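import Mathlib
import Cfsg.Agent.Lib.Helper1.FrobConj2
import Cfsg.Agent.Lib.Helper1.FpfCyclic
import Cfsg.Agent.Lib.Helper24.ZFrobTwo

/-!
# Helper24 library: structure of solvable Frobenius complements

* `pq_of_frobenius_complement`: Frobenius complements satisfy `PQ`.
* `solvable_pq_structure`: a finite solvable group with `PQ` has a normal subgroup `G₀`, the kernel
  of a homomorphism to `S₄`, which is a Z-group with a metacyclic presentation.
-/

set_option autoImplicit false

namespace Cfsg.Agent.Lib.Helper24.ZFrob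

open Cfsg Cfsg.Agent.Lib
open Cfsg.Agent.Lib.Helper10 (UniqueOrderP)

/-- subgroups of order `pq` of Frobenius complements are cyclic -/
theorem pq_of_frobenius_complement {G : Type*} [Group G] {L : Type*} [Group L] [Finite L]
    {H : Subgroup L} (hH : Cfsg.IsFrobeniusComplement H) (φ : G ≃* H) : PQ G := by
  obtain ⟨N, hN⟩ := Helper1.FrobData.exists_of_isFrobeniusComplement hH
  obtain ⟨V, hVN, hVc, hVne, hHV⟩ := hN.exists_invariant_abelian
  have hfpfV : ∀ a ∈ H, a ≠ 1 → V ⊓ Subgroup.centralizer {a} = ⊥ := by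
    intro a ha ha1
    rw [eq_bot_iff, ← hN.fpf' a ha ha1]
    exact inf_le_inf_right _ hVN
  have hPQH : PQ H := by
    intro A₀ p q hp hq hcard
    set A : Subgroup L := A₀.map H.subtype with hA
    have hAH : A ≤ H := Subgroup.map_subtype_le _
    have hAcard : Nat.card A = p * q := by
      rw [hA, Subgroup.card_subtype, hcard]
    have hcyc : IsCyclic A := Helper1.isCyclic_of_fpf_of_card_eq_mul A V hVne (hAH.trans hHV)
      (fun a ha ha1 => hfpfV a (hAH ha) ha1) hp hq hAcard
    exact isCyclic_of_surjective (A₀.equivMapOfInjective H.subtype H.subtype_injective).symm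
      (A₀.equivMapOfInjective H.subtype H.subtype_injective).symm.surjective
  exact hPQH.of_injective φ.toMonoidHom φ.injective

section Structure

variable {G : Type*} [Group G] [Finite G]

/-- Sylow subgroups of a subgroup with abelian `2`-subgroups are cyclic under `PQ` -/
theorem sylow_isCyclic_of_pq (hpq : PQ G) (K : Subgroup G)
    (hK : ∀ P : Subgroup G, IsPGroup 2 P → P ≤ K → ∀ a ∈ P, ∀ b ∈ P, a * b = b * a)
    (p : ℕ) [Fact p.Prime] (P : Sylow p K) : IsCyclic P := by
  have hu : UniqueOrderP p P := ((hpq.subgroup K).subgroup P).uniqueOrderP P.2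
  rcases Helper10.isCyclic_or_quaternion_of_uniqueOrderP P.2 hu with h | ⟨rfl, -⟩
  · exact h
  · have h2 : IsPGroup 2 ((P : Subgroup K).map K.subtype) := P.2.map K.subtype
    have hle : (P : Subgroup K).map K.subtype ≤ K := Subgroup.map_subtype_le _
    have hcomm : ∀ a b : P, a * b = b * a := by
      intro a b
      have ha : ((a : K) : G) ∈ (P : Subgroup K).map K.subtype := ⟨a, a.2, rfl⟩
      have hb : ((b : K) : G) ∈ (P : Subgroup K).map K.subtype := ⟨b, b.2, rfl⟩
      have := hK _ h2 hle _ ha _ hb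
      apply Subtype.ext
      apply Subtype.ext
      exact this
    exact Helper10.isCyclic_of_comm_of_uniqueOrderP P.2 hcomm hu

/-- **structure of solvable groups with `PQ`** (in particular solvable Frobenius complements) -/
theorem solvable_pq_structure (hsol : Group.IsSolvable G) (hpq : PQ G) :
    ∃ G₀ : Subgroup G, G₀.Normal ∧
      (∃ f : G →* Equiv.Perm (Fin 4), f.ker = G₀) ∧
      (∀ (p : ℕ) [Fact p.Prime] (P : Sylow p G₀), IsCyclic P) ∧
      ∃ n m r : ℕ, 0 < n ∧ 0 < m ∧ Nat.Coprime (r - 1) m ∧ Nat.Coprime n m ∧ 1 ≤ r ∧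
        r ^ (n / ∏ p ∈ n.primeFactors, p) % m = 1 % m ∧
        Nonempty (G₀ ≃* PresentedGroup
          ({FreeGroup.of (0 : Fin 2) ^ n, FreeGroup.of (1 : Fin 2) ^ m,
            (FreeGroup.of (0 : Fin 2))⁻¹ * FreeGroup.of 1 * FreeGroup.of 0 *
              (FreeGroup.of (1 : Fin 2) ^ r)⁻¹} : Set (FreeGroup (Fin 2)))) := by
  obtain ⟨f, hf⟩ := exists_hom_perm_four hsol hpq
  have hsyl : ∀ (p : ℕ) [Fact p.Prime] (P : Sylow p f.ker), IsCyclic P :=
    fun p _ P => sylow_isCyclic_of_pq hpq f.ker hf p P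
  refine ⟨f.ker, MonoidHom.normal_ker f, ⟨f, rfl⟩, hsyl, ?_⟩
  have hZ : IsZGroup f.ker := ⟨fun p hp P => by
    have : Fact p.Prime := ⟨hp⟩
    exact hsyl p P⟩
  obtain ⟨n, m, r, x, y, hn, hm, hr1m, hnm, hr1, hpow, hxn, hym, hyr, hgen, hcard⟩ :=
    exists_metacyclic_data (hpq.subgroup f.ker)
  exact ⟨n, m, r, hn, hm, hr1m, hnm, hr1, hpow,
    nonempty_mulEquiv_presented x y n m r hn hm hxn hym hyr hgen hcard⟩

end Structure

end Cfsg.Agent.Lib.Helper24.ZFrob
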