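import Cfsg.Agent.Lib.Helper28.SylAlt.Defs

/-!
S2221 farm (architect helper28), piece [B1]: `sign_act` and `actHom_injective`.
-/

set_option autoImplicit false

namespace Cfsg.Agent.Lib.Helper28.SylAlt

open SW Equiv

variable {m : ℕ}

namespace Helper24

/-- the sign character of `ZMod 2`. -/
def sg (c : ZMod 2) : ℤˣ := if c = 0 then 1 else -1

theorem sg_add (c d : ZMod 2) : sg (c + d) = sg c * sg d := by
  revert c d
  decide

theorem sg_zero : sg 0 = 1 := by decide

theorem sg_sum {ι : Type*} (s : Finset ι) (f : ι → ZMod 2) :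
    ∏ i ∈ s, sg (f i) = sg (∑ i ∈ s, f i) := by
  classical
  induction s using Finset.induction_on with
  | empty => simp [sg_zero]
  | insert a s ha ih =>
    rw [Finset.prod_insert ha, Finset.sum_insert ha, ih, sg_add]

theorem sign_addRight (c : ZMod 2) : Perm.sign (Equiv.addRight c : Perm (ZMod 2)) = sg c := by
  revert c
  decide

theorem act_vec (v : Fin m → ZMod 2) :
    SW.act (vec v) = Equiv.prodCongrRight (fun i => (Equiv.addRight (v i) : Perm (ZMod 2))) := by
  ext p <;> simp [SW.act]

theorem act_prm (t : Perm (Fin m)) :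
    SW.act (prm t) = Equiv.prodCongrLeft (fun _ : ZMod 2 => t) := by
  ext p <;> simp [SW.act]

theorem eq_vec_mul_prm (a : SW m) : a = vec a.v * prm a.t := by
  ext i <;> simp

theorem act_mul (a b : SW m) : SW.act (a * b) = SW.act a * SW.act b :=
  map_mul (SW.actHom : SW m →* Perm (Fin m × ZMod 2)) a b

end Helper24

open Helper24 in
theorem sign_act (a : SW m) : Perm.sign (SW.act a) = if ∑ i, a.v i = 0 then 1 else -1 := by
  have h1 : SW.act a = SW.act (vec a.v) * SW.act (prm a.t) := by
    conv_lhs => rw [eq_vec_mul_prm a]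
    exact act_mul _ _
  rw [h1, Perm.sign_mul, act_vec, act_prm, Perm.sign_prodCongrRight, Perm.sign_prodCongrLeft]
  have h2 : (∏ _k : ZMod 2, Perm.sign a.t) = 1 := by
    rw [Finset.prod_const]
    have : (Finset.univ : Finset (ZMod 2)).card = 2 := by decide
    rw [this]
    exact Int.units_sq _
  rw [h2, mul_one]
  simp_rw [sign_addRight]
  rw [sg_sum]
  rfl

theorem actHom_injective : Function.Injective (SW.actHom : SW m →* Perm (Fin m × ZMod 2)) := by
  intro a b hab
  have h : ∀ p, SW.act a p = SW.act b p := fun p => by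
    have := congrArg (fun f => f p) hab
    exact this
  have ht : a.t = b.t := by
    ext i
    have := congrArg Prod.fst (h (i, 0))
    simp only [SW.act, Equiv.coe_fn_mk] at this
    rw [this]
  have hv : a.v = b.v := by
    funext j
    have := congrArg Prod.snd (h (a.t⁻¹ j, 0))
    simp only [SW.act, Equiv.coe_fn_mk, zero_add] at this
    rw [← ht] at this
    simpa using this
  exact SW.ext hv ht

end Cfsg.Agent.Lib.Helper28.SylAlt
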