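import Cfsg.Agent.Lib.Helper28.SylAlt.Defs

/-!
S2221 farm (architect helper28), piece [B2]: `card_Y`.
-/

set_option autoImplicit false

namespace Cfsg.Agent.Lib.Helper28.SylAlt

open SW Equiv

variable {m : ℕ}

namespace Helper24

/-- `X T ≃ (Fin m → ZMod 2) × T`. -/
def xEquiv (T : Subgroup (Perm (Fin m))) : ↥(X T) ≃ (Fin m → ZMod 2) × ↥T where
  toFun a := (a.1.v, ⟨a.1.t, a.2⟩)
  invFun p := ⟨⟨p.1, p.2.1⟩, p.2.2⟩
  left_inv _ := rfl
  right_inv _ := rfl

theorem card_X (T : Subgroup (Perm (Fin m))) : Nat.card ↥(X T) = 2 ^ m * Nat.card ↥T := by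
  rw [Nat.card_congr (xEquiv T), Nat.card_prod]
  congr 1
  rw [Nat.card_eq_fintype_card, Fintype.card_fun, ZMod.card, Fintype.card_fin]

/-- the parity on `X T`. -/
def parX (T : Subgroup (Perm (Fin m))) : ↥(X T) →* Multiplicative (ZMod 2) :=
  SW.par.comp (X T).subtype

theorem parX_surjective (T : Subgroup (Perm (Fin m))) (hm : 1 ≤ m) :
    Function.Surjective (parX T) := by
  intro c
  have hm' : 0 < m := hm
  let e : SW m := vec (Pi.single (⟨0, hm'⟩ : Fin m) (Multiplicative.toAdd c))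
  have he : e ∈ X T := by
    rw [mem_X]
    exact T.one_mem
  refine ⟨⟨e, he⟩, ?_⟩
  show Multiplicative.ofAdd (∑ i, e.v i) = c
  have : ∑ i, e.v i = Multiplicative.toAdd c := by
    show ∑ i, (Pi.single (⟨0, hm'⟩ : Fin m) (Multiplicative.toAdd c) : Fin m → ZMod 2) i = _
    rw [Finset.sum_pi_single']
    simp
  rw [this]
  rfl

theorem ker_parX (T : Subgroup (Perm (Fin m))) : (parX T).ker = (Y T).subgroupOf (X T) := by
  ext a
  rw [MonoidHom.mem_ker, Subgroup.mem_subgroupOf]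
  show SW.par a.1 = 1 ↔ a.1 ∈ Y T
  have ha : a.1 ∈ T.comap tHom := a.2
  constructor
  · intro h
    exact ⟨ha, h⟩
  · intro h
    exact h.2

theorem Y_le_X (T : Subgroup (Perm (Fin m))) : Y T ≤ X T := inf_le_left

end Helper24

open Helper24 in
theorem card_Y (T : Subgroup (Perm (Fin m))) (hm : 1 ≤ m) :
    Nat.card ↥(Y T) = 2 ^ (m - 1) * Nat.card ↥T := by
  have h1 : Nat.card ↥((parX T).ker) * (parX T).ker.index = Nat.card ↥(X T) :=
    Subgroup.card_mul_index _
  have h2 : (parX T).ker.index = 2 := by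
    rw [Subgroup.index_ker, MonoidHom.range_eq_top.mpr (parX_surjective T hm)]
    rw [Nat.card_congr (Subgroup.topEquiv (G := Multiplicative (ZMod 2))).toEquiv]
    rw [Nat.card_eq_fintype_card]
    rfl
  have h3 : Nat.card ↥((parX T).ker) = Nat.card ↥(Y T) := by
    rw [ker_parX]
    exact Nat.card_congr (Subgroup.subgroupOfEquivOfLe (Y_le_X T)).toEquiv
  rw [h2, h3, card_X] at h1
  obtain ⟨k, rfl⟩ : ∃ k, m = k + 1 := ⟨m - 1, by omega⟩
  rw [Nat.add_sub_cancel]
  rw [pow_succ] at h1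
  have : Nat.card ↥(Y T) * 2 = (2 ^ k * Nat.card ↥T) * 2 := by
    rw [h1]; ring
  exact Nat.eq_of_mul_eq_mul_right (by norm_num) this

end Cfsg.Agent.Lib.Helper28.SylAlt
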