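import Mathlib
import Cfsg.Agent.Lib.Helper13.UOmDefs
import Cfsg.Agent.Lib.Helper13.S5700FOG0

/-!
# S5700 FO-II (helper13 farm-out): a direction outside `(Kv)^⊥` gives everything
-/

set_option autoImplicit false
set_option linter.unusedSectionVars false
set_option linter.unusedVariables false

namespace Cfsg.Agent.Lib.Helper24.S5700FOII

open Matrix Module QuadraticMap Cfsg.Agent.Lib.Helper6 Cfsg.Agent.Lib.Helper13
open Cfsg.Agent.Lib.Helper13.OND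

universe u
variable {F : Type u} [Field F] [Fintype F] {ι : Type} [Fintype ι] [DecidableEq ι]
variable {Q : QuadraticForm F (ι → F)} {δ : Matrix ι ι F} {τ ν : F} {M : Subgroup (GL ι F)}

/-- singular vectors of `(Kv)^⊥` lie in `Lsub M v` as soon as some direction `w` with
`polar (δ v) w ≠ 0` does -/
theorem sing_mem_of_dir (hU : UStr Q δ τ ν) (hM : ∀ y, Q y = 0 → SIn Q M y (δ *ᵥ y))
    (v : ι → F) (hv : Q v = 0) (w : ι → F) (hw : w ∈ Lsub M v hv)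
    (hwδ : polar (⇑Q) (δ *ᵥ v) w ≠ 0) (y : ι → F) (hy : Q y = 0) (hyK : y ∈ KPerp Q δ v) :
    y ∈ Lsub M v hv := by
  have hvw : polar (⇑Q) v w = 0 := (mem_Lsub.mp hw).2.1
  obtain ⟨hvy, hdvy⟩ := mem_KPerp.mp hyK
  have hvK : v ∈ KPerp Q δ v := hU.Kl_le_KPerp hv (self_mem_Kl δ v)
  have hvyK : v + y ∈ KPerp Q δ v := (KPerp Q δ v).add_mem hvK hyK
  have hQvy : Q (v + y) = 0 := by
    rw [Q_add, hv, hy, hvy]
    simp
  have m1 := Lsub_move hU hM hv hy hyK hw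
  have m2 := Lsub_move hU hM hv hQvy hvyK hw
  have hk : (polar (⇑Q) (δ *ᵥ v) w + polar (⇑Q) (δ *ᵥ y) w) • v
      - polar (⇑Q) y w • (δ *ᵥ v) ∈ Lsub M v hv := by
    apply Kl_le_Lsub hU hM hv
    exact mem_Kl.mpr ⟨polar (⇑Q) (δ *ᵥ v) w + polar (⇑Q) (δ *ᵥ y) w, -(polar (⇑Q) y w), by module⟩
  have h3 := (Lsub M v hv).sub_mem ((Lsub M v hv).sub_mem m2 m1) hk
  have e : polar (⇑Q) (δ *ᵥ (v + y)) w • (v + y) - polar (⇑Q) (v + y) w • (δ *ᵥ (v + y))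
      - (polar (⇑Q) (δ *ᵥ y) w • y - polar (⇑Q) y w • (δ *ᵥ y))
      - ((polar (⇑Q) (δ *ᵥ v) w + polar (⇑Q) (δ *ᵥ y) w) • v - polar (⇑Q) y w • (δ *ᵥ v))
      = polar (⇑Q) (δ *ᵥ v) w • y := by
    rw [mulVec_add, polar_add_left, polar_add_left, hvw]
    module
  rw [e] at h3
  have h4 := (Lsub M v hv).smul_mem (polar (⇑Q) (δ *ᵥ v) w)⁻¹ h3
  rwa [smul_smul, inv_mul_cancel₀ hwδ, one_smul] at h4

/-- FO-II: a direction outside `(Kv)^⊥` gives everything -/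
theorem full_step (hU : UStr Q δ τ ν) (hQ : (polarBilin Q).Nondegenerate)
    (hn : 14 ≤ Fintype.card ι) (hM : ∀ y, Q y = 0 → SIn Q M y (δ *ᵥ y))
    (v : ι → F) (hv0 : v ≠ 0) (hv : Q v = 0) (w : ι → F) (hw : w ∈ Lsub M v hv)
    (hwδ : polar (⇑Q) (δ *ᵥ v) w ≠ 0) : OrX Q M v := by
  obtain ⟨X, hXnd, hXdim, hXδ, hXK, hXint, hXdec⟩ := exists_KX hU hQ hn v hv0 hv
  have hsing := sing_mem_of_dir hU hM v hv w hw hwδ
  have hXL : X ≤ Lsub M v hv := by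
    by_contra hne
    obtain ⟨z, hzX, hQz, hzL⟩ := exists_singular_not_mem Q X (Lsub M v hv) hXnd (by omega) hne
    exact hzL (hsing z hQz (hXK hzX))
  have hKL : KPerp Q δ v ≤ Lsub M v hv := by
    intro z hz
    obtain ⟨k, hk, x, hx, rfl⟩ := hXdec z hz
    exact (Lsub M v hv).add_mem (Kl_le_Lsub hU hM hv hk) (hXL hx)
  apply OrX_of_SIn hv
  intro z hvz
  obtain ⟨c, hc⟩ : ∃ c, c = polar (⇑Q) (δ *ᵥ v) z / polar (⇑Q) (δ *ᵥ v) w := ⟨_, rfl⟩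
  have hvw : polar (⇑Q) v w = 0 := (mem_Lsub.mp hw).2.1
  have h1 : z - c • w ∈ KPerp Q δ v := by
    refine mem_KPerp.mpr ⟨?_, ?_⟩
    · rw [polar_sub_right, polar_smul_right, hvz, hvw]
      simp
    · rw [polar_sub_right, polar_smul_right, hc, smul_eq_mul, div_mul_cancel₀ _ hwδ, sub_self]
  have h2 := (Lsub M v hv).add_mem (hKL h1) ((Lsub M v hv).smul_mem c hw)
  rw [sub_add_cancel] at h2
  exact mem_Lsub.mp h2

end Cfsg.Agent.Lib.Helper24.S5700FOII
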