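import Mathlib
import Cfsg.Agent.Lib.Helper13.UOmDefs

/-!
# S5700 FO-V (helper13 farm-out): leaving `(Kv)^⊥` by one conjugation
-/

set_option autoImplicit false
set_option linter.unusedSectionVars false
set_option linter.unusedVariables false

namespace Cfsg.Agent.Lib.Helper24.S5700FOV

open Matrix Module QuadraticMap Cfsg.Agent.Lib.Helper6 Cfsg.Agent.Lib.Helper13
open Cfsg.Agent.Lib.Helper13.OND

universe u
variable {F : Type u} [Field F] [Fintype F] {ι : Type} [Fintype ι] [DecidableEq ι]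
variable {Q : QuadraticForm F (ι → F)} {δ : Matrix ι ι F} {τ ν : F} {M : Subgroup (GL ι F)}

/-- a vector `v0` with `polar v v0 = 0` and `polar (δ v) v0 = 1` -/
theorem exists_dual (hU : UStr Q δ τ ν) (hQ : (polarBilin Q).Nondegenerate)
    (v : ι → F) (hv0 : v ≠ 0) :
    ∃ v0 : ι → F, polar (⇑Q) v v0 = 0 ∧ polar (⇑Q) (δ *ᵥ v) v0 = 1 := by
  have hex : ∃ u, polar (⇑Q) v u ≠ 0 := by
    by_contra hcon
    push Not at hcon
    apply hv0
    apply hQ.1 v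
    intro y
    rw [polarBilin_apply_apply]
    exact hcon y
  obtain ⟨u, hu⟩ := hex
  obtain ⟨p, hp⟩ : ∃ p, p = polar (⇑Q) v u := ⟨_, rfl⟩
  obtain ⟨q, hq⟩ : ∃ q, q = polar (⇑Q) (δ *ᵥ v) u := ⟨_, rfl⟩
  have hD : q ^ 2 + q * (-p) * τ + (-p) ^ 2 * ν ≠ 0 := by
    apply hU.norm_ne
    right
    rw [hp]
    exact neg_ne_zero.mpr hu
  obtain ⟨D, hDdef⟩ : ∃ D, D = q ^ 2 + q * (-p) * τ + (-p) ^ 2 * ν := ⟨_, rfl⟩
  rw [← hDdef] at hD
  have h1 : polar (⇑Q) v (δ *ᵥ u) = τ * p - q := by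
    rw [hU.adj', ← hp, ← hq]
  have h2 : polar (⇑Q) (δ *ᵥ v) (δ *ᵥ u) = ν * p := by
    rw [hU.polar_dd, ← hp]
  refine ⟨((q - τ * p) / D) • u + (p / D) • (δ *ᵥ u), ?_, ?_⟩
  · rw [polar_add_right, polar_smul_right, polar_smul_right, h1, ← hp]
    simp only [smul_eq_mul]
    field_simp
    ring
  · rw [polar_add_right, polar_smul_right, polar_smul_right, h2, ← hq]
    simp only [smul_eq_mul]
    field_simp
    rw [hDdef]
    ring

/-- FO-V: leaving `(Kv)^⊥` by one conjugation -/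
theorem escape (hU : UStr Q δ τ ν) (hQ : (polarBilin Q).Nondegenerate)
    (hn : 14 ≤ Fintype.card ι) (hM : ∀ y, Q y = 0 → SIn Q M y (δ *ᵥ y))
    (hfs : ∀ (v : ι → F) (hv : Q v = 0), v ≠ 0 → ∀ w ∈ Lsub M v hv,
      polar (⇑Q) (δ *ᵥ v) w ≠ 0 → OrX Q M v)
    (hall : ∀ (v : ι → F) (hv : Q v = 0), v ≠ 0 → KPerp Q δ v ≤ Lsub M v hv)
    (v : ι → F) (hv0 : v ≠ 0) (hv : Q v = 0) : OrX Q M v := by
  obtain ⟨v0, hvv0, hdv0⟩ := exists_dual hU hQ v hv0
  -- basic values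
  have hvv : polar (⇑Q) v v = 0 := by rw [polar_self, hv, smul_zero]
  have hvd : polar (⇑Q) v (δ *ᵥ v) = 0 := hU.polar_self_delta hv
  have hdv : polar (⇑Q) (δ *ᵥ v) v = 0 := by rw [polar_comm]; exact hvd
  have hQd : Q (δ *ᵥ v) = 0 := hU.Q_delta hv
  have hdd : polar (⇑Q) (δ *ᵥ v) (δ *ᵥ v) = 0 := by rw [polar_self, hQd, smul_zero]
  -- the singular vector v'
  obtain ⟨v', hv'def⟩ : ∃ v', v' = v0 - Q v0 • (δ *ᵥ v) := ⟨_, rfl⟩
  have hQv' : Q v' = 0 := by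
    rw [hv'def, Q_sub, Q_smul, hQd, polar_smul_right, polar_comm (⇑Q) v0 (δ *ᵥ v), hdv0]
    simp
  have hvv' : polar (⇑Q) v v' = 0 := by
    rw [hv'def, polar_sub_right, polar_smul_right, hvv0, hvd]
    simp
  have hdvv' : polar (⇑Q) (δ *ᵥ v) v' = 1 := by
    rw [hv'def, polar_sub_right, polar_smul_right, hdv0, hdd]
    simp
  have hv'0 : v' ≠ 0 := by
    intro h0
    rw [h0, polar_zero_right] at hdvv'
    exact zero_ne_one hdvv'
  have hv'v : polar (⇑Q) v' v = 0 := by rw [polar_comm]; exact hvv'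
  have hv'dv : polar (⇑Q) v' (δ *ᵥ v) = 1 := by rw [polar_comm]; exact hdvv'
  have hv'v' : polar (⇑Q) v' v' = 0 := by rw [polar_self, hQv', smul_zero]
  have hv'dv' : polar (⇑Q) v' (δ *ᵥ v') = 0 := hU.polar_self_delta hQv'
  have hvdv' : polar (⇑Q) v (δ *ᵥ v') = -1 := by
    rw [hU.adj', hvv', hdvv']
    ring
  have hdvdv' : polar (⇑Q) (δ *ᵥ v) (δ *ᵥ v') = 0 := by
    rw [hU.polar_dd, hvv', mul_zero]
  -- a nonzero w' in KPerp v ⊓ KPerp v'
  have hcut := finrank_cut2 Q (⊤ : Submodule F (ι → F)) v (δ *ᵥ v)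
  rw [finrank_top, Module.finrank_fintype_fun_eq_card] at hcut
  obtain ⟨w', hw'P, hw'0, hw'1, hw'2⟩ := exists_ne_zero_cut2 Q
    (((⊤ : Submodule F (ι → F)) ⊓ LinearMap.ker (polarBilin Q v)) ⊓
      LinearMap.ker (polarBilin Q (δ *ᵥ v))) v' (δ *ᵥ v') (by omega)
  simp only [Submodule.mem_inf, LinearMap.mem_ker, polarBilin_apply_apply, Submodule.mem_top,
    true_and] at hw'P
  obtain ⟨hw'3, hw'4⟩ := hw'P
  -- w' ⟂ v, δv, v', δv'
  have hw'v : polar (⇑Q) w' v = 0 := by rw [polar_comm]; exact hw'3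
  have hw'dv : polar (⇑Q) w' (δ *ᵥ v) = 0 := by rw [polar_comm]; exact hw'4
  have hw'v' : polar (⇑Q) w' v' = 0 := by rw [polar_comm]; exact hw'1
  have hw'dv' : polar (⇑Q) w' (δ *ᵥ v') = 0 := by rw [polar_comm]; exact hw'2
  -- u with polar w' u ≠ 0
  have hex : ∃ u, polar (⇑Q) w' u ≠ 0 := by
    by_contra hcon
    push Not at hcon
    apply hw'0
    apply hQ.1 w'
    intro y
    rw [polarBilin_apply_apply]
    exact hcon y
  obtain ⟨u, hu⟩ := hex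
  obtain ⟨w, hwdef⟩ : ∃ w, w = u - polar (⇑Q) v' u • (δ *ᵥ v) - polar (⇑Q) (δ *ᵥ v) u • v'
      + polar (⇑Q) v u • (δ *ᵥ v') := ⟨_, rfl⟩
  have hvw : polar (⇑Q) v w = 0 := by
    rw [hwdef]
    simp only [polar_add_right, polar_sub_right, polar_smul_right, smul_eq_mul, hvd, hvv', hvdv']
    ring
  have hdvw : polar (⇑Q) (δ *ᵥ v) w = 0 := by
    rw [hwdef]
    simp only [polar_add_right, polar_sub_right, polar_smul_right, smul_eq_mul, hdd, hdvv',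
      hdvdv']
    ring
  have hv'w : polar (⇑Q) v' w = 0 := by
    rw [hwdef]
    simp only [polar_add_right, polar_sub_right, polar_smul_right, smul_eq_mul, hv'dv, hv'v',
      hv'dv']
    ring
  have hw'w : polar (⇑Q) w' w = polar (⇑Q) w' u := by
    rw [hwdef]
    simp only [polar_add_right, polar_sub_right, polar_smul_right, smul_eq_mul, hw'dv, hw'v',
      hw'dv']
    ring
  -- ρ ∈ M
  have hw'K : w' ∈ KPerp Q δ v' := mem_KPerp.mpr ⟨hw'1, hw'2⟩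
  have hS1 : SIn Q M v' w' := hall v' hQv' hv'0 hw'K
  have hρ := hS1.mem hQv' hw'1
  -- w ∈ Lsub M v
  have hwK : w ∈ KPerp Q δ v := mem_KPerp.mpr ⟨hvw, hdvw⟩
  have hS2 : SIn Q M v w := hall v hv hv0 hwK
  have hS3 := SIn.conj hS2 (siegIso Q v' w' hQv' hw'1) hρ
  have e1 : gact Q (siegIso Q v' w' hQv' hw'1) v = v := by
    rw [gact_siegIso, hw'v, hv'v]
    simp
  have e2 : gact Q (siegIso Q v' w' hQv' hw'1) w = w + polar (⇑Q) w' u • v' := by
    rw [gact_siegIso, hw'w, hv'w]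
    simp
  rw [e1, e2] at hS3
  have hS4 : SIn Q M v (w + polar (⇑Q) w' u • v' - w) := SIn.sub hS3 hS2
  rw [add_sub_cancel_left] at hS4
  have hS5 := hS4.smul (polar (⇑Q) w' u)⁻¹
  rw [smul_smul, inv_mul_cancel₀ hu, one_smul] at hS5
  exact hfs v hv hv0 v' hS5 (by rw [hdvv']; exact one_ne_zero)

end Cfsg.Agent.Lib.Helper24.S5700FOV
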