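import Cfsg.Agent.Lib.Helper24.CovPerm

/-!
# Stem extensions from permutation-group certificates: the Boolean certificate for the group data
-/

set_option autoImplicit false

namespace Cfsg.Agent.Lib.Helper24.Cov

open Cfsg.Agent.Lib.Helper28.BSGS
open scoped commutatorElement

/-- Boolean certificate: `Γ = genGroup N w gens` has order `codeSize levels`; the element `z` of the
tables `tz, tzi` lies in `Γ`, is central of order `m`, is `⁅a, b⁆ * ⁅c, d⁆` for elements of `Γ`, fixes the
points below `k`, and the pointwise stabilizer of the points below `k` consists of powers of `z`. -/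
def dataCert (N w k m : ℕ) (gens : List (ℕ × ℕ)) (levels : List CLevel) (tz tzi : ℕ)
    (ta tai tb tbi tc tci td tdi : ℕ) : Bool :=
  gensOK N w gens && checkChain N w gens levels &&
  pairOK N w tz tzi && siftB N w levels [tz] &&
  ((List.range k).all fun a => look w tz a == a) &&
  (gens.all fun g => wordEq N w [tz, g.1] [g.1, tz]) &&
  wordId N w (List.replicate m tz) &&
  ((List.range m).all fun j => (j == 0) || !(wordId N w (List.replicate j tz))) &&
  ((kerGens w k gens levels).all fun g =>
    (List.range m).any fun j => wordEq N w [g.1] (List.replicate j tz)) &&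
  pairOK N w ta tai && siftB N w levels [ta] &&
  pairOK N w tb tbi && siftB N w levels [tb] &&
  pairOK N w tc tci && siftB N w levels [tc] &&
  pairOK N w td tdi && siftB N w levels [td] &&
  wordEq N w [tz] [ta, tb, tai, tbi, tc, td, tci, tdi]

variable (N w : ℕ) [NeZero N]

theorem kerGens_subset (k : ℕ) : ∀ (levels : List CLevel) (gens : List (ℕ × ℕ)),
    ∀ g ∈ kerGens w k gens levels, g ∈ gens := by
  intro levels
  induction levels with
  | nil => intro gens g hg; exact hg
  | cons lv rest ih =>
    intro gens g hg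
    unfold kerGens at hg
    by_cases hlt : lv.1 < k
    · rw [if_pos hlt] at hg
      have h1 := ih _ g hg
      unfold nextGens at h1
      rw [List.mem_filter] at h1
      exact h1.1
    · rw [if_neg hlt] at hg; exact hg

theorem dataCert_sound (k m : ℕ) (hm : 0 < m) (hkN : k ≤ N) (gens : List (ℕ × ℕ)) (levels : List CLevel) (tz tzi : ℕ)
    (ta tai tb tbi tc tci td tdi : ℕ)
    (h : dataCert N w k m gens levels tz tzi ta tai tb tbi tc tci td tdi = true) :
    Nat.card (genGroup N w gens) = codeSize levels ∧
    ∃ hz : permOf N w tz tzi ∈ genGroup N w gens,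
      (⟨permOf N w tz tzi, hz⟩ : genGroup N w gens) ∈ Subgroup.center (genGroup N w gens) ∧
      (⟨permOf N w tz tzi, hz⟩ : genGroup N w gens) ∈ commutator (genGroup N w gens) ∧
      orderOf (⟨permOf N w tz tzi, hz⟩ : genGroup N w gens) = m ∧
      (∀ a, a < k → permOf N w tz tzi (pt N a) = pt N a) ∧
      ∀ g : genGroup N w gens, (∀ a, a < k → g.1 (pt N a) = pt N a) →
        g ∈ Subgroup.zpowers (⟨permOf N w tz tzi, hz⟩ : genGroup N w gens) := by
  unfold dataCert at h
  simp only [Bool.and_eq_true] at h
  obtain ⟨⟨⟨⟨⟨⟨⟨⟨⟨⟨⟨⟨⟨⟨⟨⟨⟨hg, hc⟩, hpz⟩, hsz⟩, hfz⟩, hcz⟩, hoz⟩, hnz⟩, hkz⟩, hpa⟩, hsa⟩, hpb⟩, hsb⟩, hpc⟩, hsc⟩,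
    hpd⟩, hsd⟩, hcomm⟩ := h
  obtain ⟨hcard, hmem⟩ := perm_main N w gens levels hg hc
  have hz : permOf N w tz tzi ∈ genGroup N w gens := hmem _ _ (actsByW_permOf N w hpz) hsz
  have ha : permOf N w ta tai ∈ genGroup N w gens := hmem _ _ (actsByW_permOf N w hpa) hsa
  have hb : permOf N w tb tbi ∈ genGroup N w gens := hmem _ _ (actsByW_permOf N w hpb) hsb
  have hc' : permOf N w tc tci ∈ genGroup N w gens := hmem _ _ (actsByW_permOf N w hpc) hsc
  have hd : permOf N w td tdi ∈ genGroup N w gens := hmem _ _ (actsByW_permOf N w hpd) hsd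
  refine ⟨hcard, hz, ?_, ?_, ?_, ?_, ?_⟩
  · -- central
    rw [Subgroup.mem_center_iff]
    rintro ⟨g, hgm⟩
    apply Subtype.ext
    show g * permOf N w tz tzi = permOf N w tz tzi * g
    have hcen : genGroup N w gens ≤ Subgroup.centralizer {permOf N w tz tzi} := by
      unfold genGroup
      rw [Subgroup.closure_le]
      intro s hs
      have hs' : s ∈ List.map (fun g => permOf N w g.1 g.2) gens := hs
      rw [List.mem_map] at hs'
      obtain ⟨g0, hg0, rfl⟩ := hs'
      rw [SetLike.mem_coe, Subgroup.mem_centralizer_iff]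
      intro y hy
      rw [Set.mem_singleton_iff] at hy
      subst hy
      rw [List.all_eq_true] at hcz
      have h1 := hcz g0 hg0
      have hp0 := gensOK_spec N w hg g0 hg0
      exact eq_of_wordEq N w
        (actsByW_cons (permOf_apply hpz) (actsByW_permOf N w hp0))
        (actsByW_cons (permOf_apply hp0) (actsByW_permOf N w hpz)) h1
    have := Subgroup.mem_centralizer_iff.mp (hcen hgm) _ (Set.mem_singleton _)
    exact this.symm
  · -- commutator
    have heq : permOf N w tz tzi =
        ⁅permOf N w ta tai, permOf N w tb tbi⁆ * ⁅permOf N w tc tci, permOf N w td tdi⁆ := by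
      rw [commutatorElement_def, commutatorElement_def]
      have hw1 : ActsByW N w
          (permOf N w ta tai * permOf N w tb tbi * (permOf N w ta tai)⁻¹ * (permOf N w tb tbi)⁻¹)
          [ta, tb, tai, tbi] := by
        have := actsByW_append N w (actsByW_append N w (actsByW_append N w
          (actsByW_permOf N w hpa) (actsByW_permOf N w hpb)) (actsByW_permOf_inv N w hpa))
          (actsByW_permOf_inv N w hpb)
        exact this
      have hw2 : ActsByW N w
          (permOf N w tc tci * permOf N w td tdi * (permOf N w tc tci)⁻¹ * (permOf N w td tdi)⁻¹)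
          [tc, td, tci, tdi] := by
        have := actsByW_append N w (actsByW_append N w (actsByW_append N w
          (actsByW_permOf N w hpc) (actsByW_permOf N w hpd)) (actsByW_permOf_inv N w hpc))
          (actsByW_permOf_inv N w hpd)
        exact this
      exact eq_of_wordEq N w (actsByW_permOf N w hpz) (actsByW_append N w hw1 hw2) hcomm
    have hin : permOf N w tz tzi ∈ ⁅genGroup N w gens, genGroup N w gens⁆ := by
      rw [heq]
      exact Subgroup.mul_mem _ (Subgroup.commutator_mem_commutator ha hb)
        (Subgroup.commutator_mem_commutator hc' hd)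
    rw [← Subgroup.map_subtype_commutator] at hin
    obtain ⟨z', hz', hzz⟩ := hin
    have : z' = ⟨permOf N w tz tzi, hz⟩ := Subtype.ext hzz
    rw [← this]; exact hz'
  · -- order
    rw [orderOf_eq_iff hm]
    refine ⟨?_, ?_⟩
    · apply Subtype.ext
      show ((⟨permOf N w tz tzi, hz⟩ : genGroup N w gens) ^ m).1 = 1
      rw [Subgroup.coe_pow]
      exact eq_one_of_wordId N w (actsByW_pow N w (permOf_apply hpz) m) hoz
    · intro j hj hj0 hpow
      rw [List.all_eq_true] at hnz
      have h1 := hnz j (List.mem_range.mpr hj)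
      have hj0' : (j == 0) = false := by
        rw [beq_eq_false_iff_ne]; omega
      rw [hj0', Bool.false_or, Bool.not_eq_true'] at h1
      have h2 : (permOf N w tz tzi) ^ j = 1 := by
        have := congrArg Subtype.val hpow
        rwa [Subgroup.coe_pow] at this
      have h3 := wordId_of_eq_one N w (actsByW_pow N w (permOf_apply hpz) j) h2
      rw [h3] at h1
      exact Bool.noConfusion h1
  · intro a ha'
    rw [List.all_eq_true] at hfz
    have h1 := hfz a (List.mem_range.mpr ha')
    rw [beq_iff_eq] at h1
    have hk : a < N := lt_of_lt_of_le ha' hkN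
    rw [permOf_pt N w hpz hk, h1]
  · rintro ⟨g, hgm⟩ hfix
    have h1 := mem_kerGens N w k levels gens hg hc g hgm hfix
    have hle : genGroup N w (kerGens w k gens levels) ≤
        Subgroup.zpowers (permOf N w tz tzi) := by
      unfold genGroup
      rw [Subgroup.closure_le]
      intro s hs
      have hs' : s ∈ List.map (fun g => permOf N w g.1 g.2) (kerGens w k gens levels) := hs
      rw [List.mem_map] at hs'
      obtain ⟨g0, hg0, rfl⟩ := hs'
      rw [List.all_eq_true] at hkz
      have h2 := hkz g0 hg0
      rw [List.any_eq_true] at h2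
      obtain ⟨j, _, hj⟩ := h2
      have hg0' := kerGens_subset w k levels gens g0 hg0
      have hp0 := gensOK_spec N w hg g0 hg0'
      have h3 : permOf N w g0.1 g0.2 = permOf N w tz tzi ^ j :=
        eq_of_wordEq N w (actsByW_permOf N w hp0) (actsByW_pow N w (permOf_apply hpz) j) hj
      rw [SetLike.mem_coe, h3]
      exact Subgroup.pow_mem _ (Subgroup.mem_zpowers _) j
    have h2 := hle h1
    rw [Subgroup.mem_zpowers_iff] at h2 ⊢
    obtain ⟨j, hj⟩ := h2
    refine ⟨j, ?_⟩
    apply Subtype.ext
    rw [Subgroup.coe_zpow]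
    exact hj
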