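import Mathlib

/-!
# S2281 FO-3 (for helper14): field generation by the squares of a generator of `Fˣ`
-/

set_option autoImplicit false

namespace Cfsg.Agent.Lib.Helper24.RU

/-- In a finite field every element is a difference of two squares. -/
theorem exists_sq_sub_sq {F : Type*} [Field F] [Finite F] (x : F) :
    ∃ s t : F, x = s ^ 2 - t ^ 2 := by
  by_cases hF : ringChar F = 2
  · obtain ⟨s, hs⟩ := FiniteField.isSquare_of_char_two hF x
    exact ⟨s, 0, by rw [hs]; ring⟩
  · have h2 : (2 : F) ≠ 0 := Ring.two_ne_zero hF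
    refine ⟨(x + 1) / 2, (x - 1) / 2, ?_⟩
    field_simp
    ring

/-- S2281 FO-3: a generator `l` of `Fˣ`; a nonzero additive subgroup stable under multiplication
by `l ^ 2` is everything. -/
theorem exists_gen_scalar {F : Type*} [Field F] [Fintype F] (hq : 4 ≤ Fintype.card F) :
    ∃ l : F, l ≠ 0 ∧ l ≠ 1 ∧ l ^ 2 ≠ 1 ∧
      ∀ A : AddSubgroup F, (∃ a ∈ A, a ≠ 0) → (∀ a ∈ A, l ^ 2 * a ∈ A) → A = ⊤ := by
  classical
  obtain ⟨g, hg⟩ := IsCyclic.exists_generator (α := Fˣ)
  have hord : orderOf g = Fintype.card F - 1 := by
    rw [orderOf_eq_card_of_forall_mem_zpowers hg, Nat.card_eq_fintype_card, Fintype.card_units]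
  have hord3 : 3 ≤ orderOf g := by omega
  refine ⟨(g : F), g.ne_zero, ?_, ?_, ?_⟩
  · intro h1
    have : g = 1 := Units.ext (by simpa using h1)
    rw [this, orderOf_one] at hord3
    omega
  · intro h1
    have : g ^ 2 = 1 := Units.ext (by simpa using h1)
    have := orderOf_le_of_pow_eq_one (by norm_num) this
    omega
  · intro A ⟨a, haA, ha0⟩ hA
    -- closure under multiplication by powers of l^2
    have hpow : ∀ (k : ℕ) (b : F), b ∈ A → ((g : F) ^ 2) ^ k * b ∈ A := by
      intro k
      induction k with
      | zero => intro b hb; simpa using hb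
      | succ k ih =>
        intro b hb
        have := hA _ (ih b hb)
        rw [pow_succ']
        rwa [mul_assoc]
    -- closure under multiplication by all squares
    have hsq : ∀ (s b : F), b ∈ A → s ^ 2 * b ∈ A := by
      intro s b hb
      by_cases hs : s = 0
      · rw [hs]; simp [A.zero_mem]
      · have hmem : Units.mk0 s hs ∈ Submonoid.powers g :=
          (mem_powers_iff_mem_zpowers).mpr (hg _)
        obtain ⟨k, hk⟩ := (Submonoid.mem_powers_iff _ _).mp hmem
        have hs' : s = (g : F) ^ k := by
          have := congrArg (fun u : Fˣ => (u : F)) hk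
          simpa using this.symm
        rw [hs', ← pow_mul, mul_comm k 2, pow_mul]
        exact hpow k b hb
    -- closure under multiplication by everything
    have hall : ∀ (x b : F), b ∈ A → x * b ∈ A := by
      intro x b hb
      obtain ⟨s, t, hst⟩ := exists_sq_sub_sq x
      rw [hst, sub_mul]
      exact A.sub_mem (hsq s b hb) (hsq t b hb)
    rw [eq_top_iff]
    intro y _
    have := hall (y * a⁻¹) a haA
    rwa [mul_assoc, inv_mul_cancel₀ ha0, mul_one] at this

end Cfsg.Agent.Lib.Helper24.RU
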