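import Mathlib
import Cfsg.Prelude.Def_Blocks

/-!
# S4427 (Brauer: few `p`-regular elements) -- shared definitions (helper24 library)

`G` is a finite group.
* `sSub k H` is the sum of the elements of the subgroup `H` in the group algebra `k[G]`.
* `phiOf ε` is the class function `g ↦ ∑ h, ε(h⁻¹ g⁻¹ h)`; for an idempotent `ε` of `ℂ[G]` it is the
  character of the left ideal `ℂ[G] ε`.
* `selfTr ε = ∑ h u, ε(u) ε(h⁻¹ u⁻¹ h)` is the trace of `x ↦ ε x ε`.
-/

set_option autoImplicit false

namespace Cfsg.Agent.Lib.Helper24.S4427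

variable {G : Type*} [Group G] [Fintype G]

/-- the sum of the elements of a subgroup, in the group algebra -/
noncomputable def sSub (k : Type*) [Semiring k] (H : Subgroup G) : MonoidAlgebra k G :=
  ∑ g ∈ (Set.toFinite (H : Set G)).toFinset, MonoidAlgebra.single g 1

theorem coeff_sSub (k : Type*) [Semiring k] (H : Subgroup G) [DecidablePred (· ∈ H)] (g : G) :
    (sSub k H).coeff g = if g ∈ H then 1 else 0 := by
  classical
  unfold sSub
  rw [MonoidAlgebra.coeff_sum, Finsupp.finsetSum_apply]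
  simp only [MonoidAlgebra.coeff_single, Finsupp.single_apply]
  rw [Finset.sum_ite_eq']
  simp only [Set.Finite.mem_toFinset, SetLike.mem_coe]

/-- the class function attached to an element of the complex group algebra -/
noncomputable def phiOf (ε : MonoidAlgebra ℂ G) : G → ℂ :=
  fun g => ∑ h : G, ε.coeff (h⁻¹ * g⁻¹ * h)

theorem phiOf_apply (ε : MonoidAlgebra ℂ G) (g : G) :
    phiOf ε g = ∑ h : G, ε.coeff (h⁻¹ * g⁻¹ * h) := rfl

/-- the trace of `x ↦ ε x ε` -/
noncomputable def selfTr (ε : MonoidAlgebra ℂ G) : ℂ :=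
  ∑ h : G, ∑ u : G, ε.coeff u * ε.coeff (h⁻¹ * u⁻¹ * h)

theorem selfTr_def (ε : MonoidAlgebra ℂ G) :
    selfTr ε = ∑ h : G, ∑ u : G, ε.coeff u * ε.coeff (h⁻¹ * u⁻¹ * h) := rfl

end Cfsg.Agent.Lib.Helper24.S4427
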