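import Mathlib

/-!
# Glauberman's lemma for an abelian transitive group, axiomatic form (helper24 library)

`A` a finite abelian group acting (through `actA`) on a set, transitively on the stable subset
`Ω₀`; `S` a group acting through `actS`, with `actS s (actA a ω) = actA (f s a) (actS s ω)` for
endomorphisms `f s` of `A`; a subgroup `S₀` of finite index prime to `|A|` acts trivially on `Ω₀`.
Then `S` fixes a point of `Ω₀`.  (No instances of `MulAction` are needed: all the actions are plain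
functions.)
-/

set_option autoImplicit false

namespace Cfsg.Agent.Lib.Helper24.AbGlauberman

theorem exists_fixed {A S Ω : Type*} [CommGroup A] [Finite A] [Group S]
    (S₀ : Subgroup S) [S₀.FiniteIndex]
    (actA : A → Ω → Ω) (actS : S → Ω → Ω) (f : S → A → A) (Ω₀ : Set Ω)
    (hA_mul : ∀ a b ω, actA (a * b) ω = actA a (actA b ω))
    (hS_mul : ∀ s t ω, actS (s * t) ω = actS s (actS t ω))
    (hf_mul : ∀ s a b, f s (a * b) = f s a * f s b)
    (hcompat : ∀ s a ω, actS s (actA a ω) = actA (f s a) (actS s ω))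
    (htriv : ∀ u ∈ S₀, ∀ ω ∈ Ω₀, actS u ω = ω)
    (hΩA : ∀ a, ∀ ω ∈ Ω₀, actA a ω ∈ Ω₀) (hΩS : ∀ s, ∀ ω ∈ Ω₀, actS s ω ∈ Ω₀)
    (htrans : ∀ ω ∈ Ω₀, ∀ ω' ∈ Ω₀, ∃ a, actA a ω = ω')
    (hcop : (Nat.card A).Coprime S₀.index) (hne : Ω₀.Nonempty) :
    ∃ ω ∈ Ω₀, ∀ s, actS s ω = ω := by
  classical
  obtain ⟨ω₀, hω₀⟩ := hne
  haveI : Fintype (S ⧸ S₀) := Subgroup.fintypeQuotientOfFiniteIndex
  -- the congruence `x ~ y :⟺ x ω₀ = y ω₀`
  have hrel_mul : ∀ x y x' y' : A, actA x ω₀ = actA y ω₀ → actA x' ω₀ = actA y' ω₀ →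
      actA (x * x') ω₀ = actA (y * y') ω₀ := by
    intro x y x' y' h h'
    rw [hA_mul, h', ← hA_mul, mul_comm, hA_mul, h, ← hA_mul, mul_comm]
  have hrel_pow : ∀ (x y : A) (k : ℕ), actA x ω₀ = actA y ω₀ →
      actA (x ^ k) ω₀ = actA (y ^ k) ω₀ := by
    intro x y k h
    induction k with
    | zero => rw [pow_zero, pow_zero]
    | succ k ih => rw [pow_succ, pow_succ]; exact hrel_mul _ _ _ _ ih h
  have hrel_prod : ∀ (t : Finset (S ⧸ S₀)) (x y : S ⧸ S₀ → A),
      (∀ q ∈ t, actA (x q) ω₀ = actA (y q) ω₀) →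
      actA (∏ q ∈ t, x q) ω₀ = actA (∏ q ∈ t, y q) ω₀ := by
    intro t x y
    induction t using Finset.induction_on with
    | empty => intro _; rw [Finset.prod_empty, Finset.prod_empty]
    | insert a t ha ih =>
      intro h
      rw [Finset.prod_insert ha, Finset.prod_insert ha]
      exact hrel_mul _ _ _ _ (h a (Finset.mem_insert_self a t))
        (ih (fun q hq => h q (Finset.mem_insert_of_mem hq)))
  obtain ⟨fs, hfs⟩ : ∃ fs : S → A →* A, ∀ s a, fs s a = f s a :=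
    ⟨fun s => MonoidHom.mk' (f s) (hf_mul s), fun s a => rfl⟩
  have hex : ∀ q : S ⧸ S₀, ∃ a : A, actA a ω₀ = actS q.out ω₀ :=
    fun q => htrans ω₀ hω₀ _ (hΩS _ ω₀ hω₀)
  choose abar habar using hex
  have key1 : ∀ s : S, actS s ω₀ = actA (abar (s : S ⧸ S₀)) ω₀ := by
    intro s
    obtain ⟨u, hu⟩ := QuotientGroup.mk_out_eq_mul S₀ s
    have h := habar (s : S ⧸ S₀)
    rw [hu, hS_mul, htriv (u : S) u.2 ω₀ hω₀] at h
    exact h.symm
  obtain ⟨m, hm⟩ : ∃ m : ℕ, m = S₀.index := ⟨_, rfl⟩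
  obtain ⟨n, hn⟩ : ∃ n : ℕ, n = Nat.card A := ⟨_, rfl⟩
  obtain ⟨c, hc⟩ : ∃ c : A, c = ∏ q : S ⧸ S₀, abar q := ⟨_, rfl⟩
  have hcard : Fintype.card (S ⧸ S₀) = m := by
    rw [hm, Subgroup.index_eq_card, Nat.card_eq_fintype_card]
  have key2 : ∀ s : S, actA c ω₀ = actA (f s c * abar (s : S ⧸ S₀) ^ m) ω₀ := by
    intro s
    have e1 : c = ∏ q : S ⧸ S₀, abar (s • q) := by
      rw [hc]
      exact (Fintype.prod_equiv (MulAction.toPerm s) (fun q => abar (s • q)) abar
        (fun q => rfl)).symm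
    have e2 : ∀ q ∈ (Finset.univ : Finset (S ⧸ S₀)),
        actA (abar (s • q)) ω₀ = actA (f s (abar q) * abar (s : S ⧸ S₀)) ω₀ := by
      intro q _
      induction q using QuotientGroup.induction_on with
      | H t =>
        rw [MulAction.Quotient.smul_mk, smul_eq_mul, ← key1 (s * t), hS_mul, key1 t, hcompat,
          key1 s, ← hA_mul]
    have e3 := hrel_prod Finset.univ _ _ e2
    rw [← e1] at e3
    rw [e3]
    congr 1
    rw [Finset.prod_mul_distrib, Finset.prod_const, Finset.card_univ, hcard]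
    congr 1
    rw [← hfs s c, hc, map_prod]
    exact Finset.prod_congr rfl (fun q _ => (hfs s _).symm)
  have hn0 : n ≠ 0 := by
    rw [hn]
    exact Nat.card_pos.ne'
  have hcop' : Nat.Coprime m n := by
    rw [hm, hn]
    exact hcop.symm
  obtain ⟨k, -, hk⟩ := Nat.exists_mul_mod_eq_of_coprime 1 hcop' hn0
  have hpow : ∀ a : A, a ^ (m * k) = a := by
    intro a
    have h1 : a ^ (m * k) = a ^ (m * k % n) := by
      rw [hn]
      exact (pow_mod_natCard a (m * k)).symm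
    have h2 : a ^ 1 = a ^ (1 % n) := by
      rw [hn]
      exact (pow_mod_natCard a 1).symm
    rw [h1, hk, ← h2, pow_one]
  refine ⟨actA (c ^ k) ω₀, hΩA _ ω₀ hω₀, ?_⟩
  intro s
  rw [hcompat, key1 s, ← hA_mul]
  have h1 := hrel_pow _ _ k (key2 s)
  rw [h1]
  congr 1
  rw [mul_pow, ← pow_mul, hpow, ← hfs s c, ← map_pow, hfs]

end Cfsg.Agent.Lib.Helper24.AbGlauberman
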