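import Mathlib
import Cfsg.Agent.Lib.Helper2.CentralExt
import Cfsg.Agent.Lib.Helper2.GaloisConjPGroup
import Cfsg.Agent.Lib.Helper25.MinNormal
import Cfsg.Agent.Lib.Helper7.Gallagher

/-!
# Linear characters act transitively on `Irr(M | θ)` for `M/N` abelian, `θ` invariant
(helper24 library)
-/

set_option autoImplicit false

namespace Cfsg.Agent.Lib.Helper24.LinearTransitive

open Cfsg Cfsg.Agent.Lib.Helper2 Cfsg.Agent.Lib.Helper11
open scoped ComplexConjugate

variable {M : Type*} [Group M] [Fintype M] (N : Subgroup M) [hN : N.Normal] [Fintype N]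

/-- `M/N` abelian, `θ ∈ Irr N` invariant in `M`, `χ, χ' ∈ Irr(M | θ)`: `χ' = λ χ` for a linear
character `λ` of `M` trivial on `N` -/
theorem exists_linear_mul_eq (hab : ∀ x y : M, x * y * x⁻¹ * y⁻¹ ∈ N)
    {θ : N → ℂ} (hθ : IsIrrCharacter N θ)
    (hinv : ∀ (g : M) (n : N), θ ⟨g * n * g⁻¹, hN.conj_mem n n.2 g⟩ = θ n)
    {χ χ' : M → ℂ} (hχ : IsIrrCharacter M χ) (hχ' : IsIrrCharacter M χ')
    (h : classInner (fun n : N => χ n) θ ≠ 0) (h' : classInner (fun n : N => χ' n) θ ≠ 0) :
    ∃ l : M →* ℂˣ, (∀ n ∈ N, l n = 1) ∧ ∀ m, χ' m = ((l m : ℂˣ) : ℂ) * χ m := by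
  classical
  haveI : Fintype (IrrCharacter M) := Fintype.ofFinite _
  have hχcf : IsClassFunction M χ := IsCharacter.isClassFunction (IsIrrCharacter.isCharacter hχ)
  have hχ'cf : IsClassFunction M χ' :=
    IsCharacter.isClassFunction (IsIrrCharacter.isCharacter hχ')
  have hset : {ψ : N → ℂ | ∃ g : M, ψ = Cfsg.Agent.Lib.Helper2.conjFun N g θ} = {θ} := by
    ext ψ
    constructor
    · rintro ⟨g, rfl⟩
      exact funext (hinv g)
    · intro hψ
      exact ⟨1, by rw [hψ, Cfsg.Agent.Lib.Helper2.conjFun_one]⟩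
  have hres : ∀ ξ : M → ℂ, IsIrrCharacter M ξ → classInner (fun n : N => ξ n) θ ≠ 0 →
      (fun n : N => ξ n) = classInner (fun n : N => ξ n) θ • θ := by
    intro ξ hξ hne
    have := clifford_restriction N hξ hθ hne
    rw [hset, finsum_mem_singleton] at this
    exact this
  have hθθ : classInner θ θ = 1 := classInner_irrCharacter_self (⟨θ, hθ⟩ : IrrCharacter N)
  have hinner : classInner (fun n : N => χ n) (fun n : N => χ' n) ≠ 0 := by
    rw [hres χ hχ h, hres χ' hχ' h', classInner_smul_left, classInner_smul_right, hθθ, mul_one]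
    apply mul_ne_zero h
    intro h0
    apply h'
    have := congrArg conj h0
    rwa [Complex.conj_conj, map_zero] at this
  have hind : classInner (indFun N (fun _ : N => (1 : ℂ)) * χ) χ' ≠ 0 := by
    rw [← Cfsg.Agent.Lib.Helper7.indFun_mul_restrict N (fun _ : N => (1 : ℂ)) χ hχcf,
      frobenius_reciprocity N _ χ' hχ'cf]
    have e : ((fun _ : N => (1 : ℂ)) * fun n : N => χ n) = fun n : N => χ n := by
      funext n
      rw [Pi.mul_apply, one_mul]
    rw [e]
    exact hinner
  have hcf1 : IsClassFunction M (indFun N (fun _ : N => (1 : ℂ))) :=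
    IsCharacter.isClassFunction (indFun_isCharacter N _
      (IsIrrCharacter.isCharacter Cfsg.Agent.Lib.Helper25.isIrrCharacter_one))
  have hexp : indFun N (fun _ : N => (1 : ℂ)) * χ
      = ∑ β : IrrCharacter M, classInner (indFun N (fun _ : N => (1 : ℂ))) (β : M → ℂ)
          • ((β : M → ℂ) * χ) := by
    funext g
    rw [Pi.mul_apply, Cfsg.Agent.Lib.Helper25.classFunction_expansion _ hcf1 g, Finset.sum_mul,
      Finset.sum_apply]
    apply Finset.sum_congr rfl
    intro β _
    rw [Pi.smul_apply, Pi.mul_apply, smul_eq_mul, mul_assoc]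
  rw [hexp, classInner_sum_left] at hind
  obtain ⟨β, -, hβ⟩ := Finset.exists_ne_zero_of_sum_ne_zero hind
  rw [classInner_smul_left] at hβ
  have hβ1 : classInner (indFun N (fun _ : N => (1 : ℂ))) (β : M → ℂ) ≠ 0 := left_ne_zero_of_mul hβ
  have hβ2 : classInner ((β : M → ℂ) * χ) χ' ≠ 0 := right_ne_zero_of_mul hβ
  have hker : ∀ n ∈ N, (β : M → ℂ) n = (β : M → ℂ) 1 :=
    CentralExt.const_on_of_lies_over_one N β.2 hβ1
  have hcomm : commutator M ≤ N := by
    rw [commutator_def, Subgroup.commutator_le]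
    intro x _ y _
    rw [commutatorElement_def]
    exact hab x y
  have hdeg : (β : M → ℂ) 1 = 1 :=
    GCP.degree_one_of_commutator_le_ker β.2 (fun g hg => hker g (hcomm hg))
  obtain ⟨l, hl⟩ := Cfsg.Agent.Lib.Helper25.exists_hom_of_linear
    (IsIrrCharacter.isCharacter β.2) hdeg
  have hirr : IsIrrCharacter M ((β : M → ℂ) * χ) :=
    Cfsg.Agent.Lib.Helper25.isIrrCharacter_linear_mul (IsIrrCharacter.isCharacter β.2) hdeg hχ
  have heq : (β : M → ℂ) * χ = χ' := eq_of_irr_of_classInner_ne_zero hirr hχ' hβ2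
  refine ⟨l, ?_, ?_⟩
  · intro n hn
    apply Units.ext
    rw [← hl n, hker n hn, hdeg]
    rfl
  · intro m
    rw [← heq, Pi.mul_apply, hl m]

end Cfsg.Agent.Lib.Helper24.LinearTransitive
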