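import Mathlib
import Cfsg.Agent.Lib.Helper2.RelChar
import Cfsg.Agent.Lib.Helper2.RelClifford2
import Cfsg.Agent.Lib.Helper24.AbGlauberman
import Cfsg.Agent.Lib.Helper24.LinearTransitive

/-!
# Invariant characters over invariant characters: solvable `K`, arbitrary coprime operators
(helper24 library; Isaacs 13.31 for `K` solvable)

`S` normalises `K` and `N ≤ K` inside an ambient finite group, `(|K|, |S|) = 1`, `K` solvable, `N`
normalised by `K`.  Every `S`-invariant `θ ∈ Irr N` lies under an `S`-invariant `χ ∈ Irr K`.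
(The case of solvable `S` is `Helper2.GlPair.exists_inv_over_solvable`.)
-/

set_option autoImplicit false
set_option linter.unusedSectionVars false
set_option linter.style.haveILetI false
set_option linter.unusedVariables false

namespace Cfsg.Agent.Lib.Helper24.CoprimeUp

open Cfsg Cfsg.Agent.Lib Cfsg.Agent.Lib.Helper2 Cfsg.Agent.Lib.Helper2.GlPG
  Cfsg.Agent.Lib.Helper2.GlSolv Cfsg.Agent.Lib.Helper2.Rel
open scoped ComplexConjugate

variable {Γ : Type*} [Group Γ] [Fintype Γ]

/-- the group of linear characters of `M` trivial on `N` -/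
def dual (M N : Subgroup Γ) : Subgroup (M →* ℂˣ) where
  carrier := {l | ∀ m : M, (m : Γ) ∈ N → l m = 1}
  one_mem' := fun m _ => rfl
  mul_mem' := by
    intro a b ha hb m hm
    rw [MonoidHom.mul_apply, ha m hm, hb m hm, one_mul]
  inv_mem' := by
    intro a ha m hm
    rw [MonoidHom.inv_apply, ha m hm, inv_one]

theorem mem_dual {M N : Subgroup Γ} {l : M →* ℂˣ} :
    l ∈ dual M N ↔ ∀ m : M, (m : Γ) ∈ N → l m = 1 := Iff.rfl

theorem dual_pow_card (M N : Subgroup Γ) (l : M →* ℂˣ) : l ^ Nat.card M = 1 := by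
  ext m
  rw [MonoidHom.pow_apply, ← map_pow, pow_card_eq_one', map_one, MonoidHom.one_apply]

theorem coprime_card_dual (M N : Subgroup Γ) (k : ℕ) (hk : (Nat.card M).Coprime k) :
    (Nat.card (dual M N)).Coprime k := by
  apply Nat.coprime_of_dvd
  intro r hr hrA hrk
  haveI : Fact r.Prime := ⟨hr⟩
  obtain ⟨a, ha⟩ := exists_prime_orderOf_dvd_card' r hrA
  have h1 : a ^ Nat.card M = 1 := by
    apply Subtype.ext
    rw [Subgroup.coe_pow, Subgroup.coe_one]
    exact dual_pow_card M N a.1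
  have h2 : r ∣ Nat.card M := by
    rw [← ha]
    exact orderOf_dvd_of_pow_eq_one h1
  have h3 : r ∣ 1 := by
    have := Nat.dvd_gcd h2 hrk
    rwa [hk] at this
  exact hr.one_lt.ne' (Nat.dvd_one.1 h3)

/-- the action of a linear character on the irreducible characters -/
noncomputable def actA (M N : Subgroup Γ) (l : dual M N) (χ : IrrCharacter M) : IrrCharacter M :=
  ⟨(fun m => ((l.1 m : ℂˣ) : ℂ)) * (χ : M → ℂ),
    Cfsg.Agent.Lib.Helper25.isIrrCharacter_linear_mul
      (IsIrrCharacter.isCharacter (Cfsg.Agent.Lib.Helper25.isIrrCharacter_of_hom l.1))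
      (by simp) χ.2⟩

theorem actA_apply (M N : Subgroup Γ) (l : dual M N) (χ : IrrCharacter M) (m : M) :
    ((actA M N l χ : IrrCharacter M) : M → ℂ) m = ((l.1 m : ℂˣ) : ℂ) * (χ : M → ℂ) m := rfl

/-- the twist of a linear character by a normalising element -/
def twist (M N : Subgroup Γ) (x : Γ) (hxM : x ∈ Subgroup.normalizer (M : Set Γ))
    (hxN : x ∈ Subgroup.normalizer (N : Set Γ)) (l : dual M N) : dual M N :=
  ⟨l.1.comp (conjE M x hxM).toMonoidHom, by
    intro m hm
    rw [MonoidHom.comp_apply]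
    apply l.2
    show ((conjE M x hxM m : M) : Γ) ∈ N
    rw [conjE_coe]
    exact (Subgroup.mem_normalizer_iff.1 hxN _).1 hm⟩

theorem twist_apply (M N : Subgroup Γ) (x : Γ) (hxM : x ∈ Subgroup.normalizer (M : Set Γ))
    (hxN : x ∈ Subgroup.normalizer (N : Set Γ)) (l : dual M N) (m : M) :
    (twist M N x hxM hxN l).1 m = l.1 (conjE M x hxM m) := rfl

/-- **the abelian step**: `M/N` abelian, `θ` invariant under `M` and `S` -/
theorem exists_inv_over_abelian (M S N : Subgroup Γ)
    (hSM : S ≤ Subgroup.normalizer (M : Set Γ)) (hNM : N ≤ M)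
    (hMN : M ≤ Subgroup.normalizer (N : Set Γ)) (hSN : S ≤ Subgroup.normalizer (N : Set Γ))
    (hab : ∀ x ∈ M, ∀ y ∈ M, x * y * x⁻¹ * y⁻¹ ∈ N)
    (hcop : (Nat.card M).Coprime (Nat.card S))
    (θ : IrrCharacter N) (hinvM : ∀ m ∈ M, InvUnder N m (θ : N → ℂ))
    (hinvS : ∀ s ∈ S, InvUnder N s (θ : N → ℂ)) :
    ∃ χ : IrrCharacter M, cinn (res hNM (χ : M → ℂ)) (θ : N → ℂ) ≠ 0 ∧
      ∀ s ∈ S, InvUnder M s (χ : M → ℂ) := by
  classical
  haveI : Fintype M := Fintype.ofFinite _
  haveI : Fintype (N.subgroupOf M) := Fintype.ofFinite _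
  haveI hNn : (N.subgroupOf M).Normal :=
    (Subgroup.normal_subgroupOf_iff_le_normalizer hNM).2 hMN
  haveI : (⊥ : Subgroup S).FiniteIndex := ⟨Subgroup.index_ne_zero_of_finite⟩
  have hSM' : ∀ s : S, (s : Γ)⁻¹ ∈ Subgroup.normalizer (M : Set Γ) :=
    fun s => hSM (inv_mem s.2)
  have hSN' : ∀ s : S, (s : Γ)⁻¹ ∈ Subgroup.normalizer (N : Set Γ) :=
    fun s => hSN (inv_mem s.2)
  obtain ⟨Ω₀, hΩ₀⟩ : ∃ Ω₀ : Set (IrrCharacter M),
      Ω₀ = {χ : IrrCharacter M | cinn (res hNM (χ : M → ℂ)) (θ : N → ℂ) ≠ 0} := ⟨_, rfl⟩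
  have hfix := AbGlauberman.exists_fixed (A := dual M N) (S := S) (Ω := IrrCharacter M)
    (⊥ : Subgroup S) (actA M N) (fun s χ => cjI M (s : Γ)⁻¹ (hSM' s) χ)
    (fun s l => twist M N (s : Γ)⁻¹ (hSM' s) (hSN' s) l) Ω₀ ?_ ?_ ?_ ?_ ?_ ?_ ?_ ?_ ?_ ?_
  · obtain ⟨χ, hχ, hfixχ⟩ := hfix
    rw [hΩ₀] at hχ
    refine ⟨χ, hχ, ?_⟩
    intro s hs
    have h1 := hfixχ ⟨s⁻¹, inv_mem hs⟩
    have h2 := (cjI_eq_self_iff M _ _ χ).1 h1
    simpa using h2
  · -- hA_mul
    intro a b χ
    apply Subtype.ext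
    funext m
    rw [actA_apply, actA_apply, actA_apply]
    show (((a * b : dual M N).1 m : ℂˣ) : ℂ) * _ = _
    rw [Subgroup.coe_mul, MonoidHom.mul_apply, Units.val_mul, mul_assoc]
  · -- hS_mul
    intro s t χ
    apply Subtype.ext
    funext m
    show (χ : M → ℂ) (conjE M _ _ m) = (χ : M → ℂ) (conjE M _ _ (conjE M _ _ m))
    apply congrArg
    apply Subtype.ext
    rw [conjE_coe, conjE_coe, conjE_coe]
    simp [mul_assoc]
  · -- hf_mul
    intro s a b
    apply Subtype.ext
    ext m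
    rw [twist_apply, Subgroup.coe_mul, MonoidHom.mul_apply, Subgroup.coe_mul,
      MonoidHom.mul_apply, twist_apply, twist_apply]
  · -- hcompat
    intro s l χ
    apply Subtype.ext
    funext m
    rfl
  · -- htriv
    intro u hu χ _
    have hu1 : u = 1 := Subgroup.mem_bot.1 hu
    subst hu1
    apply Subtype.ext
    funext m
    show (χ : M → ℂ) (conjE M _ _ m) = (χ : M → ℂ) m
    apply congrArg
    apply Subtype.ext
    rw [conjE_coe]
    simp
  · -- hΩA
    intro l χ hχ
    rw [hΩ₀] at hχ ⊢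
    have e : res hNM ((actA M N l χ : IrrCharacter M) : M → ℂ) = res hNM (χ : M → ℂ) := by
      funext n
      rw [res_apply, res_apply, actA_apply, l.2 ⟨n, hNM n.2⟩ n.2, Units.val_one, one_mul]
    show cinn (res hNM ((actA M N l χ : IrrCharacter M) : M → ℂ)) (θ : N → ℂ) ≠ 0
    rw [e]
    exact hχ
  · -- hΩS
    intro s χ hχ
    rw [hΩ₀] at hχ ⊢
    show cinn (res hNM (cj M (s : Γ)⁻¹ (hSM' s) (χ : M → ℂ))) (θ : N → ℂ) ≠ 0
    have hθ : cj N (s : Γ)⁻¹ (hSN' s) (θ : N → ℂ) = (θ : N → ℂ) :=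
      (invUnder_iff_cj_eq N _ _ _).1 (hinvS _ (inv_mem s.2))
    rw [res_cj hNM _ (hSM' s) (hSN' s), ← hθ, cinn_cj]
    exact hχ
  · -- htrans
    intro χ hχ χ' hχ'
    rw [hΩ₀] at hχ hχ'
    have hab' : ∀ x y : M, x * y * x⁻¹ * y⁻¹ ∈ N.subgroupOf M := by
      intro x y
      rw [Subgroup.mem_subgroupOf]
      exact hab x x.2 y y.2
    have hθ' : IsIrrCharacter (N.subgroupOf M) (pb M (θ : N → ℂ)) := pb_irr hNM θ.2
    have hinv' : ∀ (g : M) (n : N.subgroupOf M),
        pb M (θ : N → ℂ) ⟨g * n * g⁻¹, hNn.conj_mem n n.2 g⟩ = pb M (θ : N → ℂ) n := by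
      intro g n
      exact hinvM (g : Γ) g.2 ⟨((n : M) : Γ), Subgroup.mem_subgroupOf.1 n.2⟩ _ rfl
    have h1 : classInner (fun n : N.subgroupOf M => (χ : M → ℂ) n) (pb M (θ : N → ℂ)) ≠ 0 := by
      have hres : (fun h : N.subgroupOf M => (χ : M → ℂ) h) = pb M (res hNM (χ : M → ℂ)) := rfl
      rw [hres, classInner_pb_cinn hNM]
      exact hχ
    have h2 : classInner (fun n : N.subgroupOf M => (χ' : M → ℂ) n) (pb M (θ : N → ℂ)) ≠ 0 := by
      have hres : (fun h : N.subgroupOf M => (χ' : M → ℂ) h) = pb M (res hNM (χ' : M → ℂ)) := rfl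
      rw [hres, classInner_pb_cinn hNM]
      exact hχ'
    obtain ⟨l, hl1, hl2⟩ := LinearTransitive.exists_linear_mul_eq (N.subgroupOf M) hab' hθ' hinv'
      χ.2 χ'.2 h1 h2
    refine ⟨⟨l, fun m hm => hl1 m (Subgroup.mem_subgroupOf.2 hm)⟩, ?_⟩
    apply Subtype.ext
    funext m
    rw [actA_apply]
    exact (hl2 m).symm
  · -- hcop
    rw [Subgroup.index_bot]
    exact coprime_card_dual M N _ hcop
  · -- hne
    obtain ⟨χ, hχ⟩ := rel_exists_over hNM θ
    exact ⟨χ, by rw [hΩ₀]; exact hχ⟩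

/-- a proper normal subgroup of a solvable group is contained in a proper normal subgroup with
abelian quotient, invariant under all automorphisms fixing the subgroup -/
theorem exists_abelian_top {K : Type*} [Group K] [Group.IsSolvable K] (N : Subgroup K) [N.Normal]
    (hN : N ≠ ⊤) : N ⊔ commutator K ≠ ⊤ := by
  intro htop
  haveI : Nontrivial (K ⧸ N) := by
    rw [← not_subsingleton_iff_nontrivial]
    intro hsub
    apply hN
    rw [eq_top_iff]
    intro x _
    have : (QuotientGroup.mk x : K ⧸ N) = 1 := Subsingleton.elim _ _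
    exact (QuotientGroup.eq_one_iff x).1 this
  have h1 : commutator (K ⧸ N) < ⊤ := IsSolvable.commutator_lt_top_of_nontrivial (K ⧸ N)
  apply h1.ne
  have h2 : (N ⊔ commutator K).map (QuotientGroup.mk' N) = ⊤ := by
    rw [htop, ← MonoidHom.range_eq_map, MonoidHom.range_eq_top]
    exact QuotientGroup.mk'_surjective N
  have h3 : N.map (QuotientGroup.mk' N) = ⊥ := by
    rw [Subgroup.map_eq_bot_iff, QuotientGroup.ker_mk']
  rw [Subgroup.map_sup, h3, bot_sup_eq, commutator_def, Subgroup.map_commutator,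
    ← MonoidHom.range_eq_map, MonoidHom.range_eq_top.2 (QuotientGroup.mk'_surjective _)] at h2
  rw [commutator_def]
  exact h2

/-- **Invariant characters over invariant characters, `K` solvable** -/
theorem exists_inv_over_of_solvable :
    ∀ (n : ℕ) (K S N : Subgroup Γ), Nat.card K = n →
      S ≤ Subgroup.normalizer (K : Set Γ) → ∀ hNK : N ≤ K,
      K ≤ Subgroup.normalizer (N : Set Γ) → S ≤ Subgroup.normalizer (N : Set Γ) →
      (Nat.card K).Coprime (Nat.card S) → Group.IsSolvable K →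
      ∀ θ : IrrCharacter N, (∀ s ∈ S, InvUnder N s (θ : N → ℂ)) →
      ∃ χ : IrrCharacter K, cinn (res hNK (χ : K → ℂ)) (θ : N → ℂ) ≠ 0 ∧
        ∀ s ∈ S, InvUnder K s (χ : K → ℂ) := by
  intro n
  induction n using Nat.strong_induction_on with
  | _ n ih =>
    intro K S N hn hSK hNK hKN hSN hcop hsolv θ hθS
    by_cases hNeq : N = K
    · subst hNeq
      refine ⟨θ, ?_, hθS⟩
      have e : res hNK (θ : N → ℂ) = (θ : N → ℂ) := by
        funext x
        rfl
      rw [e]
      haveI : Fintype N := Fintype.ofFinite _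
      rw [cinn_eq, classInner_irrCharacter_self]
      exact one_ne_zero
    · haveI := hsolv
      haveI hNn : (N.subgroupOf K).Normal :=
        (Subgroup.normal_subgroupOf_iff_le_normalizer hNK).2 hKN
      have hN' : N.subgroupOf K ≠ ⊤ := by
        intro h
        apply hNeq
        exact le_antisymm hNK (Subgroup.subgroupOf_eq_top.1 h)
      have hL' := exists_abelian_top (N.subgroupOf K) hN'
      obtain ⟨L', hL'def⟩ : ∃ L' : Subgroup K, L' = N.subgroupOf K ⊔ commutator K := ⟨_, rfl⟩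
      rw [← hL'def] at hL'
      haveI hL'n : L'.Normal := by
        rw [hL'def]
        infer_instance
      obtain ⟨L, hLdef⟩ : ∃ L : Subgroup Γ, L = L'.map K.subtype := ⟨_, rfl⟩
      have hmemL : ∀ x : Γ, x ∈ L ↔ ∃ hx : x ∈ K, (⟨x, hx⟩ : K) ∈ L' := by
        intro x
        rw [hLdef]
        constructor
        · rintro ⟨y, hy, rfl⟩
          exact ⟨y.2, hy⟩
        · rintro ⟨hx, hy⟩
          exact ⟨⟨x, hx⟩, hy, rfl⟩
      have hLK : L ≤ K := fun x hx => ((hmemL x).1 hx).1
      have hNL : N ≤ L := by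
        intro x hx
        rw [hmemL]
        refine ⟨hNK hx, ?_⟩
        rw [hL'def]
        exact Subgroup.mem_sup_left (Subgroup.mem_subgroupOf.2 hx)
      have hLne : L ≠ K := by
        intro h
        apply hL'
        rw [eq_top_iff]
        intro x _
        have hx : (x : Γ) ∈ L := h ▸ x.2
        obtain ⟨hx', hx''⟩ := (hmemL _).1 hx
        exact hx''
      have hKL : K ≤ Subgroup.normalizer (L : Set Γ) := by
        apply le_normalizer_of_conj
        intro k hk x hx
        obtain ⟨hxK, hxL⟩ := (hmemL x).1 hx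
        rw [hmemL]
        refine ⟨K.mul_mem (K.mul_mem hk hxK) (K.inv_mem hk), ?_⟩
        exact hL'n.conj_mem ⟨x, hxK⟩ hxL ⟨k, hk⟩
      have hSL : S ≤ Subgroup.normalizer (L : Set Γ) := by
        apply le_normalizer_of_conj
        intro s hs x hx
        obtain ⟨hxK, hxL⟩ := (hmemL x).1 hx
        rw [hmemL]
        have hsK : s ∈ Subgroup.normalizer (K : Set Γ) := hSK hs
        refine ⟨(Subgroup.mem_normalizer_iff.1 hsK x).1 hxK, ?_⟩
        have hmap : L'.map (conjE K s hsK).toMonoidHom ≤ L' := by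
          rw [hL'def, Subgroup.map_sup]
          apply sup_le_sup
          · rintro _ ⟨y, hy, rfl⟩
            have hy' : (y : Γ) ∈ N := Subgroup.mem_subgroupOf.1 hy
            rw [Subgroup.mem_subgroupOf]
            show ((conjE K s hsK y : K) : Γ) ∈ N
            rw [conjE_coe]
            exact (Subgroup.mem_normalizer_iff.1 (hSN hs) _).1 hy'
          · have hchar : (commutator K).Characteristic := inferInstance
            exact le_of_eq (Subgroup.characteristic_iff_map_eq.1 hchar (conjE K s hsK))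
        exact hmap ⟨⟨x, hxK⟩, hxL, rfl⟩
      have habK : ∀ x ∈ K, ∀ y ∈ K, x * y * x⁻¹ * y⁻¹ ∈ L := by
        intro x hx y hy
        rw [hmemL]
        refine ⟨K.mul_mem (K.mul_mem (K.mul_mem hx hy) (K.inv_mem hx)) (K.inv_mem hy), ?_⟩
        rw [hL'def]
        apply Subgroup.mem_sup_right
        rw [commutator_def]
        have := Subgroup.commutator_mem_commutator (Subgroup.mem_top (⟨x, hx⟩ : K))
          (Subgroup.mem_top (⟨y, hy⟩ : K))
        rw [commutatorElement_def] at this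
        exact this
      have hlt : Nat.card L < n := by
        rw [← hn]
        by_contra hge
        push Not at hge
        exact hLne (Subgroup.eq_of_le_of_card_ge hLK hge)
      have hcopL : (Nat.card L).Coprime (Nat.card S) :=
        Nat.Coprime.coprime_dvd_left (Subgroup.card_dvd_of_le hLK) hcop
      have hsolvL : Group.IsSolvable L :=
        solvable_of_solvable_injective (Subgroup.inclusion_injective hLK)
      obtain ⟨ϑ, hϑθ, hϑS⟩ := ih (Nat.card L) hlt L S N rfl hSL hNL (hLK.trans hKN) hSN hcopL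
        hsolvL θ hθS
      -- the inertia group of `ϑ`
      obtain ⟨T, hTdef⟩ : ∃ T : Subgroup Γ, T = K ⊓ invSubgroup L (ϑ : L → ℂ) := ⟨_, rfl⟩
      have hLT : L ≤ T := by
        rw [hTdef]
        exact le_inf hLK (le_invSubgroup (IrrCharacter.isClassFunction ϑ))
      have hTK : T ≤ K := by
        rw [hTdef]
        exact inf_le_left
      have hTinv : ∀ t ∈ T, InvUnder L t (ϑ : L → ℂ) := by
        intro t ht
        rw [hTdef] at ht
        exact (mem_invSubgroup.1 ht.2).2
      have hST : S ≤ Subgroup.normalizer (T : Set Γ) := by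
        apply le_normalizer_of_conj
        intro s hs t ht
        rw [hTdef] at ht ⊢
        refine ⟨(Subgroup.mem_normalizer_iff.1 (hSK hs) t).1 ht.1, ?_⟩
        have hs' : s ∈ invSubgroup L (ϑ : L → ℂ) := mem_invSubgroup.2 ⟨hSL hs, hϑS s hs⟩
        exact (invSubgroup L (ϑ : L → ℂ)).mul_mem ((invSubgroup L (ϑ : L → ℂ)).mul_mem hs' ht.2)
          ((invSubgroup L (ϑ : L → ℂ)).inv_mem hs')
      have hcopT : (Nat.card T).Coprime (Nat.card S) :=
        Nat.Coprime.coprime_dvd_left (Subgroup.card_dvd_of_le hTK) hcop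
      obtain ⟨ψ, hψϑ, hψS⟩ := exists_inv_over_abelian T S L hST hLT (hTK.trans hKL) hSL
        (fun x hx y hy => habK x (hTK hx) y (hTK hy)) hcopT ϑ hTinv hϑS
      obtain ⟨χ, hχψ, huniq⟩ := rel_clifford_corr hLK hKL ϑ T hLT hTK
        (fun g hg h => by
          rw [hTdef]
          exact ⟨hg, mem_invSubgroup.2 ⟨hKL hg, h⟩⟩) ψ hψϑ
      refine ⟨χ, ?_, ?_⟩
      · have h1 := cinn_res_ne_zero_trans hNL hLT ψ ϑ θ hψϑ hϑθ
        exact cinn_res_ne_zero_trans (hNL.trans hLT) hTK χ ψ θ hχψ h1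
      · intro s hs
        rw [← cjI_eq_self_iff K s (hSK hs) χ]
        apply huniq
        show cinn (res hTK (cj K s (hSK hs) (χ : K → ℂ))) (ψ : T → ℂ) ≠ 0
        have hψ' : cj T s (hST hs) (ψ : T → ℂ) = (ψ : T → ℂ) :=
          (invUnder_iff_cj_eq T s _ _).1 (hψS s hs)
        rw [res_cj hTK s (hSK hs) (hST hs), ← hψ', cinn_cj]
        exact hχψ

end Cfsg.Agent.Lib.Helper24.CoprimeUp
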