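import Mathlib

/-!
# A normal Hall subgroup of a group with a central subgroup (helper24 library)

`Z ≤ Z(X)` of index `b`.  The elements `g` with `g ^ E = 1`, `E = |X : Z(X)| * b ^ |X|`, form a
subgroup `K` (the kernel of the transfer into the centre followed by a power map) whose order
involves only primes dividing `b`, whose index is prime to `b`, and `X = K Z`.
-/

set_option autoImplicit false

namespace Cfsg.Agent.Lib.Helper24.HallCentral

/-- if `h ^ (b ^ j) = 1` for some `j`, then already `h ^ (b ^ |X|) = 1` -/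
theorem pow_pow_card_eq_one {X : Type*} [Group X] [Finite X] (h : X) (b j : ℕ) (hb : b ≠ 0)
    (hj : h ^ (b ^ j) = 1) : h ^ (b ^ Nat.card X) = 1 := by
  have hL0 : Nat.card X ≠ 0 := Nat.card_pos.ne'
  have ho0 : orderOf h ≠ 0 := (orderOf_pos h).ne'
  have hdj : orderOf h ∣ b ^ j := orderOf_dvd_of_pow_eq_one hj
  have hdL : orderOf h ∣ Nat.card X := orderOf_dvd_natCard h
  have hoL : orderOf h ≤ Nat.card X := Nat.le_of_dvd Nat.card_pos hdL
  apply orderOf_dvd_iff_pow_eq_one.1
  rw [← Nat.factorization_prime_le_iff_dvd ho0 (pow_ne_zero _ hb)]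
  intro p hp
  rw [Nat.factorization_pow, Finsupp.smul_apply, smul_eq_mul]
  by_cases hpb : p ∣ b
  · have h1 : 1 ≤ b.factorization p := (hp.dvd_iff_one_le_factorization hb).1 hpb
    have h2 : (orderOf h).factorization p < orderOf h := Nat.factorization_lt p ho0
    calc (orderOf h).factorization p ≤ Nat.card X := by omega
      _ = Nat.card X * 1 := (mul_one _).symm
      _ ≤ Nat.card X * b.factorization p := Nat.mul_le_mul_left _ h1
  · have h1 := (Nat.factorization_le_iff_dvd ho0 (pow_ne_zero j hb)).2 hdj p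
    rw [Nat.factorization_pow, Finsupp.smul_apply, smul_eq_mul,
      Nat.factorization_eq_zero_of_not_dvd hpb, mul_zero] at h1
    omega

theorem exists_hall {X : Type*} [Group X] [Finite X] (Z : Subgroup X)
    (hZ : Z ≤ Subgroup.center X) :
    ∃ (K : Subgroup X) (E : ℕ), (∀ g : X, g ∈ K ↔ g ^ E = 1) ∧
      (∀ r : ℕ, r.Prime → r ∣ Nat.card K → r ∣ Z.index) ∧
      (K.index).Coprime Z.index ∧ ∀ g : X, ∃ k ∈ K, ∃ z ∈ Z, g = k * z := by
  classical
  haveI hZn : Z.Normal := by
    refine ⟨fun z hz g => ?_⟩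
    have : g * z = z * g := ((Subgroup.mem_center_iff.1 (hZ hz)) g)
    rw [this, mul_inv_cancel_right]
    exact hz
  obtain ⟨b, hb⟩ : ∃ b : ℕ, b = Z.index := ⟨_, rfl⟩
  have hb0 : b ≠ 0 := by
    rw [hb]
    exact Subgroup.index_ne_zero_of_finite
  obtain ⟨n₁, hn₁⟩ : ∃ n₁ : ℕ, n₁ = (Subgroup.center X).index := ⟨_, rfl⟩
  have hn₁b : n₁ ∣ b := by
    rw [hn₁, hb]
    exact Subgroup.index_dvd_of_le hZ
  obtain ⟨L, hL⟩ : ∃ L : ℕ, L = Nat.card X := ⟨_, rfl⟩
  have hφex : ∃ φ : X →* X, ∀ g : X, φ g = g ^ (n₁ * b ^ L) := by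
    refine ⟨MonoidHom.mk' (fun g => g ^ (n₁ * b ^ L)) ?_, fun g => rfl⟩
    intro g h
    show (g * h) ^ (n₁ * b ^ L) = g ^ (n₁ * b ^ L) * h ^ (n₁ * b ^ L)
    have h1 : (g * h) ^ n₁ = g ^ n₁ * h ^ n₁ := by
      have := congrArg Subtype.val (map_mul (MonoidHom.transferCenterPow X) g h)
      rw [Subgroup.coe_mul, MonoidHom.transferCenterPow_apply, MonoidHom.transferCenterPow_apply,
        MonoidHom.transferCenterPow_apply, ← hn₁] at this
      exact this
    have h2 : Commute (g ^ n₁) (h ^ n₁) := by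
      have hc : g ^ n₁ ∈ Subgroup.center X := by
        rw [hn₁, ← MonoidHom.transferCenterPow_apply]
        exact (MonoidHom.transferCenterPow X g).2
      exact ((Subgroup.mem_center_iff.1 hc) (h ^ n₁)).symm
    rw [pow_mul, pow_mul, pow_mul, h1, h2.mul_pow]
  obtain ⟨φ, hφapp⟩ := hφex
  have hmem : ∀ g : X, g ∈ φ.ker ↔ g ^ (n₁ * b ^ L) = 1 := by
    intro g
    rw [MonoidHom.mem_ker, hφapp g]
  have hprimeK : ∀ r : ℕ, r.Prime → r ∣ Nat.card φ.ker → r ∣ b := by
    intro r hr hrK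
    haveI : Fact r.Prime := ⟨hr⟩
    obtain ⟨y, hy⟩ := exists_prime_orderOf_dvd_card' r hrK
    have h1 : (y : X) ^ (n₁ * b ^ L) = 1 := (hmem y).1 y.2
    have h2 : orderOf (y : X) = r := by
      rw [Subgroup.orderOf_coe]
      exact hy
    have h3 : r ∣ n₁ * b ^ L := by
      rw [← h2]
      exact orderOf_dvd_of_pow_eq_one h1
    rcases (Nat.Prime.dvd_mul hr).1 h3 with h4 | h4
    · exact dvd_trans h4 hn₁b
    · exact hr.dvd_of_dvd_pow h4
  have hidx : (φ.ker.index).Coprime b := by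
    apply Nat.Coprime.symm
    apply Nat.coprime_of_dvd
    intro r hr hrb hridx
    haveI : Fact r.Prime := ⟨hr⟩
    rw [Subgroup.index_eq_card] at hridx
    obtain ⟨q, hq⟩ := exists_prime_orderOf_dvd_card' r hridx
    induction q using QuotientGroup.induction_on with
    | H g =>
      have h1 : ((g : X ⧸ φ.ker)) ^ r = 1 := by
        rw [← hq]
        exact pow_orderOf_eq_one _
      rw [← QuotientGroup.mk_pow, QuotientGroup.eq_one_iff, hmem] at h1
      have h2 : (g ^ n₁) ^ (b ^ (L + 1)) = 1 := by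
        obtain ⟨c, hc⟩ := hrb
        have e : n₁ * b ^ (L + 1) = r * (n₁ * b ^ L) * c := by
          rw [pow_succ, hc]
          ring
        rw [← pow_mul, e, pow_mul, pow_mul, h1, one_pow]
      have h3 := pow_pow_card_eq_one (g ^ n₁) b (L + 1) hb0 h2
      rw [← hL, ← pow_mul] at h3
      have h4 : (g : X ⧸ φ.ker) = 1 := (QuotientGroup.eq_one_iff g).2 ((hmem g).2 h3)
      rw [h4, orderOf_one] at hq
      exact hr.one_lt.ne' hq.symm
  refine ⟨φ.ker, n₁ * b ^ L, hmem, ?_, ?_, ?_⟩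
  · intro r hr hrK
    rw [← hb]
    exact hprimeK r hr hrK
  · rw [← hb]
    exact hidx
  · intro g
    obtain ⟨c, hc⟩ : ∃ c : ℕ, c = φ.ker.index := ⟨_, rfl⟩
    have hcb : Nat.Coprime c b := hc ▸ hidx
    obtain ⟨u, -, hu⟩ := Nat.exists_mul_mod_eq_of_coprime 1 hcb hb0
    -- c * u = 1 + b * t
    have hgc : g ^ c ∈ φ.ker := by
      rw [hc]
      exact Subgroup.pow_index_mem _ g
    have hgb : g ^ b ∈ Z := by
      rw [hb]
      exact Subgroup.pow_index_mem _ g
    by_cases hb1 : b = 1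
    · refine ⟨1, Subgroup.one_mem _, g, ?_, (one_mul g).symm⟩
      have := hgb
      rwa [hb1, pow_one] at this
    · have h1mod : 1 % b = 1 := Nat.mod_eq_of_lt (by omega)
      rw [h1mod] at hu
      have hdiv : c * u = 1 + b * (c * u / b) := by
        have := Nat.div_add_mod (c * u) b
        omega
      refine ⟨(g ^ c) ^ u, Subgroup.pow_mem _ hgc u, ((g ^ b) ^ (c * u / b))⁻¹,
        Subgroup.inv_mem _ (Subgroup.pow_mem _ hgb _), ?_⟩
      rw [← pow_mul, ← pow_mul, hdiv, pow_add, pow_one]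
      have : b * ((1 + b * (c * u / b)) / b) = b * (c * u / b) := by
        rw [← hdiv]
      rw [this, mul_inv_cancel_right]

end Cfsg.Agent.Lib.Helper24.HallCentral
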