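import Mathlib
import Cfsg.Agent.Lib.Helper2.GlaubermanPair
import Cfsg.Agent.Lib.Helper2.CenterIndex
import Cfsg.Agent.Lib.Helper24.CoprimeUp
import Cfsg.Agent.Lib.Helper24.HallCentral

/-!
# Invariant characters over a central subgroup (helper24 library)

`Z ≤ G` subgroups of `Γ`, `G` normal, `Z` central in `Γ`, `(|Γ : G|, |G : Z|) = 1`, and `Γ/G` or
`G/Z` solvable.  For every `β₀ ∈ Irr G` there is a `Γ`-invariant `β ∈ Irr G` with the same central
character on `Z`.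
-/

set_option autoImplicit false
set_option linter.unusedSectionVars false
set_option linter.style.haveILetI false
set_option linter.unusedVariables false

namespace Cfsg.Agent.Lib.Helper24.CentralCase

open Cfsg Cfsg.Agent.Lib Cfsg.Agent.Lib.Helper2 Cfsg.Agent.Lib.Helper2.GlPG
  Cfsg.Agent.Lib.Helper2.GlSolv Cfsg.Agent.Lib.Helper2.Rel
open scoped ComplexConjugate

/-- a central element acts by a scalar: `β(zx) β(1) = β(z) β(x)` -/
theorem central_mul {X : Type*} [Group X] [Fintype X] {β : X → ℂ} (hβ : IsIrrCharacter X β)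
    {z : X} (hz : z ∈ Subgroup.center X) (x : X) : β (z * x) * β 1 = β z * β x := by
  obtain ⟨n, ρ, hirr, rfl⟩ := hβ
  haveI := hirr
  obtain ⟨ω, hω⟩ := exists_smul_id_of_mem_center ρ hz
  have h1 : ρ.character (z * x) = ω * ρ.character x := by
    unfold Representation.character
    rw [map_mul, hω, smul_mul_assoc, map_smul, smul_eq_mul]
    rfl
  have h2 : ρ.character z = ω * ρ.character 1 := by
    have := h1
    unfold Representation.character at this ⊢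
    rw [hω, map_smul, smul_eq_mul, map_one]
    rfl
  rw [h1, h2]
  ring

/-- the central character of an irreducible character on a central subgroup, as a homomorphism -/
theorem exists_central_hom {X : Type*} [Group X] [Fintype X] {β : X → ℂ}
    (hβ : IsIrrCharacter X β) (C : Subgroup X) (hC : C ≤ Subgroup.center X) :
    ∃ ω : C →* ℂˣ, ∀ c : C, β c = ((ω c : ℂˣ) : ℂ) * β 1 := by
  have h1 : β 1 ≠ 0 := IsIrrCharacter.apply_one_ne_zero hβ
  let f : C →* ℂ :=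
    { toFun := fun c => β c / β 1
      map_one' := by
        show β ((1 : C) : X) / β 1 = 1
        rw [Subgroup.coe_one]
        exact div_self h1
      map_mul' := by
        intro c c'
        show β ((c * c' : C) : X) / β 1 = β c / β 1 * (β c' / β 1)
        have := central_mul hβ (hC c.2) (c' : X)
        rw [Subgroup.coe_mul]
        field_simp
        exact this }
  refine ⟨f.toHomUnits, fun c => ?_⟩
  rw [MonoidHom.coe_toHomUnits]
  show β c = β c / β 1 * β 1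
  field_simp

/-- an irreducible character lying over an irreducible character `λ₀` of a central subgroup
restricts to a multiple of `λ₀` -/
theorem eq_of_over_central {X : Type*} [Group X] [Fintype X] {β : X → ℂ}
    (hβ : IsIrrCharacter X β) (C : Subgroup X) [Fintype C] (hC : C ≤ Subgroup.center X)
    {l₀ : C → ℂ} (hl₀ : IsIrrCharacter C l₀)
    (hov : classInner (fun c : C => β c) l₀ ≠ 0) : ∀ c : C, β c = l₀ c * β 1 := by
  obtain ⟨ω, hω⟩ := exists_central_hom hβ C hC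
  have hirr : IsIrrCharacter C (fun c : C => ((ω c : ℂˣ) : ℂ)) :=
    Cfsg.Agent.Lib.Helper25.isIrrCharacter_of_hom ω
  have e : (fun c : C => β c) = β 1 • (fun c : C => ((ω c : ℂˣ) : ℂ)) := by
    funext c
    rw [Pi.smul_apply, smul_eq_mul, hω c, mul_comm]
  rw [e, classInner_smul_left] at hov
  have h2 := Cfsg.Agent.Lib.Helper11.eq_of_irr_of_classInner_ne_zero hirr hl₀
    (right_ne_zero_of_mul hov)
  intro c
  rw [hω c, ← h2]

/-- an irreducible character does not vanish on the centre -/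
theorem central_ne_zero {X : Type*} [Group X] [Fintype X] {β : X → ℂ}
    (hβ : IsIrrCharacter X β) {z : X} (hz : z ∈ Subgroup.center X) : β z ≠ 0 := by
  intro h0
  have h1 := central_mul hβ hz z⁻¹
  rw [mul_inv_cancel, h0, zero_mul] at h1
  have h2 : β 1 ≠ 0 := IsIrrCharacter.apply_one_ne_zero hβ
  exact (mul_ne_zero h2 h2) h1

section Relative

variable {Γ : Type*} [Group Γ] [Fintype Γ]

/-- uniqueness: an irreducible character of `G = K Z` is determined by an invariant irreducible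
constituent on `K` and its central character on `Z` -/
theorem unique_over_of_central (G K Z : Subgroup Γ) [hKn : K.Normal] (hKG : K ≤ G)
    (hZG : Z ≤ G) (hZc : Z ≤ Subgroup.center Γ)
    (hKZ : ∀ g ∈ G, ∃ k ∈ K, ∃ z ∈ Z, g = k * z)
    (κ : IrrCharacter K) (hκ : ∀ g ∈ G, InvUnder K g (κ : K → ℂ))
    (β β' : IrrCharacter G)
    (hβ : cinn (res hKG (β : G → ℂ)) (κ : K → ℂ) ≠ 0)
    (hβ' : cinn (res hKG (β' : G → ℂ)) (κ : K → ℂ) ≠ 0)
    (hcen : ∀ z : G, (z : Γ) ∈ Z →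
      (β' : G → ℂ) z * (β : G → ℂ) 1 = (β : G → ℂ) z * (β' : G → ℂ) 1) : β' = β := by
  classical
  haveI : Fintype G := Fintype.ofFinite _
  haveI : Fintype (K.subgroupOf G) := Fintype.ofFinite _
  haveI hKn' : (K.subgroupOf G).Normal := Subgroup.normal_subgroupOf
  have hab' : ∀ x y : G, x * y * x⁻¹ * y⁻¹ ∈ K.subgroupOf G := by
    intro x y
    rw [Subgroup.mem_subgroupOf]
    obtain ⟨k, hk, z, hz, hy⟩ := hKZ (y : Γ) y.2
    have hzc : ∀ w : Γ, w * z = z * w := fun w => (Subgroup.mem_center_iff.1 (hZc hz)) w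
    have e : ((x * y * x⁻¹ * y⁻¹ : G) : Γ) = ((x : Γ) * k * (x : Γ)⁻¹) * k⁻¹ := by
      show (x : Γ) * (y : Γ) * (x : Γ)⁻¹ * (y : Γ)⁻¹ = _
      have e1 : (x : Γ) * (k * z) * (x : Γ)⁻¹ = (x : Γ) * k * (x : Γ)⁻¹ * z := by
        calc (x : Γ) * (k * z) * (x : Γ)⁻¹ = (x : Γ) * k * (z * (x : Γ)⁻¹) := by group
          _ = (x : Γ) * k * ((x : Γ)⁻¹ * z) := by rw [← hzc (x : Γ)⁻¹]
          _ = (x : Γ) * k * (x : Γ)⁻¹ * z := by group
      rw [hy, mul_inv_rev, ← mul_assoc, e1, mul_inv_cancel_right]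
    rw [e]
    exact K.mul_mem (hKn.conj_mem k hk x) (K.inv_mem hk)
  have hθ' : IsIrrCharacter (K.subgroupOf G) (pb G (κ : K → ℂ)) := pb_irr hKG κ.2
  have hinv' : ∀ (g : G) (n : K.subgroupOf G),
      pb G (κ : K → ℂ) ⟨g * n * g⁻¹, hKn'.conj_mem n n.2 g⟩ = pb G (κ : K → ℂ) n := by
    intro g n
    exact hκ (g : Γ) g.2 ⟨((n : G) : Γ), Subgroup.mem_subgroupOf.1 n.2⟩ _ rfl
  have h1 : classInner (fun n : K.subgroupOf G => (β : G → ℂ) n) (pb G (κ : K → ℂ)) ≠ 0 := by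
    have hres : (fun h : K.subgroupOf G => (β : G → ℂ) h) = pb G (res hKG (β : G → ℂ)) := rfl
    rw [hres, classInner_pb_cinn hKG]
    exact hβ
  have h2 : classInner (fun n : K.subgroupOf G => (β' : G → ℂ) n) (pb G (κ : K → ℂ)) ≠ 0 := by
    have hres : (fun h : K.subgroupOf G => (β' : G → ℂ) h) = pb G (res hKG (β' : G → ℂ)) := rfl
    rw [hres, classInner_pb_cinn hKG]
    exact hβ'
  obtain ⟨l, hl1, hl2⟩ := LinearTransitive.exists_linear_mul_eq (K.subgroupOf G) hab' hθ' hinv'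
    β.2 β'.2 h1 h2
  have hdeg : (β' : G → ℂ) 1 = (β : G → ℂ) 1 := by
    rw [hl2 1, map_one, Units.val_one, one_mul]
  have hZc' : ∀ z : G, (z : Γ) ∈ Z → z ∈ Subgroup.center G := by
    intro z hz
    rw [Subgroup.mem_center_iff]
    intro w
    apply Subtype.ext
    exact (Subgroup.mem_center_iff.1 (hZc hz)) (w : Γ)
  have hlZ : ∀ z : G, (z : Γ) ∈ Z → l z = 1 := by
    intro z hz
    have h3 := hcen z hz
    rw [hl2 z, hdeg] at h3
    have h4 : (β : G → ℂ) z ≠ 0 := central_ne_zero β.2 (hZc' z hz)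
    have h5 : (β : G → ℂ) 1 ≠ 0 := IsIrrCharacter.apply_one_ne_zero β.2
    have h6 : ((l z : ℂˣ) : ℂ) = 1 := by
      have : ((l z : ℂˣ) : ℂ) * ((β : G → ℂ) z * (β : G → ℂ) 1)
          = 1 * ((β : G → ℂ) z * (β : G → ℂ) 1) := by
        rw [one_mul, ← mul_assoc]
        exact h3
      exact mul_right_cancel₀ (mul_ne_zero h4 h5) this
    exact Units.ext h6
  have hl : ∀ g : G, l g = 1 := by
    intro g
    obtain ⟨k, hk, z, hz, hg⟩ := hKZ (g : Γ) g.2
    have e : g = (⟨k, hKG hk⟩ : G) * ⟨z, hZG hz⟩ := Subtype.ext hg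
    rw [e, map_mul, hl1 _ (Subgroup.mem_subgroupOf.2 hk), hlZ _ hz, one_mul]
  apply Subtype.ext
  funext m
  rw [hl2 m, hl m, Units.val_one, one_mul]

/-- existence: adjusting the central character on `Z` of a character of `G = K Z` by a linear
character trivial on `K` -/
theorem exists_with_central (G K Z : Subgroup Γ) [hKn : K.Normal] (hKG : K ≤ G)
    (hZG : Z ≤ G) (hZc : Z ≤ Subgroup.center Γ)
    (hKZ : ∀ g ∈ G, ∃ k ∈ K, ∃ z ∈ Z, g = k * z) (β₀ β₁ : IrrCharacter G)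
    (hagree : ∀ n : G, (n : Γ) ∈ K → (n : Γ) ∈ Z →
      (β₀ : G → ℂ) n * (β₁ : G → ℂ) 1 = (β₁ : G → ℂ) n * (β₀ : G → ℂ) 1) :
    ∃ β : IrrCharacter G, (∀ k : G, (k : Γ) ∈ K → (β : G → ℂ) k = (β₁ : G → ℂ) k) ∧
      ∀ z : G, (z : Γ) ∈ Z →
        (β : G → ℂ) z * (β₀ : G → ℂ) 1 = (β₀ : G → ℂ) z * (β : G → ℂ) 1 := by
  classical
  haveI : Fintype G := Fintype.ofFinite _
  have hZ'c : Z.subgroupOf G ≤ Subgroup.center G := by
    intro z hz
    rw [Subgroup.mem_center_iff]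
    intro w
    apply Subtype.ext
    exact (Subgroup.mem_center_iff.1 (hZc (Subgroup.mem_subgroupOf.1 hz))) (w : Γ)
  haveI hK'n : (K.subgroupOf G).Normal := Subgroup.normal_subgroupOf
  obtain ⟨ω₀, hω₀⟩ := exists_central_hom β₀.2 (Z.subgroupOf G) hZ'c
  obtain ⟨ω₁, hω₁⟩ := exists_central_hom β₁.2 (Z.subgroupOf G) hZ'c
  have h01 : (β₀ : G → ℂ) 1 ≠ 0 := IsIrrCharacter.apply_one_ne_zero β₀.2
  have h11 : (β₁ : G → ℂ) 1 ≠ 0 := IsIrrCharacter.apply_one_ne_zero β₁.2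
  obtain ⟨ν, hν⟩ : ∃ ν : Z.subgroupOf G →* ℂˣ, ν = ω₀ * ω₁⁻¹ := ⟨_, rfl⟩
  have hνK : ∀ z : Z.subgroupOf G, (z : G) ∈ K.subgroupOf G → ν z = 1 := by
    intro z hz
    have h1 := hagree (z : G) (Subgroup.mem_subgroupOf.1 hz) (Subgroup.mem_subgroupOf.1 z.2)
    rw [hω₀ z, hω₁ z] at h1
    have h2 : ((ω₀ z : ℂˣ) : ℂ) = ((ω₁ z : ℂˣ) : ℂ) := by
      have : ((ω₀ z : ℂˣ) : ℂ) * ((β₀ : G → ℂ) 1 * (β₁ : G → ℂ) 1)
          = ((ω₁ z : ℂˣ) : ℂ) * ((β₀ : G → ℂ) 1 * (β₁ : G → ℂ) 1) := by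
        rw [← mul_assoc, h1]
        ring
      exact mul_right_cancel₀ (mul_ne_zero h01 h11) this
    rw [hν, MonoidHom.mul_apply, MonoidHom.inv_apply, Units.ext h2, mul_inv_cancel]
  have hdec : ∀ g : G, ∃ z : Z.subgroupOf G, g * (z : G)⁻¹ ∈ K.subgroupOf G := by
    intro g
    obtain ⟨k, hk, z, hz, hg⟩ := hKZ (g : Γ) g.2
    refine ⟨⟨⟨z, hZG hz⟩, Subgroup.mem_subgroupOf.2 hz⟩, ?_⟩
    rw [Subgroup.mem_subgroupOf]
    show (g : Γ) * z⁻¹ ∈ K
    rw [hg, mul_inv_cancel_right]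
    exact hk
  choose zf hzf using hdec
  have key : ∀ (g : G) (z : Z.subgroupOf G), g * (z : G)⁻¹ ∈ K.subgroupOf G →
      ν (zf g) = ν z := by
    intro g z hz
    have h1 : ((zf g * z⁻¹ : Z.subgroupOf G) : G) ∈ K.subgroupOf G := by
      have h2 := (K.subgroupOf G).mul_mem ((K.subgroupOf G).inv_mem (hzf g)) hz
      have e : (g * ((zf g : Z.subgroupOf G) : G)⁻¹)⁻¹ * (g * (z : G)⁻¹)
          = ((zf g * z⁻¹ : Z.subgroupOf G) : G) := by
        rw [Subgroup.coe_mul, Subgroup.coe_inv]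
        group
      rwa [e] at h2
    have h3 := hνK _ h1
    rw [map_mul, map_inv, mul_inv_eq_one] at h3
    exact h3
  have hmul : ∀ g g' : G, ν (zf (g * g')) = ν (zf g) * ν (zf g') := by
    intro g g'
    rw [← map_mul]
    apply key
    have h2 := (K.subgroupOf G).mul_mem (hzf g) (hzf g')
    have hc : ∀ w : G, w * ((zf g : Z.subgroupOf G) : G)⁻¹
        = ((zf g : Z.subgroupOf G) : G)⁻¹ * w := by
      intro w
      have := (Subgroup.mem_center_iff.1 (hZ'c ((Z.subgroupOf G).inv_mem (zf g).2))) w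
      exact this
    have e : g * ((zf g : Z.subgroupOf G) : G)⁻¹ * (g' * ((zf g' : Z.subgroupOf G) : G)⁻¹)
        = g * g' * ((zf g * zf g' : Z.subgroupOf G) : G)⁻¹ := by
      rw [Subgroup.coe_mul, mul_inv_rev, mul_assoc g, ← hc, mul_assoc g]
      simp only [mul_assoc]
    rwa [e] at h2
  obtain ⟨δ, hδ⟩ : ∃ δ : G →* ℂˣ, ∀ g, δ g = ν (zf g) :=
    ⟨MonoidHom.mk' (fun g => ν (zf g)) hmul, fun g => rfl⟩
  have hδK : ∀ k : G, (k : Γ) ∈ K → δ k = 1 := by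
    intro k hk
    rw [hδ, key k 1 (by
      rw [Subgroup.coe_one, inv_one, mul_one]
      exact Subgroup.mem_subgroupOf.2 hk), map_one]
  have hδZ : ∀ z : Z.subgroupOf G, δ (z : G) = ν z := by
    intro z
    rw [hδ, key (z : G) z (by
      rw [mul_inv_cancel]
      exact Subgroup.one_mem _)]
  have hirr : IsIrrCharacter G ((fun g => ((δ g : ℂˣ) : ℂ)) * (β₁ : G → ℂ)) :=
    Cfsg.Agent.Lib.Helper25.isIrrCharacter_linear_mul
      (IsIrrCharacter.isCharacter (Cfsg.Agent.Lib.Helper25.isIrrCharacter_of_hom δ))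
      (by simp) β₁.2
  refine ⟨⟨_, hirr⟩, ?_, ?_⟩
  · intro k hk
    show ((δ k : ℂˣ) : ℂ) * (β₁ : G → ℂ) k = (β₁ : G → ℂ) k
    rw [hδK k hk, Units.val_one, one_mul]
  · intro z hz
    show ((δ z : ℂˣ) : ℂ) * (β₁ : G → ℂ) z * (β₀ : G → ℂ) 1
      = (β₀ : G → ℂ) z * (((δ 1 : ℂˣ) : ℂ) * (β₁ : G → ℂ) 1)
    have hz' : z ∈ Z.subgroupOf G := Subgroup.mem_subgroupOf.2 hz
    have e1 := hδZ ⟨z, hz'⟩
    have e2 := hω₀ ⟨z, hz'⟩
    have e3 := hω₁ ⟨z, hz'⟩
    simp only at e1 e2 e3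
    rw [e1, e2, e3, map_one, Units.val_one, one_mul, hν, MonoidHom.mul_apply,
      MonoidHom.inv_apply, Units.val_mul, Units.val_inv_eq_inv_val]
    have hne : ((ω₁ ⟨z, hz'⟩ : ℂˣ) : ℂ) ≠ 0 := Units.ne_zero _
    field_simp

/-- commutators of `G = K Z` lie in `K` -/
theorem comm_mem_of_decomp (G K Z : Subgroup Γ) [hKn : K.Normal] (hZc : Z ≤ Subgroup.center Γ)
    (hKZ : ∀ g ∈ G, ∃ k ∈ K, ∃ z ∈ Z, g = k * z) (x y : Γ) (hy : y ∈ G) :
    x * y * x⁻¹ * y⁻¹ ∈ K := by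
  obtain ⟨k, hk, z, hz, hy⟩ := hKZ y hy
  have hzc : ∀ w : Γ, w * z = z * w := fun w => (Subgroup.mem_center_iff.1 (hZc hz)) w
  have e : x * y * x⁻¹ * y⁻¹ = (x * k * x⁻¹) * k⁻¹ := by
    have e1 : x * (k * z) * x⁻¹ = x * k * x⁻¹ * z := by
      calc x * (k * z) * x⁻¹ = x * k * (z * x⁻¹) := by group
        _ = x * k * (x⁻¹ * z) := by rw [← hzc x⁻¹]
        _ = x * k * x⁻¹ * z := by group
    rw [hy, mul_inv_rev, ← mul_assoc, e1, mul_inv_cancel_right]
  rw [e]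
  exact K.mul_mem (hKn.conj_mem k hk x) (K.inv_mem hk)

/-- a complement `S` of `K` is solvable when `Γ/G` is, `G/K` being abelian -/
theorem solvable_complement (G K Z S : Subgroup Γ) [hG : G.Normal] [hKn : K.Normal]
    (hZc : Z ≤ Subgroup.center Γ) (hKZ : ∀ g ∈ G, ∃ k ∈ K, ∃ z ∈ Z, g = k * z)
    (hS : Disjoint K S) (hsolv : Group.IsSolvable (Γ ⧸ G)) : Group.IsSolvable S := by
  have hcomm : ∀ a b : (S ⊓ G).subgroupOf S, a * b = b * a := by
    intro a b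
    have ha : ((a : S) : Γ) ∈ S ⊓ G := Subgroup.mem_subgroupOf.1 a.2
    have hb : ((b : S) : Γ) ∈ S ⊓ G := Subgroup.mem_subgroupOf.1 b.2
    have h1 := comm_mem_of_decomp G K Z hZc hKZ ((a : S) : Γ) ((b : S) : Γ) hb.2
    have h2 : ((a : S) : Γ) * ((b : S) : Γ) * ((a : S) : Γ)⁻¹ * ((b : S) : Γ)⁻¹ ∈ S :=
      S.mul_mem (S.mul_mem (S.mul_mem ha.1 hb.1) (S.inv_mem ha.1)) (S.inv_mem hb.1)
    have h3 := (Subgroup.disjoint_def.1 hS) h1 h2
    apply Subtype.ext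
    apply Subtype.ext
    show ((a : S) : Γ) * ((b : S) : Γ) = ((b : S) : Γ) * ((a : S) : Γ)
    have h4 : ((a : S) : Γ) * ((b : S) : Γ) * ((a : S) : Γ)⁻¹ * ((b : S) : Γ)⁻¹ * ((b : S) : Γ)
        * ((a : S) : Γ) = ((b : S) : Γ) * ((a : S) : Γ) := by
      rw [h3, one_mul]
    rw [← h4]
    group
  haveI : Group.IsSolvable ((S ⊓ G).subgroupOf S) := isSolvable_of_comm hcomm
  haveI := hsolv
  apply solvable_of_ker_le_range ((S ⊓ G).subgroupOf S).subtype
    ((QuotientGroup.mk' G).comp S.subtype)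
  intro s hs
  rw [MonoidHom.mem_ker, MonoidHom.comp_apply, QuotientGroup.mk'_apply,
    QuotientGroup.eq_one_iff] at hs
  exact ⟨⟨s, Subgroup.mem_subgroupOf.2 ⟨s.2, hs⟩⟩, rfl⟩

/-- `K ≤ G` is solvable when `G/Z` is, `Z` central -/
theorem solvable_of_central_quotient (G K Z : Subgroup Γ) [hZn : Z.Normal] (hKG : K ≤ G)
    (hZc : Z ≤ Subgroup.center Γ)
    (hsolv : Group.IsSolvable (G ⧸ Z.subgroupOf G)) : Group.IsSolvable K := by
  have hcomm : ∀ a b : (K ⊓ Z).subgroupOf K, a * b = b * a := by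
    intro a b
    have ha : ((a : K) : Γ) ∈ K ⊓ Z := Subgroup.mem_subgroupOf.1 a.2
    apply Subtype.ext
    apply Subtype.ext
    show ((a : K) : Γ) * ((b : K) : Γ) = ((b : K) : Γ) * ((a : K) : Γ)
    exact ((Subgroup.mem_center_iff.1 (hZc ha.2)) _).symm
  haveI : Group.IsSolvable ((K ⊓ Z).subgroupOf K) := isSolvable_of_comm hcomm
  haveI := hsolv
  apply solvable_of_ker_le_range ((K ⊓ Z).subgroupOf K).subtype
    ((QuotientGroup.mk' (Z.subgroupOf G)).comp (Subgroup.inclusion hKG))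
  intro k hk
  rw [MonoidHom.mem_ker, MonoidHom.comp_apply, QuotientGroup.mk'_apply,
    QuotientGroup.eq_one_iff, Subgroup.mem_subgroupOf] at hk
  exact ⟨⟨k, Subgroup.mem_subgroupOf.2 ⟨k.2, hk⟩⟩, rfl⟩

/-- **The central case.** -/
theorem central_case (G Z : Subgroup Γ) [hG : G.Normal] [hZn : Z.Normal] (hZG : Z ≤ G)
    (hZc : Z ≤ Subgroup.center Γ) (hcop : (G.index).Coprime (Z.relIndex G))
    (hsolv : Group.IsSolvable (Γ ⧸ G) ∨ Group.IsSolvable (G ⧸ Z.subgroupOf G))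
    (β₀ : IrrCharacter G) :
    ∃ β : IrrCharacter G, (∀ x : Γ, InvUnder G x (β : G → ℂ)) ∧
      ∀ z : G, (z : Γ) ∈ Z →
        (β : G → ℂ) z * (β₀ : G → ℂ) 1 = (β₀ : G → ℂ) z * (β : G → ℂ) 1 := by
  classical
  haveI : Fintype G := Fintype.ofFinite _
  have hZ'c : Z.subgroupOf G ≤ Subgroup.center G := by
    intro z hz
    rw [Subgroup.mem_center_iff]
    intro w
    apply Subtype.ext
    exact (Subgroup.mem_center_iff.1 (hZc (Subgroup.mem_subgroupOf.1 hz))) (w : Γ)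
  obtain ⟨KX, E, hmemK, hprimeK, hidxK, hKZX⟩ := HallCentral.exists_hall (Z.subgroupOf G) hZ'c
  obtain ⟨K, hKdef⟩ : ∃ K : Subgroup Γ, K = KX.map G.subtype := ⟨_, rfl⟩
  have hmemK' : ∀ y : Γ, y ∈ K ↔ y ∈ G ∧ y ^ E = 1 := by
    intro y
    rw [hKdef]
    constructor
    · rintro ⟨g, hg, rfl⟩
      refine ⟨g.2, ?_⟩
      have h2 := congrArg Subtype.val ((hmemK g).1 hg)
      rwa [Subgroup.coe_pow] at h2
    · rintro ⟨hy, hyE⟩
      refine ⟨⟨y, hy⟩, (hmemK _).2 (Subtype.ext ?_), rfl⟩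
      rw [Subgroup.coe_pow]
      exact hyE
  have hKG : K ≤ G := fun y hy => ((hmemK' y).1 hy).1
  haveI hKn : K.Normal := by
    refine ⟨fun y hy x => ?_⟩
    rw [hmemK'] at hy ⊢
    refine ⟨hG.conj_mem y hy.1 x, ?_⟩
    rw [conj_pow, hy.2, mul_one, mul_inv_cancel]
  have hKZ : ∀ g ∈ G, ∃ k ∈ K, ∃ z ∈ Z, g = k * z := by
    intro g hg
    obtain ⟨k, hk, z, hz, hgkz⟩ := hKZX ⟨g, hg⟩
    refine ⟨k, ?_, z, Subgroup.mem_subgroupOf.1 hz, ?_⟩
    · rw [hKdef]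
      exact ⟨k, hk, rfl⟩
    · exact congrArg Subtype.val hgkz
  have hcardK : Nat.card K = Nat.card KX := by
    rw [hKdef]
    exact Subgroup.card_map_of_injective (Subgroup.subtype_injective _)
  have hidx : K.index = KX.index * G.index := by
    rw [hKdef]
    exact Subgroup.index_map_subtype KX
  have hcopK : (Nat.card K).Coprime K.index := by
    apply Nat.coprime_of_dvd
    intro r hr hrK hrI
    have hrb : r ∣ Z.relIndex G := hprimeK r hr (hcardK ▸ hrK)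
    rw [hidx] at hrI
    rcases (Nat.Prime.dvd_mul hr).1 hrI with h | h
    · have h1 := Nat.dvd_gcd h hrb
      have h2 : Nat.gcd KX.index (Z.relIndex G) = 1 := hidxK
      rw [h2] at h1
      exact hr.one_lt.ne' (Nat.dvd_one.1 h1)
    · have h1 := Nat.dvd_gcd h hrb
      have h2 : Nat.gcd G.index (Z.relIndex G) = 1 := hcop
      rw [h2] at h1
      exact hr.one_lt.ne' (Nat.dvd_one.1 h1)
  obtain ⟨S, hS⟩ := Subgroup.exists_right_complement'_of_coprime hcopK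
  have hcardS : Nat.card S = K.index := (hS.symm.index_eq_card).symm
  have hcopKS : (Nat.card K).Coprime (Nat.card S) := by
    rw [hcardS]
    exact hcopK
  have hdecomp : ∀ x : Γ, ∃ k ∈ K, ∃ s ∈ S, x = k * s := by
    intro x
    obtain ⟨⟨k, s⟩, hks⟩ := hS.2 x
    exact ⟨k, k.2, s, s.2, hks.symm⟩
  have hnormK : ∀ A : Subgroup Γ, A ≤ Subgroup.normalizer (K : Set Γ) :=
    fun A => le_normalizer_of_conj (fun s _ k hk => hKn.conj_mem k hk s)
  have hnormG : ∀ A : Subgroup Γ, A ≤ Subgroup.normalizer (G : Set Γ) :=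
    fun A => le_normalizer_of_conj (fun s _ k hk => hG.conj_mem k hk s)
  -- the central subgroup `N₀ = K ⊓ Z`
  obtain ⟨N₀, hN₀def⟩ : ∃ N₀ : Subgroup Γ, N₀ = K ⊓ Z := ⟨_, rfl⟩
  have hN₀K : N₀ ≤ K := by
    rw [hN₀def]
    exact inf_le_left
  have hN₀Z : N₀ ≤ Z := by
    rw [hN₀def]
    exact inf_le_right
  have hN₀G : N₀ ≤ G := hN₀K.trans hKG
  have hN₀c : ∀ n ∈ N₀, ∀ x : Γ, x * n * x⁻¹ = n := by
    intro n hn x
    have := (Subgroup.mem_center_iff.1 (hZc (hN₀Z hn))) x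
    rw [this, mul_inv_cancel_right]
  have hnormN₀ : ∀ A : Subgroup Γ, A ≤ Subgroup.normalizer (N₀ : Set Γ) :=
    fun A => le_normalizer_of_conj (fun s _ n hn => by rw [hN₀c n hn s]; exact hn)
  obtain ⟨l₀, hl₀⟩ := rel_exists_constituent hN₀G β₀
  have hl₀inv : ∀ x : Γ, InvUnder N₀ x (l₀ : N₀ → ℂ) := by
    intro x g g' h
    have : g' = g := Subtype.ext (h.trans (hN₀c g g.2 x))
    rw [this]
  -- the invariant character of `K`
  have hκex : ∃ κ : IrrCharacter K, cinn (res hN₀K (κ : K → ℂ)) (l₀ : N₀ → ℂ) ≠ 0 ∧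
      ∀ s ∈ S, InvUnder K s (κ : K → ℂ) := by
    rcases hsolv with h | h
    · have hsolvS : Group.IsSolvable S :=
        solvable_complement G K Z S hZc hKZ hS.disjoint h
      exact GlPair.exists_inv_over_solvable K S N₀ (hnormK S) hN₀K (hnormN₀ K) (hnormN₀ S)
        hcopKS hsolvS l₀ (fun s _ => hl₀inv s)
    · have hsolvK : Group.IsSolvable K := solvable_of_central_quotient G K Z hKG hZc h
      exact CoprimeUp.exists_inv_over_of_solvable (Nat.card K) K S N₀ rfl (hnormK S) hN₀K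
        (hnormN₀ K) (hnormN₀ S) hcopKS hsolvK l₀ (fun s _ => hl₀inv s)
  obtain ⟨κ, hκ1, hκ2⟩ := hκex
  have hκΓ : ∀ x : Γ, InvUnder K x (κ : K → ℂ) := by
    intro x
    obtain ⟨k, hk, s, hs, rfl⟩ := hdecomp x
    have h1 : k ∈ invSubgroup K (κ : K → ℂ) :=
      le_invSubgroup (IrrCharacter.isClassFunction κ) hk
    have h2 : s ∈ invSubgroup K (κ : K → ℂ) := mem_invSubgroup.2 ⟨hnormK S hs, hκ2 s hs⟩
    exact (mem_invSubgroup.1 ((invSubgroup K (κ : K → ℂ)).mul_mem h1 h2)).2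
  obtain ⟨β₁, hβ₁⟩ := rel_exists_over hKG κ
  -- central characters on `N₀`
  haveI : Fintype (N₀.subgroupOf G) := Fintype.ofFinite _
  have hN₀'c : N₀.subgroupOf G ≤ Subgroup.center G := by
    intro z hz
    exact hZ'c (Subgroup.mem_subgroupOf.2 (hN₀Z (Subgroup.mem_subgroupOf.1 hz)))
  have hcentral : ∀ β : IrrCharacter G, cinn (res hN₀G (β : G → ℂ)) (l₀ : N₀ → ℂ) ≠ 0 →
      ∀ c : N₀.subgroupOf G, (β : G → ℂ) c = pb G (l₀ : N₀ → ℂ) c * (β : G → ℂ) 1 := by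
    intro β hβ
    apply eq_of_over_central β.2 (N₀.subgroupOf G) hN₀'c (pb_irr hN₀G l₀.2)
    have hres : (fun h : N₀.subgroupOf G => (β : G → ℂ) h) = pb G (res hN₀G (β : G → ℂ)) := rfl
    rw [hres, classInner_pb_cinn hN₀G]
    exact hβ
  have hβ₁l : cinn (res hN₀G (β₁ : G → ℂ)) (l₀ : N₀ → ℂ) ≠ 0 :=
    cinn_res_ne_zero_trans hN₀K hKG β₁ κ l₀ hβ₁ hκ1
  have hagree : ∀ n : G, (n : Γ) ∈ K → (n : Γ) ∈ Z →
      (β₀ : G → ℂ) n * (β₁ : G → ℂ) 1 = (β₁ : G → ℂ) n * (β₀ : G → ℂ) 1 := by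
    intro n hnK hnZ
    have hn : n ∈ N₀.subgroupOf G := by
      rw [Subgroup.mem_subgroupOf, hN₀def]
      exact ⟨hnK, hnZ⟩
    have e0 := hcentral β₀ hl₀ ⟨n, hn⟩
    have e1 := hcentral β₁ hβ₁l ⟨n, hn⟩
    simp only at e0 e1
    rw [e0, e1]
    ring
  obtain ⟨β, hβK, hβZ⟩ := exists_with_central G K Z hKG hZG hZc hKZ β₀ β₁ hagree
  have hβκ : cinn (res hKG (β : G → ℂ)) (κ : K → ℂ) ≠ 0 := by
    have e : res hKG (β : G → ℂ) = res hKG (β₁ : G → ℂ) := by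
      funext k
      exact hβK ⟨k, hKG k.2⟩ k.2
    rw [e]
    exact hβ₁
  refine ⟨β, ?_, hβZ⟩
  intro x
  have hxG : x ∈ Subgroup.normalizer (G : Set Γ) := hnormG ⊤ (Subgroup.mem_top x)
  have hxK : x ∈ Subgroup.normalizer (K : Set Γ) := hnormK ⊤ (Subgroup.mem_top x)
  rw [← cjI_eq_self_iff G x hxG β]
  apply unique_over_of_central G K Z hKG hZG hZc hKZ κ (fun g _ => hκΓ g) β (cjI G x hxG β) hβκ
  · show cinn (res hKG (cj G x hxG (β : G → ℂ))) (κ : K → ℂ) ≠ 0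
    have hκ' : cj K x hxK (κ : K → ℂ) = (κ : K → ℂ) :=
      (invUnder_iff_cj_eq K x hxK _).1 (hκΓ x)
    rw [res_cj hKG x hxG hxK, ← hκ', cinn_cj]
    exact hβκ
  · intro z hz
    show (β : G → ℂ) (conjE G x hxG z) * (β : G → ℂ) 1
      = (β : G → ℂ) z * (β : G → ℂ) (conjE G x hxG 1)
    have e1 : conjE G x hxG z = z := by
      apply Subtype.ext
      rw [conjE_coe]
      have := (Subgroup.mem_center_iff.1 (hZc hz)) x
      rw [this, mul_inv_cancel_right]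
    rw [e1, map_one]

end Relative

end Cfsg.Agent.Lib.Helper24.CentralCase
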