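import Mathlib
import Cfsg.Prelude.Def_Characters
import Cfsg.Agent.Lib.Helper2.BurnsidePQ
import Cfsg.Agent.Lib.Helper2.CharBasic
import Cfsg.Agent.Lib.Helper25.CharBasic
import Cfsg.Agent.Lib.Helper25.Kernel
import Cfsg.Agent.Lib.Helper25.Irred
import Cfsg.Agent.Lib.Helper25.Complete
import Cfsg.Agent.Lib.Helper7.Extraspecial

/-!
# Characters fully ramified over their centre, and the faithful quotient (helper24 library)

For an irreducible representation `ρ` of a finite group `G` on `Fin n → ℂ`, with
`Z = scalarSubgroup ρ` (the centre of the character):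
* `sq_eq_index_iff`: `n ^ 2 = [G : Z]` iff the character vanishes off `Z`;
* `exists_faithful_quotient`: `G ⧸ ker ρ` has a faithful irreducible character, and the preimage
  of its centre is `Z`.
-/

set_option autoImplicit false

namespace Cfsg.Agent.Lib.Helper24.CentralType

open Cfsg Cfsg.Agent.Lib.Helper2 Cfsg.Agent.Lib.Helper25 Cfsg.Agent.Lib.Helper7
open scoped ComplexConjugate

universe u

section CT

variable {G : Type u} [Group G] {n : ℕ} (ρ : Representation ℂ G (Fin n → ℂ))

theorem char_of_scalar {g : G} {c : ℂ} (h : ρ g = c • (LinearMap.id : (Fin n → ℂ) →ₗ[ℂ] (Fin n → ℂ))) :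
    ρ.character g = c * n := by
  unfold Representation.character
  rw [h, map_smul, LinearMap.trace_id, Module.finrank_fin_fun]
  simp

variable [Fintype G]

theorem normSq_of_mem_scalar {g : G} (hg : g ∈ scalarSubgroup ρ) :
    ρ.character g * conj (ρ.character g) = (n : ℂ) ^ 2 := by
  have h1 := (norm_char_eq_finrank_iff ρ g).2 hg
  rw [Module.finrank_fin_fun] at h1
  rw [Complex.mul_conj, Complex.normSq_eq_norm_sq, h1]
  push_cast
  rfl

theorem sum_normSq (hirr : ρ.IsIrreducible) :
    ∑ g : G, ρ.character g * conj (ρ.character g) = (Nat.card G : ℂ) := by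
  have h : IsIrrCharacter G ρ.character := ⟨n, ρ, hirr, rfl⟩
  have h1 := irr_classInner h h
  rw [if_pos rfl] at h1
  unfold classInner at h1
  have hG : (Nat.card G : ℂ) ≠ 0 := by exact_mod_cast Nat.card_pos.ne'
  field_simp at h1
  linear_combination h1

theorem sum_split (hirr : ρ.IsIrreducible) [DecidablePred (· ∈ scalarSubgroup ρ)] :
    (Nat.card (scalarSubgroup ρ) : ℂ) * (n : ℂ) ^ 2
      + ∑ g ∈ Finset.univ.filter (fun g : G => g ∉ scalarSubgroup ρ),
          ρ.character g * conj (ρ.character g) = (Nat.card G : ℂ) := by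
  rw [← sum_normSq ρ hirr,
    ← Finset.sum_filter_add_sum_filter_not Finset.univ (fun g : G => g ∈ scalarSubgroup ρ)]
  congr 1
  have h1 : ∀ g ∈ Finset.univ.filter (fun g : G => g ∈ scalarSubgroup ρ),
      ρ.character g * conj (ρ.character g) = (n : ℂ) ^ 2 := by
    intro g hg
    exact normSq_of_mem_scalar ρ (Finset.mem_filter.1 hg).2
  rw [Finset.sum_congr rfl h1, Finset.sum_const, nsmul_eq_mul]
  congr 2
  rw [Nat.card_eq_fintype_card, Fintype.card_subtype]

/-- the character is fully ramified over its centre iff it vanishes off the centre -/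
theorem sq_eq_index_iff (hirr : ρ.IsIrreducible) :
    n ^ 2 = (scalarSubgroup ρ).index ↔ ∀ g : G, g ∉ scalarSubgroup ρ → ρ.character g = 0 := by
  classical
  have hs := sum_split ρ hirr
  have hidx := Subgroup.card_mul_index (scalarSubgroup ρ)
  have hZ : (Nat.card (scalarSubgroup ρ) : ℂ) ≠ 0 := by exact_mod_cast Nat.card_pos.ne'
  constructor
  · intro h g hg
    have h1 : (Nat.card (scalarSubgroup ρ) : ℂ) * (n : ℂ) ^ 2 = (Nat.card G : ℂ) := by
      rw [← hidx, ← h]
      push_cast
      ring
    rw [h1] at hs
    have h2 : ∑ g ∈ Finset.univ.filter (fun g : G => g ∉ scalarSubgroup ρ),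
        ρ.character g * conj (ρ.character g) = 0 := by linear_combination hs
    have h3 : ∀ g : G, ρ.character g * conj (ρ.character g) = ((Complex.normSq (ρ.character g) : ℝ) : ℂ) :=
      fun g => Complex.mul_conj _
    simp only [h3] at h2
    rw [← Complex.ofReal_sum, Complex.ofReal_eq_zero] at h2
    have h4 := (Finset.sum_eq_zero_iff_of_nonneg (fun g _ => Complex.normSq_nonneg _)).1 h2 g
      (Finset.mem_filter.2 ⟨Finset.mem_univ _, hg⟩)
    exact Complex.normSq_eq_zero.1 h4
  · intro h
    have h2 : ∑ g ∈ Finset.univ.filter (fun g : G => g ∉ scalarSubgroup ρ),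
        ρ.character g * conj (ρ.character g) = 0 := by
      apply Finset.sum_eq_zero
      intro g hg
      rw [h g (Finset.mem_filter.1 hg).2, zero_mul]
    rw [h2, add_zero] at hs
    have h3 : (Nat.card (scalarSubgroup ρ) : ℂ) * (n : ℂ) ^ 2
        = (Nat.card (scalarSubgroup ρ) : ℂ) * ((scalarSubgroup ρ).index : ℂ) := by
      rw [hs, ← hidx]
      push_cast
      ring
    have h4 := mul_left_cancel₀ hZ h3
    exact_mod_cast h4

end CT

section Quot

variable {W : Type u} [Group W] {n : ℕ} (ρ : Representation ℂ W (Fin n → ℂ))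

/-- the representation of the quotient by the kernel -/
noncomputable def quotRep : Representation ℂ (W ⧸ MonoidHom.ker ρ) (Fin n → ℂ) :=
  QuotientGroup.lift (MonoidHom.ker ρ) ρ (le_refl _)

theorem quotRep_mk (w : W) : quotRep ρ (w : W ⧸ MonoidHom.ker ρ) = ρ w := rfl

theorem quotRep_injective : Function.Injective (quotRep ρ) := by
  intro a b hab
  induction a using QuotientGroup.induction_on with
  | H x =>
    induction b using QuotientGroup.induction_on with
    | H y =>
      rw [quotRep_mk, quotRep_mk] at hab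
      rw [QuotientGroup.eq, MonoidHom.mem_ker, map_mul, ← hab, ← map_mul, inv_mul_cancel, map_one]

theorem quotRep_irreducible (hirr : ρ.IsIrreducible) : (quotRep ρ).IsIrreducible := by
  have h1 : (MonoidHom.comp (quotRep ρ) (QuotientGroup.mk' (MonoidHom.ker ρ)) :
      Representation ℂ W (Fin n → ℂ)) = ρ := by
    ext w : 1
    exact quotRep_mk ρ w
  rw [← isIrreducible_comp_iff (quotRep ρ) (QuotientGroup.mk' _) (QuotientGroup.mk'_surjective _),
    h1]
  exact hirr

theorem quotRep_character (w : W) :
    (quotRep ρ).character (w : W ⧸ MonoidHom.ker ρ) = ρ.character w := by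
  unfold Representation.character
  rw [quotRep_mk]

theorem quotRep_faithful [Finite W] (h : W ⧸ MonoidHom.ker ρ)
    (hh : (quotRep ρ).character h = (quotRep ρ).character 1) : h = 1 := by
  have h1 := (rep_apply_eq_one_iff (quotRep ρ) h).2 hh
  exact quotRep_injective ρ (h1.trans (map_one _).symm)

theorem comap_center (hirr : ρ.IsIrreducible) :
    (Subgroup.center (W ⧸ MonoidHom.ker ρ)).comap (QuotientGroup.mk' (MonoidHom.ker ρ))
      = scalarSubgroup ρ := by
  ext w
  rw [Subgroup.mem_comap, Subgroup.mem_center_iff, QuotientGroup.mk'_apply]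
  constructor
  · intro h
    apply schur_scalar ρ hirr (ρ w)
    intro g
    have h2 := congrArg (quotRep ρ) (h (g : W ⧸ MonoidHom.ker ρ))
    rw [map_mul, map_mul, quotRep_mk, quotRep_mk] at h2
    exact h2.symm
  · rintro ⟨c, hc⟩ h
    induction h using QuotientGroup.induction_on with
    | H g =>
      apply quotRep_injective ρ
      rw [map_mul, map_mul, quotRep_mk, quotRep_mk, hc]
      ext v
      simp

end Quot

end Cfsg.Agent.Lib.Helper24.CentralType
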