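import Mathlib
import Cfsg.Agent.Lib.Helper28.TensUDefs

/-!
# S5670 piece FO-ISO (helper24): isotropic vectors for the standard hermitian form

`|F| = q²`, `hs q x y = ∑ i, x i * y i ^ q`.
* `exists_iso_mem`   : a subspace of dimension at least two contains a nonzero isotropic vector;
* `exists_iso`       : so does `F^n`, `n ≥ 2`;
* `exists_iso_perp`  : for `n ≥ 4` an isotropic vector has an isotropic, non-proportional perpendicular;
* `exists_hs_eq_one` : a nonzero vector has a partner of inner product one.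
-/

set_option autoImplicit false

namespace Cfsg.Agent.Lib.Helper24.S5670ISO

open Matrix Module
open Cfsg.Agent.Lib.Helper28.TensU

variable {F : Type*} [Field F] [Fintype F] {q : ℕ}

/-! ## field facts -/

theorem exists_char_pow (hF : Fintype.card F = q ^ 2) :
    ∃ (p : ℕ) (m : ℕ), p.Prime ∧ CharP F p ∧ q = p ^ m := by
  obtain ⟨p, hp⟩ := CharP.exists F
  haveI := hp
  haveI hpp : Fact p.Prime := ⟨CharP.char_is_prime F p⟩
  obtain ⟨k, hk⟩ := FiniteField.card F p
  have hk1 : Fintype.card F = p ^ (k : ℕ) := hk.2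
  have hdvd : q ∣ p ^ (k : ℕ) := by
    rw [← hk1, hF]; exact Dvd.intro_left (q ^ 1) (by ring)
  obtain ⟨m, _, hm⟩ := (Nat.dvd_prime_pow hpp.out).mp hdvd
  exact ⟨p, m, hpp.out, hp, hm⟩

theorem add_pow_q (hF : Fintype.card F = q ^ 2) (x y : F) : (x + y) ^ q = x ^ q + y ^ q := by
  obtain ⟨p, m, hp, hc, rfl⟩ := exists_char_pow hF
  haveI := hc
  haveI : Fact p.Prime := ⟨hp⟩
  exact add_pow_char_pow x y p m

theorem sum_pow_q (hF : Fintype.card F = q ^ 2) {ι : Type*} (s : Finset ι) (f : ι → F) :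
    (∑ i ∈ s, f i) ^ q = ∑ i ∈ s, (f i) ^ q := by
  obtain ⟨p, m, hp, hc, rfl⟩ := exists_char_pow hF
  haveI := hc
  haveI : Fact p.Prime := ⟨hp⟩
  exact sum_pow_char_pow p m s f

theorem pow_q_q (hF : Fintype.card F = q ^ 2) (x : F) : (x ^ q) ^ q = x := by
  rw [← pow_mul, ← sq, ← hF, FiniteField.pow_card]

theorem two_le_q (hF : Fintype.card F = q ^ 2) : 2 ≤ q := by
  have h1 : 1 < Fintype.card F := Fintype.one_lt_card
  rw [hF] at h1
  by_contra h
  have : q = 0 ∨ q = 1 := by omega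
  rcases this with rfl | rfl <;> simp at h1

theorem neg_pow_q (hF : Fintype.card F = q ^ 2) (x : F) : (-x) ^ q = -(x ^ q) := by
  have h := add_pow_q hF x (-x)
  rw [add_neg_cancel, zero_pow (by have := two_le_q hF; omega)] at h
  exact eq_neg_of_add_eq_zero_right h.symm

/-- the norm `c ↦ c ^ (q + 1)` is onto the fixed field of `x ↦ x ^ q` -/
theorem exists_norm_eq (hF : Fintype.card F = q ^ 2) (t : F) (ht : t ^ q = t) :
    ∃ c : F, c ^ (q + 1) = t := by
  classical
  have hq := two_le_q hF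
  by_cases ht0 : t = 0
  · exact ⟨0, by rw [ht0, zero_pow (by omega)]⟩
  obtain ⟨g, hg⟩ := IsCyclic.exists_generator (α := Fˣ)
  have hord : orderOf g = q ^ 2 - 1 := by
    rw [orderOf_eq_card_of_forall_mem_zpowers hg, Nat.card_eq_fintype_card, Fintype.card_units, hF]
  obtain ⟨j, hj⟩ : ∃ j : ℕ, g ^ j = Units.mk0 t ht0 := by
    have := hg (Units.mk0 t ht0)
    rw [← mem_powers_iff_mem_zpowers] at this
    exact this
  have h1 : (Units.mk0 t ht0) ^ (q - 1) = 1 := by
    apply Units.ext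
    rw [Units.val_pow_eq_pow_val, Units.val_mk0, Units.val_one]
    have h2 : t ^ (q - 1) * t = t := by
      rw [← pow_succ]
      have : q - 1 + 1 = q := by omega
      rw [this, ht]
    have h3 : (t ^ (q - 1) - 1) * t = 0 := by linear_combination h2
    rcases mul_eq_zero.1 h3 with h4 | h4
    · exact sub_eq_zero.1 h4
    · exact absurd h4 ht0
  rw [← hj, ← pow_mul] at h1
  have h2 : q ^ 2 - 1 ∣ j * (q - 1) := by
    rw [← hord]
    exact orderOf_dvd_of_pow_eq_one h1
  have h3 : q ^ 2 - 1 = (q + 1) * (q - 1) := by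
    obtain ⟨r, rfl⟩ : ∃ r, q = r + 1 := ⟨q - 1, by omega⟩
    simp only [Nat.add_sub_cancel]
    have : (r + 1) ^ 2 = (r + 1 + 1) * r + 1 := by ring
    rw [this, Nat.add_sub_cancel]
  rw [h3] at h2
  have h4 : q + 1 ∣ j := Nat.dvd_of_mul_dvd_mul_right (by omega) h2
  obtain ⟨j', rfl⟩ := h4
  refine ⟨((g ^ j' : Fˣ) : F), ?_⟩
  have := congrArg (fun z : Fˣ => (z : F)) hj
  simp only [Units.val_mk0] at this
  rw [← this, ← Units.val_pow_eq_pow_val, ← pow_mul, mul_comm j' (q + 1)]

/-! ## the form -/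

theorem hs_add_left {κ : Type*} [Fintype κ] (x x' y : κ → F) :
    hs q (x + x') y = hs q x y + hs q x' y := by
  simp only [hs, Pi.add_apply, add_mul, Finset.sum_add_distrib]

theorem hs_smul_left {κ : Type*} [Fintype κ] (c : F) (x y : κ → F) :
    hs q (c • x) y = c * hs q x y := by
  simp only [hs, Pi.smul_apply, smul_eq_mul, Finset.mul_sum, mul_assoc]

theorem hs_add_right {κ : Type*} [Fintype κ] (hF : Fintype.card F = q ^ 2) (x y y' : κ → F) :
    hs q x (y + y') = hs q x y + hs q x y' := by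
  simp only [hs, Pi.add_apply, add_pow_q hF, mul_add, Finset.sum_add_distrib]

theorem hs_smul_right {κ : Type*} [Fintype κ] (c : F) (x y : κ → F) :
    hs q x (c • y) = c ^ q * hs q x y := by
  simp only [hs, Pi.smul_apply, smul_eq_mul, Finset.mul_sum, mul_pow]
  apply Finset.sum_congr rfl
  intro i _
  ring

theorem hs_conj {κ : Type*} [Fintype κ] (hF : Fintype.card F = q ^ 2) (x y : κ → F) :
    hs q y x = (hs q x y) ^ q := by
  simp only [hs]
  rw [sum_pow_q hF]
  apply Finset.sum_congr rfl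
  intro i _
  rw [mul_pow, pow_q_q hF, mul_comm]

theorem hs_zero_left {κ : Type*} [Fintype κ] (y : κ → F) : hs q (0 : κ → F) y = 0 := by
  simp [hs]

theorem hs_self_fixed {κ : Type*} [Fintype κ] (hF : Fintype.card F = q ^ 2) (x : κ → F) :
    (hs q x x) ^ q = hs q x x := (hs_conj hF x x).symm

/-- the linear functional `y ↦ hs q y k` -/
def hsL {κ : Type*} [Fintype κ] (q : ℕ) (k : κ → F) : (κ → F) →ₗ[F] F where
  toFun y := hs q y k
  map_add' y y' := hs_add_left y y' k
  map_smul' c y := by rw [hs_smul_left]; rfl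

theorem hsL_apply {κ : Type*} [Fintype κ] (k y : κ → F) : hsL q k y = hs q y k := rfl

/-! ## FO-ISO -/

/-- FO-ISO (c) -/
theorem exists_iso_mem {n : ℕ} (hF : Fintype.card F = q ^ 2) (S : Submodule F (Fin n → F))
    (hS : 2 ≤ finrank F S) : ∃ k ∈ S, k ≠ 0 ∧ hs q k k = 0 := by
  classical
  have hpos : 0 < finrank F S := by omega
  obtain ⟨⟨x, hxS⟩, hx0⟩ := Module.finrank_pos_iff_exists_ne_zero.1 hpos
  have hx0' : x ≠ 0 := fun h => hx0 (Subtype.ext h)
  by_cases hxx : hs q x x = 0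
  · exact ⟨x, hxS, hx0', hxx⟩
  -- the functional `y ↦ hs y x` on `S`
  let φ : S →ₗ[F] F := (hsL q x).comp S.subtype
  have hker : 0 < finrank F (LinearMap.ker φ) := by
    have h1 := LinearMap.finrank_range_add_finrank_ker φ
    have h2 : finrank F (LinearMap.range φ) ≤ 1 := by
      have := Submodule.finrank_le (LinearMap.range φ)
      rwa [Module.finrank_self] at this
    omega
  have hne : LinearMap.ker φ ≠ ⊥ := by
    intro h
    rw [h, finrank_bot] at hker
    exact lt_irrefl _ hker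
  obtain ⟨⟨y, hyS⟩, hyker, hy0⟩ := Submodule.exists_mem_ne_zero_of_ne_bot hne
  have hy0' : y ≠ 0 := fun h => hy0 (Subtype.ext h)
  have hyx : hs q y x = 0 := by
    have := LinearMap.mem_ker.1 hyker
    exact this
  have hxy : hs q x y = 0 := by rw [hs_conj hF y x, hyx, zero_pow (by have := two_le_q hF; omega)]
  by_cases hyy : hs q y y = 0
  · exact ⟨y, hyS, hy0', hyy⟩
  -- choose `α` of norm `- hs y y / hs x x`
  have hfix : (-(hs q y y) / hs q x x) ^ q = -(hs q y y) / hs q x x := by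
    rw [div_pow, neg_pow_q hF, hs_self_fixed hF, hs_self_fixed hF]
  obtain ⟨α, hα⟩ := exists_norm_eq hF _ hfix
  refine ⟨α • x + y, S.add_mem (S.smul_mem α hxS) hyS, ?_, ?_⟩
  · intro h
    have h1 : hs q (α • x + y) y = 0 := by rw [h, hs_zero_left]
    rw [hs_add_left, hs_smul_left, hxy, mul_zero, zero_add] at h1
    exact hyy h1
  · rw [hs_add_left, hs_add_right hF, hs_add_right hF, hs_smul_left, hs_smul_left, hs_smul_right,
      hs_smul_right, hxy, hyx]
    have h2 : α * α ^ q = -(hs q y y) / hs q x x := by rw [← hα, pow_succ']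
    have h3 : α * (α ^ q * hs q x x) = -(hs q y y) := by
      rw [← mul_assoc, h2, div_mul_cancel₀ _ hxx]
    rw [h3]
    ring

/-- FO-ISO (a) -/
theorem exists_iso {n : ℕ} (hF : Fintype.card F = q ^ 2) (hn : 2 ≤ n) :
    ∃ k : Fin n → F, k ≠ 0 ∧ hs q k k = 0 := by
  obtain ⟨k, -, hk0, hk⟩ := exists_iso_mem hF (⊤ : Submodule F (Fin n → F)) (by
    rw [finrank_top, Module.finrank_fintype_fun_eq_card, Fintype.card_fin]
    exact hn)
  exact ⟨k, hk0, hk⟩

/-- FO-ISO (b) -/
theorem exists_iso_perp {n : ℕ} (hF : Fintype.card F = q ^ 2) (hn : 4 ≤ n) (k : Fin n → F)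
    (hk0 : k ≠ 0) (hk : hs q k k = 0) :
    ∃ k₂ : Fin n → F, k₂ ≠ 0 ∧ hs q k₂ k₂ = 0 ∧ hs q k k₂ = 0 ∧ ∀ c : F, k₂ ≠ c • k := by
  classical
  obtain ⟨i0, hi0⟩ : ∃ i, k i ≠ 0 := by
    by_contra hcon
    push Not at hcon
    exact hk0 (funext hcon)
  -- `T = {y | hs y k = 0 ∧ y i0 = 0}`
  let L : (Fin n → F) →ₗ[F] (F × F) := (hsL q k).prod (LinearMap.proj i0)
  have hT : 2 ≤ finrank F (LinearMap.ker L) := by
    have h1 := LinearMap.finrank_range_add_finrank_ker L
    have h2 : finrank F (LinearMap.range L) ≤ 2 := by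
      have := Submodule.finrank_le (LinearMap.range L)
      rwa [Module.finrank_prod, Module.finrank_self] at this
    rw [Module.finrank_fintype_fun_eq_card, Fintype.card_fin] at h1
    omega
  obtain ⟨k₂, hk₂T, hk₂0, hk₂⟩ := exists_iso_mem hF (LinearMap.ker L) hT
  have hL : L k₂ = 0 := LinearMap.mem_ker.1 hk₂T
  have h1 : hs q k₂ k = 0 := by
    have := congrArg Prod.fst hL
    exact this
  have h2 : k₂ i0 = 0 := by
    have := congrArg Prod.snd hL
    exact this
  refine ⟨k₂, hk₂0, hk₂, ?_, ?_⟩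
  · rw [hs_conj hF k₂ k, h1, zero_pow (by have := two_le_q hF; omega)]
  · intro c hc
    have h3 : c * k i0 = 0 := by
      have := congrFun hc i0
      rw [h2] at this
      exact this.symm
    rcases mul_eq_zero.1 h3 with h4 | h4
    · apply hk₂0
      rw [hc, h4, zero_smul]
    · exact hi0 h4

/-- FO-ISO (d) -/
theorem exists_hs_eq_one {n : ℕ} (hF : Fintype.card F = q ^ 2) (u : Fin n → F) (hu : u ≠ 0) :
    ∃ u' : Fin n → F, hs q u' u = 1 := by
  classical
  obtain ⟨i0, hi0⟩ : ∃ i, u i ≠ 0 := by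
    by_contra hcon
    push Not at hcon
    exact hu (funext hcon)
  refine ⟨Pi.single i0 ((u i0 ^ q)⁻¹), ?_⟩
  unfold hs
  rw [Finset.sum_eq_single i0]
  · rw [Pi.single_eq_same, inv_mul_cancel₀ (pow_ne_zero _ hi0)]
  · intro j _ hj
    rw [Pi.single_eq_of_ne hj, zero_mul]
  · intro h
    exact absurd (Finset.mem_univ i0) h

end Cfsg.Agent.Lib.Helper24.S5670ISO
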