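import Mathlib
import Cfsg.Prelude.Def_GeometricClasses
import Cfsg.Agent.Lib.Helper7.AschDefs
import Cfsg.Agent.Lib.Helper3.AschC6Reuse
import Cfsg.Agent.Lib.Helper16.S5630I6A
import Cfsg.Agent.Lib.Helper24.AschUDefs

/-!
# S5663 (unitary Aschbacher theorem), block U6: the symplectic-type case (helper24)

`c6_caseU_of`: the block U6 of `notes/S5663Skel_helper24.lean.txt`, with the class-5 exit U5 (`InClassU.of_realisable`)
as a HYPOTHESIS `hU5`.  Everything else is real: helper16's half A (re-assembled so that `R ≤ N ⊔ scalars` is kept),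
helper3's `c6_core`, and the arithmetic of `F = GF(q²)`.
-/

set_option autoImplicit false

namespace Cfsg.Agent.Lib.Helper24.AschU

open Matrix Cfsg Cfsg.Geo Cfsg.Agent.Lib.Helper7.Asch Cfsg.Agent.Lib.Helper16.AschC6A
open Cfsg.Agent.Lib.Helper3.AschC6
open scoped commutatorElement

variable {F : Type*} [Field F] {n q : ℕ}

theorem herm_smul_smul (c : F) (u v : Fin n → F) :
    hermForm n F q (c • u) (c • v) = c ^ (q + 1) * hermForm n F q u v := by
  unfold hermForm
  rw [Finset.mul_sum]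
  refine Finset.sum_congr rfl fun i _ => ?_
  simp only [Pi.smul_apply, smul_eq_mul, mul_pow]
  ring

theorem herm_single_self (i : Fin n) :
    hermForm n F q (Pi.single i 1) (Pi.single i 1) = 1 := by
  unfold hermForm
  rw [Finset.sum_eq_single i]
  · simp
  · intro j _ hj
    simp [Pi.single_eq_of_ne hj]
  · intro h
    exact absurd (Finset.mem_univ i) h

/-- `N ⊔ scalars` consists of similarities when `N` consists of isometries -/
theorem sup_scalars_le_similarity (N : Subgroup (GL (Fin n) F)) (hN : N ≤ GU n F q) :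
    N ⊔ scalars (Fin n) F ≤ similarityGroup (hermForm n F q) := by
  intro x hx
  obtain ⟨a, ha, s, hs, rfl⟩ := Cfsg.Agent.Lib.Helper16.S5630I6AB.mem_sup_scalars hx
  obtain ⟨c, hc⟩ := (mem_scalars_iff s).1 hs
  refine ⟨c ^ (q + 1), fun u v => ?_⟩
  have h1 : ∀ w : Fin n → F, ((a * s : GL (Fin n) F) : Matrix (Fin n) (Fin n) F) *ᵥ w =
      (a : Matrix (Fin n) (Fin n) F) *ᵥ ((c : F) • w) := by
    intro w
    rw [Units.val_mul, ← Matrix.mulVec_mulVec, hc, Matrix.smul_mulVec, Matrix.one_mulVec]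
  rw [h1, h1]
  have h2 := hN ha ((c : F) • u) ((c : F) • v)
  change hermForm n F q ((a : Matrix (Fin n) (Fin n) F) *ᵥ ((c : F) • u))
    ((a : Matrix (Fin n) (Fin n) F) *ᵥ ((c : F) • v)) = _ at h2
  rw [h2, herm_smul_smul, Units.val_pow_eq_pow_val]

/-- the multiplier of an element of finite order `k` of the similarity group is a `k`-th root of unity -/
theorem multiplier_pow_eq_one (hn : 0 < n) (g : GL (Fin n) F) (c : F)
    (hc : ∀ u v : Fin n → F, hermForm n F q ((g : Matrix (Fin n) (Fin n) F) *ᵥ u)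
      ((g : Matrix (Fin n) (Fin n) F) *ᵥ v) = c * hermForm n F q u v) (k : ℕ) (hk : g ^ k = 1) : c ^ k = 1 := by
  have key : ∀ m : ℕ, ∀ u v : Fin n → F, hermForm n F q (((g ^ m : GL (Fin n) F) : Matrix (Fin n) (Fin n) F) *ᵥ u)
      (((g ^ m : GL (Fin n) F) : Matrix (Fin n) (Fin n) F) *ᵥ v) = c ^ m * hermForm n F q u v := by
    intro m
    induction m with
    | zero => intro u v; simp
    | succ m ih =>
      intro u v
      rw [pow_succ, Units.val_mul, ← Matrix.mulVec_mulVec, ← Matrix.mulVec_mulVec, ih, hc, pow_succ]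
      ring
  have h := key k (Pi.single ⟨0, hn⟩ 1) (Pi.single ⟨0, hn⟩ 1)
  rw [hk, Units.val_one, Matrix.one_mulVec, herm_single_self, mul_one] at h
  exact h.symm

/-- half A, keeping `R ≤ N ⊔ scalars` -/
theorem exists_sympCoreU [Fintype F] (hn : 3 ≤ n) (H N : Subgroup (GL (Fin n) F)) (r : ℕ) (hQP : QP H)
    (hNH : N ≤ H) (hnorm : NormBy H N) (hNs : ¬ N ≤ scalars (Fin n) F)
    (hmin : ∀ K : Subgroup (GL (Fin n) F), K ≤ N → NormBy H K → K ≤ scalars (Fin n) F ∨ K = N) (hr : r.Prime)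
    (hpow : ∀ x ∈ N, x ^ r ∈ scalars (Fin n) F) (hcomm : ∀ x ∈ N, ∀ y ∈ N, ⁅x, y⁆ ∈ scalars (Fin n) F) :
    ∃ R : Subgroup (GL (Fin n) F), SympCore H R r ∧ R ≤ N ⊔ scalars (Fin n) F := by
  have hn2 : 2 ≤ n := by omega
  have hG := Cfsg.Agent.Lib.Helper16.S5630I6AB.toSG hQP hNH hnorm hNs hmin hr hpow hcomm
  obtain ⟨R, hR⟩ := Cfsg.Agent.Lib.Helper16.S5630I6AB.sg_exists_omega hG
  have hsup := Cfsg.Agent.Lib.Helper19.S5630I6A.le_sup hn2 hG hR
  have habs := Cfsg.Agent.Lib.Helper7.S5630I6A.omega_absIrr hG hR hsup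
  have hRG : R ≤ N ⊔ scalars (Fin n) F := fun x hx => ((hR x).1 hx).1
  refine ⟨R, ⟨hG.prime, Cfsg.Agent.Lib.Helper16.S5630I6AB.omega_norm hG hR, habs, fun x hx => hG.pow x (hRG hx),
    fun x hx y hy => hG.comm x (hRG hx) y (hRG hy), fun x hx => ((hR x).1 hx).2,
    fun z hz hz1 => (hR z).2 ⟨hG.scal_le hz, hz1⟩, ?_⟩, hRG⟩
  exact ⟨hG.prime, Cfsg.Agent.Lib.Helper16.S5630I6AB.isPGroup_omega hG hR,
    Cfsg.Agent.Lib.Helper16.S5630I6AC.cyclic_of_char hn2 hG hR,
    Cfsg.Agent.Lib.Helper16.S5630I6AC.exponent_omega hn2 hG hR habs⟩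

/-- `p ^ e = q ^ 2` forces `e` even -/
theorem even_of_pow_eq_sq (p e q : ℕ) (hp : p.Prime) (h : p ^ e = q ^ 2) : ∃ j, e = 2 * j := by
  have hq : q ∣ p ^ e := by rw [h]; exact Dvd.intro_left (q ^ 1) (by ring)
  obtain ⟨j, -, rfl⟩ := (Nat.dvd_prime_pow hp).1 hq
  refine ⟨j, ?_⟩
  rw [← pow_mul] at h
  have := Nat.pow_right_injective hp.two_le h
  omega

variable [Fintype F]

/-- **U6** (with the class-5 exit as a hypothesis) -/
theorem c6_caseU_of (hF : Fintype.card F = q ^ 2) (hn : 3 ≤ n) (H N : Subgroup (GL (Fin n) F)) (r : ℕ)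
    (hHU : H ≤ GU n F q) (hH : AbsIrr H) (hQP : QP H)
    (hNH : N ≤ H) (hnorm : NormBy H N) (hNs : ¬ N ≤ scalars (Fin n) F)
    (hmin : ∀ K : Subgroup (GL (Fin n) F), K ≤ N → NormBy H K → K ≤ scalars (Fin n) F ∨ K = N) (hr : r.Prime)
    (hpow : ∀ x ∈ N, x ^ r ∈ scalars (Fin n) F) (hcomm : ∀ x ∈ N, ∀ y ∈ N, ⁅x, y⁆ ∈ scalars (Fin n) F)
    (hU5 : ∀ L : Subgroup (GL (Fin n) F), AbsIrr L → NormBy H L → ∀ F₀ : Subfield F, F₀ ≠ ⊤ →
      RealisableOver F₀ (matrixSet L) →
      (∀ g ∈ L, ∃ c : F, c ∈ F₀ ∧ ∀ u v : Fin n → F,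
        hermForm n F q ((g : Matrix (Fin n) (Fin n) F) *ᵥ u) ((g : Matrix (Fin n) (Fin n) F) *ᵥ v) =
          c * hermForm n F q u v) → InClassU n q H) :
    InClassU n q H := by
  obtain ⟨R, hR, hRG⟩ := exists_sympCoreU hn H N r hQP hNH hnorm hNs hmin hr hpow hcomm
  have hsim : R ≤ similarityGroup (hermForm n F q) :=
    hRG.trans (sup_scalars_le_similarity N (hNH.trans hHU))
  by_cases hex : ∃ F₀ : Subfield F, F₀ ≠ ⊤ ∧ RealisableOver F₀ (matrixSet R)
  · obtain ⟨F₀, h0, hreal⟩ := hex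
    refine hU5 R hR.absIrr hR.norm F₀ h0 hreal ?_
    intro g hg
    obtain ⟨c, hc⟩ := hsim hg
    refine ⟨c, ?_, hc⟩
    have hc1 : (c : F) ^ (r * Nat.gcd 2 r) = 1 :=
      multiplier_pow_eq_one (by omega) g c hc _ (hR.exp g hg)
    -- the scalar matrix `c • 1` lies in `R`
    let s : GL (Fin n) F := Units.map (Matrix.scalar (Fin n) : F →+* Matrix (Fin n) (Fin n) F).toMonoidHom c
    have hs : s ∈ scalars (Fin n) F := ⟨c, rfl⟩
    have hsval : (s : Matrix (Fin n) (Fin n) F) = (c : F) • (1 : Matrix (Fin n) (Fin n) F) := by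
      change Matrix.scalar (Fin n) (c : F) = _
      rw [Matrix.smul_one_eq_diagonal]
      rfl
    have hs1 : s ^ (r * Nat.gcd 2 r) = 1 := by
      apply Units.ext
      rw [Units.val_pow_eq_pow_val, hsval, smul_pow, one_pow, hc1, one_smul, Units.val_one]
    have hsR : s ∈ R := hR.scal s hs hs1
    obtain ⟨B, hB⟩ := hreal
    have h00 := hB (s : Matrix (Fin n) (Fin n) F) ⟨s, hsR, rfl⟩ ⟨0, by omega⟩ ⟨0, by omega⟩
    rw [hsval, Matrix.mul_smul, Matrix.mul_one, Matrix.smul_mul, ← Units.val_mul, mul_inv_cancel, Units.val_one,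
      Matrix.smul_apply, Matrix.one_apply_eq, smul_eq_mul, mul_one] at h00
    exact h00
  have hreal : ∀ F₀ : Subfield F, F₀ ≠ ⊤ → ¬ RealisableOver F₀ (matrixSet R) := fun F₀ h0 h => hex ⟨F₀, h0, h⟩
  have hrq := Cfsg.Agent.Lib.Helper16.S5630I6BTau.r_dvd_card_sub_one (by omega) hR
  -- `r · gcd(2, r)` divides `q² - 1`
  have hz : r * Nat.gcd 2 r ∣ Fintype.card F - 1 := by
    by_cases hr2 : r = 2
    · subst hr2
      rw [hF] at hrq ⊢
      have hg : Nat.gcd 2 2 = 2 := rfl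
      rw [hg]
      have hqodd : q % 2 = 1 := by
        rcases Nat.even_or_odd q with he | ho
        · exfalso
          obtain ⟨k, hk⟩ := he
          obtain ⟨m, hm⟩ := hrq
          have hq0 : 0 < q := by
            rcases Nat.eq_zero_or_pos q with h | h
            · subst h
              have : Fintype.card F = 0 := by rw [hF]; norm_num
              have := Fintype.card_pos (α := F)
              omega
            · exact h
          have h1 : q ^ 2 = 4 * k ^ 2 := by rw [hk]; ring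
          have h2 : 1 ≤ k := by omega
          have h3 : 1 ≤ k ^ 2 := Nat.one_le_pow _ _ h2
          omega
        · exact Nat.odd_iff.mp ho
      obtain ⟨k, hk⟩ : ∃ k, q = 2 * k + 1 := ⟨q / 2, by omega⟩
      refine ⟨k * (k + 1), ?_⟩
      rw [hk]
      have : (2 * k + 1) ^ 2 = 4 * (k * (k + 1)) + 1 := by ring
      rw [this]
      omega
    · have hg : Nat.gcd 2 r = 1 := by
        rw [Nat.coprime_comm.mp ((Nat.coprime_primes hR.prime Nat.prime_two).mpr hr2)]
      rw [hg, mul_one]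
      exact hrq
  obtain ⟨p, e, m, he0, hrp, hminF, hcen, hm1, hnm, hcard⟩ := c6_core (by omega) hreal hR hz
  have hle := le_subgroupNormalizer hR
  by_cases hr2 : r = 2
  · subst hr2
    have hg : Nat.gcd 2 2 = 2 := rfl
    rw [hg] at hcen hcard
    rw [hcen] at hminF
    obtain ⟨hp, hchar, hq, hdvd, hmin'⟩ := hminF
    have he2 : e = 2 := by
      obtain ⟨j, hj⟩ := even_of_pow_eq_sq p e q hp (by rw [← hq, hF])
      have hpodd : p % 2 = 1 := by
        rcases Nat.Prime.eq_two_or_odd hp with h | h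
        · exfalso
          apply hrp
          exact h.symm
        · exact h
      by_contra hne
      have h2e : 2 < e := by omega
      apply hmin' 2 (by norm_num) h2e
      obtain ⟨k, hk⟩ : ∃ k, p = 2 * k + 1 := ⟨p / 2, by omega⟩
      refine ⟨k * (k + 1), ?_⟩
      rw [hk]
      have : (2 * k + 1) ^ 2 = 4 * (k * (k + 1)) + 1 := by ring
      rw [this]
      omega
    refine InClassU.of_symplecticType H hHU 2 R p e m hR.sympType hR.absIrr hsim hrp ?_ ?_ hle
    · rw [hcen]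
      exact ⟨hp, hchar, hq, hdvd, hmin'⟩
    · right
      refine ⟨rfl, he2, hcen, ?_⟩
      rw [hcard, pow_add]
      norm_num
  · have hg : Nat.gcd 2 r = 1 := by
      rw [Nat.coprime_comm.mp ((Nat.coprime_primes hR.prime Nat.prime_two).mpr hr2)]
    rw [hg, mul_one] at hcen hcard
    refine InClassU.of_symplecticType H hHU r R p e m hR.sympType hR.absIrr hsim hrp hminF ?_ hle
    left
    refine ⟨hR.prime.odd_of_ne_two hr2, hcen, hm1, ?_⟩
    rw [hcard, pow_add, pow_one]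

end Cfsg.Agent.Lib.Helper24.AschU
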