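import Mathlib
import Cfsg.Prelude.Def_GeometricClasses
import Cfsg.Agent.Lib.Helper24.HubCorS123
import Cfsg.Agent.Lib.Helper24.AschUC6
import Cfsg.Agent.Lib.Helper11.U4Defs
import Cfsg.Agent.Lib.Helper13.TensorNM

/-!
# S5784 X1, part d: orthonormal frames for `hermForm n F q` and the attached unitary matrix (helper24)
-/

set_option autoImplicit false
set_option linter.unusedSectionVars false

namespace Cfsg.Agent.Lib.Helper24.S5784X1

open Matrix Cfsg Cfsg.Geo Cfsg.Agent.Lib.Helper13.TNM

variable {F : Type*} [Field F] [Fintype F] {n q : ℕ}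

theorem herm_smul_left' (c : F) (u v : Fin n → F) : hermForm n F q (c • u) v = c * hermForm n F q u v := by
  unfold hermForm
  rw [Finset.mul_sum]
  refine Finset.sum_congr rfl fun i _ => ?_
  simp only [Pi.smul_apply, smul_eq_mul]
  ring

theorem herm_smul_right' (c : F) (u v : Fin n → F) : hermForm n F q u (c • v) = c ^ q * hermForm n F q u v := by
  unfold hermForm
  rw [Finset.mul_sum]
  refine Finset.sum_congr rfl fun i _ => ?_
  simp only [Pi.smul_apply, smul_eq_mul, mul_pow]
  ring

/-- the hermitian norm of a vector is fixed by `x ↦ x ^ q` -/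
theorem herm_self_pow (hF : Fintype.card F = q ^ 2) (u : Fin n → F) :
    hermForm n F q u u ^ q = hermForm n F q u u := by
  have h1 : hermForm n F q u u ^ q = Cfsg.Agent.Lib.Helper11.U4.frobE hF (hermForm n F q u u) := rfl
  rw [h1]
  unfold hermForm
  rw [map_sum]
  refine Finset.sum_congr rfl fun i _ => ?_
  rw [map_mul, Cfsg.Agent.Lib.Helper11.U4.frobE_apply, Cfsg.Agent.Lib.Helper11.U4.frobE_apply, ← pow_mul, ← pow_two,
    ← hF, FiniteField.pow_card, mul_comm]

/-- an orthonormal frame adapted to a non-degenerate decomposition into lines -/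
theorem exists_orthonormal_frame (hF : Fintype.card F = q ^ 2) (D : Fin n → Submodule F (Fin n → F))
    (hD : IsNondegenerateMDecomposition (hermForm n F q) 1 D) :
    ∃ u : Fin n → (Fin n → F), (∀ i, D i = Submodule.span F {u i}) ∧ (∀ i, hermForm n F q (u i) (u i) = 1) ∧
      ∀ i j, i ≠ j → hermForm n F q (u i) (u j) = 0 := by
  obtain ⟨b, hb⟩ := Cfsg.Agent.Lib.Helper24.HubCor.exists_adapted_basis D hD.decomp
  have hmem : ∀ i, b i ∈ D i := fun i => by rw [hb i]; exact Submodule.mem_span_singleton_self _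
  have hN : ∀ i, hermForm n F q (b i) (b i) ≠ 0 := by
    intro i
    obtain ⟨⟨x, hx, hxb⟩, -⟩ := hD.nondegenerate i (b i) (hmem i) (b.ne_zero i)
    rw [hb i, Submodule.mem_span_singleton] at hx
    obtain ⟨t, rfl⟩ := hx
    rw [herm_smul_left'] at hxb
    exact right_ne_zero_of_mul hxb
  have hex : ∀ i, ∃ μ : F, μ * μ ^ q = (hermForm n F q (b i) (b i))⁻¹ := by
    intro i
    apply Cfsg.Agent.Lib.Helper11.U4.exists_norm_eq hF
    rw [inv_pow, herm_self_pow hF]
  choose μ hμ using hex
  have hμ0 : ∀ i, μ i ≠ 0 := by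
    intro i h
    have := hμ i
    rw [h, zero_mul] at this
    exact inv_ne_zero (hN i) this.symm
  refine ⟨fun i => μ i • b i, fun i => ?_, fun i => ?_, fun i j hij => ?_⟩
  · rw [hb i]
    exact (Submodule.span_singleton_smul_eq (IsUnit.mk0 _ (hμ0 i)) (b i)).symm
  · show hermForm n F q (μ i • b i) (μ i • b i) = 1
    rw [herm_smul_left', herm_smul_right', ← mul_assoc, hμ i, inv_mul_cancel₀ (hN i)]
  · show hermForm n F q (μ i • b i) (μ j • b j) = 0
    rw [herm_smul_left', herm_smul_right', hD.orthogonal i j hij (b i) (hmem i) (b j) (hmem j), mul_zero, mul_zero]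

/-- the hermitian form as a form with Gram matrix `1` -/
theorem herm_eq_fog (x y : Fin n → F) : hermForm n F q x y = formOfGram (fun x : F => x ^ q) 1 x y := by
  unfold hermForm formOfGram
  refine Finset.sum_congr rfl fun a _ => ?_
  rw [Finset.sum_eq_single a]
  · rw [Matrix.one_apply_eq, mul_one]
  · intro b _ hb
    rw [Matrix.one_apply_ne (Ne.symm hb), mul_zero, zero_mul]
  · intro h
    exact absurd (Finset.mem_univ _) h

/-- the matrix of an orthonormal frame is unitary -/
theorem frame_matrix_unitary (u : Fin n → (Fin n → F)) (h1 : ∀ i, hermForm n F q (u i) (u i) = 1)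
    (h0 : ∀ i j, i ≠ j → hermForm n F q (u i) (u j) = 0) :
    (Matrix.of fun r i => u i r)ᵀ * (Matrix.of fun r i => u i r).map (fun x : F => x ^ q) =
      (1 : Matrix (Fin n) (Fin n) F) := by
  ext i j
  rw [Matrix.mul_apply]
  have : ∑ r, (Matrix.of fun r i => u i r)ᵀ i r * ((Matrix.of fun r i => u i r).map (fun x : F => x ^ q)) r j =
      hermForm n F q (u i) (u j) := rfl
  rw [this]
  by_cases hij : i = j
  · subst hij
    rw [h1, Matrix.one_apply_eq]
  · rw [h0 i j hij, Matrix.one_apply_ne hij]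

/-- the invertible matrix of an orthonormal frame -/
theorem exists_frame_gl (u : Fin n → (Fin n → F)) (h1 : ∀ i, hermForm n F q (u i) (u i) = 1)
    (h0 : ∀ i j, i ≠ j → hermForm n F q (u i) (u j) = 0) :
    ∃ P : GL (Fin n) F, (∀ r i, (P : Matrix (Fin n) (Fin n) F) r i = u i r) ∧
      (P : Matrix (Fin n) (Fin n) F)ᵀ * (P : Matrix (Fin n) (Fin n) F).map (fun x : F => x ^ q) = 1 := by
  have hU := frame_matrix_unitary u h1 h0
  have hdet : (Matrix.of fun r i => u i r : Matrix (Fin n) (Fin n) F).det ≠ 0 := by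
    intro h
    have h2 := congrArg Matrix.det hU
    rw [Matrix.det_mul, Matrix.det_transpose, h, zero_mul, Matrix.det_one] at h2
    exact zero_ne_one h2
  refine ⟨Matrix.GeneralLinearGroup.mkOfDetNeZero _ hdet, fun r i => rfl, hU⟩

end Cfsg.Agent.Lib.Helper24.S5784X1
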