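import Mathlib
import Cfsg.Prelude.Def_Blocks
import Cfsg.Agent.Lib.Helper24.Covering94
import Cfsg.Agent.Lib.Helper24.DefectCount
import Cfsg.Agent.Lib.Helper7.MinMax
import Cfsg.Agent.Lib.Helper7.DefectOrder

/-!
# Knörr's theorem, the lower bound (helper24)

Let `N` be normal in `G`, `B` a block of `G` with defect group `D`.  There is an `N`-invariant
element `y` of the local group algebra and `θ' ∈ Irr N` (necessarily under `B`) such that the
`N`-component of `y * f_B` is a unit at `θ'`; a fixed point count then shows that the defect of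
the block of `θ'` is at most the order of `D ∩ N`.
-/

set_option autoImplicit false

namespace Cfsg.Agent.Lib.Helper24

open Cfsg.Agent.Lib.Helper2 Cfsg.Agent.Lib.Helper7
open scoped ComplexConjugate

section KnorrHard

variable {G : Type*} [Group G] [Fintype G] (N : Subgroup G) [hN : N.Normal] [Fintype N]
variable {p : ℕ} {M : Ideal Cfsg.AlgInt}

/-- for every block `B` some `N`-component of `y * f_B` is not in the radical -/
theorem exists_unit_component (hM : Cfsg.IsPModular p M)
    (B : Set (Cfsg.IrrCharacter G)) (hB : Cfsg.IsPBlock M B) :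
    ∃ y : G → ℂ, NInv N y ∧ (∀ g, Cfsg.MemLocalRing M (y g)) ∧
      ∃ θ' : Cfsg.IrrCharacter N, ¬ Cfsg.MemLocalIdeal M
        (omega (θ' : N → ℂ) (fun n : N => conv y (Cfsg.blockCoeff B) (n : G))) := by
  classical
  by_contra hcon
  push Not at hcon
  have hfc := blockCoeff_isClassFunction B
  have hfR := blockCoeff_memLocalRing hM B hB
  have hfN := nInv_of_isClassFunction N hfc
  obtain ⟨k, hk⟩ := exists_length_memLocalIdeal N hM (Cfsg.blockCoeff B) hfR hfN
    (fun y hy hyR θ' => hcon y hy hyR θ')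
  haveI : Fintype (G ⧸ N) := Fintype.ofFinite _
  have hpw : ∀ g, Cfsg.MemLocalIdeal M (convPw (Cfsg.blockCoeff B) (k + 1) g) := by
    apply convPw_induction (fun u => cosetComp N u (Cfsg.blockCoeff B)) (Cfsg.blockCoeff B)
      (sum_cosetComp N _) (k + 1) (fun x => ∀ g, Cfsg.MemLocalIdeal M (x g))
    · intro g; exact memLocalIdeal_zero hM
    · intro x y hx hy g; exact memLocalIdeal_add hM (hx g) (hy g)
    · exact hk
  rw [convPw_of_idem (conv_blockCoeff_self B)] at hpw
  obtain ⟨ξ, rfl⟩ := hB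
  have hξ : ξ ∈ Cfsg.blockOf M (ξ : G → ℂ) := mem_blockOf_self hM ξ
  have h1 := omega_memLocalIdeal hM ξ _ hfc hpw
  rw [omega_blockCoeff, if_pos hξ] at h1
  exact not_memLocalIdeal_one hM h1

/-- the `N`-component of `y * f_B` vanishes at characters not under `B` -/
theorem omega_restrict_conv_blockCoeff_of_notUnder (B : Set (Cfsg.IrrCharacter G))
    (y : G → ℂ) (hy : NInv N y) (θ'' : Cfsg.IrrCharacter N) (hθ'' : θ'' ∈ notUnder N B) :
    omega (θ'' : N → ℂ) (fun n : N => conv y (Cfsg.blockCoeff B) (n : G)) = 0 := by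
  classical
  have hfBc : Cfsg.IsClassFunction G (Cfsg.blockCoeff B) := blockCoeff_isClassFunction B
  have hw : NInv N (conv y (Cfsg.blockCoeff B)) :=
    nInv_conv N hy (nInv_of_isClassFunction N hfBc)
  have hwc : Cfsg.IsClassFunction N (fun n : N => conv y (Cfsg.blockCoeff B) (n : G)) :=
    isClassFunction_restrict_of_nInv N hw
  have h1 : conv (conv y (Cfsg.blockCoeff B)) (coverFn N (notUnder N B)) = 0 := by
    rw [conv_assoc, conv_blockCoeff_coverFn_notUnder, conv_zero_right']
  have h2 := restrict_conv_extZ N (conv y (Cfsg.blockCoeff B)) (Cfsg.blockCoeff (notUnder N B))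
  have h3 : conv (fun n : N => conv y (Cfsg.blockCoeff B) (n : G))
      (Cfsg.blockCoeff (notUnder N B)) = 0 := by
    rw [← h2]
    funext n
    show conv (conv y (Cfsg.blockCoeff B)) (coverFn N (notUnder N B)) (n : G) = 0
    rw [h1]; rfl
  have h4 := omega_conv θ'' _ _ hwc (blockCoeff_isClassFunction (notUnder N B))
  rw [h3, omega_zero, omega_blockCoeff, if_pos hθ'', mul_one] at h4
  exact h4.symm

/-- a class function with a unit central character value has a unit coefficient at a class where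
the central character is a unit -/
theorem exists_of_omega_not_mem {K : Type*} [Group K] [Fintype K] (hM : Cfsg.IsPModular p M)
    (θ : Cfsg.IrrCharacter K) (w : K → ℂ) (hw : Cfsg.IsClassFunction K w)
    (hwR : ∀ k, Cfsg.MemLocalRing M (w k))
    (h : ¬ Cfsg.MemLocalIdeal M (omega (θ : K → ℂ) w)) :
    ∃ m : K, ¬ Cfsg.MemLocalIdeal M (w m) ∧
      ¬ Cfsg.MemLocalIdeal M (Cfsg.centralChar (θ : K → ℂ) m) := by
  by_contra hcon
  push Not at hcon
  apply h
  rw [omega_eq_sum]
  apply sum_mul_inv_index_mem (MlocC hM)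
  · intro g x
    simp only
    rw [hw, centralChar_isClassFunction _ (IrrCharacter.isClassFunction θ)]
  · intro g
    by_cases hg : Cfsg.MemLocalIdeal M (w g)
    · exact memLocalIdeal_mul_right hM hg (centralChar_memLocalRing hM θ g)
    · exact memLocalIdeal_mul_left hM (hwR g) (hcon g hg)

/-- fixed point count: the coefficient of `y * f_B` at `m` lies in the maximal ideal if `m` is
centralized by a `p`-subgroup of `N` of order larger than `D ∩ N` -/
theorem conv_blockCoeff_memLocalIdeal_of_card_lt [Fact p.Prime] (hM : Cfsg.IsPModular p M)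
    (B : Set (Cfsg.IrrCharacter G)) (hB : Cfsg.IsPBlock M B) (D : Subgroup G)
    (hD : Cfsg.IsDefectGroup p M B D)
    (y : G → ℂ) (hy : NInv N y) (hyR : ∀ g, Cfsg.MemLocalRing M (y g)) (m : G) (S : Subgroup G)
    (hS : IsPGroup p S) (hSN : S ≤ N) (hSm : S ≤ Subgroup.centralizer ({m} : Set G))
    (hcard : Nat.card (D ⊓ N : Subgroup G) < Nat.card S) :
    Cfsg.MemLocalIdeal M (conv y (Cfsg.blockCoeff B) m) := by
  classical
  have hfc := blockCoeff_isClassFunction B
  have hfR := blockCoeff_memLocalRing hM B hB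
  have hcomm : ∀ u ∈ S, u * m = m * u := by
    intro u hu
    have := Subgroup.mem_centralizer_iff.mp (hSm hu) m (Set.mem_singleton m)
    exact this.symm
  rw [conv_apply]
  apply sum_memLocalIdeal_of_conj hM S hS (fun h => y h * Cfsg.blockCoeff B (h⁻¹ * m))
  · intro u hu h
    show y (u * h * u⁻¹) * Cfsg.blockCoeff B ((u * h * u⁻¹)⁻¹ * m)
      = y h * Cfsg.blockCoeff B (h⁻¹ * m)
    rw [hy u (hSN hu) h]
    have e : (u * h * u⁻¹)⁻¹ * m = u * (h⁻¹ * m) * u⁻¹ := by
      have h1 : m * u⁻¹ = u⁻¹ * m := by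
        have := hcomm u hu
        calc m * u⁻¹ = u⁻¹ * (u * m) * u⁻¹ := by group
          _ = u⁻¹ * (m * u) * u⁻¹ := by rw [this]
          _ = u⁻¹ * m := by group
      calc (u * h * u⁻¹)⁻¹ * m = u * h⁻¹ * (u⁻¹ * m) := by group
        _ = u * h⁻¹ * (m * u⁻¹) := by rw [h1]
        _ = u * (h⁻¹ * m) * u⁻¹ := by group
    rw [e, hfc]
  · intro h
    exact memLocalRing_mul hM (hyR h) (hfR _)
  · intro h hfix
    by_contra hcon
    have hfk : ¬ Cfsg.MemLocalIdeal M (Cfsg.blockCoeff B (h⁻¹ * m)) := by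
      intro hmem
      exact hcon (memLocalIdeal_mul_left hM (hyR h) hmem)
    have hD0 := hD
    obtain ⟨g, hg, Q, rfl⟩ := hD
    obtain ⟨χ, hχ⟩ := isPBlock_nonempty hM hB
    have hmm := minmax hM B hB g (h⁻¹ * m) Q χ hχ (hg.2.2 χ hχ) hfk
    have hSk : S ≤ Subgroup.centralizer ({h⁻¹ * m} : Set G) := by
      intro u hu
      rw [Subgroup.mem_centralizer_iff]
      intro z hz
      rw [Set.mem_singleton_iff] at hz
      subst hz
      have h1 : u * h = h * u := by
        have := hfix u hu
        calc u * h = u * h * u⁻¹ * u := by group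
          _ = h * u := by rw [this]
      have h2 := hcomm u hu
      calc h⁻¹ * m * u = h⁻¹ * (m * u) := by group
        _ = h⁻¹ * (u * m) := by rw [h2]
        _ = h⁻¹ * (u * h) * (h⁻¹ * m) := by group
        _ = h⁻¹ * (h * u) * (h⁻¹ * m) := by rw [h1]
        _ = u * (h⁻¹ * m) := by group
    obtain ⟨x, hx⟩ := hmm.exists_le S hS hSk
    -- `x⁻¹ S x ≤ D ⊓ N`
    have hle : S.map (MulAut.conj x⁻¹).toMonoidHom
        ≤ ((Q : Subgroup (Subgroup.centralizer ({g} : Set G))).map
            (Subgroup.centralizer ({g} : Set G)).subtype) ⊓ N := by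
      rintro _ ⟨s, hs, rfl⟩
      refine ⟨?_, ?_⟩
      · obtain ⟨d, hd, hds⟩ := hx hs
        have : (MulAut.conj x⁻¹).toMonoidHom s = d := by
          rw [← hds]
          simp [MulAut.conj_apply, mul_assoc]
        rw [this]
        exact hd
      · have : (MulAut.conj x⁻¹).toMonoidHom s = x⁻¹ * s * x⁻¹⁻¹ := by
          simp [MulAut.conj_apply]
        rw [this]
        exact hN.conj_mem s (hSN hs) x⁻¹
    have h1 := Subgroup.card_le_of_le hle
    rw [Subgroup.card_map_of_injective (MulEquiv.injective _)] at h1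
    omega

/-- **lower bound in Knörr's theorem**: the defect of the block of `θ'` is at most the order of
`D ∩ N` -/
theorem pow_blockDefect_le_card_inf [Fact p.Prime] (hM : Cfsg.IsPModular p M)
    (B : Set (Cfsg.IrrCharacter G)) (hB : Cfsg.IsPBlock M B) (D : Subgroup G)
    (hD : Cfsg.IsDefectGroup p M B D)
    (y : G → ℂ) (hy : NInv N y) (hyR : ∀ g, Cfsg.MemLocalRing M (y g))
    (θ' : Cfsg.IrrCharacter N)
    (hθ' : ¬ Cfsg.MemLocalIdeal M
      (omega (θ' : N → ℂ) (fun n : N => conv y (Cfsg.blockCoeff B) (n : G)))) :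
    p ^ Cfsg.blockDefect p (Cfsg.blockOf M (θ' : N → ℂ)) ≤ Nat.card (D ⊓ N : Subgroup G) := by
  classical
  have hfBc : Cfsg.IsClassFunction G (Cfsg.blockCoeff B) := blockCoeff_isClassFunction B
  have hw : NInv N (conv y (Cfsg.blockCoeff B)) :=
    nInv_conv N hy (nInv_of_isClassFunction N hfBc)
  have hwc : Cfsg.IsClassFunction N (fun n : N => conv y (Cfsg.blockCoeff B) (n : G)) :=
    isClassFunction_restrict_of_nInv N hw
  have hwR : ∀ n : N, Cfsg.MemLocalRing M (conv y (Cfsg.blockCoeff B) (n : G)) :=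
    fun n => conv_memLocalRing hM _ _ hyR (blockCoeff_memLocalRing hM B hB) _
  obtain ⟨m, hm1, hm2⟩ := exists_of_omega_not_mem hM θ' _ hwc hwR hθ'
  have hd := blockDefect_le_factorization hM (Cfsg.blockOf M (θ' : N → ℂ)) ⟨θ', rfl⟩ θ'
    (mem_blockOf_self hM θ') m hm2
  obtain ⟨S₀⟩ : Nonempty (Sylow p (Subgroup.centralizer ({m} : Set N))) := inferInstance
  have hS₀card := card_sylow_centralizer_map m S₀
  set S₁ : Subgroup N := (S₀ : Subgroup (Subgroup.centralizer ({m} : Set N))).map
      (Subgroup.centralizer ({m} : Set N)).subtype with hS₁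
  have hS₁p : IsPGroup p S₁ := S₀.2.map _
  have hcardS : Nat.card (S₁.map N.subtype) = p ^ (Nat.card (Subgroup.centralizer ({m} : Set N))).factorization p := by
    rw [Subgroup.card_map_of_injective N.subtype_injective, hS₀card]
  have hle : Nat.card (S₁.map N.subtype) ≤ Nat.card (D ⊓ N : Subgroup G) := by
    by_contra hlt
    push Not at hlt
    apply hm1
    apply conv_blockCoeff_memLocalIdeal_of_card_lt N hM B hB D hD y hy hyR (m : G)
      (S₁.map N.subtype) (hS₁p.map _) _ _ hlt
    · rintro _ ⟨s, _, rfl⟩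
      exact s.2
    · rintro _ ⟨s, hs, rfl⟩
      obtain ⟨c, _, rfl⟩ := hs
      rw [Subgroup.mem_centralizer_iff]
      intro z hz
      rw [Set.mem_singleton_iff] at hz
      subst hz
      have := Subgroup.mem_centralizer_iff.mp c.2 m (Set.mem_singleton m)
      exact congrArg Subtype.val this
  calc p ^ Cfsg.blockDefect p (Cfsg.blockOf M (θ' : N → ℂ))
      ≤ p ^ (Nat.card (Subgroup.centralizer ({m} : Set N))).factorization p :=
        Nat.pow_le_pow_right (Fact.out : p.Prime).pos hd
    _ = Nat.card (S₁.map N.subtype) := hcardS.symm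
    _ ≤ _ := hle

end KnorrHard

end Cfsg.Agent.Lib.Helper24
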