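import Mathlib
import Cfsg.Prelude.Def_Blocks
import Cfsg.Prelude.Def_BlockLocal
import Cfsg.Agent.Lib.Helper24.KnorrHard
import Cfsg.Agent.Lib.Helper24.NormalPBlock
import Cfsg.Agent.Lib.Helper24.CentPairs
import Cfsg.Agent.Lib.Helper24.ConjPairs

/-!
# Knörr's theorem (helper24)

Let `N` be normal in `G` and `B` a block of `G` with defect group `D`.  Then `B` covers a
`D`-stable block `c` of `N` having `D ∩ N` as a defect group.
-/

set_option autoImplicit false

namespace Cfsg.Agent.Lib.Helper24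

open Cfsg.Agent.Lib.Helper2 Cfsg.Agent.Lib.Helper7
open scoped ComplexConjugate

section General

variable {K : Type*} [Group K] [Fintype K] {p : ℕ} {M : Ideal Cfsg.AlgInt}

/-- conjugates of defect groups are defect groups -/
theorem isDefectGroup_map_conj [Fact p.Prime] {B : Set (Cfsg.IrrCharacter K)} {D : Subgroup K}
    (hD : Cfsg.IsDefectGroup p M B D) (x : K) :
    Cfsg.IsDefectGroup p M B (D.map (MulAut.conj x).toMonoidHom) := by
  obtain ⟨g, hg, hle, hcard⟩ := exists_of_isDefectGroup hD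
  apply isDefectGroup_of_le_centralizer (isDefectClass_conj hg x)
  · rintro _ ⟨d, hd, rfl⟩
    rw [Subgroup.mem_centralizer_iff]
    intro z hz
    rw [Set.mem_singleton_iff] at hz
    subst hz
    have h1 := Subgroup.mem_centralizer_iff.mp (hle hd) g (Set.mem_singleton g)
    show x * g * x⁻¹ * (x * d * x⁻¹) = x * d * x⁻¹ * (x * g * x⁻¹)
    calc x * g * x⁻¹ * (x * d * x⁻¹) = x * (g * d) * x⁻¹ := by group
      _ = x * (d * g) * x⁻¹ := by rw [h1]
      _ = x * d * x⁻¹ * (x * g * x⁻¹) := by group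
  · rw [Subgroup.card_map_of_injective (MulEquiv.injective _), hcard]
    have := card_centralizer_mulEquiv (MulAut.conj x) g
    rw [MulAut.conj_apply] at this
    rw [this]

/-- a `p`-subgroup of the right order centralizing an element where the block idempotent is a
unit is a defect group -/
theorem isDefectGroup_of_card_eq [Fact p.Prime] (hM : Cfsg.IsPModular p M)
    (c : Set (Cfsg.IrrCharacter K)) (hc : Cfsg.IsPBlock M c) (l : K)
    (hl : ¬ Cfsg.MemLocalIdeal M (Cfsg.blockCoeff c l)) (S : Subgroup K)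
    (hSl : S ≤ Subgroup.centralizer ({l} : Set K))
    (hcard : Nat.card S = p ^ Cfsg.blockDefect p c) : Cfsg.IsDefectGroup p M c S := by
  obtain ⟨Q', hQ'⟩ := exists_isDefectGroup hM c hc
  have hQ0 := hQ'
  obtain ⟨g₀, hg₀, Q, rfl⟩ := hQ'
  obtain ⟨χ, hχ⟩ := isPBlock_nonempty hM hc
  have hmm := minmax hM c hc g₀ l Q χ hχ (hg₀.2.2 χ hχ) hl
  have hSp : IsPGroup p S := IsPGroup.of_card hcard
  obtain ⟨x, hx⟩ := hmm.exists_le S hSp hSl
  have heq : S = ((Q : Subgroup (Subgroup.centralizer ({g₀} : Set K))).map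
      (Subgroup.centralizer ({g₀} : Set K)).subtype).map (MulAut.conj x).toMonoidHom := by
    apply Subgroup.eq_of_le_of_card_ge hx
    rw [Subgroup.card_map_of_injective (MulEquiv.injective _),
      card_of_isDefectGroup hM c hc _ hQ0, hcard]
  rw [heq]
  exact isDefectGroup_map_conj hQ0 x

/-- the idempotent of a union of blocks is the sum of the block idempotents -/
theorem sum_blockCoeff_blocks (hM : Cfsg.IsPModular p M) (U : Set (Cfsg.IrrCharacter K))
    (hU : ∀ ψ ∈ U, Cfsg.blockOf M (ψ : K → ℂ) ⊆ U) (k : K)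
    [Fintype (Set (Cfsg.IrrCharacter K))]
    [DecidablePred (fun S : Set (Cfsg.IrrCharacter K) => Cfsg.IsPBlock M S ∧ S ⊆ U)] :
    ∑ S : Set (Cfsg.IrrCharacter K),
      (if Cfsg.IsPBlock M S ∧ S ⊆ U then Cfsg.blockCoeff S k else 0) = Cfsg.blockCoeff U k := by
  classical
  haveI : Fintype (Cfsg.IrrCharacter K) := Fintype.ofFinite _
  rw [blockCoeff_eq_sum U k]
  have h1 : ∀ S : Set (Cfsg.IrrCharacter K),
      (if Cfsg.IsPBlock M S ∧ S ⊆ U then Cfsg.blockCoeff S k else 0)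
        = (Nat.card K : ℂ)⁻¹ * ∑ χ : Cfsg.IrrCharacter K,
            if (Cfsg.IsPBlock M S ∧ S ⊆ U) ∧ χ ∈ S then
              (χ : K → ℂ) 1 * conj ((χ : K → ℂ) k) else 0 := by
    intro S
    by_cases hS : Cfsg.IsPBlock M S ∧ S ⊆ U
    · rw [if_pos hS, blockCoeff_eq_sum S k]
      congr 1
      apply Finset.sum_congr rfl
      intro χ _
      by_cases hχ : χ ∈ S
      · rw [if_pos hχ, if_pos ⟨hS, hχ⟩]
      · rw [if_neg hχ, if_neg (fun h => hχ h.2)]
    · rw [if_neg hS]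
      symm
      rw [mul_eq_zero]
      right
      apply Finset.sum_eq_zero
      intro χ _
      rw [if_neg (fun h => hS h.1)]
  rw [Finset.sum_congr rfl (fun S _ => h1 S), ← Finset.mul_sum, Finset.sum_comm]
  congr 1
  apply Finset.sum_congr rfl
  intro χ _
  have h2 : ∀ S : Set (Cfsg.IrrCharacter K),
      (if (Cfsg.IsPBlock M S ∧ S ⊆ U) ∧ χ ∈ S then
          (χ : K → ℂ) 1 * conj ((χ : K → ℂ) k) else 0)
        = if Cfsg.blockOf M (χ : K → ℂ) = S then
            (if χ ∈ U then (χ : K → ℂ) 1 * conj ((χ : K → ℂ) k) else 0) else 0 := by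
    intro S
    by_cases hS : (Cfsg.IsPBlock M S ∧ S ⊆ U) ∧ χ ∈ S
    · rw [if_pos hS, if_pos (eq_blockOf_of_mem hM hS.1.1 hS.2).symm, if_pos (hS.1.2 hS.2)]
    · rw [if_neg hS]
      by_cases hS2 : Cfsg.blockOf M (χ : K → ℂ) = S
      · rw [if_pos hS2]
        by_cases hχU : χ ∈ U
        · exfalso
          apply hS
          rw [← hS2]
          exact ⟨⟨⟨χ, rfl⟩, hU χ hχU⟩, mem_blockOf_self hM χ⟩
        · rw [if_neg hχU]
      · rw [if_neg hS2]
  rw [Finset.sum_congr rfl (fun S _ => h2 S), Finset.sum_ite_eq]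
  simp

end General

section ConjDefect

variable {G : Type*} [Group G] (K : Subgroup G) [Finite K] {p : ℕ} {M : Ideal Cfsg.AlgInt}

theorem blockDefect_blockOf_conjIrr (n : Subgroup.normalizer (K : Set G))
    (χ : Cfsg.IrrCharacter K) :
    Cfsg.blockDefect p (Cfsg.blockOf M (conjIrr K n χ).1)
      = Cfsg.blockDefect p (Cfsg.blockOf M χ.1) := by
  rw [blockOf_conjIrr]
  unfold Cfsg.blockDefect
  congr 2
  rw [Set.image_image]
  apply Set.image_congr
  intro ψ _
  show (Cfsg.charDegree (conjIrr K n ψ).1).factorization p = (Cfsg.charDegree ψ.1).factorization p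
  unfold Cfsg.charDegree
  rw [conjIrr_apply, map_one]

end ConjDefect

section Knorr

variable {G : Type*} [Group G] [Fintype G] (N : Subgroup G) [hN : N.Normal] [Fintype N]
variable {p : ℕ} {M : Ideal Cfsg.AlgInt}

theorem conjIrr7_eq (x : G) (ψ : Cfsg.IrrCharacter N) :
    Cfsg.Agent.Lib.Helper7.conjIrr N x ψ = conjIrr N (nrm N x⁻¹) ψ := by
  apply Subtype.ext
  funext k
  show conjFun N x (ψ : N → ℂ) k = ψ.1 (N.normalizerMonoidHom (nrm N x⁻¹)⁻¹ k)
  rw [conjFun_apply]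
  apply congrArg
  apply Subtype.ext
  rw [normalizerMonoidHom_inv_coe]
  show x * (k : G) * x⁻¹ = (x⁻¹)⁻¹ * (k : G) * x⁻¹
  rw [inv_inv]

theorem cs_eq_of_stable (U : Set (Cfsg.IrrCharacter N))
    (hU : ∀ (y : G) (ψ : Cfsg.IrrCharacter N),
      Cfsg.Agent.Lib.Helper7.conjIrr N y ψ ∈ U ↔ ψ ∈ U) (y : G) : cs N y U = U := by
  ext ψ
  constructor
  · rintro ⟨ψ', hψ', rfl⟩
    have := (hU y⁻¹ ψ').mpr hψ'
    rwa [conjIrr7_eq, inv_inv] at this
  · intro hψ
    refine ⟨conjIrr N (nrm N y)⁻¹ ψ, ?_, conjIrr_conjIrr_inv N (nrm N y) ψ⟩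
    have := (hU y ψ).mpr hψ
    rwa [conjIrr7_eq, nrm_inv] at this

/-- from `ω_χ(e_U) = 1` to an element of `N` centralized by the defect group at which `e_U` is a
unit -/
theorem exists_centralized_of_omega_coverFn [Fact p.Prime] (hM : Cfsg.IsPModular p M)
    (B : Set (Cfsg.IrrCharacter G)) (hB : Cfsg.IsPBlock M B) (D : Subgroup G)
    (hD : Cfsg.IsDefectGroup p M B D) (U : Set (Cfsg.IrrCharacter N))
    (hUst : ∀ (y : G) (ψ : Cfsg.IrrCharacter N),
      Cfsg.Agent.Lib.Helper7.conjIrr N y ψ ∈ U ↔ ψ ∈ U)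
    (hUbl : ∀ ψ ∈ U, Cfsg.blockOf M (ψ : N → ℂ) ⊆ U)
    (χ : Cfsg.IrrCharacter G) (hχ : χ ∈ B) (hω : omega (χ : G → ℂ) (coverFn N U) = 1) :
    ∃ g' : N, D ≤ Subgroup.centralizer ({(g' : G)} : Set G) ∧
      ¬ Cfsg.MemLocalIdeal M (Cfsg.blockCoeff U g') := by
  classical
  obtain ⟨g, hg1, hg2⟩ := exists_of_omega_not_mem hM χ (coverFn N U)
    (coverFn_isClassFunction N U hUst) (coverFn_memLocalRing N hM U hUbl)
    (by rw [hω]; exact not_memLocalIdeal_one hM)
  have hgN : g ∈ N := by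
    by_contra hgN
    apply hg1
    unfold coverFn
    rw [extendByZero_apply_not_mem N _ hgN]
    exact memLocalIdeal_zero hM
  have hg1' : ¬ Cfsg.MemLocalIdeal M (Cfsg.blockCoeff U (⟨g, hgN⟩ : N)) := by
    intro h
    apply hg1
    unfold coverFn
    rw [extendByZero_apply_mem N _ hgN]
    exact h
  obtain ⟨gD, hgD, hle, hcard⟩ := exists_of_isDefectGroup hD
  obtain ⟨Qg⟩ : Nonempty (Sylow p (Subgroup.centralizer ({g} : Set G))) := inferInstance
  have hmm := minmax hM B hB g gD Qg χ hχ hg2 hgD.2.1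
  obtain ⟨x, hx⟩ := hmm.exists_le D (IsPGroup.of_card hcard) hle
  refine ⟨⟨x * g * x⁻¹, hN.conj_mem g hgN x⟩, ?_, ?_⟩
  · intro d hd
    obtain ⟨q, hq, rfl⟩ := hx hd
    obtain ⟨q', _, rfl⟩ := hq
    rw [Subgroup.mem_centralizer_iff]
    intro z hz
    rw [Set.mem_singleton_iff] at hz
    subst hz
    have h1 := Subgroup.mem_centralizer_iff.mp q'.2 g (Set.mem_singleton g)
    show x * g * x⁻¹ * (x * (q' : G) * x⁻¹) = x * (q' : G) * x⁻¹ * (x * g * x⁻¹)
    calc x * g * x⁻¹ * (x * (q' : G) * x⁻¹) = x * (g * (q' : G)) * x⁻¹ := by group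
      _ = x * ((q' : G) * g) * x⁻¹ := by rw [h1]
      _ = x * (q' : G) * x⁻¹ * (x * g * x⁻¹) := by group
  · have := blockCoeff_conj_of_stable N U hUst x ⟨g, hgN⟩
    rw [this]
    exact hg1'

/-- a `D`-stable block in `U` at which the idempotent is a unit -/
theorem exists_stable_block [Fact p.Prime] (hM : Cfsg.IsPModular p M) (D : Subgroup G)
    (hDp : IsPGroup p D) (U : Set (Cfsg.IrrCharacter N))
    (hUst : ∀ (y : G) (ψ : Cfsg.IrrCharacter N),
      Cfsg.Agent.Lib.Helper7.conjIrr N y ψ ∈ U ↔ ψ ∈ U)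
    (hUbl : ∀ ψ ∈ U, Cfsg.blockOf M (ψ : N → ℂ) ⊆ U)
    (g' : N) (hDg : D ≤ Subgroup.centralizer ({(g' : G)} : Set G))
    (hg' : ¬ Cfsg.MemLocalIdeal M (Cfsg.blockCoeff U g')) :
    ∃ c : Set (Cfsg.IrrCharacter N), Cfsg.IsPBlock M c ∧ c ⊆ U ∧
      (∀ u ∈ D, Cfsg.StabilizesBlock N c u) ∧
      ¬ Cfsg.MemLocalIdeal M (Cfsg.blockCoeff c g') := by
  classical
  by_contra hcon
  push Not at hcon
  haveI : Fintype (Set (Cfsg.IrrCharacter N)) := Fintype.ofFinite _
  apply hg'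
  rw [← sum_blockCoeff_blocks hM U hUbl g']
  let act : MulAction D (Set (Cfsg.IrrCharacter N)) :=
    { smul := fun u S => cs N (u : G) S
      one_smul := fun S => cs_one N S
      mul_smul := fun u v S => cs_mul N (u : G) (v : G) S }
  have hsm : ∀ (u : D) (S : Set (Cfsg.IrrCharacter N)), act.smul u S = cs N (u : G) S :=
    fun u S => rfl
  have hcoeff : ∀ (u : D) (S : Set (Cfsg.IrrCharacter N)),
      Cfsg.blockCoeff (cs N (u : G) S) g' = Cfsg.blockCoeff S g' := by
    intro u S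
    rw [blockCoeff_cs]
    congr 1
    apply Subtype.ext
    have h1 := Subgroup.mem_centralizer_iff.mp (hDg u.2) (g' : G) (Set.mem_singleton _)
    show (u : G)⁻¹ * (g' : G) * (u : G) = (g' : G)
    rw [mul_assoc, h1, inv_mul_cancel_left]
  have hcond : ∀ (u : D) (S : Set (Cfsg.IrrCharacter N)),
      (Cfsg.IsPBlock M (cs N (u : G) S) ∧ cs N (u : G) S ⊆ U) ↔ (Cfsg.IsPBlock M S ∧ S ⊆ U) := by
    intro u S
    constructor
    · rintro ⟨h1, h2⟩
      have e : cs N ((u : G)⁻¹) (cs N (u : G) S) = S := by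
        rw [← cs_mul, inv_mul_cancel, cs_one]
      refine ⟨?_, ?_⟩
      · rw [← e]; exact cs_isPBlock N _ h1
      · rw [← e, ← cs_eq_of_stable N U hUst (u : G)⁻¹]
        exact Set.image_mono h2
    · rintro ⟨h1, h2⟩
      refine ⟨cs_isPBlock N _ h1, ?_⟩
      rw [← cs_eq_of_stable N U hUst (u : G)]
      exact Set.image_mono h2
  exact @sum_memLocalIdeal_of_pgroup p M hM D _ _ hDp (Set (Cfsg.IrrCharacter N)) _ act
    (fun S => if Cfsg.IsPBlock M S ∧ S ⊆ U then Cfsg.blockCoeff S g' else 0)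
    (fun u S => by
      show (if Cfsg.IsPBlock M (act.smul u S) ∧ act.smul u S ⊆ U then
        Cfsg.blockCoeff (act.smul u S) g' else 0) = _
      rw [hsm]
      by_cases hS : Cfsg.IsPBlock M S ∧ S ⊆ U
      · rw [if_pos hS, if_pos ((hcond u S).mpr hS), hcoeff]
      · rw [if_neg hS, if_neg (fun h => hS ((hcond u S).mp h))])
    (fun S => by
      show Cfsg.MemLocalRing M (if Cfsg.IsPBlock M S ∧ S ⊆ U then Cfsg.blockCoeff S g' else 0)
      split_ifs with hS
      · exact blockCoeff_memLocalRing hM S hS.1 g'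
      · exact memLocalRing_zero hM)
    (fun S hfix => by
      show Cfsg.MemLocalIdeal M
        (if Cfsg.IsPBlock M S ∧ S ⊆ U then Cfsg.blockCoeff S g' else 0)
      split_ifs with hS
      · apply hcon S hS.1 hS.2
        intro u hu
        rw [stabilizesBlock_iff_cs]
        exact hfix ⟨u, hu⟩
      · exact memLocalIdeal_zero hM)

/-- **Knörr's theorem**: a block `B` of `G` with defect group `D` covers a `D`-stable block of the
normal subgroup `N` with defect group `D ∩ N`. -/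
theorem knorr_exists_block [Fact p.Prime] (hM : Cfsg.IsPModular p M)
    (B : Set (Cfsg.IrrCharacter G)) (hB : Cfsg.IsPBlock M B) (D : Subgroup G)
    (hD : Cfsg.IsDefectGroup p M B D) :
    ∃ c : Set (Cfsg.IrrCharacter N), Cfsg.IsPBlock M c ∧
      (∀ x ∈ D, Cfsg.StabilizesBlock N c x) ∧
      (∃ χ ∈ B, ∃ θ ∈ c, Cfsg.classInner (fun n : N => (χ : G → ℂ) n) (θ : N → ℂ) ≠ 0) ∧
      Cfsg.IsDefectGroup p M c ((D ⊓ N).subgroupOf N) := by
  classical
  have hp : p.Prime := Fact.out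
  obtain ⟨y, hy, hyR, θ', hθ'⟩ := exists_unit_component N hM B hB
  have hunder : θ' ∉ notUnder N B := by
    intro h
    apply hθ'
    rw [omega_restrict_conv_blockCoeff_of_notUnder N B y hy θ' h]
    exact memLocalIdeal_zero hM
  obtain ⟨χ₀, hχ₀, hcon₀⟩ : ∃ χ₀ ∈ B,
      Cfsg.classInner (fun n : N => (χ₀ : G → ℂ) n) (θ' : N → ℂ) ≠ 0 := by
    by_contra h
    push Not at h
    exact hunder h
  have hb'' : Cfsg.IsPBlock M (Cfsg.blockOf M (θ' : N → ℂ)) := ⟨θ', rfl⟩
  have hθ'b : θ' ∈ Cfsg.blockOf M (θ' : N → ℂ) := mem_blockOf_self hM θ'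
  have hcov'' : ∃ χ ∈ B, ∃ θ ∈ Cfsg.blockOf M (θ' : N → ℂ),
      Cfsg.classInner (fun n : N => (χ : G → ℂ) n) (θ : N → ℂ) ≠ 0 :=
    ⟨χ₀, hχ₀, θ', hθ'b, hcon₀⟩
  have hard := pow_blockDefect_le_card_inf N hM B hB D hD y hy hyR θ' hθ'
  have hUst := orbitUnion_stable N (Cfsg.blockOf M (θ' : N → ℂ))
  have hUbl := blockOf_subset_orbitUnion N hM (Cfsg.blockOf M (θ' : N → ℂ)) hb''
  have hω : omega (χ₀ : G → ℂ) (coverFn N (orbitUnion N (Cfsg.blockOf M (θ' : N → ℂ)))) = 1 := by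
    rw [omega_coverFn N _ hUst χ₀ θ' hcon₀, if_pos (subset_orbitUnion N _ hθ'b)]
  obtain ⟨g', hDg, hg'⟩ := exists_centralized_of_omega_coverFn N hM B hB D hD _ hUst hUbl
    χ₀ hχ₀ hω
  have hDcard := card_of_isDefectGroup hM B hB D hD
  have hDp : IsPGroup p D := IsPGroup.of_card hDcard
  obtain ⟨c, hc, hcU, hcst, hcg'⟩ := exists_stable_block N hM D hDp _ hUst hUbl g' hDg hg'
  obtain ⟨ψ, hψ⟩ := isPBlock_nonempty hM hc
  obtain ⟨x, hx⟩ := hcU hψ
  -- defects agree
  have hdef : Cfsg.blockDefect p c = Cfsg.blockDefect p (Cfsg.blockOf M (θ' : N → ℂ)) := by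
    rw [eq_blockOf_of_mem hM hc hψ, eq_blockOf_of_mem hM hb'' hx, conjIrr7_eq]
    exact (blockDefect_blockOf_conjIrr N _ ψ).symm
  refine ⟨c, hc, hcst, ?_, ?_⟩
  · obtain ⟨χ, hχ, hχcon⟩ := exists_over_of_covering N hM B hB _ hb'' hcov''
      (Cfsg.Agent.Lib.Helper7.conjIrr N x ψ) hx
    refine ⟨χ, hχ, ψ, hψ, ?_⟩
    have h1 : Cfsg.classInner (fun n : N => (χ : G → ℂ) n) (conjFun N x (ψ : N → ℂ)) ≠ 0 := hχcon
    rwa [classInner_restrict_conjFun N (IrrCharacter.isClassFunction χ)] at h1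
  · apply isDefectGroup_of_card_eq hM c hc g' hcg'
    · intro s hs
      rw [Subgroup.mem_subgroupOf] at hs
      rw [Subgroup.mem_centralizer_iff]
      intro z hz
      rw [Set.mem_singleton_iff] at hz
      subst hz
      have h1 := Subgroup.mem_centralizer_iff.mp (hDg hs.1) (z : G) (Set.mem_singleton _)
      exact Subtype.ext h1
    · have hcardS : Nat.card ((D ⊓ N).subgroupOf N) = Nat.card (D ⊓ N : Subgroup G) :=
        Nat.card_congr (Subgroup.subgroupOfEquivOfLe (inf_le_right : D ⊓ N ≤ N)).toEquiv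
      have hSp : IsPGroup p ((D ⊓ N).subgroupOf N) := by
        have h1 : IsPGroup p (D ⊓ N : Subgroup G) := hDp.to_le inf_le_left
        exact h1.comap_of_injective N.subtype N.subtype_injective
      obtain ⟨k, hk⟩ := hSp.exists_card_eq
      have hSle : (D ⊓ N).subgroupOf N ≤ Subgroup.centralizer ({g'} : Set N) := by
        intro s hs
        rw [Subgroup.mem_subgroupOf] at hs
        rw [Subgroup.mem_centralizer_iff]
        intro z hz
        rw [Set.mem_singleton_iff] at hz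
        subst hz
        have h1 := Subgroup.mem_centralizer_iff.mp (hDg hs.1) (z : G) (Set.mem_singleton _)
        exact Subtype.ext h1
      have hdvd : p ^ k ∣ Nat.card (Subgroup.centralizer ({g'} : Set N)) := by
        rw [← hk]
        exact Subgroup.card_dvd_of_le hSle
      have hC0 : Nat.card (Subgroup.centralizer ({g'} : Set N)) ≠ 0 := Nat.card_pos.ne'
      have hk1 : k ≤ (Nat.card (Subgroup.centralizer ({g'} : Set N))).factorization p :=
        (hp.pow_dvd_iff_le_factorization hC0).mp hdvd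
      have hk2 := factorization_le_blockDefect hM c hc g' hcg'
      have hk3 : p ^ k ≤ p ^ Cfsg.blockDefect p c :=
        Nat.pow_le_pow_right hp.pos (hk1.trans hk2)
      rw [hdef] at hk3
      rw [hdef]
      rw [hk] at hcardS
      rw [hk]
      omega

end Knorr

end Cfsg.Agent.Lib.Helper24
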