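import Mathlib
import Cfsg.Prelude.Def_GeometricClasses
import Cfsg.Agent.Lib.Helper18.HubCorRPOW

/-!
# Hub corollaries, helper24's part (b): class 6 lives in dimension a power of `r`
`IsLinearSymplecticTypeData r R` in `GL_n(F)` implies `n = r ^ k` (via helper18's `HubCorRPOW`: irreducible
representations of groups of exponent `r ^ j` over a field with enough roots of unity have `r`-power degree).
Exact shape of `notes/HubCorSkel_helper9.lean.txt`.
-/

set_option autoImplicit false



namespace Cfsg.Agent.Lib.Helper24.HubCor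

open Cfsg Cfsg.Geo
open scoped MatrixGroups Matrix

variable {F : Type*} [Field F] [Fintype F]

/-- a finite field whose multiplicative group has order divisible by `m` contains a primitive `m`-th
root of unity -/
theorem exists_isPrimitiveRoot_of_dvd {m : ℕ} (hm : m ≠ 0) (h : m ∣ Fintype.card F - 1) :
    ∃ ζ : F, IsPrimitiveRoot ζ m := by
  classical
  obtain ⟨g, hg⟩ := IsCyclic.exists_ofOrder_eq_natCard (α := Fˣ)
  rw [Nat.card_eq_fintype_card, Fintype.card_units] at hg
  obtain ⟨d, hd⟩ := h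
  have hd0 : d ≠ 0 := by
    rintro rfl
    have : 1 < Fintype.card F := Fintype.one_lt_card
    omega
  have hord : orderOf (g ^ d) = m := by
    rw [orderOf_pow_of_dvd hd0 (by rw [hg, hd]; exact Dvd.intro_left m rfl), hg, hd]
    exact Nat.mul_div_cancel _ (Nat.pos_of_ne_zero hd0)
  refine ⟨((g ^ d : Fˣ) : F), ?_⟩
  rw [IsPrimitiveRoot.coe_units_iff, ← hord]
  exact IsPrimitiveRoot.orderOf _

/-- the representation of a matrix group on column vectors -/
noncomputable def matRep {n : ℕ} (R : Subgroup (GL (Fin n) F)) :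
    ↥R →* Module.End F (Fin n → F) :=
  ((Matrix.toLinAlgEquiv' (R := F) (n := Fin n)).toAlgHom : Matrix (Fin n) (Fin n) F →* _).comp
    ((Units.coeHom (Matrix (Fin n) (Fin n) F)).comp R.subtype)

theorem matRep_apply {n : ℕ} (R : Subgroup (GL (Fin n) F)) (g : ↥R) :
    matRep R g = Matrix.toLin' ((g : GL (Fin n) F) : Matrix (Fin n) (Fin n) F) := rfl

/-- (A3) C6 power of r. -/
theorem exists_pow_of_symplecticTypeData {n r : ℕ} (hn : 0 < n) (R : Subgroup (GL (Fin n) F))
    (hR : IsLinearSymplecticTypeData r R) : ∃ k : ℕ, n = r ^ k := by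
  have hprime := hR.symplecticType.prime
  have hexp := hR.symplecticType.exponent_eq
  obtain ⟨p, e, _, ⟨hp, _, hcard, hdvd, _⟩, hcases⟩ := hR.field
  haveI : Nontrivial (Fin n → F) := by
    haveI : Nonempty (Fin n) := ⟨⟨0, hn⟩⟩
    infer_instance
  have hirr : ∀ W : Submodule F (Fin n → F), (∀ g, W.map (matRep R g) ≤ W) → W = ⊥ ∨ W = ⊤ := by
    intro W hW
    apply hR.absIrred.1 W
    rintro s ⟨g, hg, rfl⟩
    exact hW ⟨g, hg⟩
  -- the common part: exponent `r ^ j` and `r ^ j ∣ |F| - 1`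
  have key : ∀ j : ℕ, Monoid.exponent ↥R = r ^ j → r ^ j ∣ Fintype.card F - 1 → ∃ k : ℕ, n = r ^ k := by
    intro j hj hdvdj
    obtain ⟨ζ, hζ⟩ := exists_isPrimitiveRoot_of_dvd (pow_ne_zero j hprime.ne_zero) hdvdj
    have hpow : ∀ g : ↥R, g ^ (r ^ j) = 1 := by
      intro g
      rw [← hj]
      exact Monoid.pow_exponent_eq_one g
    obtain ⟨k, hk⟩ := Cfsg.Agent.Lib.Helper18.HubCorRPOW.exists_finrank_eq_pow hprime j hζ (matRep R) hpow hirr
    rw [Module.finrank_fin_fun] at hk
    exact ⟨k, hk⟩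
  rcases hcases with ⟨hodd, _, hZ, _⟩ | ⟨h2, _, hZ, _⟩ | ⟨h2, _, hι, _⟩
  · apply key 1
    · rw [hexp, pow_one]
      have : Nat.gcd 2 r = 1 := Nat.coprime_two_left.2 hodd
      rw [this, mul_one]
    · rw [pow_one, hcard, ← hZ]
      exact hdvd
  · subst h2
    apply key 2
    · rw [hexp]
      rfl
    · rw [hcard]
      rw [hZ] at hdvd
      exact hdvd
  · subst h2
    rw [Fintype.card_fin] at hι
    exact ⟨1, by rw [hι, pow_one]⟩

/-- (A3') C6 divisibility. -/
theorem dvd_of_symplecticTypeData {n r : ℕ} (hn : 2 ≤ n) (R : Subgroup (GL (Fin n) F))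
    (hR : IsLinearSymplecticTypeData r R) : r ∣ n := by
  obtain ⟨k, hk⟩ := exists_pow_of_symplecticTypeData (by omega) R hR
  rcases Nat.eq_zero_or_pos k with h0 | h0
  · subst h0
    rw [pow_zero] at hk
    omega
  · rw [hk]
    exact dvd_pow_self r h0.ne'

end Cfsg.Agent.Lib.Helper24.HubCor
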