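import Cfsg.Agent.Lib.Helper19.AutOrb.Defs
import Cfsg.Agent.S0144

/-!
# S4068 farm, piece [A] (helper24): from four `Aut`-orbits to prime orders

`orderOf` is constant on `Aut(G)`-orbits; a non-solvable group has at least three prime divisors
(Burnside), Cauchy gives elements of order `1, p, q, r`, so with four orbits the order map on the
orbit space is a bijection onto `{1, p, q, r}`.
-/

set_option autoImplicit false

namespace Cfsg.Agent.Lib.Helper19.AutOrb

namespace Helper24

/-- Burnside `p^a q^b` in the form: at most two prime divisors. -/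
theorem solvable_of_le_two {H : Type*} [Group H] [Finite H]
    (h : (Nat.card H).primeFactors.card ≤ 2) : Group.IsSolvable H := by
  have hN : Nat.card H ≠ 0 := Nat.card_pos.ne'
  have hprod : Nat.card H = ∏ p ∈ (Nat.card H).primeFactors, p ^ (Nat.card H).factorization p :=
    (Nat.prod_factorization_pow_eq_self hN).symm.trans
      (Nat.prod_factorization_eq_prod_primeFactors _)
  rcases Nat.lt_or_ge (Nat.card H).primeFactors.card 2 with h1 | h2
  · rcases Nat.lt_or_ge (Nat.card H).primeFactors.card 1 with h0 | h1'
    · have he : (Nat.card H).primeFactors = ∅ := Finset.card_eq_zero.mp (by omega)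
      rw [he, Finset.prod_empty] at hprod
      exact Cfsg.Agent.S0144.result 2 3 0 0 Nat.prime_two Nat.prime_three (by rw [hprod]; norm_num)
    · obtain ⟨p, hp⟩ := Finset.card_eq_one.mp (by omega : (Nat.card H).primeFactors.card = 1)
      have hpp : p.Prime := Nat.prime_of_mem_primeFactors (by rw [hp]; simp)
      rw [hp, Finset.prod_singleton] at hprod
      exact Cfsg.Agent.S0144.result p 2 ((Nat.card H).factorization p) 0 hpp Nat.prime_two
        (by rw [pow_zero, mul_one]; exact hprod)
  · obtain ⟨p, q, hpq, hs⟩ := Finset.card_eq_two.mp (by omega : (Nat.card H).primeFactors.card = 2)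
    have hpp : p.Prime := Nat.prime_of_mem_primeFactors (by rw [hs]; simp)
    have hqp : q.Prime := Nat.prime_of_mem_primeFactors (by rw [hs]; simp)
    rw [hs, Finset.prod_pair hpq] at hprod
    exact Cfsg.Agent.S0144.result p q ((Nat.card H).factorization p) ((Nat.card H).factorization q)
      hpp hqp hprod

end Helper24

/-- [A] orbits + Cauchy + Burnside: exactly three primes, all orders prime, `Aut G` transitive on
each order. -/
theorem orbits_four {G : Type*} [Group G] [Finite G] (hns : ¬ Group.IsSolvable G)
    (h4 : Nat.card (MulAction.orbitRel.Quotient (MulAut G) G) = 4) :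
    PrimeOrders G ∧ AutTrans G ∧ (Nat.card G).primeFactors.card = 3 := by
  classical
  have hinv : ∀ a b : G, (MulAction.orbitRel (MulAut G) G) a b → orderOf a = orderOf b := by
    intro a b hab
    rw [MulAction.orbitRel_apply, MulAction.mem_orbit_iff] at hab
    obtain ⟨φ, rfl⟩ := hab
    rw [MulAut.smul_def]
    exact MulEquiv.orderOf_eq φ b
  let f : MulAction.orbitRel.Quotient (MulAut G) G → ℕ := Quotient.lift orderOf hinv
  have hf : ∀ x : G, f (Quotient.mk'' x) = orderOf x := fun x => rfl
  have : Finite (MulAction.orbitRel.Quotient (MulAut G) G) :=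
    Nat.finite_of_card_ne_zero (by rw [h4]; norm_num)
  haveI := Fintype.ofFinite (MulAction.orbitRel.Quotient (MulAut G) G)
  have hQ : Fintype.card (MulAction.orbitRel.Quotient (MulAut G) G) = 4 := by
    rw [← Nat.card_eq_fintype_card]; exact h4
  have h3le : 3 ≤ (Nat.card G).primeFactors.card := by
    by_contra hlt
    exact hns (Helper24.solvable_of_le_two (by omega))
  have hsub : insert 1 (Nat.card G).primeFactors ⊆ Finset.univ.image f := by
    intro n hn
    rw [Finset.mem_insert] at hn
    rw [Finset.mem_image]
    rcases hn with rfl | hn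
    · exact ⟨Quotient.mk'' (1 : G), Finset.mem_univ _, by rw [hf, orderOf_one]⟩
    · have hpr := Nat.prime_of_mem_primeFactors hn
      have : Fact n.Prime := ⟨hpr⟩
      obtain ⟨x, hx⟩ := exists_prime_orderOf_dvd_card' n (Nat.dvd_of_mem_primeFactors hn)
      exact ⟨Quotient.mk'' x, Finset.mem_univ _, by rw [hf, hx]⟩
  have h1P : (1 : ℕ) ∉ (Nat.card G).primeFactors :=
    fun h => Nat.not_prime_one (Nat.prime_of_mem_primeFactors h)
  have hcardins : (insert 1 (Nat.card G).primeFactors).card
      = (Nat.card G).primeFactors.card + 1 := Finset.card_insert_of_notMem h1P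
  have himg_le : (Finset.univ.image f).card ≤ 4 := by
    rw [← hQ]; exact Finset.card_image_le.trans (le_of_eq Finset.card_univ)
  have hle := Finset.card_le_card hsub
  have hP3 : (Nat.card G).primeFactors.card = 3 := by omega
  have himg_eq : insert 1 (Nat.card G).primeFactors = Finset.univ.image f :=
    Finset.eq_of_subset_of_card_le hsub (by omega)
  have hinj : Function.Injective f := by
    have hc : (Finset.univ.image f).card
        = (Finset.univ : Finset (MulAction.orbitRel.Quotient (MulAut G) G)).card := by
      rw [← himg_eq, hcardins, hP3, Finset.card_univ, hQ]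
    have := Finset.card_image_iff.mp hc
    intro a b hab
    exact this (Finset.mem_coe.2 (Finset.mem_univ a)) (Finset.mem_coe.2 (Finset.mem_univ b)) hab
  refine ⟨?_, ?_, hP3⟩
  · intro g hg
    have hmem : f (Quotient.mk'' g) ∈ insert 1 (Nat.card G).primeFactors := by
      rw [himg_eq]; exact Finset.mem_image_of_mem f (Finset.mem_univ _)
    rw [Finset.mem_insert, hf] at hmem
    rcases hmem with h1 | hp
    · exact absurd (orderOf_eq_one_iff.mp h1) hg
    · exact Nat.prime_of_mem_primeFactors hp
  · intro x y hxy
    have hq : (Quotient.mk'' x : MulAction.orbitRel.Quotient (MulAut G) G) = Quotient.mk'' y :=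
      hinj (by rw [hf, hf]; exact hxy)
    have hrel : (MulAction.orbitRel (MulAut G) G) x y := Quotient.exact hq
    rw [MulAction.orbitRel_apply, MulAction.mem_orbit_iff] at hrel
    obtain ⟨φ, hφ⟩ := hrel
    refine ⟨φ⁻¹, ?_⟩
    rw [← hφ, MulAut.smul_def]
    simp

end Cfsg.Agent.Lib.Helper19.AutOrb
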