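import Cfsg.Agent.Lib.Helper19.AutOrb.Defs

/-!
# S4068 farm, piece [C1] (helper24): the centralizer of an element of order `s` is a Sylow
`s`-subgroup

With all orders prime, `C(x)` is an `s`-group (a commuting element of another prime order would
give an element of composite order).  A central element `z ≠ 1` of a Sylow `s`-subgroup `P` has
`C(z) = P`; `x` is `Aut`-conjugate to `z`, so `#C(x) = #P`.
-/

set_option autoImplicit false

namespace Cfsg.Agent.Lib.Helper19.AutOrb

namespace Helper24

/-- With all orders prime, the centralizer of an element of prime order `s` is an `s`-group. -/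
theorem isPGroup_centralizer {G : Type*} [Group G] (hpo : PrimeOrders G) {s : ℕ}
    [Fact s.Prime] (x : G) (hx : orderOf x = s) :
    IsPGroup s ↥(Subgroup.centralizer ({x} : Set G)) := by
  have hs : s.Prime := Fact.out
  rw [IsPGroup.iff_orderOf]
  rintro ⟨y, hy⟩
  rw [Subgroup.mem_centralizer_singleton_iff] at hy
  rw [← Subgroup.orderOf_coe]
  show ∃ k, orderOf y = s ^ k
  by_cases hy1 : y = 1
  · exact ⟨0, by rw [hy1, orderOf_one, pow_zero]⟩
  · have hyp : (orderOf y).Prime := hpo y hy1
    by_cases hys : orderOf y = s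
    · exact ⟨1, by rw [hys, pow_one]⟩
    · exfalso
      have hcop : (orderOf x).Coprime (orderOf y) := by
        rw [hx]
        exact (Nat.coprime_primes hs hyp).mpr (fun h => hys h.symm)
      have hcomm : Commute x y := hy.symm
      have hord : orderOf (x * y) = s * orderOf y := by
        rw [hcomm.orderOf_mul_eq_mul_orderOf_of_coprime hcop, hx]
      have hne : x * y ≠ 1 := by
        intro h1
        rw [h1, orderOf_one] at hord
        have := hs.one_lt
        have := hyp.one_lt
        nlinarith
      have hpr : (orderOf (x * y)).Prime := hpo (x * y) hne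
      rw [hord] at hpr
      exact Nat.not_prime_mul hs.one_lt.ne' hyp.one_lt.ne' hpr

/-- An automorphism carries centralizers to centralizers (cardinalities). -/
theorem card_centralizer_mulAut {G : Type*} [Group G] (φ : MulAut G) (x : G) :
    Nat.card ↥(Subgroup.centralizer ({x} : Set G)) =
      Nat.card ↥(Subgroup.centralizer ({φ x} : Set G)) := by
  apply Nat.card_congr
  refine Equiv.subtypeEquiv φ.toEquiv ?_
  intro a
  show a ∈ Subgroup.centralizer ({x} : Set G) ↔ φ a ∈ Subgroup.centralizer ({φ x} : Set G)
  rw [Subgroup.mem_centralizer_singleton_iff, Subgroup.mem_centralizer_singleton_iff,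
    ← map_mul, ← map_mul]
  exact ⟨fun h => by rw [h], fun h => φ.injective h⟩

end Helper24

/-- [C1] the centralizer of an element of order `s` is a Sylow `s`-subgroup. -/
theorem centralizer_eq_sylow {G : Type*} [Group G] [Finite G] (hpo : PrimeOrders G)
    (hat : AutTrans G) {s : ℕ} [Fact s.Prime] (x : G) (hx : orderOf x = s) :
    ∃ Q : Sylow s G, (Q : Subgroup G) = Subgroup.centralizer ({x} : Set G) := by
  have hs : s.Prime := Fact.out
  have hsd : s ∣ Nat.card G := by rw [← hx]; exact orderOf_dvd_natCard x
  obtain ⟨P⟩ := (Sylow.nonempty : Nonempty (Sylow s G))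
  have hPne : (P : Subgroup G) ≠ ⊥ := P.ne_bot_of_dvd_card hsd
  have : Nontrivial ↥(P : Subgroup G) := (Subgroup.nontrivial_iff_ne_bot _).mpr hPne
  have : Nontrivial ↥(Subgroup.center ↥(P : Subgroup G)) := P.isPGroup'.center_nontrivial
  obtain ⟨⟨z', hz'c⟩, hz'ne⟩ := exists_ne (1 : ↥(Subgroup.center ↥(P : Subgroup G)))
  have hz'1 : z' ≠ 1 := by
    intro h
    apply hz'ne
    exact Subtype.ext h
  -- z := (z' : G)
  have hz1 : (z' : G) ≠ 1 := by
    intro h
    apply hz'1
    exact Subtype.ext h
  have hzs : orderOf (z' : G) = s := by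
    have hpr : (orderOf (z' : G)).Prime := hpo _ hz1
    obtain ⟨k, hk⟩ := (IsPGroup.iff_orderOf.mp P.isPGroup') z'
    rw [← Subgroup.orderOf_coe] at hk
    rw [hk] at hpr ⊢
    have hk0 : k ≠ 0 := by
      intro h0
      rw [h0, pow_zero] at hpr
      exact Nat.not_prime_one hpr
    have hd : s ∣ s ^ k := dvd_pow_self s hk0
    rcases (Nat.dvd_prime hpr).mp hd with h1 | h2
    · exact absurd h1 hs.one_lt.ne'
    · exact h2.symm
  -- C(z) = P
  have hPle : (P : Subgroup G) ≤ Subgroup.centralizer ({(z' : G)} : Set G) := by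
    intro g hg
    rw [Subgroup.mem_centralizer_singleton_iff]
    have := (Subgroup.mem_center_iff.mp hz'c) ⟨g, hg⟩
    -- this : ⟨g,hg⟩ * z' = z' * ⟨g,hg⟩
    exact congrArg Subtype.val this
  have hCz : Subgroup.centralizer ({(z' : G)} : Set G) = (P : Subgroup G) :=
    P.is_maximal' (Helper24.isPGroup_centralizer hpo (z' : G) hzs) hPle
  -- x is Aut-conjugate to z
  obtain ⟨φ, hφ⟩ := hat x (z' : G) (by rw [hx, hzs])
  have hcard : Nat.card ↥(Subgroup.centralizer ({x} : Set G)) =
      s ^ (Nat.card G).factorization s := by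
    rw [Helper24.card_centralizer_mulAut φ x, hφ, hCz]
    exact P.card_eq_multiplicity
  exact ⟨Sylow.ofCard _ hcard, Sylow.coe_ofCard _ hcard⟩

end Cfsg.Agent.Lib.Helper19.AutOrb
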