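import Mathlib

/-!
# Products of Galois conjugates of sums of roots of unity (helper24 library)

`prod_galois_conj`: if `μ i ^ m = 1` for all `i`, then `∏_{k ∈ (ℤ/m)ˣ} ∑_i μ_i ^ k` is a rational
integer, nonzero as soon as `∑_i μ_i ≠ 0`.
-/

set_option autoImplicit false

namespace Cfsg.Agent.Lib.Helper24

open Polynomial

theorem prod_galois_conj_aux (m : ℕ) [NeZero m] (K : Type) [Field K] [Algebra ℚ K]
    [IsCyclotomicExtension {m} ℚ K] (n : ℕ) (μ : Fin n → ℂ) (hμ : ∀ i, μ i ^ m = 1) :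
    ∃ z : ℤ, (∏ k : (ZMod m)ˣ, ∑ i, μ i ^ (k : ZMod m).val) = (z : ℂ) ∧
      ((∑ i, μ i) ≠ 0 → z ≠ 0) := by
  classical
  haveI : IsGalois ℚ K := IsCyclotomicExtension.isGalois {m} ℚ K
  haveI : FiniteDimensional ℚ K := IsCyclotomicExtension.finiteDimensional {m} ℚ K
  set ζ0 : K := IsCyclotomicExtension.zeta m ℚ K with hζ0def
  have hζ0 : IsPrimitiveRoot ζ0 m := IsCyclotomicExtension.zeta_spec m ℚ K
  let ι : K →ₐ[ℚ] ℂ := IsAlgClosed.lift
  have hιinj : Function.Injective ι := ι.toRingHom.injective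
  have hζ : IsPrimitiveRoot (ι ζ0) m := hζ0.map_of_injective hιinj
  choose a ha1 ha2 using fun i => hζ.eq_pow_of_pow_eq_one (hμ i)
  set α0 : K := ∑ i, ζ0 ^ a i with hα0
  have hια0 : ι α0 = ∑ i, μ i := by
    rw [hα0, map_sum]
    apply Finset.sum_congr rfl; intro i _
    rw [map_pow, ha2]
  have hint : IsIntegral ℤ α0 := by
    apply IsIntegral.sum
    intro i _
    apply IsIntegral.pow
    exact ⟨X ^ m - 1, monic_X_pow_sub_C 1 (NeZero.ne m), by simp [hζ0.pow_eq_one]⟩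
  have hirr : Irreducible (cyclotomic m ℚ) := cyclotomic.irreducible_rat (NeZero.pos m)
  let e : (K ≃ₐ[ℚ] K) ≃* (ZMod m)ˣ := IsCyclotomicExtension.autEquivPow K hirr
  have hσ : ∀ σ : K ≃ₐ[ℚ] K, σ ζ0 = ζ0 ^ ((e σ : (ZMod m)ˣ) : ZMod m).val := by
    intro σ
    have h1 := IsPrimitiveRoot.autToPow_spec ℚ hζ0 σ
    rw [← h1]
    congr 2
  have hσα : ∀ σ : K ≃ₐ[ℚ] K, ι (σ α0) = ∑ i, μ i ^ ((e σ : (ZMod m)ˣ) : ZMod m).val := by
    intro σ
    rw [hα0, map_sum, map_sum]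
    apply Finset.sum_congr rfl; intro i _
    rw [map_pow, hσ, map_pow, map_pow, ← ha2 i, ← pow_mul, ← pow_mul, mul_comm]
  have hnorm := Algebra.norm_eq_prod_automorphisms ℚ α0
  have hNint : IsIntegral ℤ (Algebra.norm ℚ α0) := Algebra.isIntegral_norm ℚ hint
  obtain ⟨z, hz⟩ := IsIntegrallyClosed.isIntegral_iff.mp hNint
  refine ⟨z, ?_, ?_⟩
  · have h1 := congrArg ι hnorm
    rw [map_prod] at h1
    have h2 : ι (algebraMap ℚ K (Algebra.norm ℚ α0)) = (z : ℂ) := by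
      rw [← hz]
      simp
    rw [h2] at h1
    rw [h1]
    symm
    apply Fintype.prod_equiv e.toEquiv
    intro σ
    rw [hσα]
    rfl
  · intro hne hz0
    apply hne
    rw [← hια0]
    have : Algebra.norm ℚ α0 = 0 := by rw [← hz, hz0]; simp
    rw [Algebra.norm_eq_zero_iff] at this
    rw [this, map_zero]

theorem prod_galois_conj (m : ℕ) [NeZero m] (n : ℕ) (μ : Fin n → ℂ) (hμ : ∀ i, μ i ^ m = 1) :
    ∃ z : ℤ, (∏ k : (ZMod m)ˣ, ∑ i, μ i ^ (k : ZMod m).val) = (z : ℂ) ∧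
      ((∑ i, μ i) ≠ 0 → z ≠ 0) := by
  haveI : IsCyclotomicExtension {m} ℚ (CyclotomicField m ℚ) :=
    CyclotomicField.isCyclotomicExtension m ℚ
  exact prod_galois_conj_aux m (CyclotomicField m ℚ) n μ hμ

/-- AM–GM in the form: nonnegative reals with product at least one have sum at least their
number. -/
theorem card_le_sum_of_one_le_prod {ι : Type*} [Fintype ι] (f : ι → ℝ) (hf : ∀ i, 0 ≤ f i)
    (hprod : 1 ≤ ∏ i, f i) : (Fintype.card ι : ℝ) ≤ ∑ i, f i := by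
  rcases Nat.eq_zero_or_pos (Fintype.card ι) with h0 | hpos
  · rw [h0, Nat.cast_zero]
    exact Finset.sum_nonneg (fun i _ => hf i)
  · have hN : (0 : ℝ) < (Fintype.card ι : ℝ) := by exact_mod_cast hpos
    have h1 := Real.geom_mean_le_arith_mean_weighted Finset.univ
      (fun _ : ι => (Fintype.card ι : ℝ)⁻¹) f (fun i _ => by positivity)
      (by rw [Finset.sum_const, Finset.card_univ, nsmul_eq_mul, mul_inv_cancel₀ hN.ne'])
      (fun i _ => hf i)
    rw [Real.finset_prod_rpow _ _ (fun i _ => hf i), ← Finset.mul_sum] at h1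
    have h2 : (1 : ℝ) ≤ (∏ i, f i) ^ (Fintype.card ι : ℝ)⁻¹ :=
      Real.one_le_rpow hprod (by positivity)
    have h3 : (1 : ℝ) ≤ (Fintype.card ι : ℝ)⁻¹ * ∑ i, f i := le_trans h2 h1
    calc (Fintype.card ι : ℝ) = (Fintype.card ι : ℝ) * 1 := by ring
      _ ≤ (Fintype.card ι : ℝ) * ((Fintype.card ι : ℝ)⁻¹ * ∑ i, f i) :=
          mul_le_mul_of_nonneg_left h3 hN.le
      _ = ∑ i, f i := by rw [← mul_assoc, mul_inv_cancel₀ hN.ne', one_mul]

/-- If a sum of `m`-th roots of unity is nonzero then so are all its Galois conjugates, and the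
sum of their squared absolute values is at least `φ(m)`. -/
theorem card_units_le_sum_normSq (m : ℕ) [NeZero m] (n : ℕ) (μ : Fin n → ℂ)
    (hμ : ∀ i, μ i ^ m = 1) (h : (∑ i, μ i) ≠ 0) :
    (∀ k : (ZMod m)ˣ, (∑ i, μ i ^ (k : ZMod m).val) ≠ 0) ∧
    (Fintype.card (ZMod m)ˣ : ℝ) ≤ ∑ k : (ZMod m)ˣ, ‖∑ i, μ i ^ (k : ZMod m).val‖ ^ 2 := by
  obtain ⟨z, hz, hz0⟩ := prod_galois_conj m n μ hμ
  have hzne : z ≠ 0 := hz0 h
  constructor
  · intro k hk
    apply hzne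
    have : (∏ k : (ZMod m)ˣ, ∑ i, μ i ^ (k : ZMod m).val) = 0 :=
      Finset.prod_eq_zero (Finset.mem_univ k) hk
    rw [this] at hz
    exact_mod_cast hz.symm
  · apply card_le_sum_of_one_le_prod
    · intro k; positivity
    · rw [Finset.prod_pow, ← norm_prod, hz]
      have h1 : (1 : ℝ) ≤ ‖(z : ℂ)‖ := by
        rw [Complex.norm_intCast]
        have : (1 : ℤ) ≤ |z| := Int.one_le_abs hzne
        exact_mod_cast this
      exact one_le_pow₀ h1

end Cfsg.Agent.Lib.Helper24
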