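import Mathlib
import Cfsg.Agent.Lib.Helper22.HallPetrescu

/-!
# S3779 piece C, part 1 (helper24): the factors `γ_i / γ_{i+1}` of the lower central series
and the commutator congruences
-/

set_option autoImplicit false

namespace Cfsg.Agent.Lib.Helper24.S3779C

open scoped commutatorElement

universe u

section basic

variable (G : Type u) [Group G]

/-- the lower central series (0-indexed: `lcs 0 = ⊤`) -/
abbrev lcs (i : ℕ) : Subgroup G := (⊤ : Subgroup G).lowerCentralSeries i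

instance lcs_normal (i : ℕ) : (lcs G i).Normal := inferInstance

/-- the factor `γ_i / γ_{i+1}` -/
abbrev Q (i : ℕ) : Type u := ↥(lcs G i) ⧸ (lcs G (i + 1)).subgroupOf (lcs G i)

variable {G}

theorem lcs_succ_le (i : ℕ) : lcs G (i + 1) ≤ lcs G i :=
  Subgroup.lowerCentralSeries_antitone _ (Nat.le_succ i)

theorem lcs_le_of_le {i j : ℕ} (h : i ≤ j) : lcs G j ≤ lcs G i :=
  Subgroup.lowerCentralSeries_antitone _ h

theorem comm_mem {i j : ℕ} {g h : G} (hg : g ∈ lcs G i) (hh : h ∈ lcs G j) :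
    ⁅g, h⁆ ∈ lcs G (i + j + 1) :=
  Cfsg.Agent.Lib.Helper22.HallPetrescu.lcs_comm_le j i (Subgroup.commutator_mem_commutator hg hh)

theorem comm_mem_succ {k : ℕ} {z : G} (hz : z ∈ lcs G k) (a : G) : ⁅z, a⁆ ∈ lcs G (k + 1) := by
  have h0 : a ∈ lcs G 0 := Subgroup.mem_top a
  have := comm_mem hz h0
  simpa using this

theorem comm_mem_succ' {k : ℕ} {z : G} (hz : z ∈ lcs G k) (a : G) : ⁅a, z⁆ ∈ lcs G (k + 1) := by
  have h0 : a ∈ lcs G 0 := Subgroup.mem_top a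
  have := comm_mem h0 hz
  simpa using this

/-- the class of `g ∈ γ_k` in `γ_k / γ_{k+1}` -/
def mkQ (k : ℕ) (g : G) (hg : g ∈ lcs G k) : Q G k := QuotientGroup.mk ⟨g, hg⟩

theorem mkQ_eq_iff {k : ℕ} {g h : G} (hg : g ∈ lcs G k) (hh : h ∈ lcs G k) :
    mkQ k g hg = mkQ k h hh ↔ g⁻¹ * h ∈ lcs G (k + 1) := by
  unfold mkQ
  rw [QuotientGroup.eq, Subgroup.mem_subgroupOf]
  rfl

theorem mkQ_mul {k : ℕ} {g h : G} (hg : g ∈ lcs G k) (hh : h ∈ lcs G k) :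
    mkQ k (g * h) ((lcs G k).mul_mem hg hh) = mkQ k g hg * mkQ k h hh := rfl

theorem mkQ_one (k : ℕ) : mkQ k (1 : G) (lcs G k).one_mem = 1 := rfl

theorem mkQ_inv {k : ℕ} {g : G} (hg : g ∈ lcs G k) :
    mkQ k g⁻¹ ((lcs G k).inv_mem hg) = (mkQ k g hg)⁻¹ := rfl

theorem mkQ_eq_one_iff {k : ℕ} {g : G} (hg : g ∈ lcs G k) :
    mkQ k g hg = 1 ↔ g ∈ lcs G (k + 1) := by
  rw [← mkQ_one, mkQ_eq_iff]
  constructor
  · intro h
    have := (lcs G (k + 1)).inv_mem h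
    simpa using this
  · intro h
    have := (lcs G (k + 1)).inv_mem h
    simpa using this

theorem mkQ_surj {k : ℕ} (a : Q G k) : ∃ (g : G) (hg : g ∈ lcs G k), mkQ k g hg = a := by
  induction a using QuotientGroup.induction_on with
  | H x => exact ⟨x.1, x.2, rfl⟩

theorem Q_mul_comm {k : ℕ} (a b : Q G k) : a * b = b * a := by
  obtain ⟨g, hg, rfl⟩ := mkQ_surj a
  obtain ⟨h, hh, rfl⟩ := mkQ_surj b
  rw [← mkQ_mul, ← mkQ_mul, mkQ_eq_iff]
  have e : (g * h)⁻¹ * (h * g) = ⁅h⁻¹, g⁻¹⁆ := by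
    rw [commutatorElement_def]; group
  rw [e]
  exact comm_mem_succ ((lcs G k).inv_mem hh) _

instance Q_commGroup (k : ℕ) : CommGroup (Q G k) :=
  { (inferInstance : Group (Q G k)) with mul_comm := Q_mul_comm }

/-- conjugation is trivial on the factors -/
theorem mkQ_conj {k : ℕ} {z : G} (hz : z ∈ lcs G k) (a : G) :
    mkQ k (a * z * a⁻¹) ((lcs_normal G k).conj_mem z hz a) = mkQ k z hz := by
  rw [mkQ_eq_iff]
  have e : (a * z * a⁻¹)⁻¹ * z = ⁅a, z⁻¹⁆ := by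
    rw [commutatorElement_def]; group
  rw [e]
  exact comm_mem_succ' ((lcs G k).inv_mem hz) a

/-- the commutator is multiplicative in the first argument modulo the next term -/
theorem mkQ_comm_mul_left {i j : ℕ} {g g' h : G} (hg : g ∈ lcs G i) (hg' : g' ∈ lcs G i)
    (hh : h ∈ lcs G j) :
    mkQ (i + j + 1) ⁅g * g', h⁆ (comm_mem ((lcs G i).mul_mem hg hg') hh) =
      mkQ (i + j + 1) ⁅g, h⁆ (comm_mem hg hh) * mkQ (i + j + 1) ⁅g', h⁆ (comm_mem hg' hh) := by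
  have e : ⁅g * g', h⁆ = g * ⁅g', h⁆ * g⁻¹ * ⁅g, h⁆ := by
    simp only [commutatorElement_def]; group
  have h1 : mkQ (i + j + 1) ⁅g * g', h⁆ (comm_mem ((lcs G i).mul_mem hg hg') hh) =
      mkQ (i + j + 1) (g * ⁅g', h⁆ * g⁻¹ * ⁅g, h⁆)
        ((lcs G _).mul_mem ((lcs_normal G _).conj_mem _ (comm_mem hg' hh) g) (comm_mem hg hh)) := by
    congr 1
  rw [h1, mkQ_mul ((lcs_normal G _).conj_mem _ (comm_mem hg' hh) g) (comm_mem hg hh),
    mkQ_conj (comm_mem hg' hh) g, mul_comm]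

/-- the commutator is multiplicative in the second argument modulo the next term -/
theorem mkQ_comm_mul_right {i j : ℕ} {g h h' : G} (hg : g ∈ lcs G i) (hh : h ∈ lcs G j)
    (hh' : h' ∈ lcs G j) :
    mkQ (i + j + 1) ⁅g, h * h'⁆ (comm_mem hg ((lcs G j).mul_mem hh hh')) =
      mkQ (i + j + 1) ⁅g, h⁆ (comm_mem hg hh) * mkQ (i + j + 1) ⁅g, h'⁆ (comm_mem hg hh') := by
  have e : ⁅g, h * h'⁆ = ⁅g, h⁆ * (h * ⁅g, h'⁆ * h⁻¹) := by
    simp only [commutatorElement_def]; group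
  have h1 : mkQ (i + j + 1) ⁅g, h * h'⁆ (comm_mem hg ((lcs G j).mul_mem hh hh')) =
      mkQ (i + j + 1) (⁅g, h⁆ * (h * ⁅g, h'⁆ * h⁻¹))
        ((lcs G _).mul_mem (comm_mem hg hh) ((lcs_normal G _).conj_mem _ (comm_mem hg hh') h)) := by
    congr 1
  rw [h1, mkQ_mul (comm_mem hg hh) ((lcs_normal G _).conj_mem _ (comm_mem hg hh') h),
    mkQ_conj (comm_mem hg hh') h]

theorem mkQ_comm_eq_one_left {i j : ℕ} {g h : G} (hg : g ∈ lcs G (i + 1)) (hh : h ∈ lcs G j) :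
    mkQ (i + j + 1) ⁅g, h⁆ (comm_mem (lcs_succ_le i hg) hh) = 1 := by
  rw [mkQ_eq_one_iff]
  have := comm_mem hg hh
  have e : i + 1 + j + 1 = i + j + 1 + 1 := by omega
  rwa [e] at this

theorem mkQ_comm_eq_one_right {i j : ℕ} {g h : G} (hg : g ∈ lcs G i) (hh : h ∈ lcs G (j + 1)) :
    mkQ (i + j + 1) ⁅g, h⁆ (comm_mem hg (lcs_succ_le j hh)) = 1 := by
  rw [mkQ_eq_one_iff]
  exact comm_mem (i := i) (j := j + 1) hg hh

end basic

end Cfsg.Agent.Lib.Helper24.S3779C
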