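import Mathlib
import Cfsg.Agent.Lib.Helper24.S3779C1

/-!
# S3779 piece C, part 2 (helper24): the graded additive group `⨁ γ_i/γ_{i+1}`, the bracket as a
biadditive map, and `theta`
-/

set_option autoImplicit false

namespace Cfsg.Agent.Lib.Helper24.S3779C

open scoped commutatorElement

universe u

section graded

variable {G : Type u} [Group G]

theorem mkQ_congr {k : ℕ} {g g' : G} (e : g = g') (hg : g ∈ lcs G k) (hg' : g' ∈ lcs G k) :
    mkQ k g hg = mkQ k g' hg' := by
  subst e; rfl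

/-- the class of a commutator -/
def cQ (i j : ℕ) (g h : G) (hg : g ∈ lcs G i) (hh : h ∈ lcs G j) : Q G (i + j + 1) :=
  mkQ (i + j + 1) ⁅g, h⁆ (comm_mem hg hh)

theorem cQ_mul_left {i j : ℕ} {g g' h : G} (hg : g ∈ lcs G i) (hg' : g' ∈ lcs G i)
    (hh : h ∈ lcs G j) :
    cQ i j (g * g') h ((lcs G i).mul_mem hg hg') hh = cQ i j g h hg hh * cQ i j g' h hg' hh :=
  mkQ_comm_mul_left hg hg' hh

theorem cQ_mul_right {i j : ℕ} {g h h' : G} (hg : g ∈ lcs G i) (hh : h ∈ lcs G j)
    (hh' : h' ∈ lcs G j) :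
    cQ i j g (h * h') hg ((lcs G j).mul_mem hh hh') = cQ i j g h hg hh * cQ i j g h' hg hh' :=
  mkQ_comm_mul_right hg hh hh'

theorem cQ_one_left {i j : ℕ} {g h : G} (hg : g ∈ lcs G (i + 1)) (hh : h ∈ lcs G j) :
    cQ i j g h (lcs_succ_le i hg) hh = 1 :=
  mkQ_comm_eq_one_left hg hh

theorem cQ_one_right {i j : ℕ} {g h : G} (hg : g ∈ lcs G i) (hh : h ∈ lcs G (j + 1)) :
    cQ i j g h hg (lcs_succ_le j hh) = 1 :=
  mkQ_comm_eq_one_right hg hh

theorem cQ_congr {i j : ℕ} {g g' h h' : G} (eg : g = g') (eh : h = h') (hg : g ∈ lcs G i)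
    (hh : h ∈ lcs G j) (hg' : g' ∈ lcs G i) (hh' : h' ∈ lcs G j) :
    cQ i j g h hg hh = cQ i j g' h' hg' hh' := by
  subst eg; subst eh; rfl

theorem cQ_congr_left {i j : ℕ} {g g' h : G} (hg : g ∈ lcs G i) (hg' : g' ∈ lcs G i)
    (hh : h ∈ lcs G j) (e : g⁻¹ * g' ∈ lcs G (i + 1)) :
    cQ i j g h hg hh = cQ i j g' h hg' hh := by
  have e1 : g' = g * (g⁻¹ * g') := by group
  rw [cQ_congr e1 rfl hg' hh ((lcs G i).mul_mem hg (lcs_succ_le i e)) hh,
    cQ_mul_left hg (lcs_succ_le i e) hh, cQ_one_left e hh, mul_one]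

theorem cQ_congr_right {i j : ℕ} {g h h' : G} (hg : g ∈ lcs G i) (hh : h ∈ lcs G j)
    (hh' : h' ∈ lcs G j) (e : h⁻¹ * h' ∈ lcs G (j + 1)) :
    cQ i j g h hg hh = cQ i j g h' hg hh' := by
  have e1 : h' = h * (h⁻¹ * h') := by group
  rw [cQ_congr rfl e1 hg hh' hg ((lcs G j).mul_mem hh (lcs_succ_le j e)),
    cQ_mul_right hg hh (lcs_succ_le j e), cQ_one_right hg e, mul_one]

/-- the bracket on the factors -/
def brQ (i j : ℕ) (a : Q G i) (b : Q G j) : Q G (i + j + 1) :=
  Quotient.liftOn₂' a b (fun x y => cQ i j x.1 y.1 x.2 y.2) (by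
    intro x y x' y' hx hy
    rw [QuotientGroup.leftRel_apply, Subgroup.mem_subgroupOf] at hx hy
    exact (cQ_congr_left x.2 x'.2 y.2 hx).trans (cQ_congr_right x'.2 y.2 y'.2 hy))

theorem brQ_mk {i j : ℕ} {g h : G} (hg : g ∈ lcs G i) (hh : h ∈ lcs G j) :
    brQ i j (mkQ i g hg) (mkQ j h hh) = cQ i j g h hg hh := rfl

theorem brQ_mul_left {i j : ℕ} (a a' : Q G i) (b : Q G j) :
    brQ i j (a * a') b = brQ i j a b * brQ i j a' b := by
  obtain ⟨g, hg, rfl⟩ := mkQ_surj a
  obtain ⟨g', hg', rfl⟩ := mkQ_surj a'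
  obtain ⟨h, hh, rfl⟩ := mkQ_surj b
  rw [← mkQ_mul, brQ_mk, brQ_mk, brQ_mk, cQ_mul_left]

theorem brQ_mul_right {i j : ℕ} (a : Q G i) (b b' : Q G j) :
    brQ i j a (b * b') = brQ i j a b * brQ i j a b' := by
  obtain ⟨g, hg, rfl⟩ := mkQ_surj a
  obtain ⟨h, hh, rfl⟩ := mkQ_surj b
  obtain ⟨h', hh', rfl⟩ := mkQ_surj b'
  rw [← mkQ_mul, brQ_mk, brQ_mk, brQ_mk, cQ_mul_right]

variable (G)

/-- the additive factor `γ_i / γ_{i+1}` -/
abbrev Gr (i : ℕ) : Type u := Additive (Q G i)

/-- the bracket on the factors, as a biadditive map -/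
def brA (i j : ℕ) : Gr G i →+ Gr G j →+ Gr G (i + j + 1) :=
  AddMonoidHom.mk' (fun a => AddMonoidHom.mk'
    (fun b => Additive.ofMul (brQ i j (Additive.toMul a) (Additive.toMul b)))
    (fun b b' => by
      show Additive.ofMul (brQ i j (Additive.toMul a) (Additive.toMul b * Additive.toMul b')) = _
      rw [brQ_mul_right]; rfl))
    (fun a a' => by
      refine AddMonoidHom.ext fun b => ?_
      show Additive.ofMul (brQ i j (Additive.toMul a * Additive.toMul a') (Additive.toMul b)) = _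
      rw [brQ_mul_left]; rfl)

theorem brA_apply (i j : ℕ) (a : Gr G i) (b : Gr G j) :
    brA G i j a b = Additive.ofMul (brQ i j (Additive.toMul a) (Additive.toMul b)) := rfl

/-- the associated graded additive group of the lower central series -/
abbrev AssocLie : Type u := DirectSum ℕ (Gr G)

/-- the inclusion of a factor -/
def ofGr (i : ℕ) : Gr G i →+ AssocLie G := DirectSum.of (Gr G) i

/-- the bracket as a biadditive map -/
def bracketHom : AssocLie G →+ AssocLie G →+ AssocLie G :=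
  DirectSum.toAddMonoid fun i =>
    AddMonoidHom.flip <| DirectSum.toAddMonoid fun j =>
      AddMonoidHom.flip <| (AddMonoidHom.compHom (ofGr G (i + j + 1))).comp (brA G i j)

theorem bracketHom_of (i j : ℕ) (a : Gr G i) (b : Gr G j) :
    bracketHom G (ofGr G i a) (ofGr G j b) = ofGr G (i + j + 1) (brA G i j a b) := by
  unfold bracketHom ofGr
  rw [DirectSum.toAddMonoid_of, AddMonoidHom.flip_apply, DirectSum.toAddMonoid_of,
    AddMonoidHom.flip_apply]
  rfl

/-- the image of `g` in degree `i` (zero if `g ∉ γ_i`) -/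
noncomputable def theta (i : ℕ) (g : G) : AssocLie G := by
  classical
  exact if hg : g ∈ lcs G i then ofGr G i (Additive.ofMul (mkQ i g hg)) else 0

variable {G}

theorem theta_of_mem (i : ℕ) {g : G} (hg : g ∈ lcs G i) :
    theta G i g = ofGr G i (Additive.ofMul (mkQ i g hg)) := by
  unfold theta
  rw [dif_pos hg]

theorem theta_mul (i : ℕ) {g h : G} (hg : g ∈ (⊤ : Subgroup G).lowerCentralSeries i)
    (hh : h ∈ (⊤ : Subgroup G).lowerCentralSeries i) :
    theta G i (g * h) = theta G i g + theta G i h := by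
  rw [theta_of_mem i hg, theta_of_mem i hh, theta_of_mem i ((lcs G i).mul_mem hg hh), ← map_add]
  rfl

theorem theta_eq_zero_iff (i : ℕ) {g : G} (hg : g ∈ (⊤ : Subgroup G).lowerCentralSeries i) :
    theta G i g = 0 ↔ g ∈ (⊤ : Subgroup G).lowerCentralSeries (i + 1) := by
  rw [theta_of_mem i hg]
  constructor
  · intro h
    have h1 : ofGr G i (Additive.ofMul (mkQ i g hg)) = ofGr G i 0 := by rw [h, map_zero]
    have h2 := DirectSum.of_injective (β := Gr G) i h1
    exact (mkQ_eq_one_iff hg).mp h2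
  · intro h
    have : mkQ i g hg = 1 := (mkQ_eq_one_iff hg).mpr h
    rw [this]
    exact map_zero _

theorem theta_lie_hom (i j : ℕ) {g h : G} (hg : g ∈ (⊤ : Subgroup G).lowerCentralSeries i)
    (hh : h ∈ (⊤ : Subgroup G).lowerCentralSeries j) :
    bracketHom G (theta G i g) (theta G j h) = theta G (i + j + 1) ⁅g, h⁆ := by
  rw [theta_of_mem i hg, theta_of_mem j hh, theta_of_mem (i + j + 1) (comm_mem hg hh),
    bracketHom_of]
  rfl

theorem theta_one (i : ℕ) : theta G i (1 : G) = 0 :=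
  (theta_eq_zero_iff i (lcs G i).one_mem).mpr (lcs G (i + 1)).one_mem

theorem theta_inv (i : ℕ) {g : G} (hg : g ∈ lcs G i) : theta G i g⁻¹ = - theta G i g := by
  have h := theta_mul i hg ((lcs G i).inv_mem hg)
  rw [mul_inv_cancel, theta_one] at h
  exact (neg_eq_of_add_eq_zero_right h.symm).symm

theorem theta_conj (i : ℕ) {z : G} (hz : z ∈ lcs G i) (a : G) :
    theta G i (a * z * a⁻¹) = theta G i z := by
  rw [theta_of_mem i hz, theta_of_mem i ((lcs_normal G i).conj_mem z hz a), mkQ_conj hz a]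

/-- induction principle: every element is a sum of `theta`s -/
theorem assoc_induction {P : AssocLie G → Prop} (h0 : P 0)
    (hadd : ∀ x y, P x → P y → P (x + y))
    (hth : ∀ (i : ℕ) (g : G), g ∈ lcs G i → P (theta G i g)) (x : AssocLie G) : P x := by
  refine DirectSum.induction_on (β := Gr G) x h0 ?_ hadd
  intro i a
  obtain ⟨g, hg, hga⟩ := mkQ_surj (Additive.toMul a)
  have := hth i g hg
  rw [theta_of_mem i hg, hga] at this
  exact this

theorem theta_span : AddSubgroup.closure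
    {z : AssocLie G | ∃ (i : ℕ) (g : G), g ∈ (⊤ : Subgroup G).lowerCentralSeries i ∧
      z = theta G i g} = ⊤ := by
  rw [eq_top_iff]
  intro x _
  refine assoc_induction (P := fun x => x ∈ AddSubgroup.closure
    {z : AssocLie G | ∃ (i : ℕ) (g : G), g ∈ (⊤ : Subgroup G).lowerCentralSeries i ∧
      z = theta G i g}) (AddSubgroup.zero_mem _) (fun x y hx hy => AddSubgroup.add_mem _ hx hy)
    (fun i g hg => AddSubgroup.subset_closure ⟨i, g, hg, rfl⟩) x

end graded

end Cfsg.Agent.Lib.Helper24.S3779C
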