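import Mathlib
import Cfsg.Agent.Lib.Helper24.S3779C2

/-!
# S3779 piece C, part 3 (helper24): the Lie ring structure on `⨁ γ_i/γ_{i+1}`
-/

set_option autoImplicit false

namespace Cfsg.Agent.Lib.Helper24.S3779C

open scoped commutatorElement

universe u

section lie

variable {G : Type u} [Group G]

local notation "B" => bracketHom G

theorem theta_idx {a b : ℕ} (e : a = b) (g : G) : theta G a g = theta G b g := by
  subst e; rfl

/-- skew symmetry on generators -/
theorem skew_theta (i j : ℕ) {g h : G} (hg : g ∈ lcs G i) (hh : h ∈ lcs G j) :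
    B (theta G i g) (theta G j h) + B (theta G j h) (theta G i g) = 0 := by
  rw [theta_lie_hom i j hg hh, theta_lie_hom j i hh hg, theta_idx (show j + i + 1 = i + j + 1 by omega),
    ← commutatorElement_inv g h, theta_inv _ (comm_mem hg hh), add_neg_cancel]

/-- skew symmetry -/
theorem skew (x y : AssocLie G) : B x y + B y x = 0 := by
  refine assoc_induction (P := fun x => ∀ y, B x y + B y x = 0) ?_ ?_ ?_ x y
  · intro y
    simp
  · intro x x' hx hx' y
    have h1 := hx y
    have h2 := hx' y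
    simp only [map_add, AddMonoidHom.add_apply]
    calc B x y + B x' y + (B y x + B y x') = (B x y + B y x) + (B x' y + B y x') := by abel
      _ = 0 := by rw [h1, h2, add_zero]
  · intro i g hg y
    refine assoc_induction (P := fun y => B (theta G i g) y + B y (theta G i g) = 0) ?_ ?_ ?_ y
    · simp
    · intro y y' hy hy'
      simp only [map_add, AddMonoidHom.add_apply]
      calc B (theta G i g) y + B (theta G i g) y' + (B y (theta G i g) + B y' (theta G i g))
          = (B (theta G i g) y + B y (theta G i g)) + (B (theta G i g) y' + B y' (theta G i g)) := by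
            abel
        _ = 0 := by rw [hy, hy', add_zero]
    · intro j h hh
      exact skew_theta i j hg hh

theorem skew' (x y : AssocLie G) : B x y = - B y x :=
  eq_neg_of_add_eq_zero_left (skew x y)

theorem lie_self' (x : AssocLie G) : B x x = 0 := by
  refine assoc_induction (P := fun x => B x x = 0) ?_ ?_ ?_ x
  · simp
  · intro x y hx hy
    simp only [map_add, AddMonoidHom.add_apply, hx, hy]
    have := skew x y
    calc (0 : AssocLie G) + B y x + (B x y + 0) = B x y + B y x := by abel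
      _ = 0 := this
  · intro i g hg
    rw [theta_lie_hom i i hg hg, commutatorElement_self, theta_one]

/-- the cyclic sum -/
def cyc (x y z : AssocLie G) : AssocLie G := B (B x y) z + B (B y z) x + B (B z x) y

theorem cyc_rot (x y z : AssocLie G) : cyc x y z = cyc y z x := by
  unfold cyc; abel

theorem cyc_zero (y z : AssocLie G) : cyc 0 y z = 0 := by
  unfold cyc; simp

theorem cyc_add (x x' y z : AssocLie G) : cyc (x + x') y z = cyc x y z + cyc x' y z := by
  unfold cyc
  simp only [map_add, AddMonoidHom.add_apply]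
  abel

theorem hall_witt' (x y z : G) :
    y * ⁅⁅x, y⁻¹⁆⁻¹, z⁆ * y⁻¹ * (z * ⁅⁅y, z⁻¹⁆⁻¹, x⁆ * z⁻¹) * (x * ⁅⁅z, x⁻¹⁆⁻¹, y⁆ * x⁻¹) = 1 := by
  simp only [commutatorElement_def]; group

/-- one term of the Hall–Witt identity in the graded ring -/
theorem theta_hw_term (i j k : ℕ) {g h l : G} (hg : g ∈ lcs G i) (hh : h ∈ lcs G j)
    (hl : l ∈ lcs G k) :
    theta G (i + j + 1 + k + 1) ⁅⁅g, h⁻¹⁆⁻¹, l⁆ =
      B (B (theta G i g) (theta G j h)) (theta G k l) := by
  have hh' : h⁻¹ ∈ lcs G j := (lcs G j).inv_mem hh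
  have hc : ⁅g, h⁻¹⁆ ∈ lcs G (i + j + 1) := comm_mem hg hh'
  rw [← theta_lie_hom (i + j + 1) k ((lcs G _).inv_mem hc) hl, theta_inv _ hc,
    ← theta_lie_hom i j hg hh', theta_inv _ hh]
  simp only [map_neg, AddMonoidHom.neg_apply, neg_neg]

theorem cyc_theta (i j k : ℕ) {g h l : G} (hg : g ∈ lcs G i) (hh : h ∈ lcs G j)
    (hl : l ∈ lcs G k) : cyc (theta G i g) (theta G j h) (theta G k l) = 0 := by
  unfold cyc
  rw [← theta_hw_term i j k hg hh hl, ← theta_hw_term j k i hh hl hg, ← theta_hw_term k i j hl hg hh]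
  have hh' : h⁻¹ ∈ lcs G j := (lcs G j).inv_mem hh
  have hg' : g⁻¹ ∈ lcs G i := (lcs G i).inv_mem hg
  have hl' : l⁻¹ ∈ lcs G k := (lcs G k).inv_mem hl
  have m1 : ⁅⁅g, h⁻¹⁆⁻¹, l⁆ ∈ lcs G (i + j + 1 + k + 1) :=
    comm_mem ((lcs G _).inv_mem (comm_mem hg hh')) hl
  have m2 : ⁅⁅h, l⁻¹⁆⁻¹, g⁆ ∈ lcs G (j + k + 1 + i + 1) :=
    comm_mem ((lcs G _).inv_mem (comm_mem hh hl')) hg
  have m3 : ⁅⁅l, g⁻¹⁆⁻¹, h⁆ ∈ lcs G (k + i + 1 + j + 1) :=
    comm_mem ((lcs G _).inv_mem (comm_mem hl hg')) hh
  have e2 : j + k + 1 + i + 1 = i + j + 1 + k + 1 := by omega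
  have e3 : k + i + 1 + j + 1 = i + j + 1 + k + 1 := by omega
  rw [e2] at m2
  rw [e3] at m3
  rw [theta_idx e2, theta_idx e3]
  have hw := hall_witt' g h l
  have c1 := (lcs_normal G _).conj_mem _ m1 h
  have c2 := (lcs_normal G _).conj_mem _ m2 l
  have c3 := (lcs_normal G _).conj_mem _ m3 g
  have := congrArg (theta G (i + j + 1 + k + 1)) hw
  rw [theta_one, theta_mul _ ((lcs G _).mul_mem c1 c2) c3, theta_mul _ c1 c2, theta_conj _ m1,
    theta_conj _ m2, theta_conj _ m3] at this
  exact this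

theorem cyc_eq_zero (x y z : AssocLie G) : cyc x y z = 0 := by
  -- step 1
  have s1 : ∀ (i : ℕ) (g : G), g ∈ lcs G i → ∀ (j : ℕ) (h : G), h ∈ lcs G j →
      ∀ z, cyc (theta G i g) (theta G j h) z = 0 := by
    intro i g hg j h hh z
    rw [← cyc_rot z]
    refine assoc_induction (P := fun z => cyc z (theta G i g) (theta G j h) = 0) (cyc_zero _ _)
      ?_ ?_ z
    · intro a b ha hb
      rw [cyc_add, ha, hb, add_zero]
    · intro k l hl
      rw [cyc_rot]
      exact cyc_theta i j k hg hh hl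
  have s2 : ∀ (i : ℕ) (g : G), g ∈ lcs G i → ∀ y z, cyc (theta G i g) y z = 0 := by
    intro i g hg y z
    rw [cyc_rot]
    refine assoc_induction (P := fun y => cyc y z (theta G i g) = 0) (cyc_zero _ _) ?_ ?_ y
    · intro a b ha hb
      rw [cyc_add, ha, hb, add_zero]
    · intro j h hh
      rw [← cyc_rot]
      exact s1 i g hg j h hh z
  refine assoc_induction (P := fun x => cyc x y z = 0) (cyc_zero _ _) ?_ ?_ x
  · intro a b ha hb
    rw [cyc_add, ha, hb, add_zero]
  · intro i g hg
    exact s2 i g hg y z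

theorem leibniz' (x y z : AssocLie G) : B x (B y z) = B (B x y) z + B y (B x z) := by
  have h := cyc_eq_zero x y z
  unfold cyc at h
  have e1 : B x (B y z) = - B (B y z) x := skew' _ _
  have e2 : B y (B x z) = B (B z x) y := by
    rw [skew' y (B x z), skew' x z, map_neg, AddMonoidHom.neg_apply, neg_neg]
  rw [e1, e2]
  have : B (B y z) x = - (B (B x y) z + B (B z x) y) := by
    apply eq_neg_of_add_eq_zero_right
    rw [← h]; abel
  rw [this, neg_neg]

instance instBracket : Bracket (AssocLie G) (AssocLie G) := ⟨fun x y => B x y⟩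

theorem lie_def (x y : AssocLie G) : ⁅x, y⁆ = B x y := rfl

noncomputable instance instLieRing : LieRing (AssocLie G) where
  add_lie x y z := by simp only [lie_def, map_add, AddMonoidHom.add_apply]
  lie_add x y z := by simp only [lie_def, map_add]
  lie_self x := lie_self' x
  leibniz_lie x y z := leibniz' x y z

theorem theta_lie (i j : ℕ) {g h : G} (hg : g ∈ (⊤ : Subgroup G).lowerCentralSeries i)
    (hh : h ∈ (⊤ : Subgroup G).lowerCentralSeries j) :
    ⁅theta G i g, theta G j h⁆ = theta G (i + j + 1) ⁅g, h⁆ :=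
  theta_lie_hom i j hg hh

end lie

end Cfsg.Agent.Lib.Helper24.S3779C
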