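import Mathlib
import Cfsg.Agent.Lib.Helper24.S3779C3

/-!
# S3779 piece C, part 4 (helper24): the automorphism of `⨁ γ_i/γ_{i+1}` induced by an
automorphism of the group
-/

set_option autoImplicit false

namespace Cfsg.Agent.Lib.Helper24.S3779C

open scoped commutatorElement

universe u

section aut

variable {G : Type u} [Group G]

theorem aut_mem (α : G ≃* G) (i : ℕ) {g : G} (hg : g ∈ lcs G i) : α g ∈ lcs G i := by
  have hc : (lcs G i).Characteristic := inferInstance
  have h := hc.fixed α
  have : g ∈ (lcs G i).comap α.toMonoidHom := by rw [h]; exact hg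
  exact this

/-- the restriction of `α` to `γ_i` -/
def resAut (α : G ≃* G) (i : ℕ) : ↥(lcs G i) →* ↥(lcs G i) :=
  (α.toMonoidHom.comp (lcs G i).subtype).codRestrict (lcs G i) (fun x => aut_mem α i x.2)

/-- the map induced on `γ_i/γ_{i+1}` -/
def autQ (α : G ≃* G) (i : ℕ) : Q G i →* Q G i :=
  QuotientGroup.map _ _ (resAut α i) (by
    intro x hx
    rw [Subgroup.mem_subgroupOf] at hx
    rw [Subgroup.mem_comap, Subgroup.mem_subgroupOf]
    exact aut_mem α (i + 1) hx)

theorem autQ_mk (α : G ≃* G) (i : ℕ) {g : G} (hg : g ∈ lcs G i) :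
    autQ α i (mkQ i g hg) = mkQ i (α g) (aut_mem α i hg) := rfl

/-- the induced additive map of the graded group -/
def autL (α : G ≃* G) : AssocLie G →+ AssocLie G :=
  DirectSum.map (fun i => MonoidHom.toAdditive (autQ α i))

theorem autL_theta (α : G ≃* G) (i : ℕ) {g : G}
    (hg : g ∈ (⊤ : Subgroup G).lowerCentralSeries i) :
    autL α (theta G i g) = theta G i (α g) := by
  rw [theta_of_mem i hg, theta_of_mem i (aut_mem α i hg)]
  unfold autL ofGr
  rw [DirectSum.map_of]
  rfl

theorem autL_bracket (α : G ≃* G) (x y : AssocLie G) :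
    autL α (bracketHom G x y) = bracketHom G (autL α x) (autL α y) := by
  refine assoc_induction (P := fun x => ∀ y, autL α (bracketHom G x y) =
    bracketHom G (autL α x) (autL α y)) ?_ ?_ ?_ x y
  · intro y; simp
  · intro a b ha hb y
    simp only [map_add, AddMonoidHom.add_apply, ha y, hb y]
  · intro i g hg y
    refine assoc_induction (P := fun y => autL α (bracketHom G (theta G i g) y) =
      bracketHom G (autL α (theta G i g)) (autL α y)) ?_ ?_ ?_ y
    · simp
    · intro a b ha hb
      simp only [map_add, ha, hb]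
    · intro j h hh
      rw [theta_lie_hom i j hg hh, autL_theta α _ (comm_mem hg hh), autL_theta α i hg,
        autL_theta α j hh, theta_lie_hom i j (aut_mem α i hg) (aut_mem α j hh),
        map_commutatorElement]

theorem autL_lie (α : G ≃* G) (x y : AssocLie G) : autL α ⁅x, y⁆ = ⁅autL α x, autL α y⁆ :=
  autL_bracket α x y

/-- fixed points: componentwise -/
theorem autL_fix (α : G ≃* G)
    (h : ∀ (i : ℕ) (g : G), g ∈ (⊤ : Subgroup G).lowerCentralSeries i →
      theta G i (α g) = theta G i g → theta G i g = 0) :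
    ∀ z : AssocLie G, autL α z = z → z = 0 := by
  intro z hz
  apply DirectSum.ext
  intro i
  have h1 : (autL α z) i = z i := by rw [hz]
  unfold autL at h1
  rw [DirectSum.map_apply] at h1
  obtain ⟨g, hg, hga⟩ := mkQ_surj (Additive.toMul (z i))
  have h2 : autQ α i (mkQ i g hg) = mkQ i g hg := by
    rw [hga]
    exact h1
  rw [autQ_mk] at h2
  have h3 : theta G i (α g) = theta G i g := by
    rw [theta_of_mem i hg, theta_of_mem i (aut_mem α i hg), h2]
  have h4 := h i g hg h3
  rw [theta_eq_zero_iff i hg, ← mkQ_eq_one_iff hg, hga] at h4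
  show z i = 0
  exact h4

end aut

end Cfsg.Agent.Lib.Helper24.S3779C
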