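import Cfsg.Agent.Lib.Helper24.S0197C
import Cfsg.Agent.Lib.Helper22.S0197B2

/-!
# S0197 package C (for helper21): final statement
-/

set_option autoImplicit false

namespace Cfsg.Agent.Lib.Helper24.S0197C

open scoped ComplexConjugate
open Cfsg.Agent.Lib.Helper21.GL23

/-- S0197 package C, exact skeleton statement. -/
theorem exists_alpha_genChar : ∃ α : ℂ, α ^ 2 = -2 ∧ conj α = -α ∧
    ∀ k : Fin 5, Cfsg.IsGeneralizedCharacter Gam (fun M => bt α k (cls M)) :=
  exists_alpha_genChar_of Cfsg.Agent.Lib.Helper22.S0197B2.orderOf_c8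
    Cfsg.Agent.Lib.Helper22.S0197B2.orderOf_c6
    Cfsg.Agent.Lib.Helper22.S0197B2.card_conj_c8
    Cfsg.Agent.Lib.Helper22.S0197B2.card_conj_c6

end Cfsg.Agent.Lib.Helper24.S0197C
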