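import Mathlib
import Cfsg.Prelude.Def_Local
import Cfsg.Agent.H5.Cores
import Cfsg.Agent.H5.PSolvable

/-!
# The dual Hall–Higman lemma (helper24 library)

In a finite `p`-solvable group with `O_p(G) = 1`, the subgroup `O_{p'}(G)` contains its
centralizer.
-/

set_option autoImplicit false
set_option linter.unusedSectionVars false
set_option linter.style.haveILetI false
set_option linter.unusedVariables false

namespace Cfsg.Agent.Lib.Helper24.PSolvDual

open Subgroup Cfsg.H5

variable {G : Type*} [Group G]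

theorem card_subgroupOf_dvd [Finite G] (R D : Subgroup G) :
    Nat.card (R.subgroupOf D) ∣ Nat.card R := by
  apply Subgroup.card_dvd_of_injective (D.subtype.subgroupComap R)
  intro x y h
  apply Subtype.ext
  apply Subtype.ext
  have := congrArg Subtype.val h
  exact this

/-- A normal subgroup `D` centralizing `O_{p'}(G)` with `|D : D ∩ O_{p'}(G)|` a power of `p` lies
in `O_{p'}(G)`, if `O_p(G) = 1`. -/
theorem le_pPrimeCore_of_le_centralizer_of_pow [Finite G] {p : ℕ} [hp : Fact p.Prime]
    (hO : Cfsg.pCore p G = ⊥) (D : Subgroup G) (hDn : D.Normal)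
    (hDC : D ≤ centralizer (Cfsg.pPrimeCore p G : Set G))
    (hpow : ∃ m : ℕ, (Cfsg.pPrimeCore p G).relIndex D = p ^ m) : D ≤ Cfsg.pPrimeCore p G := by
  have hRn : (Cfsg.pPrimeCore p G).Normal := pPrimeCore_normal p G
  obtain ⟨N, hN⟩ : ∃ N : Subgroup ↥D, N = (Cfsg.pPrimeCore p G).subgroupOf D := ⟨_, rfl⟩
  have hNn : N.Normal := by
    rw [hN]
    infer_instance
  have hNcard : (Nat.card N).Coprime p := by
    have h1 : Nat.card N ∣ Nat.card (Cfsg.pPrimeCore p G) := by
      rw [hN]
      exact card_subgroupOf_dvd _ _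
    exact Nat.Coprime.coprime_dvd_left h1 (coprime_card_pPrimeCore p G)
  have hNc : ∀ n ∈ N, ∀ d : ↥D, d * n = n * d := by
    intro n hn d
    apply Subtype.ext
    rw [hN] at hn
    have := Subgroup.mem_centralizer_iff.mp (hDC d.2) (n : G) hn
    simpa using this.symm
  obtain ⟨m, hm⟩ := hpow
  have hidx : N.index = p ^ m := by
    rw [hN]
    exact hm
  have hcop' : (Nat.card N).Coprime N.index := by
    rw [hidx]
    exact Nat.Coprime.pow_right m hNcard
  obtain ⟨K, hK⟩ := Subgroup.exists_right_complement'_of_coprime hcop'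
  have hKcard : Nat.card K = p ^ m := by
    rw [← hK.symm.index_eq_card]
    exact hidx
  have hKp : IsPGroup p K := IsPGroup.of_card hKcard
  have hKn : K.Normal := by
    constructor
    intro x hx d
    have hd : d ∈ ((N ⊔ K : Subgroup ↥D) : Set ↥D) := by
      rw [hK.sup_eq_top]; trivial
    rw [Subgroup.normal_mul] at hd
    obtain ⟨n, hn, k, hk, rfl⟩ := hd
    have e : n * k * x * (n * k)⁻¹ = k * x * k⁻¹ := by
      have h1 := hNc n hn (k * x * k⁻¹)
      calc n * k * x * (n * k)⁻¹ = n * (k * x * k⁻¹) * n⁻¹ := by group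
        _ = (k * x * k⁻¹) * n * n⁻¹ := by rw [h1]
        _ = k * x * k⁻¹ := by group
    rw [e]
    exact mul_mem (mul_mem hk hx) (inv_mem hk)
  have hKle : K ≤ Cfsg.pCore p ↥D := le_pCore hKn hKp
  have hOD : Cfsg.pCore p ↥D = ⊥ := by
    have hchar := pCore_characteristic p ↥D
    have hnorm : ((Cfsg.pCore p ↥D).map D.subtype).Normal :=
      ConjAct.normal_of_characteristic_of_normal
    have hc2 : IsPGroup p ((Cfsg.pCore p ↥D).map D.subtype) :=
      (pCore_isPGroup p ↥D).map _
    have hle := le_pCore hnorm hc2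
    rw [hO, le_bot_iff] at hle
    exact (Subgroup.map_eq_bot_iff_of_injective _ D.subtype_injective).mp hle
  have hKbot : K = ⊥ := by
    rw [eq_bot_iff, ← hOD]; exact hKle
  rw [hKbot, Subgroup.isComplement'_bot_right] at hK
  rw [hN] at hK
  exact Subgroup.subgroupOf_eq_top.mp hK

/-- card of a preimage under the quotient map -/
theorem card_comap_mk'' [Finite G] (R : Subgroup G) [R.Normal] (L : Subgroup (G ⧸ R)) :
    Nat.card (L.comap (QuotientGroup.mk' R)) = Nat.card R * Nat.card L := by
  have hle : R ≤ L.comap (QuotientGroup.mk' R) := by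
    intro x hx
    rw [Subgroup.mem_comap, QuotientGroup.mk'_apply, (QuotientGroup.eq_one_iff x).2 hx]
    exact one_mem _
  have h1 := Subgroup.relIndex_mul_relIndex ⊥ R (L.comap (QuotientGroup.mk' R)) bot_le hle
  rw [Subgroup.relIndex_bot_left, Subgroup.relIndex_bot_left, ← card_map_mk',
    Subgroup.map_comap_eq_self_of_surjective (QuotientGroup.mk'_surjective R)] at h1
  exact h1.symm

/-- **Dual Hall–Higman Lemma 1.2.3**: in a finite `p`-solvable group with `O_p(G) = 1`, the
subgroup `O_{p'}(G)` contains its centralizer. -/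
theorem centralizer_pPrimeCore_le_of_isPSolvable [Finite G] {p : ℕ} [hp : Fact p.Prime]
    (hsol : Cfsg.IsPSolvable p G) (hO : Cfsg.pCore p G = ⊥) :
    centralizer (Cfsg.pPrimeCore p G : Set G) ≤ Cfsg.pPrimeCore p G := by
  have hRn : (Cfsg.pPrimeCore p G).Normal := pPrimeCore_normal p G
  have hRc : (Nat.card (Cfsg.pPrimeCore p G)).Coprime p := coprime_card_pPrimeCore p G
  have hCn : (centralizer (Cfsg.pPrimeCore p G : Set G)).Normal := inferInstance
  by_contra hnot
  obtain ⟨π, hπ⟩ : ∃ π : G →* G ⧸ Cfsg.pPrimeCore p G, π = QuotientGroup.mk' (Cfsg.pPrimeCore p G) :=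
    ⟨_, rfl⟩
  have hπs : Function.Surjective π := by
    rw [hπ]
    exact QuotientGroup.mk'_surjective _
  have hM0n : ((centralizer (Cfsg.pPrimeCore p G : Set G)).map π).Normal :=
    Subgroup.Normal.map hCn _ hπs
  have hM0 : (centralizer (Cfsg.pPrimeCore p G : Set G)).map π ≠ ⊥ := by
    intro h
    apply hnot
    have := (Subgroup.map_eq_bot_iff _).mp h
    rwa [hπ, QuotientGroup.ker_mk'] at this
  obtain ⟨Lb, hLle, hLn, hL1, hL⟩ :=
    exists_normal_p_or_pPrime_le (isPSolvable_quotient (Cfsg.pPrimeCore p G) hsol) _ hM0n hM0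
  have hLcn : (Lb.comap π).Normal := inferInstance
  have hLmap : (Lb.comap π).map π = Lb := Subgroup.map_comap_eq_self_of_surjective hπs Lb
  apply hL1
  rcases hL with hLp | hLc
  · obtain ⟨D, hD⟩ : ∃ D : Subgroup G,
        D = Lb.comap π ⊓ centralizer (Cfsg.pPrimeCore p G : Set G) := ⟨_, rfl⟩
    have hDn : D.Normal := by
      rw [hD]
      infer_instance
    have hDle : D ≤ Cfsg.pPrimeCore p G := by
      apply le_pPrimeCore_of_le_centralizer_of_pow hO D hDn (by rw [hD]; exact inf_le_right)
      rw [← card_map_mk', ← hπ]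
      have h1 : D.map π ≤ Lb := by
        rw [hD]
        calc (Lb.comap π ⊓ centralizer (Cfsg.pPrimeCore p G : Set G)).map π
            ≤ (Lb.comap π).map π := Subgroup.map_mono inf_le_left
          _ = Lb := hLmap
      have h2 : IsPGroup p (D.map π) := hLp.to_le h1
      obtain ⟨m, hm⟩ := h2.exists_card_eq
      exact ⟨m, hm⟩
    rw [eq_bot_iff]
    intro l hl
    obtain ⟨c, hc, rfl⟩ := hLle hl
    have hcD : c ∈ D := by
      rw [hD]
      exact ⟨hl, hc⟩
    have := hDle hcD
    rw [Subgroup.mem_bot, hπ, QuotientGroup.mk'_apply, QuotientGroup.eq_one_iff]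
    exact this
  · have h1 : (Nat.card (Lb.comap π)).Coprime p := by
      rw [hπ, card_comap_mk'']
      exact Nat.Coprime.mul_left hRc hLc
    have h2 : Lb.comap π ≤ Cfsg.pPrimeCore p G := le_pPrimeCore hLcn h1
    rw [← hLmap, eq_bot_iff]
    refine (Subgroup.map_mono h2).trans ?_
    rw [hπ, QuotientGroup.map_mk'_self]

end Cfsg.Agent.Lib.Helper24.PSolvDual
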