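import Mathlib
import Cfsg.Prelude.Def_Blocks
import Cfsg.Prelude.Def_BlockLocal
import Cfsg.Prelude.Def_BrauerPairs
import Cfsg.Agent.Lib.Helper24.PairTools
import Cfsg.Agent.Lib.Helper24.StabPairs
import Cfsg.Agent.Lib.Helper24.OverNormalizer
import Cfsg.Agent.Lib.Helper24.NormalPPairs
import Cfsg.Agent.Lib.Helper24.InertialPrime
import Cfsg.Agent.Lib.Helper7.InducedBlock

/-!
# Blocks of `H = P C_G(P)` and the extended first main theorem (helper24 library)

`P` a `p`-subgroup of `G`, `C = C_G(P)`, `H = P C`.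

* `normalizer_le_normalizer_sup_centralizer`: `N_G(P) ≤ N_G(P C_G(P))`.
* `forall_stabilizesBlock_of_le_sup`: every element of `H` stabilizes every block of `C_H(P)`.
* `blockCoeff_eq_of_le_sup`: a block `b` of `H` with Brauer pair `(P, e')` has the idempotent
  of `e'`.
* `subgroupBlockCoeff_eq_of_le_sup`: the same in `G`.
* `isBrauerPairOf_of_isInducedBlock`: if `b^G = B` and `(P, e')` is a `b`-pair of `H` then
  `(P, e)` is a `B`-pair of `G`.
* `stabilizesBlock_iff_of_le_sup`: `g ∈ N_G(P)` stabilizes `b` iff it stabilizes `e`.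
-/

set_option autoImplicit false

namespace Cfsg.Agent.Lib.Helper24

open Cfsg.Agent.Lib.Helper2 Cfsg.Agent.Lib.Helper7
open scoped ComplexConjugate

section SupCent

variable {G : Type*} [Group G] [Fintype G] {p : ℕ} {M : Ideal Cfsg.AlgInt}

omit [Fintype G] in
theorem mem_normalizer_of_map_conj_eq (K : Subgroup G) (x : G)
    (h : K.map (MulAut.conj x).toMonoidHom = K) : x ∈ Subgroup.normalizer (K : Set G) := by
  have key : ∀ u, u ∈ K ↔ x⁻¹ * u * x ∈ K := by
    intro u
    conv_lhs => rw [← h]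
    exact mem_map_conj_iff K x u
  rw [Subgroup.mem_normalizer_iff]
  intro n
  rw [key (x * n * x⁻¹)]
  have e1 : x⁻¹ * (x * n * x⁻¹) * x = n := by group
  rw [e1]

theorem normalizer_le_normalizer_sup_centralizer (P : Subgroup G) :
    Subgroup.normalizer (P : Set G)
      ≤ Subgroup.normalizer ((P ⊔ Subgroup.centralizer (P : Set G) : Subgroup G) : Set G) := by
  intro x hx
  apply mem_normalizer_of_map_conj_eq
  rw [Subgroup.map_sup, map_conj_eq_of_mem_normalizer P hx,
    map_conj_eq_of_mem_normalizer _ (normalizer_le_normalizer_centralizer P hx)]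

/-- every element of `H = P C_G(P)` stabilizes every set of characters of `C_H(P)` -/
theorem forall_stabilizesBlock_of_le_sup (H P : Subgroup G) (hPH : P ≤ H)
    (hCH : Subgroup.centralizer (P : Set G) ≤ H)
    (hH : H ≤ P ⊔ Subgroup.centralizer (P : Set G))
    (e' : Set (Cfsg.IrrCharacter (Subgroup.centralizer ((P.subgroupOf H : Subgroup H) : Set H))))
    (x : H) :
    Cfsg.StabilizesBlock (Subgroup.centralizer ((P.subgroupOf H : Subgroup H) : Set H)) e' x := by
  classical
  haveI : Fintype H := Fintype.ofFinite _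
  have h1 : P.subgroupOf H ≤ stabSubgroup (P.subgroupOf H) e' := le_stabSubgroup _ e'
  have h2 : (Subgroup.centralizer (P : Set G)).subgroupOf H ≤ stabSubgroup (P.subgroupOf H) e' := by
    intro c hc
    apply centralizer_le_stabSubgroup _ e'
    exact mem_centralizer_subgroupOf_of_mem H P c (Subgroup.mem_subgroupOf.mp hc)
  have h3 : (P ⊔ Subgroup.centralizer (P : Set G)).subgroupOf H = ⊤ :=
    Subgroup.subgroupOf_eq_top.mpr hH
  rw [Subgroup.subgroupOf_sup hPH hCH] at h3
  have h4 : x ∈ stabSubgroup (P.subgroupOf H) e' := by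
    have : x ∈ (⊤ : Subgroup H) := Subgroup.mem_top x
    rw [← h3] at this
    exact (sup_le h1 h2) this
  exact ((mem_stabSubgroup _ e' x).mp h4).2

/-- a block `b` of `H = P C_G(P)` with Brauer pair `(P, e')` has the idempotent of `e'` -/
theorem blockCoeff_eq_of_le_sup [Fact p.Prime] (hM : Cfsg.IsPModular p M)
    (H P : Subgroup G) (hPH : P ≤ H)
    (hCH : Subgroup.centralizer (P : Set G) ≤ H)
    (hH : H ≤ P ⊔ Subgroup.centralizer (P : Set G))
    (b : Set (Cfsg.IrrCharacter H))
    (e' : Set (Cfsg.IrrCharacter (Subgroup.centralizer ((P.subgroupOf H : Subgroup H) : Set H))))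
    (hpair : Cfsg.IsBrauerPairOf p M b (P.subgroupOf H) e') (h : H) :
    Cfsg.blockCoeff b h
      = Cfsg.subgroupBlockCoeff (Subgroup.centralizer ((P.subgroupOf H : Subgroup H) : Set H))
          e' h := by
  classical
  haveI : Fintype H := Fintype.ofFinite _
  have hHN : H ≤ Subgroup.normalizer (P : Set G) :=
    hH.trans (sup_le Subgroup.le_normalizer (Subgroup.centralizer_le_normalizer _))
  haveI : (P.subgroupOf H).Normal := Subgroup.normal_subgroupOf_of_le_normalizer hHN
  have hst := forall_stabilizesBlock_of_le_sup H P hPH hCH hH e'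
  have h1 := blockCoeff_eq_orbit_sum hM (P.subgroupOf H) hpair.1.1 b e' hpair ⊤
    (fun x => ⟨fun _ => hst x, fun _ => Subgroup.mem_top x⟩) h
  rw [h1]
  have h2 : ∀ x : H, Cfsg.subgroupBlockCoeff
      (Subgroup.centralizer ((P.subgroupOf H : Subgroup H) : Set H)) e' (x⁻¹ * h * x)
      = Cfsg.subgroupBlockCoeff
      (Subgroup.centralizer ((P.subgroupOf H : Subgroup H) : Set H)) e' h := by
    intro x
    have := subgroupBlockCoeff_conj_of_stabilizes _ e' x⁻¹ (hst x⁻¹) h
    rw [inv_inv] at this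
    exact this
  rw [Finset.sum_congr rfl (fun x _ => h2 x), Finset.sum_const, Finset.card_univ, nsmul_eq_mul,
    Subgroup.card_top, Nat.card_eq_fintype_card, ← mul_assoc, inv_mul_cancel₀, one_mul]
  have : 0 < Fintype.card H := Fintype.card_pos
  exact_mod_cast this.ne'

/-- the idempotent of `b`, seen in `G`, is the idempotent of `e` -/
theorem subgroupBlockCoeff_eq_of_le_sup [Fact p.Prime] (hM : Cfsg.IsPModular p M)
    (H P : Subgroup G) (hPH : P ≤ H)
    (hCH : Subgroup.centralizer (P : Set G) ≤ H)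
    (hH : H ≤ P ⊔ Subgroup.centralizer (P : Set G))
    (b : Set (Cfsg.IrrCharacter H))
    (e' : Set (Cfsg.IrrCharacter (Subgroup.centralizer ((P.subgroupOf H : Subgroup H) : Set H))))
    (hpair : Cfsg.IsBrauerPairOf p M b (P.subgroupOf H) e') :
    Cfsg.subgroupBlockCoeff H b
      = Cfsg.subgroupBlockCoeff (Subgroup.centralizer (P : Set G))
          (irrMap (centH H P hPH hCH) '' e') := by
  classical
  funext x
  by_cases hx : x ∈ H
  · have h1 := subgroupBlockCoeff_coe H b ⟨x, hx⟩
    have h2 := subgroupBlockCoeff_centH H P hPH hCH e' ⟨x, hx⟩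
    rw [blockCoeff_eq_of_le_sup hM H P hPH hCH hH b e' hpair] at h1
    rw [h2]
    exact h1
  · have hx' : x ∉ Subgroup.centralizer (P : Set G) := fun h => hx (hCH h)
    rw [subgroupBlockCoeff_eq_extZ, subgroupBlockCoeff_eq_extZ,
      extendByZero_apply_not_mem _ _ hx, extendByZero_apply_not_mem _ _ hx']

/-- if `b^G = B` and `(P, e')` is a `b`-pair of `H ≥ P C_G(P)` then `(P, e)` is a `B`-pair -/
theorem isBrauerPairOf_of_isInducedBlock [Fact p.Prime] (hM : Cfsg.IsPModular p M)
    (H P : Subgroup G) (hPH : P ≤ H) (hCH : Subgroup.centralizer (P : Set G) ≤ H)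
    (b : Set (Cfsg.IrrCharacter H)) (B : Set (Cfsg.IrrCharacter G))
    (hind : Cfsg.IsInducedBlock M H b B)
    (e' : Set (Cfsg.IrrCharacter (Subgroup.centralizer ((P.subgroupOf H : Subgroup H) : Set H))))
    (hpair : Cfsg.IsBrauerPairOf p M b (P.subgroupOf H) e') :
    Cfsg.IsBrauerPairOf p M B P (irrMap (centH H P hPH hCH) '' e') := by
  classical
  haveI : Fintype H := Fintype.ofFinite _
  haveI : Fintype (Subgroup.centralizer (P : Set G)) := Fintype.ofFinite _
  haveI : Fintype (Subgroup.centralizer ((P.subgroupOf H : Subgroup H) : Set H)) :=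
    Fintype.ofFinite _
  obtain ⟨hb, hB, hcong⟩ := hind
  have hP : IsPGroup p P := (isPGroup_subgroupOf_iff H P hPH).mp hpair.1.1
  refine ⟨⟨hP, isPBlock_image_irrMap _ hpair.1.2⟩, hB, ?_⟩
  rintro _ ⟨ξ', hξ', rfl⟩
  obtain ⟨θ, hθ⟩ := isPBlock_nonempty hM hb
  obtain ⟨χ, hχ⟩ := isPBlock_nonempty hM hB
  rw [brauerOmega_centH H P hPH hCH (restrictTo H (Cfsg.blockCoeff B)) (Cfsg.blockCoeff B)
    (fun h => rfl) ξ', brauerOmega_eq_omega]
  have hRCF : IsRCF M (restrictTo H (Cfsg.blockCoeff B)) :=
    ⟨restrictTo_isClassFunction H _ (blockCoeff_isClassFunction B),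
      fun h => blockCoeff_memLocalRing hM B hB _⟩
  have h1 := omega_restrict_sub_omega_of_isBrauerPairOf (G := H) hM b _ e' hpair θ hθ ξ' hξ' _ hRCF
  have h2 := omega_restrict_sub_memLocalIdeal H hM (θ : H → ℂ) χ (hcong θ hθ χ hχ)
    (Cfsg.blockCoeff B) (blockCoeff_isClassFunction B)
    (fun g => blockCoeff_memLocalRing hM B hB g)
  have h3 : omega (χ : G → ℂ) (Cfsg.blockCoeff B) = 1 := by
    rw [omega_blockCoeff, if_pos hχ]
  rw [h3] at h2
  have h4 := memLocalIdeal_add hM h1 h2
  have e1 : ∀ a b' c : ℂ, a - b' + (b' - c) = a - c := fun a b' c => by ring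
  have h5 : (fun h : H => Cfsg.blockCoeff B (h : G)) = restrictTo H (Cfsg.blockCoeff B) := rfl
  rw [h5, e1] at h4
  exact h4

/-- `g ∈ N_G(P)` stabilizes the block `b` of `H = P C_G(P)` iff it stabilizes `e` -/
theorem stabilizesBlock_iff_of_le_sup [Fact p.Prime] (hM : Cfsg.IsPModular p M)
    (H P : Subgroup G) (hPH : P ≤ H)
    (hCH : Subgroup.centralizer (P : Set G) ≤ H)
    (hH : H ≤ P ⊔ Subgroup.centralizer (P : Set G))
    (b : Set (Cfsg.IrrCharacter H))
    (e' : Set (Cfsg.IrrCharacter (Subgroup.centralizer ((P.subgroupOf H : Subgroup H) : Set H))))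
    (hpair : Cfsg.IsBrauerPairOf p M b (P.subgroupOf H) e') (g : G)
    (hg : g ∈ Subgroup.normalizer (P : Set G)) :
    Cfsg.StabilizesBlock H b g ↔
      Cfsg.StabilizesBlock (Subgroup.centralizer (P : Set G))
        (irrMap (centH H P hPH hCH) '' e') g := by
  classical
  haveI : Fintype H := Fintype.ofFinite _
  have hHeq : H = P ⊔ Subgroup.centralizer (P : Set G) := le_antisymm hH (sup_le hPH hCH)
  have hgH : g ∈ Subgroup.normalizer (H : Set G) := by
    rw [hHeq]
    exact normalizer_le_normalizer_sup_centralizer P hg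
  have hgC := normalizer_le_normalizer_centralizer P hg
  have hfun := subgroupBlockCoeff_eq_of_le_sup hM H P hPH hCH hH b e' hpair
  constructor
  · intro h
    apply stabilizesBlock_of_conj_invariant _ _ _ hgC
    intro x
    rw [← hfun]
    exact subgroupBlockCoeff_conj_of_stabilizes H b g h x
  · intro h
    apply stabilizesBlock_of_conj_invariant _ _ _ hgH
    intro x
    rw [hfun]
    exact subgroupBlockCoeff_conj_of_stabilizes _ _ g h x

end SupCent

end Cfsg.Agent.Lib.Helper24
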