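import Mathlib
import Cfsg.Prelude.Def_Blocks
import Cfsg.Prelude.Def_BlockLocal
import Cfsg.Prelude.Def_BrauerPairs
import Cfsg.Agent.Lib.Helper24.OverNormalizer
import Cfsg.Agent.Lib.Helper24.SupCentralizer
import Cfsg.Agent.S4726
import Cfsg.Agent.S0953

/-!
# Extended first main theorem in induced-block form (helper24 library)

For a `p`-subgroup `P` and a subgroup `H ⊇ N_G(P)`:

* `isInducedBlock_over_normalizer` : a block `c` of `H` with defect group `P` induces a block of
  `G` with defect group `P`;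
* `exists_isInducedBlock_over_normalizer` : every block of `G` with defect group `P` is induced
  from a block of `H` with defect group `P`;
* `eq_of_isInducedBlock_over_normalizer` : two blocks of `H` with defect group `P` inducing the
  same block of `G` are equal.
-/

set_option autoImplicit false

namespace Cfsg.Agent.Lib.Helper24

open Cfsg.Agent.Lib.Helper2 Cfsg.Agent.Lib.Helper7
open scoped ComplexConjugate

section ExtMain

variable {G : Type*} [Group G] [Fintype G] {p : ℕ} {M : Ideal Cfsg.AlgInt}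

/-- a block `c` of `H ⊇ N_G(P)` with defect group `P` induces a block of `G` with defect group
`P` -/
theorem isInducedBlock_over_normalizer [Fact p.Prime] (hM : Cfsg.IsPModular p M)
    (H P : Subgroup G) (hP : IsPGroup p P) (hH : Subgroup.normalizer (P : Set G) ≤ H)
    (c : Set (Cfsg.IrrCharacter H)) (hc : Cfsg.IsPBlock M c)
    (hD : Cfsg.IsDefectGroup p M c (P.subgroupOf H)) :
    ∃ B : Set (Cfsg.IrrCharacter G), Cfsg.IsDefectGroup p M B P ∧
      Cfsg.IsInducedBlock M H c B := by
  classical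
  haveI : Fintype H := Fintype.ofFinite _
  have hPH : P ≤ H := Subgroup.le_normalizer.trans hH
  have hCH : Subgroup.centralizer (P : Set G) ≤ H :=
    (Subgroup.centralizer_le_normalizer _).trans hH
  obtain ⟨e', hmaxH⟩ := exists_isMaximalBrauerPair_of_isDefectGroup (G := H) hM c hc _ hD
  have hpairG : Cfsg.IsBrauerPair p M P (irrMap (centH H P hPH hCH) '' e') :=
    ⟨hP, isPBlock_image_irrMap _ hmaxH.1.1.2⟩
  obtain ⟨B, hBP, _⟩ := existsUnique_block_of_brauerPair hM P _ hpairG
  have hmaxG := isMaximalBrauerPair_of_centH hM H P hH c e' hmaxH B hBP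
  exact ⟨B, isDefectGroup_of_isMaximalBrauerPair _ _ hM B hmaxG,
    Cfsg.Agent.S4726.isInducedBlock_of_pairs hM H P hPH hCH c B e' hmaxH.1 hBP⟩

/-- every block of `G` with defect group `P` is induced from a block of `H ⊇ N_G(P)` with defect
group `P` -/
theorem exists_isInducedBlock_over_normalizer [Fact p.Prime] (hM : Cfsg.IsPModular p M)
    (H P : Subgroup G) (hH : Subgroup.normalizer (P : Set G) ≤ H)
    (B : Set (Cfsg.IrrCharacter G)) (hB : Cfsg.IsPBlock M B)
    (hD : Cfsg.IsDefectGroup p M B P) :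
    ∃ c : Set (Cfsg.IrrCharacter H), Cfsg.IsPBlock M c ∧
      Cfsg.IsDefectGroup p M c (P.subgroupOf H) ∧ Cfsg.IsInducedBlock M H c B := by
  classical
  haveI : Fintype H := Fintype.ofFinite _
  have hPH : P ≤ H := Subgroup.le_normalizer.trans hH
  have hCH : Subgroup.centralizer (P : Set G) ≤ H :=
    (Subgroup.centralizer_le_normalizer _).trans hH
  obtain ⟨e, hmaxG⟩ := exists_isMaximalBrauerPair_of_isDefectGroup hM B hB P hD
  have he : irrMap (centH H P hPH hCH) '' (irrMap (centH H P hPH hCH).symm '' e) = e :=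
    image_irrMap_image_symm _ e
  have hpairH : Cfsg.IsBrauerPair p M (P.subgroupOf H)
      (irrMap (centH H P hPH hCH).symm '' e) :=
    ⟨(isPGroup_subgroupOf_iff H P hPH).mpr hmaxG.1.1.1, isPBlock_image_irrMap _ hmaxG.1.1.2⟩
  obtain ⟨c, hcP, _⟩ := existsUnique_block_of_brauerPair (G := H) hM _ _ hpairH
  rw [← he] at hmaxG
  have hmaxH := isMaximalBrauerPair_centH_of hM H P hH B _ hmaxG c hcP
  exact ⟨c, hcP.2.1, isDefectGroup_of_isMaximalBrauerPair _ _ hM c hmaxH,
    Cfsg.Agent.S4726.isInducedBlock_of_pairs hM H P hPH hCH c B _ hcP hmaxG.1⟩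

/-- two blocks of `H ⊇ N_G(P)` with defect group `P` inducing the same block of `G` are equal -/
theorem eq_of_isInducedBlock_over_normalizer [Fact p.Prime] (hM : Cfsg.IsPModular p M)
    (H P : Subgroup G) (hH : Subgroup.normalizer (P : Set G) ≤ H)
    (c₁ c₂ : Set (Cfsg.IrrCharacter H))
    (hD₁ : Cfsg.IsDefectGroup p M c₁ (P.subgroupOf H))
    (hD₂ : Cfsg.IsDefectGroup p M c₂ (P.subgroupOf H))
    (B : Set (Cfsg.IrrCharacter G))
    (h₁ : Cfsg.IsInducedBlock M H c₁ B) (h₂ : Cfsg.IsInducedBlock M H c₂ B) : c₁ = c₂ := by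
  classical
  haveI : Fintype H := Fintype.ofFinite _
  have hPH : P ≤ H := Subgroup.le_normalizer.trans hH
  have hCH : Subgroup.centralizer (P : Set G) ≤ H :=
    (Subgroup.centralizer_le_normalizer _).trans hH
  have hc₁ := h₁.1
  have hc₂ := h₂.1
  have key : ∀ c : Set (Cfsg.IrrCharacter H), Cfsg.IsPBlock M c →
      Cfsg.IsDefectGroup p M c (P.subgroupOf H) → Cfsg.IsInducedBlock M H c B →
      ∀ x : G, x ∈ Subgroup.centralizer (P : Set G) →
        Cfsg.MemLocalIdeal M (Cfsg.blockCoeff B x - Cfsg.subgroupBlockCoeff H c x) := by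
    intro c hc hD hind
    obtain ⟨e', hmaxH⟩ := exists_isMaximalBrauerPair_of_isDefectGroup (G := H) hM c hc _ hD
    have hBP := isBrauerPairOf_of_isInducedBlock hM H P hPH hCH c B hind e' hmaxH.1
    have hmaxG := isMaximalBrauerPair_of_centH hM H P hH c e' hmaxH B hBP
    exact blockCoeff_sub_subgroupBlockCoeff_memLocalIdeal hM H P hH B c e' hmaxG hmaxH
  have k₁ := key c₁ hc₁ hD₁ h₁
  have k₂ := key c₂ hc₂ hD₂ h₂
  apply eq_of_congr_on_centralizer (G := H) hM c₁ c₂ hc₁ hc₂ _ hD₁
  intro k hk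
  have hkG : (k : G) ∈ Subgroup.centralizer (P : Set G) := (centH H P hPH hCH ⟨k, hk⟩).2
  have a₁ := k₁ (k : G) hkG
  have a₂ := k₂ (k : G) hkG
  rw [subgroupBlockCoeff_coe] at a₁ a₂
  have h3 := memLocalIdeal_sub hM a₂ a₁
  rw [sub_sub_sub_cancel_left] at h3
  exact h3

end ExtMain

end Cfsg.Agent.Lib.Helper24
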