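import Mathlib
import Cfsg.Prelude.Def_Blocks
import Cfsg.Prelude.Def_BlockLocal
import Cfsg.Agent.Lib.Helper24.Knorr

/-!
# Knörr's theorem, second form (helper24)

If `B` covers the block `b` of the normal subgroup `N` and `Q ≤ N` is a defect group of `b`, then
`B` has a defect group `P` with `P ∩ N = Q`.
-/

set_option autoImplicit false

namespace Cfsg.Agent.Lib.Helper24

open Cfsg.Agent.Lib.Helper2 Cfsg.Agent.Lib.Helper7
open scoped ComplexConjugate

section Bridge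

variable {G : Type*} [Group G] (K : Subgroup G) [Finite K]

theorem conjIrr_eq_irrMap (n : Subgroup.normalizer (K : Set G)) (χ : Cfsg.IrrCharacter K) :
    conjIrr K n χ = irrMap (K.normalizerMonoidHom n) χ := by
  apply Subtype.ext
  funext k
  show χ.1 (K.normalizerMonoidHom n⁻¹ k) = χ.1 ((K.normalizerMonoidHom n).symm k)
  rw [map_inv]
  rfl

theorem normalizerMonoidHom_coe (n : Subgroup.normalizer (K : Set G)) (k : K) :
    ((K.normalizerMonoidHom n k : K) : G) = (n : G) * k * (n : G)⁻¹ := rfl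

end Bridge

section Knorr2

variable {G : Type*} [Group G] [Fintype G] (N : Subgroup G) [hN : N.Normal] [Fintype N]
variable {p : ℕ} {M : Ideal Cfsg.AlgInt}

/-- two blocks of `N` covered by the same block of `G` are conjugate -/
theorem exists_cs_eq_of_covered (hM : Cfsg.IsPModular p M)
    (B : Set (Cfsg.IrrCharacter G)) (hB : Cfsg.IsPBlock M B)
    (b c : Set (Cfsg.IrrCharacter N)) (hb : Cfsg.IsPBlock M b) (hc : Cfsg.IsPBlock M c)
    (hcovb : ∃ χ ∈ B, ∃ θ ∈ b, Cfsg.classInner (fun n : N => (χ : G → ℂ) n) (θ : N → ℂ) ≠ 0)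
    (hcovc : ∃ χ ∈ B, ∃ θ ∈ c, Cfsg.classInner (fun n : N => (χ : G → ℂ) n) (θ : N → ℂ) ≠ 0) :
    ∃ z : G, b = cs N z c := by
  obtain ⟨χ, hχ, θ, hθ, hcon⟩ := hcovb
  obtain ⟨χ', hχ', θc, hθc, hcon'⟩ := hcovc
  obtain ⟨x, hx⟩ := constituent_mem_orbitUnion N hM b hb χ χ'
    (sameBlock_of_mem_block hM hB hχ hχ') θ hθ hcon θc hcon'
  refine ⟨x⁻¹, ?_⟩
  rw [eq_blockOf_of_mem hM hb hx, conjIrr7_eq, blockOf_conjIrr, ← eq_blockOf_of_mem hM hc hθc]
  rfl

/-- **Knörr's theorem**, second form -/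
theorem knorr_exists_defectGroup [Fact p.Prime] (hM : Cfsg.IsPModular p M)
    (b : Set (Cfsg.IrrCharacter N)) (hb : Cfsg.IsPBlock M b) (Q : Subgroup G) (hQN : Q ≤ N)
    (hQ : Cfsg.IsDefectGroup p M b (Q.subgroupOf N))
    (B : Set (Cfsg.IrrCharacter G)) (hB : Cfsg.IsPBlock M B)
    (hcov : ∃ χ ∈ B, ∃ θ ∈ b, Cfsg.classInner (fun n : N => (χ : G → ℂ) n) (θ : N → ℂ) ≠ 0) :
    ∃ P : Subgroup G, Cfsg.IsDefectGroup p M B P ∧ P ⊓ N = Q := by
  classical
  obtain ⟨D₀, hD₀⟩ := exists_isDefectGroup hM B hB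
  obtain ⟨c, hc, _, hcovc, hDc⟩ := knorr_exists_block N hM B hB D₀ hD₀
  obtain ⟨z, hz⟩ := exists_cs_eq_of_covered N hM B hB b c hb hc hcov hcovc
  have hbimg : b = irrMap (N.normalizerMonoidHom (nrm N z)) '' c := by
    rw [hz]
    unfold cs
    apply Set.image_congr
    intro χ _
    exact conjIrr_eq_irrMap N _ χ
  have hS' := isDefectGroup_irrMap (p := p) (M := M) (N.normalizerMonoidHom (nrm N z)) c
    ((D₀ ⊓ N).subgroupOf N) hDc
  rw [← hbimg] at hS'
  obtain ⟨m, hm⟩ := isDefectGroup_conj hM b hb hS' hQ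
  refine ⟨D₀.map (MulAut.conj ((m : G) * z)).toMonoidHom, isDefectGroup_map_conj hD₀ _, ?_⟩
  ext g
  constructor
  · rintro ⟨hgP, hgN⟩
    obtain ⟨d, hd, rfl⟩ := hgP
    have hdN : d ∈ N := by
      have := hN.conj_mem _ hgN ((m : G) * z)⁻¹
      simpa [MulAut.conj_apply, mul_assoc] using this
    have hmem : (⟨(MulAut.conj ((m : G) * z)).toMonoidHom d, hgN⟩ : N) ∈ Q.subgroupOf N := by
      rw [hm]
      refine ⟨N.normalizerMonoidHom (nrm N z) ⟨d, hdN⟩, ⟨⟨d, hdN⟩, ?_, rfl⟩, ?_⟩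
      · rw [SetLike.mem_coe, Subgroup.mem_subgroupOf]
        exact ⟨hd, hdN⟩
      · apply Subtype.ext
        show (m : G) * ((nrm N z : G) * d * (nrm N z : G)⁻¹) * (m : G)⁻¹
          = (m : G) * z * d * ((m : G) * z)⁻¹
        show (m : G) * (z * d * z⁻¹) * (m : G)⁻¹ = (m : G) * z * d * ((m : G) * z)⁻¹
        group
    exact hmem
  · intro hgQ
    have hgN : g ∈ N := hQN hgQ
    have hmem : (⟨g, hgN⟩ : N) ∈ Q.subgroupOf N := by
      rw [Subgroup.mem_subgroupOf]; exact hgQ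
    rw [hm] at hmem
    obtain ⟨s', hs', hs'g⟩ := hmem
    obtain ⟨s, hs, rfl⟩ := hs'
    rw [SetLike.mem_coe, Subgroup.mem_subgroupOf] at hs
    refine ⟨⟨(s : G), hs.1, ?_⟩, hgN⟩
    have h1 : (((MulAut.conj m).toMonoidHom
        ((N.normalizerMonoidHom (nrm N z)).toMonoidHom s) : N) : G) = g :=
      congrArg Subtype.val hs'g
    rw [← h1]
    show (m : G) * z * (s : G) * ((m : G) * z)⁻¹
      = (m : G) * ((nrm N z : G) * (s : G) * (nrm N z : G)⁻¹) * (m : G)⁻¹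
    show (m : G) * z * (s : G) * ((m : G) * z)⁻¹ = (m : G) * (z * (s : G) * z⁻¹) * (m : G)⁻¹
    group

end Knorr2

end Cfsg.Agent.Lib.Helper24
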