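import Mathlib
import Cfsg.Prelude.Def_Blocks
import Cfsg.Prelude.Def_BlockLocal
import Cfsg.Agent.Lib.Helper24.Transport
import Cfsg.Agent.Lib.Helper24.CentPairs
import Cfsg.Agent.Lib.Helper24.CliffordGeneral
import Cfsg.Agent.Lib.Helper24.FongReynolds
import Cfsg.Agent.Lib.Helper24.StableCover

/-!
# Blocks of `H` as blocks of `H.subgroupOf T` (helper24)

For subgroups `H ≤ T` of `G`, the blocks of `H` are transported to blocks of the subgroup
`H.subgroupOf T` of the group `T`, together with covering, stability and defects.  Also the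
uniqueness of the covering block over a stable block of a normal subgroup of `p`-power index.
-/

set_option autoImplicit false

namespace Cfsg.Agent.Lib.Helper24

open Cfsg.Agent.Lib.Helper2 Cfsg.Agent.Lib.Helper7
open scoped ComplexConjugate

section SubTransport

variable {G : Type*} [Group G] [Finite G] (H T : Subgroup G) (hHT : H ≤ T)

/-- a set of irreducible characters of `H` as a set of irreducible characters of
`H.subgroupOf T` -/
noncomputable def toSub (c : Set (Cfsg.IrrCharacter H)) :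
    Set (Cfsg.IrrCharacter (H.subgroupOf T)) :=
  irrMap (Subgroup.subgroupOfEquivOfLe hHT).symm '' c

theorem irrMap_subEquiv_symm_apply (θ : Cfsg.IrrCharacter H) (x : H.subgroupOf T) :
    (irrMap (Subgroup.subgroupOfEquivOfLe hHT).symm θ).1 x
      = θ.1 (Subgroup.subgroupOfEquivOfLe hHT x) := rfl

theorem toSub_isPBlock {M : Ideal Cfsg.AlgInt} {c : Set (Cfsg.IrrCharacter H)}
    (hc : Cfsg.IsPBlock M c) : Cfsg.IsPBlock M (toSub H T hHT c) :=
  isPBlock_image_irrMap _ hc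

theorem mem_toSub {c : Set (Cfsg.IrrCharacter H)} {θ : Cfsg.IrrCharacter H} (hθ : θ ∈ c) :
    irrMap (Subgroup.subgroupOfEquivOfLe hHT).symm θ ∈ toSub H T hHT c := ⟨θ, hθ, rfl⟩

theorem classInner_toSub [Fintype H] [Fintype T] [Fintype (H.subgroupOf T)] (ψ : T → ℂ)
    (θ : Cfsg.IrrCharacter H) :
    Cfsg.classInner (fun n : H.subgroupOf T => ψ n)
        (irrMap (Subgroup.subgroupOfEquivOfLe hHT).symm θ).1
      = Cfsg.classInner (resTo H T hHT ψ) θ.1 :=
  classInner_comp_subgroupOfEquiv hHT (resTo H T hHT ψ) θ.1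

theorem covers_toSub_iff [Fintype H] [Fintype T] [Fintype (H.subgroupOf T)]
    (B' : Set (Cfsg.IrrCharacter T)) (c : Set (Cfsg.IrrCharacter H)) :
    (∃ ψ ∈ B', ∃ θ ∈ toSub H T hHT c,
        Cfsg.classInner (fun n : H.subgroupOf T => (ψ : T → ℂ) n) (θ : H.subgroupOf T → ℂ) ≠ 0)
      ↔ ∃ ψ ∈ B', ∃ θ ∈ c, Cfsg.classInner (resTo H T hHT (ψ : T → ℂ)) (θ : H → ℂ) ≠ 0 := by
  constructor
  · rintro ⟨ψ, hψ, _, ⟨θ, hθ, rfl⟩, h⟩
    refine ⟨ψ, hψ, θ, hθ, ?_⟩
    rwa [classInner_toSub] at h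
  · rintro ⟨ψ, hψ, θ, hθ, h⟩
    refine ⟨ψ, hψ, _, mem_toSub H T hHT hθ, ?_⟩
    rwa [classInner_toSub]

theorem stabilizesBlock_toSub_iff [H.Normal] (c : Set (Cfsg.IrrCharacter H)) (x : T) :
    Cfsg.StabilizesBlock (H.subgroupOf T) (toSub H T hHT c) x
      ↔ Cfsg.StabilizesBlock H c (x : G) := by
  constructor
  · rintro ⟨_, h⟩
    refine ⟨by rw [Subgroup.normalizer_eq_top]; trivial, ?_⟩
    intro χ hχ
    obtain ⟨_, ⟨χ', hχ', rfl⟩, hconj⟩ := h _ (mem_toSub H T hHT hχ)
    refine ⟨χ', hχ', ?_⟩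
    intro k k' hk
    have h1 := hconj ((Subgroup.subgroupOfEquivOfLe hHT).symm k)
      ((Subgroup.subgroupOfEquivOfLe hHT).symm k') (by
        apply Subtype.ext
        show (k' : G) = (x : G) * (k : G) * (x : G)⁻¹
        exact hk)
    rw [irrMap_subEquiv_symm_apply, irrMap_subEquiv_symm_apply, MulEquiv.apply_symm_apply,
      MulEquiv.apply_symm_apply] at h1
    exact h1
  · rintro ⟨_, h⟩
    refine ⟨by rw [Subgroup.normalizer_eq_top]; trivial, ?_⟩
    rintro _ ⟨χ, hχ, rfl⟩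
    obtain ⟨χ', hχ', hconj⟩ := h χ hχ
    refine ⟨_, mem_toSub H T hHT hχ', ?_⟩
    intro k k' hk
    show χ'.1 (Subgroup.subgroupOfEquivOfLe hHT k') = χ.1 (Subgroup.subgroupOfEquivOfLe hHT k)
    apply hconj
    have := congrArg Subtype.val hk
    exact this

theorem blockDefect_toSub (p : ℕ) (c : Set (Cfsg.IrrCharacter H)) :
    Cfsg.blockDefect p (toSub H T hHT c) = Cfsg.blockDefect p c := by
  unfold Cfsg.blockDefect toSub
  rw [Nat.card_congr (Subgroup.subgroupOfEquivOfLe hHT).toEquiv, Set.image_image]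
  congr 2

end SubTransport

section StableUnique

variable {G : Type*} [Group G] [Fintype G] {p : ℕ} {M : Ideal Cfsg.AlgInt}
  (N : Subgroup G) [hN : N.Normal] [Fintype N]

/-- the block with idempotent `e_c` is the only block covering the stable block `c` -/
theorem eq_of_covers_stable (hM : Cfsg.IsPModular p M)
    (c : Set (Cfsg.IrrCharacter N))
    (hst : ∀ x : G, Cfsg.StabilizesBlock N c x)
    (B₀ : Set (Cfsg.IrrCharacter G)) (hB₀ : Cfsg.IsPBlock M B₀)
    (hB₀c : ∀ g : G, Cfsg.blockCoeff B₀ g = Cfsg.subgroupBlockCoeff N c g)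
    (B : Set (Cfsg.IrrCharacter G)) (hB : Cfsg.IsPBlock M B)
    (hcov : ∃ χ ∈ B, ∃ θ ∈ c, Cfsg.classInner (fun n : N => (χ : G → ℂ) n) (θ : N → ℂ) ≠ 0) :
    B = B₀ := by
  classical
  obtain ⟨χ, hχ, θ, hθ, hcon⟩ := hcov
  have hst' := stable_iff_conjIrr N c hst
  have h1 : omega (χ : G → ℂ) (coverFn N c) = 1 := by
    rw [omega_coverFn N c hst' χ θ hcon, if_pos hθ]
  have h2 : omega (χ : G → ℂ) (Cfsg.blockCoeff B₀) = 1 := by
    have : Cfsg.blockCoeff B₀ = coverFn N c := by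
      funext g; rw [hB₀c, subgroupBlockCoeff_eq_coverFn]
    rw [this]; exact h1
  rw [omega_blockCoeff] at h2
  have hχ₀ : χ ∈ B₀ := by
    by_contra h
    rw [if_neg h] at h2
    exact zero_ne_one h2
  rw [eq_blockOf_of_mem hM hB hχ, eq_blockOf_of_mem hM hB₀ hχ₀]

/-- the defect of the block covering a stable block of a normal subgroup of index `p ^ k` -/
theorem blockDefect_of_stable [Fact p.Prime] (hM : Cfsg.IsPModular p M) (k : ℕ)
    (hk : N.index = p ^ k) (c : Set (Cfsg.IrrCharacter N)) (hc : Cfsg.IsPBlock M c)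
    (hst : ∀ x : G, Cfsg.StabilizesBlock N c x)
    (B₀ : Set (Cfsg.IrrCharacter G)) (hB₀ : Cfsg.IsPBlock M B₀)
    (hB₀c : ∀ g : G, Cfsg.blockCoeff B₀ g = Cfsg.subgroupBlockCoeff N c g) :
    Cfsg.blockDefect p B₀ = Cfsg.blockDefect p c + k := by
  have hp : p.Prime := Fact.out
  obtain ⟨D, hD⟩ := exists_isDefectGroup hM B₀ hB₀
  obtain ⟨hND, hDc⟩ := isDefectGroup_of_stable N hM ⟨k, hk⟩ c hc hst B₀ hB₀ hB₀c D hD
  have hcardD := card_of_isDefectGroup hM B₀ hB₀ D hD
  have hcardDc := card_of_isDefectGroup hM c hc _ hDc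
  have hcardDc' : Nat.card ((D ⊓ N).subgroupOf N) = Nat.card ↥(D ⊓ N) :=
    Nat.card_congr (Subgroup.subgroupOfEquivOfLe inf_le_right).toEquiv
  rw [hcardDc'] at hcardDc
  have hidx2 : N.index = N.relIndex D := by
    rw [← Subgroup.relIndex_sup_left (K := N) (H := D), hND, Subgroup.relIndex_top_right]
  have h1 : Nat.card ↥(D ⊓ N) * N.relIndex D = Nat.card D := by
    have := Subgroup.relIndex_mul_relIndex (⊥ : Subgroup G) (D ⊓ N) D bot_le inf_le_left
    rw [Subgroup.relIndex_bot_left, Subgroup.relIndex_bot_left, Subgroup.inf_relIndex_left] at this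
    exact this
  rw [← hidx2, hk, hcardD, hcardDc, ← pow_add] at h1
  exact ((Nat.pow_right_injective hp.two_le) h1).symm

end StableUnique

end Cfsg.Agent.Lib.Helper24
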