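import Mathlib
import Cfsg.Prelude.Def_Blocks
import Cfsg.Prelude.Def_BlockLocal
import Cfsg.Agent.Lib.Helper24.ExtMain
import Cfsg.Agent.Lib.Helper24.SubTransport
import Cfsg.Agent.Lib.Helper24.Knorr2
import Cfsg.Agent.Lib.Helper7.ExtFirstMain

/-!
# Block induction between two subgroups `K ≤ T` of `G` (helper24 library)

`Cfsg.IsInducedBlockIn M T K e d` is induction from `K` to `T` computed inside `T`.  We translate it
to `Cfsg.IsInducedBlock` in the group `T` (for the subgroup `K.subgroupOf T`), and transport the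
extended first main theorem.
-/

set_option autoImplicit false

namespace Cfsg.Agent.Lib.Helper24

open Cfsg.Agent.Lib.Helper2 Cfsg.Agent.Lib.Helper7
open scoped ComplexConjugate

section InForm

variable {G : Type*} [Group G] [Finite G] (T K : Subgroup G) (hKT : K ≤ T)

theorem inducedCentralCharIn_eq (ξ : Cfsg.IrrCharacter K) (h : T) :
    Cfsg.inducedCentralCharIn T K (ξ : K → ℂ) (h : G)
      = Cfsg.inducedCentralChar (K.subgroupOf T)
          ((irrMap (Subgroup.subgroupOfEquivOfLe hKT).symm ξ :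
            Cfsg.IrrCharacter (K.subgroupOf T)) : K.subgroupOf T → ℂ) h := by
  unfold Cfsg.inducedCentralCharIn Cfsg.inducedCentralChar
  apply finsum_mem_eq_of_bijOn (Subgroup.subgroupOfEquivOfLe hKT).symm
  · refine ⟨?_, (Subgroup.subgroupOfEquivOfLe hKT).symm.injective.injOn, ?_⟩
    · rintro k ⟨x, hx⟩
      show IsConj h _
      rw [isConj_iff]
      refine ⟨x⁻¹, ?_⟩
      apply Subtype.ext
      show ((x⁻¹ : T) : G) * (h : G) * (((x⁻¹ : T)⁻¹ : T) : G) = (k : G)
      rw [← hx]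
      simp
      group
    · rintro k' hk'
      obtain ⟨c, hc⟩ := isConj_iff.mp hk'
      refine ⟨Subgroup.subgroupOfEquivOfLe hKT k', ⟨c⁻¹, ?_⟩, by simp⟩
      have hc' : (c : G) * (h : G) * (c : G)⁻¹ = ((k' : T) : G) := by
        have := congrArg (fun t : T => (t : G)) hc
        simpa using this
      show ((c⁻¹ : T) : G) * ((k' : T) : G) * (((c⁻¹ : T) : G))⁻¹ = (h : G)
      rw [← hc']
      simp
      group
  · intro k _
    rfl

theorem isInducedBlockIn_iff {M : Ideal Cfsg.AlgInt} (e : Set (Cfsg.IrrCharacter K))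
    (d : Set (Cfsg.IrrCharacter T)) :
    Cfsg.IsInducedBlockIn M T K e d
      ↔ Cfsg.IsInducedBlock M (K.subgroupOf T) (toSub K T hKT e) d := by
  unfold Cfsg.IsInducedBlockIn Cfsg.IsInducedBlock
  constructor
  · rintro ⟨he, hd, h⟩
    refine ⟨toSub_isPBlock K T hKT he, hd, ?_⟩
    rintro _ ⟨ξ, hξ, rfl⟩ χ hχ t
    rw [← inducedCentralCharIn_eq]
    exact h ξ hξ χ hχ t
  · rintro ⟨he, hd, h⟩
    refine ⟨?_, hd, ?_⟩
    · have := isPBlock_image_irrMap (Subgroup.subgroupOfEquivOfLe hKT) he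
      unfold toSub at this
      rw [Set.image_image] at this
      simpa [irrMap_irrMap_symm] using this
    · intro ξ hξ χ hχ t
      rw [inducedCentralCharIn_eq T K hKT]
      exact h _ (mem_toSub K T hKT hξ) χ hχ t

end InForm

section DefectTransport

variable {G : Type*} [Group G] [Finite G] (T K P : Subgroup G)
  {p : ℕ} {M : Ideal Cfsg.AlgInt}

theorem map_subEquiv_symm_subgroupOf (hKT : K ≤ T) :
    (P.subgroupOf K).map (Subgroup.subgroupOfEquivOfLe hKT).symm.toMonoidHom
      = (P.subgroupOf T).subgroupOf (K.subgroupOf T) := by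
  ext x
  constructor
  · rintro ⟨k, hk, rfl⟩
    rw [Subgroup.mem_subgroupOf, Subgroup.mem_subgroupOf]
    exact Subgroup.mem_subgroupOf.mp hk
  · intro hx
    rw [Subgroup.mem_subgroupOf, Subgroup.mem_subgroupOf] at hx
    exact ⟨Subgroup.subgroupOfEquivOfLe hKT x, Subgroup.mem_subgroupOf.mpr hx, by simp⟩

theorem isDefectGroup_toSub [Fact p.Prime] (hKT : K ≤ T) (e : Set (Cfsg.IrrCharacter K))
    (hD : Cfsg.IsDefectGroup p M e (P.subgroupOf K)) :
    Cfsg.IsDefectGroup p M (toSub K T hKT e) ((P.subgroupOf T).subgroupOf (K.subgroupOf T)) := by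
  have := isDefectGroup_irrMap (p := p) (M := M) (Subgroup.subgroupOfEquivOfLe hKT).symm e _ hD
  rw [map_subEquiv_symm_subgroupOf T K P hKT] at this
  exact this

theorem normalizer_subgroupOf_le (hPT : P ≤ T)
    (hN : Subgroup.normalizer (P : Set G) ⊓ T ≤ K) :
    Subgroup.normalizer ((P.subgroupOf T : Subgroup T) : Set T) ≤ K.subgroupOf T := by
  intro t ht
  rw [Subgroup.mem_subgroupOf]
  apply hN
  refine ⟨?_, t.2⟩
  show (t : G) ∈ Subgroup.normalizer (P : Set G)
  rw [Subgroup.mem_normalizer_iff]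
  rw [Subgroup.mem_normalizer_iff] at ht
  intro g
  constructor
  · intro hg
    have := (ht ⟨g, hPT hg⟩).mp (Subgroup.mem_subgroupOf.mpr hg)
    exact Subgroup.mem_subgroupOf.mp this
  · intro hg
    have hgT : g ∈ T := by
      have h1 : (t : G) * g * (t : G)⁻¹ ∈ T := hPT hg
      have h2 := T.mul_mem (T.mul_mem (T.inv_mem t.2) h1) t.2
      have e : (t : G)⁻¹ * ((t : G) * g * (t : G)⁻¹) * (t : G) = g := by group
      rwa [e] at h2
    have := (ht ⟨g, hgT⟩).mpr (Subgroup.mem_subgroupOf.mpr hg)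
    exact Subgroup.mem_subgroupOf.mp this

/-- a block of `K ⊇ N_T(P)` with defect group `P` induces (inside `T`) a block of `T` with defect
group `P` -/
theorem exists_isInducedBlockIn_over_normalizer [Fact p.Prime] (hM : Cfsg.IsPModular p M)
    (hKT : K ≤ T) (hPK : P ≤ K) (hP : IsPGroup p P) (hN : Subgroup.normalizer (P : Set G) ⊓ T ≤ K)
    (e : Set (Cfsg.IrrCharacter K)) (he : Cfsg.IsPBlock M e)
    (hD : Cfsg.IsDefectGroup p M e (P.subgroupOf K)) :
    ∃ d : Set (Cfsg.IrrCharacter T), Cfsg.IsPBlock M d ∧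
      Cfsg.IsDefectGroup p M d (P.subgroupOf T) ∧ Cfsg.IsInducedBlockIn M T K e d := by
  classical
  haveI : Fintype T := Fintype.ofFinite _
  have hPT : P ≤ T := hPK.trans hKT
  have hP' : IsPGroup p (P.subgroupOf T) :=
    hP.comap_of_injective _ (Subgroup.subtype_injective _)
  obtain ⟨d, hDd, hind⟩ := isInducedBlock_over_normalizer (G := T) hM (K.subgroupOf T)
    (P.subgroupOf T) hP' (normalizer_subgroupOf_le T K P hPT hN) (toSub K T hKT e)
    (toSub_isPBlock K T hKT he) (isDefectGroup_toSub T K P hKT e hD)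
  exact ⟨d, hind.2.1, hDd, (isInducedBlockIn_iff T K hKT e d).mpr hind⟩

/-- two blocks of `K ⊇ N_T(P)` with defect group `P` inducing (inside `T`) the same block of `T`
are equal -/
theorem eq_of_isInducedBlockIn_over_normalizer [Fact p.Prime] (hM : Cfsg.IsPModular p M)
    (hKT : K ≤ T) (hPK : P ≤ K) (hN : Subgroup.normalizer (P : Set G) ⊓ T ≤ K)
    (e₁ e₂ : Set (Cfsg.IrrCharacter K))
    (hD₁ : Cfsg.IsDefectGroup p M e₁ (P.subgroupOf K))
    (hD₂ : Cfsg.IsDefectGroup p M e₂ (P.subgroupOf K))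
    (d : Set (Cfsg.IrrCharacter T))
    (h₁ : Cfsg.IsInducedBlockIn M T K e₁ d) (h₂ : Cfsg.IsInducedBlockIn M T K e₂ d) :
    e₁ = e₂ := by
  classical
  haveI : Fintype T := Fintype.ofFinite _
  have hPT : P ≤ T := hPK.trans hKT
  have h := eq_of_isInducedBlock_over_normalizer (G := T) hM (K.subgroupOf T)
    (P.subgroupOf T) (normalizer_subgroupOf_le T K P hPT hN) (toSub K T hKT e₁)
    (toSub K T hKT e₂) (isDefectGroup_toSub T K P hKT e₁ hD₁)
    (isDefectGroup_toSub T K P hKT e₂ hD₂) d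
    ((isInducedBlockIn_iff T K hKT e₁ d).mp h₁) ((isInducedBlockIn_iff T K hKT e₂ d).mp h₂)
  unfold toSub at h
  exact (Set.image_eq_image (irrMap_injective _)).mp h

end DefectTransport

section ConjIn

variable {G : Type*} [Group G] [Finite G] (T K : Subgroup G)

theorem inducedCentralCharIn_conjIrr (nT : Subgroup.normalizer (T : Set G))
    (nK : Subgroup.normalizer (K : Set G)) (hn : (nT : G) = (nK : G))
    (ξ : Cfsg.IrrCharacter K) (t : T) :
    Cfsg.inducedCentralCharIn T K (conjIrr K nK ξ).1 (t : G)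
      = Cfsg.inducedCentralCharIn T K ξ.1 ((T.normalizerMonoidHom nT⁻¹ t : T) : G) := by
  unfold Cfsg.inducedCentralCharIn
  apply finsum_mem_eq_of_bijOn (K.normalizerMonoidHom nK⁻¹)
  · refine ⟨?_, (K.normalizerMonoidHom nK⁻¹).injective.injOn, ?_⟩
    · rintro k ⟨x, hx⟩
      refine ⟨T.normalizerMonoidHom nT⁻¹ x, ?_⟩
      rw [normalizerMonoidHom_inv_coe, normalizerMonoidHom_inv_coe, normalizerMonoidHom_inv_coe,
        ← hx, hn]
      group
    · rintro k' ⟨x', hx'⟩
      refine ⟨K.normalizerMonoidHom nK k', ⟨T.normalizerMonoidHom nT x', ?_⟩, ?_⟩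
      · rw [normalizerMonoidHom_inv_coe] at hx'
        rw [normalizerMonoidHom_coe, normalizerMonoidHom_coe]
        have : (t : G) = (nT : G) * ((x' : G) * (k' : G) * (x' : G)⁻¹) * (nT : G)⁻¹ := by
          rw [hx']; group
        rw [this, hn]
        group
      · rw [map_inv]
        exact (K.normalizerMonoidHom nK).symm_apply_apply k'
  · intro k _
    rw [conjIrr_apply, conjIrr_apply, map_one]

theorem isInducedBlockIn_conjIrr {M : Ideal Cfsg.AlgInt} (nT : Subgroup.normalizer (T : Set G))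
    (nK : Subgroup.normalizer (K : Set G)) (hn : (nT : G) = (nK : G))
    (e : Set (Cfsg.IrrCharacter K)) (d : Set (Cfsg.IrrCharacter T))
    (h : Cfsg.IsInducedBlockIn M T K e d) :
    Cfsg.IsInducedBlockIn M T K (conjIrr K nK '' e) (conjIrr T nT '' d) := by
  obtain ⟨he, hd, hcong⟩ := h
  refine ⟨isPBlock_image_conjIrr K nK he, isPBlock_image_conjIrr T nT hd, ?_⟩
  rintro _ ⟨ξ, hξ, rfl⟩ _ ⟨χ, hχ, rfl⟩ t
  rw [inducedCentralCharIn_conjIrr T K nT nK hn, centralChar_conjIrr]
  exact hcong ξ hξ χ hχ _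

end ConjIn

end Cfsg.Agent.Lib.Helper24
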