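import Mathlib
import Cfsg.Prelude.Def_Blocks
import Cfsg.Prelude.Def_BlockLocal
import Cfsg.Prelude.Def_BrauerPairs
import Cfsg.Agent.Lib.Helper24.OverNormalizer
import Cfsg.Agent.Lib.Helper24.HKTransport
import Cfsg.Agent.S4687

/-!
# Brauer pairs and induced blocks; pairs inside a subgroup `H ⊇ C_G(P)` (helper24 library)

* `isInducedBlock_centralizer_iff` : a block `e` of `C_G(P)` induces `B` iff `(P, e)` is a `B`-pair.
* `inducedCentralCharIn_centH` / `isInducedBlockIn_centH_iff` : induction from `C_G(P)` to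
  `H ⊇ P C_G(P)` computed inside `H`, in terms of pairs of `H`.
* `isMaximalBrauerPair_centH_of'` : a maximal pair of `G` gives a maximal pair of `H` (only
  `P ≤ H`, `C_G(P) ≤ H` needed).
* translations of the stabilizer conditions between `H` and `G`.
-/

set_option autoImplicit false

namespace Cfsg.Agent.Lib.Helper24

open Cfsg.Agent.Lib.Helper2 Cfsg.Agent.Lib.Helper7
open scoped ComplexConjugate

section General

variable {G : Type*} [Group G] [Fintype G] {p : ℕ} {M : Ideal Cfsg.AlgInt}

/-- for a `p`-subgroup `P` and a block `e` of `C_G(P)`: `e` induces `B` iff `(P, e)` is a Brauer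
pair of `B` -/
theorem isInducedBlock_centralizer_iff [Fact p.Prime] (hM : Cfsg.IsPModular p M) (P : Subgroup G)
    (hP : IsPGroup p P) (e : Set (Cfsg.IrrCharacter (Subgroup.centralizer (P : Set G))))
    (B : Set (Cfsg.IrrCharacter G)) :
    Cfsg.IsInducedBlock M (Subgroup.centralizer (P : Set G)) e B ↔
      Cfsg.IsBrauerPairOf p M B P e := by
  classical
  haveI : Fintype (Subgroup.centralizer (P : Set G)) := Fintype.ofFinite _
  constructor
  · rintro ⟨he, hB, hcong⟩
    refine ⟨⟨hP, he⟩, hB, ?_⟩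
    intro ξ hξ
    obtain ⟨χ, hχ⟩ := isPBlock_nonempty hM hB
    rw [brauerOmega_eq_omega]
    have := omega_restrict_sub_memLocalIdeal (Subgroup.centralizer (P : Set G)) hM
      (ξ : _ → ℂ) χ (fun g => hcong ξ hξ χ hχ g) (Cfsg.blockCoeff B)
      (blockCoeff_isClassFunction B) (blockCoeff_memLocalRing hM B hB)
    rw [omega_blockCoeff, if_pos hχ] at this
    exact this
  · intro hBP
    refine ⟨hBP.1.2, hBP.2.1, ?_⟩
    intro ξ hξ χ hχ g
    have h1 := omega_restrict_sub_omega_of_isBrauerPairOf hM B P e hBP χ hχ ξ hξ _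
      (IsRCF.classIndicator hM g)
    rw [inducedCentralChar_eq_omega, ← omega_classIndicator _ (IrrCharacter.isClassFunction χ)]
    exact h1

end General

section CentHInd

variable {G : Type*} [Group G] [Finite G] {p : ℕ} {M : Ideal Cfsg.AlgInt}

theorem inducedCentralCharIn_centH (H P : Subgroup G) (hPH : P ≤ H)
    (hCH : Subgroup.centralizer (P : Set G) ≤ H)
    (ξ' : Cfsg.IrrCharacter (Subgroup.centralizer ((P.subgroupOf H : Subgroup H) : Set H)))
    (h : H) :
    Cfsg.inducedCentralCharIn H (Subgroup.centralizer (P : Set G))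
        ((irrMap (centH H P hPH hCH) ξ' : Cfsg.IrrCharacter _) : _ → ℂ) (h : G)
      = Cfsg.inducedCentralChar (Subgroup.centralizer ((P.subgroupOf H : Subgroup H) : Set H))
          (ξ' : _ → ℂ) h := by
  unfold Cfsg.inducedCentralCharIn Cfsg.inducedCentralChar
  apply finsum_mem_eq_of_bijOn (centH H P hPH hCH).symm
  · refine ⟨?_, (centH H P hPH hCH).symm.injective.injOn, ?_⟩
    · rintro k ⟨x, hx⟩
      show IsConj h _
      rw [isConj_iff]
      refine ⟨x⁻¹, ?_⟩
      apply Subtype.ext
      show ((x⁻¹ : H) : G) * (h : G) * (((x⁻¹ : H)⁻¹ : H) : G) = (k : G)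
      rw [← hx]
      simp
      group
    · rintro k' hk'
      obtain ⟨c, hc⟩ := isConj_iff.mp hk'
      refine ⟨centH H P hPH hCH k', ⟨c⁻¹, ?_⟩, by simp⟩
      have hc' : (c : G) * (h : G) * (c : G)⁻¹ = ((k' : H) : G) := by
        have := congrArg (fun t : H => (t : G)) hc
        simpa using this
      show ((c⁻¹ : H) : G) * ((k' : H) : G) * (((c⁻¹ : H) : G))⁻¹ = (h : G)
      rw [← hc']
      simp
      group
  · intro k _
    rw [irrMap_apply, irrMap_apply, map_one]

theorem isInducedBlockIn_centH_iff (H P : Subgroup G) (hPH : P ≤ H)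
    (hCH : Subgroup.centralizer (P : Set G) ≤ H)
    (e' : Set (Cfsg.IrrCharacter (Subgroup.centralizer ((P.subgroupOf H : Subgroup H) : Set H))))
    (f : Set (Cfsg.IrrCharacter H)) :
    Cfsg.IsInducedBlockIn M H (Subgroup.centralizer (P : Set G))
        (irrMap (centH H P hPH hCH) '' e') f
      ↔ Cfsg.IsInducedBlock M (Subgroup.centralizer ((P.subgroupOf H : Subgroup H) : Set H))
          e' f := by
  unfold Cfsg.IsInducedBlockIn Cfsg.IsInducedBlock
  rw [isPBlock_image_irrMap_iff]
  constructor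
  · rintro ⟨he, hf, h⟩
    refine ⟨he, hf, ?_⟩
    intro ξ' hξ' χ hχ t
    rw [← inducedCentralCharIn_centH H P hPH hCH]
    exact h _ ⟨ξ', hξ', rfl⟩ χ hχ t
  · rintro ⟨he, hf, h⟩
    refine ⟨he, hf, ?_⟩
    rintro _ ⟨ξ', hξ', rfl⟩ χ hχ t
    rw [inducedCentralCharIn_centH H P hPH hCH]
    exact h ξ' hξ' χ hχ t

end CentHInd

section MaxTransfer

variable {G : Type*} [Group G] [Fintype G] {p : ℕ} {M : Ideal Cfsg.AlgInt}

/-- for `P ≤ H`, `C_G(P) ≤ H`: maximal in `G` implies maximal in `H` -/
theorem isMaximalBrauerPair_centH_of' [Fact p.Prime] (hM : Cfsg.IsPModular p M)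
    (H P : Subgroup G) (hPH : P ≤ H) (hCH : Subgroup.centralizer (P : Set G) ≤ H)
    (B : Set (Cfsg.IrrCharacter G))
    (e' : Set (Cfsg.IrrCharacter (Subgroup.centralizer ((P.subgroupOf H : Subgroup H) : Set H))))
    (hmaxG : Cfsg.IsMaximalBrauerPair p M B P (irrMap (centH H P hPH hCH) '' e'))
    (c : Set (Cfsg.IrrCharacter H))
    (hcP : Cfsg.IsBrauerPairOf p M c (P.subgroupOf H) e') :
    Cfsg.IsMaximalBrauerPair p M c (P.subgroupOf H) e' := by
  classical
  haveI : Fintype H := Fintype.ofFinite _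
  apply isMaximalBrauerPair_of_forall_isNormalSubpair (G := H) hM c _ e' hcP
  intro S g' hns
  obtain ⟨R, hRH, rfl⟩ : ∃ R : Subgroup G, R ≤ H ∧ R.subgroupOf H = S :=
    ⟨S.map H.subtype, Subgroup.map_subtype_le S,
      Subgroup.comap_map_eq_self_of_injective H.subtype_injective S⟩
  have hPR : P ≤ R := by
    intro x hx
    have : (⟨x, hPH hx⟩ : H) ∈ P.subgroupOf H := Subgroup.mem_subgroupOf.mpr hx
    exact Subgroup.mem_subgroupOf.mp (hns.2.2.1 this)
  have hnsG := (isNormalSubpair_centH_iff H P R hPR hRH hCH e' g').mp hns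
  have h1 := eq_of_isNormalSubpair_of_isMaximalBrauerPair hM B P _ hmaxG R _ hnsG
  rw [h1]

/-- stabilizing a block of `C_H(P)` is the same in `H` and in `G` -/
theorem stabilizesBlock_centH_iff (H P : Subgroup G) (hPH : P ≤ H)
    (hCH : Subgroup.centralizer (P : Set G) ≤ H)
    (e' : Set (Cfsg.IrrCharacter (Subgroup.centralizer ((P.subgroupOf H : Subgroup H) : Set H))))
    (x : H) (hx : (x : G) ∈ Subgroup.normalizer (P : Set G)) :
    Cfsg.StabilizesBlock (Subgroup.centralizer ((P.subgroupOf H : Subgroup H) : Set H)) e' x ↔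
      Cfsg.StabilizesBlock (Subgroup.centralizer (P : Set G))
        (irrMap (centH H P hPH hCH) '' e') (x : G) := by
  classical
  haveI : Fintype H := Fintype.ofFinite _
  have hxH : x ∈ Subgroup.normalizer ((P.subgroupOf H : Subgroup H) : Set H) := by
    rw [← Subgroup.subgroupOf_normalizer_eq hPH]
    exact Subgroup.mem_subgroupOf.mpr hx
  have hinv : (∀ h : H,
      Cfsg.subgroupBlockCoeff (Subgroup.centralizer ((P.subgroupOf H : Subgroup H) : Set H)) e'
        (x * h * x⁻¹)
      = Cfsg.subgroupBlockCoeff (Subgroup.centralizer ((P.subgroupOf H : Subgroup H) : Set H)) e'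
        h) ↔
      (∀ g : G,
        Cfsg.subgroupBlockCoeff (Subgroup.centralizer (P : Set G))
          (irrMap (centH H P hPH hCH) '' e') ((x : G) * g * (x : G)⁻¹)
        = Cfsg.subgroupBlockCoeff (Subgroup.centralizer (P : Set G))
          (irrMap (centH H P hPH hCH) '' e') g) := by
    constructor
    · intro h g
      by_cases hg : g ∈ H
      · have h1 := h ⟨g, hg⟩
        rw [← subgroupBlockCoeff_centH H P hPH hCH e', ← subgroupBlockCoeff_centH H P hPH hCH e']
          at h1
        exact h1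
      · have hg1 : g ∉ Subgroup.centralizer (P : Set G) := fun h' => hg (hCH h')
        have hg2 : (x : G) * g * (x : G)⁻¹ ∉ Subgroup.centralizer (P : Set G) := by
          intro h'
          apply hg
          have h2 := H.mul_mem (H.mul_mem (H.inv_mem x.2) (hCH h')) x.2
          have e1 : (x : G)⁻¹ * ((x : G) * g * (x : G)⁻¹) * (x : G) = g := by group
          rwa [e1] at h2
        rw [subgroupBlockCoeff_eq_extZ, extendByZero_apply_not_mem _ _ hg1,
          extendByZero_apply_not_mem _ _ hg2]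
    · intro h k
      have h1 := h (k : G)
      rw [← subgroupBlockCoeff_centH H P hPH hCH e', ← subgroupBlockCoeff_centH H P hPH hCH e']
      exact h1
  constructor
  · intro hst
    apply stabilizesBlock_of_conj_invariant _ _ _ (normalizer_le_normalizer_centralizer P hx)
    exact hinv.mp (fun h => subgroupBlockCoeff_conj_of_stabilizes _ e' x hst h)
  · intro hst
    apply stabilizesBlock_of_conj_invariant (G := H) _ _ _
      (normalizer_le_normalizer_centralizer _ hxH)
    exact hinv.mpr (fun g => subgroupBlockCoeff_conj_of_stabilizes _ _ (x : G) hst g)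

end MaxTransfer

section AbelianDefect

variable {G : Type*} [Group G] [Fintype G] {p : ℕ} {M : Ideal Cfsg.AlgInt}

theorem le_centralizer_of_abelian (P Q : Subgroup G) (hQP : Q ≤ P)
    (hPab : ∀ x ∈ P, ∀ y ∈ P, x * y = y * x) : P ≤ Subgroup.centralizer (Q : Set G) := by
  intro u hu
  rw [Subgroup.mem_centralizer_iff]
  intro q hq
  exact hPab q (hQP hq) u hu

/-- the block of `C_G(Q)` induced by a block of `C_G(P)` (`Q ≤ P`, `P` an abelian `p`-group)
exists -/
theorem exists_isInducedBlockIn_centralizer [Fact p.Prime] (hM : Cfsg.IsPModular p M)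
    (P Q : Subgroup G) (hQP : Q ≤ P) (hPab : ∀ x ∈ P, ∀ y ∈ P, x * y = y * x)
    (hP : IsPGroup p P) (c : Set (Cfsg.IrrCharacter (Subgroup.centralizer (P : Set G))))
    (hcb : Cfsg.IsPBlock M c) :
    ∃ f : Set (Cfsg.IrrCharacter (Subgroup.centralizer (Q : Set G))),
      Cfsg.IsInducedBlockIn M (Subgroup.centralizer (Q : Set G))
        (Subgroup.centralizer (P : Set G)) c f := by
  classical
  haveI : Fintype (Subgroup.centralizer (Q : Set G)) := Fintype.ofFinite _
  have hPH := le_centralizer_of_abelian P Q hQP hPab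
  have hCH : Subgroup.centralizer (P : Set G) ≤ Subgroup.centralizer (Q : Set G) :=
    Subgroup.centralizer_le (SetLike.coe_subset_coe.mpr hQP)
  have himg : irrMap (centH _ P hPH hCH) '' (irrMap (centH _ P hPH hCH).symm '' c) = c :=
    image_irrMap_image_symm _ c
  have hP' : IsPGroup p (P.subgroupOf (Subgroup.centralizer (Q : Set G))) :=
    (isPGroup_subgroupOf_iff _ P hPH).mpr hP
  have hpair : Cfsg.IsBrauerPair p M (P.subgroupOf (Subgroup.centralizer (Q : Set G)))
      (irrMap (centH _ P hPH hCH).symm '' c) := ⟨hP', isPBlock_image_irrMap _ hcb⟩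
  obtain ⟨f, hf, _⟩ := existsUnique_block_of_brauerPair
    (G := Subgroup.centralizer (Q : Set G)) hM _ _ hpair
  refine ⟨f, ?_⟩
  have h1 := (isInducedBlock_centralizer_iff (G := Subgroup.centralizer (Q : Set G)) hM _ hP' _ f).mpr hf
  have h2 := (isInducedBlockIn_centH_iff _ P hPH hCH _ f).mpr h1
  rwa [himg] at h2

/-- nilpotency of the block of `C_G(Q)` below a maximal pair `(P, c)` with `P` abelian -/
theorem isNilpotentBlock_centralizer_iff [Fact p.Prime] (hM : Cfsg.IsPModular p M)
    (B : Set (Cfsg.IrrCharacter G)) (P : Subgroup G) (hPD : Cfsg.IsDefectGroup p M B P)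
    (hPab : ∀ x ∈ P, ∀ y ∈ P, x * y = y * x)
    (c : Set (Cfsg.IrrCharacter (Subgroup.centralizer (P : Set G))))
    (hc : Cfsg.IsInducedBlock M (Subgroup.centralizer (P : Set G)) c B)
    (Q : Subgroup G) (hQP : Q ≤ P)
    (f : Set (Cfsg.IrrCharacter (Subgroup.centralizer (Q : Set G))))
    (hf : Cfsg.IsInducedBlockIn M (Subgroup.centralizer (Q : Set G))
      (Subgroup.centralizer (P : Set G)) c f) :
    Cfsg.IsNilpotentBlock p M f ↔
      ∀ x : G, x ∈ Subgroup.centralizer (Q : Set G) → x ∈ Subgroup.normalizer (P : Set G) →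
        Cfsg.StabilizesBlock (Subgroup.centralizer (P : Set G)) c x →
        x ∈ Subgroup.centralizer (P : Set G) := by
  classical
  haveI : Fintype (Subgroup.centralizer (Q : Set G)) := Fintype.ofFinite _
  have hB := hc.2.1
  have hP : IsPGroup p P := IsPGroup.of_card (card_of_isDefectGroup hM B hB P hPD)
  have hPH := le_centralizer_of_abelian P Q hQP hPab
  have hCH : Subgroup.centralizer (P : Set G) ≤ Subgroup.centralizer (Q : Set G) :=
    Subgroup.centralizer_le (SetLike.coe_subset_coe.mpr hQP)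
  have himg : irrMap (centH _ P hPH hCH) '' (irrMap (centH _ P hPH hCH).symm '' c) = c :=
    image_irrMap_image_symm _ c
  have hP' : IsPGroup p (P.subgroupOf (Subgroup.centralizer (Q : Set G))) :=
    (isPGroup_subgroupOf_iff _ P hPH).mpr hP
  have hBP : Cfsg.IsBrauerPairOf p M B P c := (isInducedBlock_centralizer_iff hM P hP c B).mp hc
  have hmaxG : Cfsg.IsMaximalBrauerPair p M B P c :=
    isMaximalBrauerPair_of_isDefectGroup hM B P c hBP hPD
  rw [← himg] at hf hmaxG
  have hfI := (isInducedBlockIn_centH_iff _ P hPH hCH _ f).mp hf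
  have hfP := (isInducedBlock_centralizer_iff (G := Subgroup.centralizer (Q : Set G))
    hM _ hP' _ f).mp hfI
  have hmaxH := isMaximalBrauerPair_centH_of' hM _ P hPH hCH B _ hmaxG f hfP
  have habH : ∀ x ∈ P.subgroupOf (Subgroup.centralizer (Q : Set G)),
      ∀ y ∈ P.subgroupOf (Subgroup.centralizer (Q : Set G)), x * y = y * x := by
    intro x hx y hy
    apply Subtype.ext
    exact hPab _ (Subgroup.mem_subgroupOf.mp hx) _ (Subgroup.mem_subgroupOf.mp hy)
  have key := Cfsg.Agent.S4687.result p M hM f _ _ hmaxH habH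
  rw [key]
  constructor
  · intro h x hxQ hxN hxst
    have hxH : (⟨x, hxQ⟩ : Subgroup.centralizer (Q : Set G)) ∈ Subgroup.normalizer
        ((P.subgroupOf (Subgroup.centralizer (Q : Set G)) :
          Subgroup (Subgroup.centralizer (Q : Set G))) : Set (Subgroup.centralizer (Q : Set G))) := by
      rw [← Subgroup.subgroupOf_normalizer_eq hPH]
      exact Subgroup.mem_subgroupOf.mpr hxN
    have hst' := (stabilizesBlock_centH_iff _ P hPH hCH _ ⟨x, hxQ⟩ hxN).mpr (by
      rw [himg]; exact hxst)
    have := h ⟨x, hxQ⟩ hxH hst'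
    exact (mem_centralizer_subgroupOf_iff _ P hPH ⟨x, hxQ⟩).mp this
  · intro h x hxH hxst
    have hxN : (x : G) ∈ Subgroup.normalizer (P : Set G) := by
      rw [← Subgroup.subgroupOf_normalizer_eq hPH] at hxH
      exact Subgroup.mem_subgroupOf.mp hxH
    have hst' := (stabilizesBlock_centH_iff _ P hPH hCH _ x hxN).mp hxst
    rw [himg] at hst'
    exact (mem_centralizer_subgroupOf_iff _ P hPH x).mpr (h (x : G) x.2 hxN hst')

end AbelianDefect

end Cfsg.Agent.Lib.Helper24
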