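import Mathlib

/-!
# Twisted fixed-embedding counts for multiply transitive actions (helper24 library)

For a group `G` acting on a finite set `Ω`, an index type `ι` and a map `t : ι → ι`,
`tw Ω ι t g` is the number of embeddings `w : ι ↪ Ω` with `g • w i = w (t i)` for all `i`.
If `G` is transitive on `ι ↪ Ω` and `t` is a permutation, the sum over `G` is `|G|`.
-/

set_option autoImplicit false

namespace Cfsg.Agent.Lib.Helper24.AltChar

open MulAction

section Tw

variable {G : Type*} [Group G] (Ω : Type*) [MulAction G Ω]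

/-- the number of embeddings `w : ι ↪ Ω` with `g • w i = w (t i)` for all `i` -/
noncomputable def tw (ι : Type*) (t : ι → ι) (g : G) : ℕ :=
  Nat.card {w : ι ↪ Ω // ∀ i, g • w i = w (t i)}

variable {Ω}

theorem tw_cond_iff {ι : Type*} (t : Equiv.Perm ι) (g : G) (w : ι ↪ Ω) :
    (∀ i, g • w i = w (t i)) ↔ g • w = t.toEmbedding.trans w := by
  constructor
  · intro h
    ext i
    rw [Function.Embedding.smul_apply, h i]
    rfl
  · intro h i
    have := DFunLike.congr_fun h i
    rw [Function.Embedding.smul_apply] at this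
    exact this

/-- coset of a stabilizer -/
def fiberEquivStab {X : Type*} [MulAction G X] (x : X) (y₀ : G) :
    {y : G // y • x = y₀ • x} ≃ MulAction.stabilizer G x where
  toFun y := ⟨y₀⁻¹ * y.1, by
    rw [MulAction.mem_stabilizer_iff, mul_smul, y.2, inv_smul_smul]⟩
  invFun s := ⟨y₀ * s.1, by
    rw [mul_smul, MulAction.mem_stabilizer_iff.mp s.2]⟩
  left_inv y := by simp
  right_inv s := by simp

/-- twisted Burnside for a transitive action -/
theorem sum_card_twisted [Fintype G] {Z : Type*} [Fintype Z] [DecidableEq Z] [MulAction G Z]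
    [IsPretransitive G Z] [Nonempty Z] (θ : Z → Z) :
    ∑ g : G, (∑ z : Z, if g • z = θ z then 1 else 0) = Fintype.card G := by
  classical
  rw [Finset.sum_comm]
  have h2 : ∀ z : Z, (∑ g : G, if g • z = θ z then 1 else 0) = Nat.card (stabilizer G z) := by
    intro z
    obtain ⟨g₀, hg₀⟩ := exists_smul_eq G z (θ z)
    rw [← Finset.card_filter, ← Fintype.card_subtype, ← Nat.card_eq_fintype_card]
    apply Nat.card_congr
    rw [← hg₀]
    exact fiberEquivStab z g₀
  have h3 : ∀ z : Z, Nat.card (stabilizer G z) * Fintype.card Z = Fintype.card G := by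
    intro z
    have h := (stabilizer G z).card_mul_index
    rw [MulAction.index_stabilizer, MulAction.orbit_eq_univ, Set.ncard_univ,
      Nat.card_eq_fintype_card (α := Z), Nat.card_eq_fintype_card (α := G)] at h
    exact h
  simp_rw [h2]
  have hZ : 0 < Fintype.card Z := Fintype.card_pos
  apply Nat.eq_of_mul_eq_mul_right hZ
  rw [Finset.sum_mul]
  simp_rw [h3]
  rw [Finset.sum_const, Finset.card_univ, smul_eq_mul, mul_comm]

theorem sum_tw [Fintype G] [Fintype Ω] [DecidableEq Ω] (ι : Type*) [Fintype ι] [DecidableEq ι]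
    (t : Equiv.Perm ι) [IsPretransitive G (ι ↪ Ω)] [Nonempty (ι ↪ Ω)] :
    ∑ g : G, tw Ω ι t g = Fintype.card G := by
  classical
  have h1 : ∀ g : G, tw Ω ι t g
      = ∑ w : ι ↪ Ω, if g • w = t.toEmbedding.trans w then 1 else 0 := by
    intro g
    unfold tw
    rw [Nat.card_eq_fintype_card, Fintype.card_subtype, Finset.card_filter]
    apply Finset.sum_congr rfl
    intro w _
    simp only [tw_cond_iff]
  simp_rw [h1]
  exact sum_card_twisted (fun w : ι ↪ Ω => t.toEmbedding.trans w)

/-- for the trivial twist, the count is a falling factorial of the number of fixed points -/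
theorem tw_id [Finite Ω] (k : ℕ) (g : G) :
    tw Ω (Fin k) id g = (Nat.card (fixedBy Ω g)).descFactorial k := by
  classical
  haveI : Fintype Ω := Fintype.ofFinite Ω
  haveI : Fintype (fixedBy Ω g) := Fintype.ofFinite _
  let e : {w : Fin k ↪ Ω // ∀ i, g • w i = w (id i)} ≃ (Fin k ↪ fixedBy Ω g) :=
    { toFun := fun f => ⟨fun i => ⟨f.1 i, by
          rw [MulAction.mem_fixedBy]
          exact f.2 i⟩, by
        intro i j hij
        apply f.1.injective
        exact congrArg Subtype.val hij⟩
      invFun := fun e => ⟨e.trans (Function.Embedding.subtype _), by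
        intro i
        exact (e i).2⟩
      left_inv := fun f => by ext i; rfl
      right_inv := fun e => by ext i; rfl }
  unfold tw
  rw [Nat.card_congr e, Nat.card_eq_fintype_card, Fintype.card_embedding_eq,
    Nat.card_eq_fintype_card, Fintype.card_fin]

/-- the fixed embeddings, as a `tw` -/
theorem card_fixedBy_emb (ι : Type*) (g : G) :
    Nat.card (fixedBy (ι ↪ Ω) g) = tw Ω ι id g := by
  unfold tw
  apply Nat.card_congr
  refine Equiv.subtypeEquivRight ?_
  intro w
  rw [MulAction.mem_fixedBy]
  constructor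
  · intro h i
    have := DFunLike.congr_fun h i
    rw [Function.Embedding.smul_apply] at this
    exact this
  · intro h
    ext i
    rw [Function.Embedding.smul_apply]
    exact h i

/-- product formula when the two partial embeddings are automatically disjoint -/
theorem tw_sum [Finite Ω] (ι κ : Type*) [Finite ι] [Finite κ] (t : ι → ι) (s : κ → κ) (g : G)
    (hdisj : ∀ (u : ι ↪ Ω) (v : κ ↪ Ω), (∀ i, g • u i = u (t i)) → (∀ j, g • v j = v (s j)) →
      ∀ i j, u i ≠ v j) :
    tw Ω (ι ⊕ κ) (Sum.map t s) g = tw Ω ι t g * tw Ω κ s g := by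
  unfold tw
  rw [← Nat.card_prod]
  apply Nat.card_congr
  refine
    { toFun := fun w => (⟨⟨fun i => w.1 (Sum.inl i), fun i j h => Sum.inl_injective (w.1.injective h)⟩,
          fun i => w.2 (Sum.inl i)⟩,
        ⟨⟨fun j => w.1 (Sum.inr j), fun i j h => Sum.inr_injective (w.1.injective h)⟩,
          fun j => w.2 (Sum.inr j)⟩)
      invFun := fun p => ⟨⟨Sum.elim p.1.1 p.2.1, ?_⟩, ?_⟩
      left_inv := ?_
      right_inv := ?_ }
  · rintro (i | i) (j | j) h
    · exact congrArg Sum.inl (p.1.1.injective h)
    · exact absurd h (hdisj p.1.1 p.2.1 p.1.2 p.2.2 i j)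
    · exact absurd h.symm (hdisj p.1.1 p.2.1 p.1.2 p.2.2 j i)
    · exact congrArg Sum.inr (p.2.1.injective h)
  · rintro (i | i)
    · exact p.1.2 i
    · exact p.2.2 i
  · intro w
    apply Subtype.ext
    ext (i | i) <;> rfl
  · intro p
    rfl

/-- general product formula: the twisted embeddings of a sum are the pairs with disjoint ranges -/
theorem tw_sum_disj (ι κ : Type*) (t : ι → ι) (s : κ → κ) (g : G) :
    tw Ω (ι ⊕ κ) (Sum.map t s) g
      = Nat.card {p : {u : ι ↪ Ω // ∀ i, g • u i = u (t i)} × {v : κ ↪ Ω // ∀ j, g • v j = v (s j)} //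
          ∀ i j, p.1.1 i ≠ p.2.1 j} := by
  unfold tw
  apply Nat.card_congr
  refine
    { toFun := fun w => ⟨(⟨⟨fun i => w.1 (Sum.inl i), fun i j h => Sum.inl_injective (w.1.injective h)⟩,
          fun i => w.2 (Sum.inl i)⟩,
        ⟨⟨fun j => w.1 (Sum.inr j), fun i j h => Sum.inr_injective (w.1.injective h)⟩,
          fun j => w.2 (Sum.inr j)⟩), ?_⟩
      invFun := fun p => ⟨⟨Sum.elim p.1.1.1 p.1.2.1, ?_⟩, ?_⟩
      left_inv := ?_
      right_inv := ?_ }
  · intro i j h
    have := w.1.injective h
    exact Sum.inl_ne_inr this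
  · rintro (i | i) (j | j) h
    · exact congrArg Sum.inl (p.1.1.1.injective h)
    · exact absurd h (p.2 i j)
    · exact absurd h.symm (p.2 j i)
    · exact congrArg Sum.inr (p.1.2.1.injective h)
  · rintro (i | i)
    · exact p.1.1.2 i
    · exact p.1.2.2 i
  · intro w
    apply Subtype.ext
    ext (i | i) <;> rfl
  · intro p
    rfl

/-- transport of transitivity on embeddings along an equivalence of index types -/
theorem isPretransitive_emb_of_equiv {ι κ : Type*} (e : ι ≃ κ) [IsPretransitive G (ι ↪ Ω)] :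
    IsPretransitive G (κ ↪ Ω) := by
  constructor
  intro w w'
  obtain ⟨g, hg⟩ := exists_smul_eq G (e.toEmbedding.trans w) (e.toEmbedding.trans w')
  refine ⟨g, ?_⟩
  ext j
  have := DFunLike.congr_fun hg (e.symm j)
  simpa [Function.Embedding.smul_apply] using this

theorem nonempty_emb_of_equiv {ι κ : Type*} (e : ι ≃ κ) [Nonempty (ι ↪ Ω)] :
    Nonempty (κ ↪ Ω) := by
  obtain ⟨w⟩ := (inferInstance : Nonempty (ι ↪ Ω))
  exact ⟨e.symm.toEmbedding.trans w⟩

end Tw

end Cfsg.Agent.Lib.Helper24.AltChar
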