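import Mathlib
import Cfsg.Agent.Lib.Helper24.AltCharTw

/-!
# Swap-twisted counts and their moments for 4-transitive actions (helper24 library)
-/

set_option autoImplicit false

namespace Cfsg.Agent.Lib.Helper24.AltChar

open MulAction

/-- the transposition of `Fin 2` -/
def sw : Equiv.Perm (Fin 2) := Equiv.swap 0 1

theorem sw_ne (i : Fin 2) : sw i ≠ i := by
  fin_cases i <;> simp [sw]

theorem sw_sw (i : Fin 2) : sw (sw i) = i := by
  simp [sw]

theorem fin2_cases (i k : Fin 2) : k = i ∨ k = sw i := by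
  fin_cases i <;> fin_cases k <;> simp [sw]

section

variable {G : Type*} [Group G] {Ω : Type*} [MulAction G Ω]

theorem sw_disj {κ : Type*} (g : G) (u : Fin 2 ↪ Ω) (v : κ ↪ Ω)
    (hu : ∀ i, g • u i = u (sw i)) (hv : ∀ j, g • v j = v (id j)) : ∀ i j, u i ≠ v j := by
  intro i j h
  have h1 : u (sw i) = u i := by
    rw [← hu i, h, hv j, id]
  exact sw_ne i (u.injective h1)

/-- the swapped partner of a swap-twisted embedding -/
def swS (g : G) (u : {u : Fin 2 ↪ Ω // ∀ i, g • u i = u (sw i)}) :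
    {u : Fin 2 ↪ Ω // ∀ i, g • u i = u (sw i)} :=
  ⟨sw.toEmbedding.trans u.1, fun i => by
    change g • u.1 (sw i) = u.1 (sw (sw i))
    exact u.2 (sw i)⟩

theorem swS_apply (g : G) (u : {u : Fin 2 ↪ Ω // ∀ i, g • u i = u (sw i)}) (i : Fin 2) :
    (swS g u).1 i = u.1 (sw i) := rfl

theorem swS_ne (g : G) (u : {u : Fin 2 ↪ Ω // ∀ i, g • u i = u (sw i)}) : swS g u ≠ u := by
  intro h
  have h1 := congrArg (fun w => w.1 0) h
  simp only [swS_apply] at h1
  exact sw_ne 0 (u.1.injective h1)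

/-- two swap-twisted embeddings that meet are equal or swapped partners -/
theorem eq_or_eq_swS (g : G) (u v : {u : Fin 2 ↪ Ω // ∀ i, g • u i = u (sw i)})
    (h : ¬ ∀ i j, u.1 i ≠ v.1 j) : v = u ∨ v = swS g u := by
  push Not at h
  obtain ⟨i, j, hij⟩ := h
  have h2 : v.1 (sw j) = u.1 (sw i) := by
    rw [← v.2 j, ← u.2 i, hij]
  rcases fin2_cases i j with hji | hji
  · left
    rw [hji] at hij h2
    apply Subtype.ext
    ext k
    rcases fin2_cases i k with hk | hk
    · rw [hk]; exact hij.symm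
    · rw [hk]; exact h2
  · right
    rw [hji] at hij h2
    rw [sw_sw] at h2
    apply Subtype.ext
    ext k
    rw [swS_apply]
    rcases fin2_cases i k with hk | hk
    · rw [hk]; exact h2
    · rw [hk, sw_sw]; exact hij.symm

/-- the square of the swap count -/
theorem tw_sw_sq [Finite Ω] (g : G) :
    tw Ω (Fin 2) sw g * tw Ω (Fin 2) sw g
      = tw Ω (Fin 2 ⊕ Fin 2) (Sum.map sw sw) g + 2 * tw Ω (Fin 2) sw g := by
  classical
  rw [tw_sum_disj]
  unfold tw
  rw [← Nat.card_prod]
  have e1 := Nat.card_congr (Equiv.sumCompl (fun p : {u : Fin 2 ↪ Ω // ∀ i, g • u i = u (sw i)} ×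
      {v : Fin 2 ↪ Ω // ∀ j, g • v j = v (sw j)} => ∀ i j, p.1.1 i ≠ p.2.1 j))
  rw [Nat.card_sum] at e1
  rw [← e1]
  congr 1
  have e2 : Nat.card ({u : Fin 2 ↪ Ω // ∀ i, g • u i = u (sw i)} ⊕
      {u : Fin 2 ↪ Ω // ∀ i, g • u i = u (sw i)})
      = Nat.card {p : {u : Fin 2 ↪ Ω // ∀ i, g • u i = u (sw i)} ×
      {v : Fin 2 ↪ Ω // ∀ j, g • v j = v (sw j)} // ¬ ∀ i j, p.1.1 i ≠ p.2.1 j} := by
    apply Nat.card_congr
    refine Equiv.ofBijective (fun x => Sum.elim (fun u => ⟨(u, u), ?_⟩) (fun u => ⟨(u, swS g u), ?_⟩) x)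
      ⟨?_, ?_⟩
    · intro h
      exact h 0 0 rfl
    · intro h
      apply h 0 1
      rw [swS_apply]
      rfl
    · rintro (u | u) (u' | u') h
      · have := congrArg (fun p => p.1.1) h
        exact congrArg Sum.inl this
      · exfalso
        have h1 : u = u' := congrArg (fun p => p.1.1) h
        have h2 : u = swS g u' := congrArg (fun p => p.1.2) h
        rw [h1] at h2
        exact swS_ne g u' h2.symm
      · exfalso
        have h1 : u = u' := congrArg (fun p => p.1.1) h
        have h2 : swS g u = u' := congrArg (fun p => p.1.2) h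
        rw [h1] at h2
        exact swS_ne g u' h2
      · have := congrArg (fun p => p.1.1) h
        exact congrArg Sum.inr this
    · rintro ⟨⟨u, v⟩, hp⟩
      rcases eq_or_eq_swS g u v hp with h | h
      · refine ⟨Sum.inl u, ?_⟩
        apply Subtype.ext
        simp only [Sum.elim_inl]
        rw [h]
      · refine ⟨Sum.inr u, ?_⟩
        apply Subtype.ext
        simp only [Sum.elim_inr]
        rw [h]
  rw [← e2, Nat.card_sum, two_mul]

end

end Cfsg.Agent.Lib.Helper24.AltChar
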