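import Mathlib
import Cfsg.Agent.Lib.Helper24.AltCharTw
import Cfsg.Agent.Lib.Helper24.AltCharSw

/-!
# Moments of the fixed point and swap counts for 4-transitive actions (helper24 library)
-/

set_option autoImplicit false

namespace Cfsg.Agent.Lib.Helper24.AltChar

open MulAction

theorem cast_desc_one (n : ℕ) : ((n.descFactorial 1 : ℕ) : ℂ) = n := by
  simp

theorem cast_desc_two (n : ℕ) : ((n.descFactorial 2 : ℕ) : ℂ) = n * (n - 1) := by
  rcases n with _ | n
  · simp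
  · simp [Nat.descFactorial]; ring

theorem cast_desc_three (n : ℕ) : ((n.descFactorial 3 : ℕ) : ℂ) = n * (n - 1) * (n - 2) := by
  rcases n with _ | _ | n
  · simp
  · simp [Nat.descFactorial]
  · simp [Nat.descFactorial]; ring

theorem cast_desc_four (n : ℕ) :
    ((n.descFactorial 4 : ℕ) : ℂ) = n * (n - 1) * (n - 2) * (n - 3) := by
  rcases n with _ | _ | _ | n
  · simp
  · simp [Nat.descFactorial]
  · simp [Nat.descFactorial]
  · simp [Nat.descFactorial]; ring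

section

variable {G : Type*} [Group G] [Fintype G] {Ω : Type*} [Fintype Ω] [DecidableEq Ω] [MulAction G Ω]

theorem pretrans_of_le (h4 : IsMultiplyPretransitive G Ω 4) (hn : 4 ≤ Fintype.card Ω) (k : ℕ)
    (hk : k ≤ 4) : IsMultiplyPretransitive G Ω k := by
  haveI := h4
  apply isMultiplyPretransitive_of_le hk
  rw [Nat.card_eq_fintype_card]
  exact hn

theorem nonempty_emb (hn : 4 ≤ Fintype.card Ω) (k : ℕ) (hk : k ≤ 4) : Nonempty (Fin k ↪ Ω) := by
  apply Function.Embedding.nonempty_of_card_le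
  rw [Fintype.card_fin]
  omega

/-- factorial moments of the number of fixed points -/
theorem sum_desc (h4 : IsMultiplyPretransitive G Ω 4) (hn : 4 ≤ Fintype.card Ω) (k : ℕ)
    (hk : k ≤ 4) :
    ∑ g : G, (Nat.card (fixedBy Ω g)).descFactorial k = Fintype.card G := by
  haveI := pretrans_of_le h4 hn k hk
  haveI := nonempty_emb hn k hk
  have h := sum_tw (G := G) (Ω := Ω) (Fin k) (Equiv.refl _)
  simp only [Equiv.coe_refl] at h
  simp_rw [tw_id] at h
  exact h

/-- mixed moments: swap count times factorial moment -/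
theorem sum_sw_desc (h4 : IsMultiplyPretransitive G Ω 4) (hn : 4 ≤ Fintype.card Ω) (j : ℕ)
    (hj : 2 + j ≤ 4) :
    ∑ g : G, tw Ω (Fin 2) sw g * (Nat.card (fixedBy Ω g)).descFactorial j = Fintype.card G := by
  haveI := pretrans_of_le h4 hn (2 + j) hj
  haveI := nonempty_emb hn (2 + j) hj
  haveI : IsPretransitive G (Fin 2 ⊕ Fin j ↪ Ω) :=
    isPretransitive_emb_of_equiv (finSumFinEquiv (m := 2) (n := j)).symm
  haveI : Nonempty (Fin 2 ⊕ Fin j ↪ Ω) :=
    nonempty_emb_of_equiv (finSumFinEquiv (m := 2) (n := j)).symm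
  have h := sum_tw (G := G) (Ω := Ω) (Fin 2 ⊕ Fin j) (Equiv.sumCongr sw (Equiv.refl (Fin j)))
  have hcoe : ⇑(Equiv.sumCongr sw (Equiv.refl (Fin j))) = Sum.map sw id := by
    ext x
    cases x <;> rfl
  rw [hcoe] at h
  rw [← h]
  apply Finset.sum_congr rfl
  intro g _
  rw [tw_sum (Fin 2) (Fin j) sw id g (fun u v hu hv => sw_disj g u v hu hv), tw_id]

/-- second moment of the swap count -/
theorem sum_sw_sw (h4 : IsMultiplyPretransitive G Ω 4) (hn : 4 ≤ Fintype.card Ω) :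
    ∑ g : G, tw Ω (Fin 2) sw g * tw Ω (Fin 2) sw g = 3 * Fintype.card G := by
  haveI := pretrans_of_le h4 hn 4 le_rfl
  haveI := nonempty_emb hn 4 le_rfl
  haveI : IsPretransitive G (Fin 2 ⊕ Fin 2 ↪ Ω) :=
    isPretransitive_emb_of_equiv (finSumFinEquiv (m := 2) (n := 2)).symm
  haveI : Nonempty (Fin 2 ⊕ Fin 2 ↪ Ω) :=
    nonempty_emb_of_equiv (finSumFinEquiv (m := 2) (n := 2)).symm
  have h := sum_tw (G := G) (Ω := Ω) (Fin 2 ⊕ Fin 2) (Equiv.sumCongr sw sw)
  have hcoe : ⇑(Equiv.sumCongr sw sw) = Sum.map sw sw := by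
    ext x
    cases x <;> rfl
  rw [hcoe] at h
  have h0 := sum_sw_desc h4 hn 0 (by norm_num)
  simp only [Nat.descFactorial_zero, mul_one] at h0
  simp_rw [tw_sw_sq]
  rw [Finset.sum_add_distrib, ← Finset.mul_sum, h, h0]
  ring

/-- the number of fixed points, as a complex number -/
noncomputable def cF (Ω : Type*) [MulAction G Ω] (g : G) : ℂ := (Nat.card (fixedBy Ω g) : ℂ)

/-- the swap count, as a complex number -/
noncomputable def cB (Ω : Type*) [MulAction G Ω] (g : G) : ℂ := (tw Ω (Fin 2) sw g : ℂ)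

theorem sum_cdesc (h4 : IsMultiplyPretransitive G Ω 4) (hn : 4 ≤ Fintype.card Ω) (k : ℕ)
    (hk : k ≤ 4) :
    ∑ g : G, (((Nat.card (fixedBy Ω g)).descFactorial k : ℕ) : ℂ) = Fintype.card G := by
  rw [← Nat.cast_sum, sum_desc h4 hn k hk]

theorem sum_cF (h4 : IsMultiplyPretransitive G Ω 4) (hn : 4 ≤ Fintype.card Ω) :
    ∑ g : G, cF Ω g = Fintype.card G := by
  have h := sum_cdesc h4 hn 1 (by norm_num)
  simp_rw [cast_desc_one] at h
  exact h

theorem sum_cF2 (h4 : IsMultiplyPretransitive G Ω 4) (hn : 4 ≤ Fintype.card Ω) :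
    ∑ g : G, cF Ω g ^ 2 = 2 * Fintype.card G := by
  have h1 := sum_cdesc h4 hn 1 (by norm_num)
  have h2 := sum_cdesc h4 hn 2 (by norm_num)
  have e : ∀ g : G, cF Ω g ^ 2 = (((Nat.card (fixedBy Ω g)).descFactorial 2 : ℕ) : ℂ)
      + (((Nat.card (fixedBy Ω g)).descFactorial 1 : ℕ) : ℂ) := by
    intro g
    rw [cast_desc_one, cast_desc_two]
    unfold cF
    ring
  simp_rw [e]
  rw [Finset.sum_add_distrib, h1, h2]
  ring

theorem sum_cF3 (h4 : IsMultiplyPretransitive G Ω 4) (hn : 4 ≤ Fintype.card Ω) :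
    ∑ g : G, cF Ω g ^ 3 = 5 * Fintype.card G := by
  have h1 := sum_cdesc h4 hn 1 (by norm_num)
  have h2 := sum_cdesc h4 hn 2 (by norm_num)
  have h3 := sum_cdesc h4 hn 3 (by norm_num)
  have e : ∀ g : G, cF Ω g ^ 3 = (((Nat.card (fixedBy Ω g)).descFactorial 3 : ℕ) : ℂ)
      + 3 * (((Nat.card (fixedBy Ω g)).descFactorial 2 : ℕ) : ℂ)
      + (((Nat.card (fixedBy Ω g)).descFactorial 1 : ℕ) : ℂ) := by
    intro g
    rw [cast_desc_one, cast_desc_two, cast_desc_three]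
    unfold cF
    ring
  simp_rw [e]
  rw [Finset.sum_add_distrib, Finset.sum_add_distrib, ← Finset.mul_sum, h1, h2, h3]
  ring

theorem sum_cF4 (h4 : IsMultiplyPretransitive G Ω 4) (hn : 4 ≤ Fintype.card Ω) :
    ∑ g : G, cF Ω g ^ 4 = 15 * Fintype.card G := by
  have h1 := sum_cdesc h4 hn 1 (by norm_num)
  have h2 := sum_cdesc h4 hn 2 (by norm_num)
  have h3 := sum_cdesc h4 hn 3 (by norm_num)
  have h4' := sum_cdesc h4 hn 4 (by norm_num)
  have e : ∀ g : G, cF Ω g ^ 4 = (((Nat.card (fixedBy Ω g)).descFactorial 4 : ℕ) : ℂ)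
      + 6 * (((Nat.card (fixedBy Ω g)).descFactorial 3 : ℕ) : ℂ)
      + 7 * (((Nat.card (fixedBy Ω g)).descFactorial 2 : ℕ) : ℂ)
      + (((Nat.card (fixedBy Ω g)).descFactorial 1 : ℕ) : ℂ) := by
    intro g
    rw [cast_desc_one, cast_desc_two, cast_desc_three, cast_desc_four]
    unfold cF
    ring
  simp_rw [e]
  rw [Finset.sum_add_distrib, Finset.sum_add_distrib, Finset.sum_add_distrib, ← Finset.mul_sum,
    ← Finset.mul_sum, h1, h2, h3, h4']
  ring

theorem sum_cB (h4 : IsMultiplyPretransitive G Ω 4) (hn : 4 ≤ Fintype.card Ω) :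
    ∑ g : G, cB Ω g = Fintype.card G := by
  have h0 := sum_sw_desc h4 hn 0 (by norm_num)
  simp only [Nat.descFactorial_zero, mul_one] at h0
  unfold cB
  rw [← Nat.cast_sum, h0]

theorem sum_cBF (h4 : IsMultiplyPretransitive G Ω 4) (hn : 4 ≤ Fintype.card Ω) :
    ∑ g : G, cB Ω g * cF Ω g = Fintype.card G := by
  have h1 := sum_sw_desc h4 hn 1 (by norm_num)
  have e : ∀ g : G, cB Ω g * cF Ω g
      = ((tw Ω (Fin 2) sw g * (Nat.card (fixedBy Ω g)).descFactorial 1 : ℕ) : ℂ) := by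
    intro g
    rw [Nat.cast_mul, cast_desc_one]
    rfl
  simp_rw [e]
  rw [← Nat.cast_sum, h1]

theorem sum_cBF2 (h4 : IsMultiplyPretransitive G Ω 4) (hn : 4 ≤ Fintype.card Ω) :
    ∑ g : G, cB Ω g * cF Ω g ^ 2 = 2 * Fintype.card G := by
  have h1 := sum_sw_desc h4 hn 1 (by norm_num)
  have h2 := sum_sw_desc h4 hn 2 (by norm_num)
  have e : ∀ g : G, cB Ω g * cF Ω g ^ 2
      = ((tw Ω (Fin 2) sw g * (Nat.card (fixedBy Ω g)).descFactorial 2 : ℕ) : ℂ)
        + ((tw Ω (Fin 2) sw g * (Nat.card (fixedBy Ω g)).descFactorial 1 : ℕ) : ℂ) := by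
    intro g
    rw [Nat.cast_mul, Nat.cast_mul, cast_desc_one, cast_desc_two]
    unfold cB cF
    ring
  simp_rw [e]
  rw [Finset.sum_add_distrib, ← Nat.cast_sum, ← Nat.cast_sum, h1, h2]
  ring

theorem sum_cB2 (h4 : IsMultiplyPretransitive G Ω 4) (hn : 4 ≤ Fintype.card Ω) :
    ∑ g : G, cB Ω g ^ 2 = 3 * Fintype.card G := by
  have h := sum_sw_sw h4 hn
  have e : ∀ g : G, cB Ω g ^ 2 = ((tw Ω (Fin 2) sw g * tw Ω (Fin 2) sw g : ℕ) : ℂ) := by
    intro g
    rw [Nat.cast_mul, sq]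
    rfl
  simp_rw [e]
  rw [← Nat.cast_sum, h]
  push_cast
  ring

end

end Cfsg.Agent.Lib.Helper24.AltChar
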