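import Mathlib
import Cfsg.Agent.Lib.Helper24.AltCharTw
import Cfsg.Agent.Lib.Helper24.AltCharSw

/-!
# The permutation character on unordered pairs (helper24 library)

`2 * #(fixed 2-subsets of g) = #(fixed ordered pairs) + #(swapped ordered pairs)`.
-/

set_option autoImplicit false

namespace Cfsg.Agent.Lib.Helper24.AltChar

open MulAction

section

variable {G : Type*} [Group G] {Ω : Type*} [DecidableEq Ω] [MulAction G Ω]

theorem ofFinEmb_sw (u : Fin 2 ↪ Ω) :
    Set.powersetCard.ofFinEmb 2 Ω (sw.toEmbedding.trans u) = Set.powersetCard.ofFinEmb 2 Ω u := by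
  apply SetLike.ext
  intro b
  rw [Set.powersetCard.mem_ofFinEmb_iff_mem_range, Set.powersetCard.mem_ofFinEmb_iff_mem_range]
  constructor
  · rintro ⟨i, rfl⟩
    exact ⟨sw i, rfl⟩
  · rintro ⟨i, rfl⟩
    refine ⟨sw i, ?_⟩
    change u (sw (sw i)) = u i
    rw [sw_sw]

theorem ofFinEmb_eq_iff (u u' : Fin 2 ↪ Ω) :
    Set.powersetCard.ofFinEmb 2 Ω u' = Set.powersetCard.ofFinEmb 2 Ω u
      ↔ u' = u ∨ u' = sw.toEmbedding.trans u := by
  constructor
  · intro h
    have hmem : ∀ b, b ∈ Set.range u' ↔ b ∈ Set.range u := by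
      intro b
      rw [← Set.powersetCard.mem_ofFinEmb_iff_mem_range, ← Set.powersetCard.mem_ofFinEmb_iff_mem_range,
        h]
    obtain ⟨i, hi⟩ := (hmem (u' 0)).mp ⟨0, rfl⟩
    obtain ⟨j, hj⟩ := (hmem (u' 1)).mp ⟨1, rfl⟩
    have hij : j ≠ i := by
      intro hji
      rw [hji, hi] at hj
      have := u'.injective hj
      exact absurd this (by decide)
    have hj' : j = sw i := by
      rcases fin2_cases i j with h1 | h1
      · exact absurd h1 hij
      · exact h1
    rw [hj'] at hj
    rcases fin2_cases 0 i with h0 | h0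
    · left
      ext k
      rcases fin2_cases 0 k with hk | hk
      · rw [hk, ← hi, h0]
      · rw [hk]
        have : sw 0 = (1 : Fin 2) := by decide
        rw [this, ← hj, h0, this]
    · right
      ext k
      change u' k = u (sw k)
      rcases fin2_cases 0 k with hk | hk
      · rw [hk, ← hi, h0]
      · rw [hk]
        have : sw 0 = (1 : Fin 2) := by decide
        rw [this, ← hj, h0, this]
  · rintro (h | h)
    · rw [h]
    · rw [h, ofFinEmb_sw]

/-- each 2-subset is the range of exactly two embeddings of `Fin 2` -/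
theorem card_fiber_ofFinEmb [Fintype Ω] (s : Set.powersetCard Ω 2) :
    Nat.card {u : Fin 2 ↪ Ω // Set.powersetCard.ofFinEmb 2 Ω u = s} = 2 := by
  classical
  let e : {u : Fin 2 ↪ Ω // Set.powersetCard.ofFinEmb 2 Ω u = s} ≃ (Fin 2 ↪ {x // x ∈ (s : Finset Ω)}) :=
    { toFun := fun u => ⟨fun i => ⟨u.1 i, by
          have h1 : u.1 i ∈ Set.powersetCard.ofFinEmb 2 Ω u.1 := by
            rw [Set.powersetCard.mem_ofFinEmb_iff_mem_range]
            exact ⟨i, rfl⟩
          rw [u.2] at h1
          exact h1⟩, by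
        intro i j hij
        apply u.1.injective
        exact congrArg Subtype.val hij⟩
      invFun := fun e => ⟨e.trans (Function.Embedding.subtype _), by
        rw [Set.powersetCard.eq_iff_subset]
        intro b hb
        have hb' : b ∈ Set.powersetCard.ofFinEmb 2 Ω (e.trans (Function.Embedding.subtype _)) := hb
        rw [Set.powersetCard.mem_ofFinEmb_iff_mem_range] at hb'
        obtain ⟨i, rfl⟩ := hb'
        exact (e i).2⟩
      left_inv := fun u => by ext i; rfl
      right_inv := fun e => by ext i; rfl }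
  rw [Nat.card_congr e, Nat.card_eq_fintype_card, Fintype.card_embedding_eq, Fintype.card_coe,
    Fintype.card_fin, Set.powersetCard.card_eq]
  rfl

theorem two_mul_card_fixedBy_pairs [Fintype Ω] (g : G) :
    2 * Nat.card (fixedBy (Set.powersetCard Ω 2) g) = tw Ω (Fin 2) id g + tw Ω (Fin 2) sw g := by
  classical
  haveI : Fintype (fixedBy (Set.powersetCard Ω 2) g) := Fintype.ofFinite _
  have hsmul : ∀ u : Fin 2 ↪ Ω, g • Set.powersetCard.ofFinEmb 2 Ω u
      = Set.powersetCard.ofFinEmb 2 Ω (g • u) := by
    intro u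
    exact ((Set.powersetCard.mulActionHom_of_embedding G Ω 2).map_smul g u).symm
  -- count the embeddings whose range is fixed, in two ways
  have e1 : Nat.card {u : Fin 2 ↪ Ω // Set.powersetCard.ofFinEmb 2 Ω u
        ∈ fixedBy (Set.powersetCard Ω 2) g}
      = 2 * Nat.card (fixedBy (Set.powersetCard Ω 2) g) := by
    rw [← Nat.card_congr (Equiv.sigmaSubtypeFiberEquivSubtype (Set.powersetCard.ofFinEmb 2 Ω)
      (p := fun u => Set.powersetCard.ofFinEmb 2 Ω u ∈ fixedBy (Set.powersetCard Ω 2) g)
      (q := fun s => s ∈ fixedBy (Set.powersetCard Ω 2) g) (fun u => Iff.rfl))]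
    rw [Nat.card_sigma]
    simp_rw [card_fiber_ofFinEmb]
    rw [Finset.sum_const, Finset.card_univ, smul_eq_mul, Nat.card_eq_fintype_card, mul_comm]
  have e2 : Nat.card {u : Fin 2 ↪ Ω // Set.powersetCard.ofFinEmb 2 Ω u
        ∈ fixedBy (Set.powersetCard Ω 2) g}
      = tw Ω (Fin 2) id g + tw Ω (Fin 2) sw g := by
    have hiff : ∀ u : Fin 2 ↪ Ω, Set.powersetCard.ofFinEmb 2 Ω u ∈ fixedBy (Set.powersetCard Ω 2) g
        ↔ ((∀ i, g • u i = u (id i)) ∨ (∀ i, g • u i = u (sw i))) := by
      intro u
      rw [MulAction.mem_fixedBy, hsmul, ofFinEmb_eq_iff, tw_cond_iff sw g u]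
      have : (∀ i, g • u i = u (id i)) ↔ g • u = u := by
        constructor
        · intro h
          ext i
          rw [Function.Embedding.smul_apply]
          exact h i
        · intro h i
          have := DFunLike.congr_fun h i
          rw [Function.Embedding.smul_apply] at this
          exact this
      rw [this]
    rw [Nat.card_congr (Equiv.subtypeEquivRight hiff)]
    unfold tw
    rw [Nat.card_eq_fintype_card, Nat.card_eq_fintype_card, Nat.card_eq_fintype_card]
    apply Fintype.card_subtype_or_disjoint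
    intro r hrp hrq u hru
    have h1 := hrp u hru
    have h2 := hrq u hru
    have h3 : u (sw 0) = u 0 := by
      rw [← h2 0, h1 0, id]
    exact sw_ne 0 (u.injective h3)
  rw [← e1, e2]

end

end Cfsg.Agent.Lib.Helper24.AltChar
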