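import Mathlib
import Cfsg.Prelude.Def_Characters
import Cfsg.Agent.Lib.Helper2.TwoTransitive
import Cfsg.Agent.Lib.Helper11.GenChar
import Cfsg.Agent.Lib.Helper24.AltCharTw
import Cfsg.Agent.Lib.Helper24.AltCharSw
import Cfsg.Agent.Lib.Helper24.AltCharMom
import Cfsg.Agent.Lib.Helper24.AltCharPair

/-!
# Two irreducible characters of a 4-transitive group (helper24 library)

For `G` acting 4-transitively on `Ω` (`|Ω| ≥ 4`), with `F` the number of fixed points and `B` the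
number of swapped ordered pairs of `g`:
`chi2 = (F(F-1) + B)/2 - F` (the character `(n-2,2)` of the symmetric group) and
`chi3 = (F(F-1) - B)/2 - F + 1` (the character `(n-2,1,1)`) are irreducible characters of `G`.
-/

set_option autoImplicit false

namespace Cfsg.Agent.Lib.Helper24.AltChar

open MulAction Cfsg.Agent.Lib.Helper2 Cfsg.Agent.Lib.Helper11
open scoped ComplexConjugate

section

variable {G : Type*} [Group G] [Fintype G]

/-- the permutation character of a transitive action is a character -/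
theorem permChar_isCharacter (X : Type*) [MulAction G X] [Finite X] [IsPretransitive G X]
    [Nonempty X] : Cfsg.IsCharacter G (fun g => (Nat.card (fixedBy X g) : ℂ)) := by
  obtain ⟨x₀⟩ := (inferInstance : Nonempty X)
  rw [permChar_eq_indFun X x₀]
  exact indFun_isCharacter _ _ (IsIrrCharacter.isCharacter isIrrCharacter_one)

variable (Ω : Type*) [MulAction G Ω]

/-- the character `(n-2,2)` -/
noncomputable def chi2 (g : G) : ℂ := ((tw Ω (Fin 2) id g : ℂ) + cB Ω g) / 2 - cF Ω g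

/-- the character `(n-2,1,1)` -/
noncomputable def chi3 (g : G) : ℂ := ((tw Ω (Fin 2) id g : ℂ) - cB Ω g) / 2 - cF Ω g + 1

variable {Ω}

theorem chi2_eq [Finite Ω] (g : G) :
    chi2 Ω g = (cF Ω g ^ 2 - 3 * cF Ω g + cB Ω g) / 2 := by
  unfold chi2
  rw [tw_id, cast_desc_two]
  unfold cF
  ring

theorem chi3_eq [Finite Ω] (g : G) :
    chi3 Ω g = (cF Ω g ^ 2 - 3 * cF Ω g + 2 - cB Ω g) / 2 := by
  unfold chi3
  rw [tw_id, cast_desc_two]
  unfold cF
  ring

theorem conj_cF (g : G) : conj (cF Ω g) = cF Ω g := by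
  unfold cF; simp

theorem conj_cB (g : G) : conj (cB Ω g) = cB Ω g := by
  unfold cB; simp

theorem conj_chi2 [Finite Ω] (g : G) : conj (chi2 Ω g) = chi2 Ω g := by
  rw [chi2_eq]
  simp [conj_cF, conj_cB, Complex.conj_ofNat]

theorem conj_chi3 [Finite Ω] (g : G) : conj (chi3 Ω g) = chi3 Ω g := by
  rw [chi3_eq]
  simp [conj_cF, conj_cB, Complex.conj_ofNat]

theorem cB_one : cB Ω (1 : G) = 0 := by
  unfold cB tw
  have : IsEmpty {w : Fin 2 ↪ Ω // ∀ i, (1 : G) • w i = w (sw i)} := by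
    constructor
    rintro ⟨w, hw⟩
    have h := hw 0
    rw [one_smul] at h
    exact sw_ne 0 (w.injective h.symm)
  rw [Nat.card_of_isEmpty, Nat.cast_zero]

theorem cF_one : cF Ω (1 : G) = (Nat.card Ω : ℂ) := by
  unfold cF
  congr 1
  rw [MulAction.fixedBy_one_eq_univ]
  exact Nat.card_congr (Equiv.Set.univ Ω)

variable [Fintype Ω] [DecidableEq Ω]

theorem chi2_isGenChar (h4 : IsMultiplyPretransitive G Ω 4) (hn : 4 ≤ Fintype.card Ω) :
    Cfsg.IsGeneralizedCharacter G (chi2 Ω) := by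
  haveI h1 := pretrans_of_le h4 hn 1 (by norm_num)
  haveI h2 := pretrans_of_le h4 hn 2 (by norm_num)
  haveI : IsPretransitive G Ω := by
    rw [← MulAction.is_one_pretransitive_iff]; exact h1
  haveI : Nonempty Ω := by
    apply Fintype.card_pos_iff.mp; omega
  haveI : IsPretransitive G (Set.powersetCard Ω 2) :=
    Set.powersetCard.isPretransitive_of_isMultiplyPretransitive G h2
  haveI : Nonempty (Set.powersetCard Ω 2) := by
    obtain ⟨u⟩ := nonempty_emb hn 2 (by norm_num)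
    exact ⟨Set.powersetCard.ofFinEmb 2 Ω u⟩
  refine ⟨fun g => (Nat.card (fixedBy (Set.powersetCard Ω 2) g) : ℂ),
    fun g => (Nat.card (fixedBy Ω g) : ℂ), permChar_isCharacter _, permChar_isCharacter _, ?_⟩
  ext g
  have h := two_mul_card_fixedBy_pairs (Ω := Ω) g
  have hc : (2 : ℂ) * (Nat.card (fixedBy (Set.powersetCard Ω 2) g) : ℂ)
      = (tw Ω (Fin 2) id g : ℂ) + (tw Ω (Fin 2) sw g : ℂ) := by
    exact_mod_cast h
  change chi2 Ω g = (Nat.card (fixedBy (Set.powersetCard Ω 2) g) : ℂ) - (Nat.card (fixedBy Ω g) : ℂ)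
  unfold chi2 cB cF
  rw [← hc]
  ring

theorem chi3_isGenChar (h4 : IsMultiplyPretransitive G Ω 4) (hn : 4 ≤ Fintype.card Ω) :
    Cfsg.IsGeneralizedCharacter G (chi3 Ω) := by
  haveI h1 := pretrans_of_le h4 hn 1 (by norm_num)
  haveI h2 := pretrans_of_le h4 hn 2 (by norm_num)
  haveI : IsPretransitive G Ω := by
    rw [← MulAction.is_one_pretransitive_iff]; exact h1
  haveI : Nonempty Ω := by
    apply Fintype.card_pos_iff.mp; omega
  haveI : IsPretransitive G (Set.powersetCard Ω 2) :=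
    Set.powersetCard.isPretransitive_of_isMultiplyPretransitive G h2
  haveI : Nonempty (Set.powersetCard Ω 2) := by
    obtain ⟨u⟩ := nonempty_emb hn 2 (by norm_num)
    exact ⟨Set.powersetCard.ofFinEmb 2 Ω u⟩
  haveI : IsPretransitive G (Fin 2 ↪ Ω) := h2
  haveI : Nonempty (Fin 2 ↪ Ω) := nonempty_emb hn 2 (by norm_num)
  refine ⟨(fun g => (Nat.card (fixedBy (Fin 2 ↪ Ω) g) : ℂ)) + (fun _ => (1 : ℂ)),
    (fun g => (Nat.card (fixedBy (Set.powersetCard Ω 2) g) : ℂ))
      + (fun g => (Nat.card (fixedBy Ω g) : ℂ)),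
    isCharacter_add (permChar_isCharacter _) (IsIrrCharacter.isCharacter isIrrCharacter_one),
    isCharacter_add (permChar_isCharacter _) (permChar_isCharacter _), ?_⟩
  ext g
  have h := two_mul_card_fixedBy_pairs (Ω := Ω) g
  have hc : (2 : ℂ) * (Nat.card (fixedBy (Set.powersetCard Ω 2) g) : ℂ)
      = (tw Ω (Fin 2) id g : ℂ) + (tw Ω (Fin 2) sw g : ℂ) := by
    exact_mod_cast h
  change chi3 Ω g = ((Nat.card (fixedBy (Fin 2 ↪ Ω) g) : ℂ) + 1)
    - ((Nat.card (fixedBy (Set.powersetCard Ω 2) g) : ℂ) + (Nat.card (fixedBy Ω g) : ℂ))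
  rw [card_fixedBy_emb]
  unfold chi3 cB cF
  have hc' : (Nat.card (fixedBy (Set.powersetCard Ω 2) g) : ℂ)
      = ((tw Ω (Fin 2) id g : ℂ) + (tw Ω (Fin 2) sw g : ℂ)) / 2 := by
    rw [← hc]; ring
  rw [hc']
  ring

theorem card_ne_zero' : (Fintype.card G : ℂ) ≠ 0 := by
  exact_mod_cast Fintype.card_ne_zero

theorem chi2_norm (h4 : IsMultiplyPretransitive G Ω 4) (hn : 4 ≤ Fintype.card Ω) :
    Cfsg.classInner (chi2 Ω) (chi2 (G := G) Ω) = 1 := by
  rw [classInner_def]
  have e : ∀ g : G, chi2 Ω g * conj (chi2 Ω g)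
      = (cF Ω g ^ 4 + 9 * cF Ω g ^ 2 + cB Ω g ^ 2 - 6 * cF Ω g ^ 3 + 2 * (cB Ω g * cF Ω g ^ 2)
        - 6 * (cB Ω g * cF Ω g)) / 4 := by
    intro g
    rw [conj_chi2, chi2_eq]
    ring
  simp_rw [e]
  rw [← Finset.sum_div, Finset.sum_sub_distrib, Finset.sum_add_distrib, Finset.sum_sub_distrib,
    Finset.sum_add_distrib, Finset.sum_add_distrib, ← Finset.mul_sum, ← Finset.mul_sum,
    ← Finset.mul_sum, ← Finset.mul_sum, sum_cF4 h4 hn, sum_cF2 h4 hn, sum_cB2 h4 hn,
    sum_cF3 h4 hn, sum_cBF2 h4 hn, sum_cBF h4 hn, Nat.card_eq_fintype_card]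
  have := card_ne_zero' (G := G)
  field_simp
  ring

theorem chi3_norm (h4 : IsMultiplyPretransitive G Ω 4) (hn : 4 ≤ Fintype.card Ω) :
    Cfsg.classInner (chi3 Ω) (chi3 (G := G) Ω) = 1 := by
  rw [classInner_def]
  have e : ∀ g : G, chi3 Ω g * conj (chi3 Ω g)
      = (cF Ω g ^ 4 + 13 * cF Ω g ^ 2 + cB Ω g ^ 2 - 6 * cF Ω g ^ 3 - 2 * (cB Ω g * cF Ω g ^ 2)
        + 6 * (cB Ω g * cF Ω g) - 12 * cF Ω g - 4 * cB Ω g + 4) / 4 := by
    intro g
    rw [conj_chi3, chi3_eq]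
    ring
  simp_rw [e]
  rw [← Finset.sum_div, Finset.sum_add_distrib, Finset.sum_sub_distrib, Finset.sum_sub_distrib,
    Finset.sum_add_distrib, Finset.sum_sub_distrib, Finset.sum_sub_distrib,
    Finset.sum_add_distrib, Finset.sum_add_distrib, ← Finset.mul_sum, ← Finset.mul_sum,
    ← Finset.mul_sum, ← Finset.mul_sum, ← Finset.mul_sum, ← Finset.mul_sum,
    sum_cF4 h4 hn, sum_cF2 h4 hn, sum_cB2 h4 hn,
    sum_cF3 h4 hn, sum_cBF2 h4 hn, sum_cBF h4 hn, sum_cF h4 hn, sum_cB h4 hn,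
    Nat.card_eq_fintype_card]
  simp only [Finset.sum_const, Finset.card_univ, nsmul_eq_mul]
  have := card_ne_zero' (G := G)
  field_simp
  ring

theorem chi2_one : chi2 Ω (1 : G) = ((Fintype.card Ω : ℂ) ^ 2 - 3 * Fintype.card Ω) / 2 := by
  rw [chi2_eq, cB_one, cF_one, Nat.card_eq_fintype_card]
  ring

theorem chi3_one : chi3 Ω (1 : G) = ((Fintype.card Ω : ℂ) ^ 2 - 3 * Fintype.card Ω + 2) / 2 := by
  rw [chi3_eq, cB_one, cF_one, Nat.card_eq_fintype_card]
  ring

/-- `chi2` is an irreducible character of a 4-transitive group -/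
theorem chi2_isIrr (h4 : IsMultiplyPretransitive G Ω 4) (hn : 4 ≤ Fintype.card Ω) :
    Cfsg.IsIrrCharacter G (chi2 Ω) := by
  rcases IsGeneralizedCharacter.isSignedIrr_of_norm_one (chi2_isGenChar h4 hn) (chi2_norm h4 hn)
    with h | h
  · exact h
  · exfalso
    obtain ⟨d, hd, hd1⟩ := IsIrrCharacter.apply_one h
    rw [Pi.neg_apply, chi2_one] at hd1
    have h2 := congrArg Complex.re hd1
    have hre : (-(((Fintype.card Ω : ℂ) ^ 2 - 3 * Fintype.card Ω) / 2)).re
        = -(((Fintype.card Ω : ℝ) ^ 2 - 3 * Fintype.card Ω) / 2) := by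
      have : (-(((Fintype.card Ω : ℂ) ^ 2 - 3 * Fintype.card Ω) / 2))
          = ((-(((Fintype.card Ω : ℝ) ^ 2 - 3 * Fintype.card Ω) / 2) : ℝ) : ℂ) := by
        push_cast; ring
      rw [this, Complex.ofReal_re]
    rw [hre, Complex.natCast_re] at h2
    have h3 : (4 : ℝ) ≤ Fintype.card Ω := by exact_mod_cast hn
    have h4' : (1 : ℝ) ≤ d := by exact_mod_cast hd
    nlinarith

/-- `chi3` is an irreducible character of a 4-transitive group -/
theorem chi3_isIrr (h4 : IsMultiplyPretransitive G Ω 4) (hn : 4 ≤ Fintype.card Ω) :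
    Cfsg.IsIrrCharacter G (chi3 Ω) := by
  rcases IsGeneralizedCharacter.isSignedIrr_of_norm_one (chi3_isGenChar h4 hn) (chi3_norm h4 hn)
    with h | h
  · exact h
  · exfalso
    obtain ⟨d, hd, hd1⟩ := IsIrrCharacter.apply_one h
    rw [Pi.neg_apply, chi3_one] at hd1
    have h2 := congrArg Complex.re hd1
    have hre : (-(((Fintype.card Ω : ℂ) ^ 2 - 3 * Fintype.card Ω + 2) / 2)).re
        = -(((Fintype.card Ω : ℝ) ^ 2 - 3 * Fintype.card Ω + 2) / 2) := by
      have : (-(((Fintype.card Ω : ℂ) ^ 2 - 3 * Fintype.card Ω + 2) / 2))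
          = ((-(((Fintype.card Ω : ℝ) ^ 2 - 3 * Fintype.card Ω + 2) / 2) : ℝ) : ℂ) := by
        push_cast; ring
      rw [this, Complex.ofReal_re]
    rw [hre, Complex.natCast_re] at h2
    have h3 : (4 : ℝ) ≤ Fintype.card Ω := by exact_mod_cast hn
    have h4' : (1 : ℝ) ≤ d := by exact_mod_cast hd
    nlinarith

end

end Cfsg.Agent.Lib.Helper24.AltChar
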