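import Mathlib
import Cfsg.Prelude.Def_Characters
import Cfsg.Agent.Lib.Helper24.AltCharIrr

/-!
# Values of `chi2`, `chi3` and elements of the alternating group with given cycle type
(helper24 library)
-/

set_option autoImplicit false

namespace Cfsg.Agent.Lib.Helper24.AltChar

open MulAction

section Values

variable {G : Type*} [Group G] {Ω : Type*} [MulAction G Ω]

/-- an element without 2-cycles swaps no pair -/
theorem cB_eq_zero_of_noSwap (g : G) (h : ∀ a : Ω, g • g • a = a → g • a = a) : cB Ω g = 0 := by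
  unfold cB tw
  have : IsEmpty {w : Fin 2 ↪ Ω // ∀ i, g • w i = w (sw i)} := by
    constructor
    rintro ⟨w, hw⟩
    have h1 := hw 0
    have h2 := hw (sw 0)
    rw [sw_sw] at h2
    have h3 : g • g • w 0 = w 0 := by rw [h1, h2]
    have h4 := h (w 0) h3
    rw [h1] at h4
    exact sw_ne 0 (w.injective h4)
  rw [Nat.card_of_isEmpty, Nat.cast_zero]

theorem chi2_eq_zero_of_noSwap [Fintype G] [Finite Ω] (g : G)
    (h : ∀ a : Ω, g • g • a = a → g • a = a)
    (hf : Nat.card (fixedBy Ω g) = 0 ∨ Nat.card (fixedBy Ω g) = 3) : chi2 Ω g = 0 := by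
  rw [chi2_eq, cB_eq_zero_of_noSwap g h]
  unfold cF
  rcases hf with hf | hf <;> rw [hf] <;> norm_num

theorem chi3_eq_zero_of_noSwap [Fintype G] [Finite Ω] (g : G)
    (h : ∀ a : Ω, g • g • a = a → g • a = a)
    (hf : Nat.card (fixedBy Ω g) = 1 ∨ Nat.card (fixedBy Ω g) = 2) : chi3 Ω g = 0 := by
  rw [chi3_eq, cB_eq_zero_of_noSwap g h]
  unfold cF
  rcases hf with hf | hf <;> rw [hf] <;> norm_num

end Values

section Perm

variable {α : Type*} [Fintype α] [DecidableEq α]

theorem card_fixedBy_perm (g : Equiv.Perm α) :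
    Nat.card (fixedBy α g) = Fintype.card α - g.cycleType.sum := by
  rw [← Equiv.Perm.card_fixedPoints, ← Nat.card_eq_fintype_card]
  apply Nat.card_congr
  refine Equiv.subtypeEquivRight ?_
  intro x
  rw [MulAction.mem_fixedBy, Function.mem_fixedPoints, Function.IsFixedPt, Equiv.Perm.smul_def]

theorem noSwap_of_two_notMem (g : Equiv.Perm α) (h2 : 2 ∉ g.cycleType) :
    ∀ a : α, g • g • a = a → g • a = a := by
  intro a ha
  rw [Equiv.Perm.smul_def, Equiv.Perm.smul_def] at ha
  rw [Equiv.Perm.smul_def]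
  by_contra hne
  apply h2
  have hc : (g.cycleOf a).IsCycle := Equiv.Perm.isCycle_cycleOf g hne
  have hca : g.cycleOf a a ≠ a := by
    rw [Equiv.Perm.cycleOf_apply_self]; exact hne
  have hsq : ((g.cycleOf a) ^ 2) a = a := by
    rw [Equiv.Perm.cycleOf_pow_apply_self, pow_two, Equiv.Perm.mul_apply]
    exact ha
  have h1 : (g.cycleOf a) ^ 2 = 1 := (hc.pow_eq_one_iff' hca).mpr hsq
  have h3 : orderOf (g.cycleOf a) ∣ 2 := orderOf_dvd_of_pow_eq_one h1
  rw [hc.orderOf] at h3
  have h4 : 2 ≤ (g.cycleOf a).support.card := hc.two_le_card_support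
  have h5 : (g.cycleOf a).support.card = 2 := le_antisymm (Nat.le_of_dvd (by norm_num) h3) h4
  have hmem : g.cycleOf a ∈ g.cycleFactorsFinset :=
    Equiv.Perm.cycleOf_mem_cycleFactorsFinset_iff.mpr (Equiv.Perm.mem_support.mpr hne)
  rw [Equiv.Perm.cycleType_def, Multiset.mem_map]
  exact ⟨g.cycleOf a, hmem, h5⟩

/-- elements of the alternating group with a prescribed even cycle type -/
theorem exists_alt_cycleType (m : Multiset ℕ) (hsum : m.sum ≤ Fintype.card α)
    (h2 : ∀ a ∈ m, 2 ≤ a) (heven : Even (m.sum + Multiset.card m)) :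
    ∃ x : alternatingGroup α, (x : Equiv.Perm α).cycleType = m := by
  obtain ⟨g, hg⟩ := (Equiv.Perm.exists_with_cycleType_iff α).mpr ⟨hsum, h2⟩
  have hs : Equiv.Perm.sign g = 1 := by
    rw [Equiv.Perm.sign_of_cycleType, hg]
    exact heven.neg_one_pow
  exact ⟨⟨g, Equiv.Perm.mem_alternatingGroup.mpr hs⟩, hg⟩

theorem orderOf_of_cycleType (g : Equiv.Perm α) (N : ℕ) (hN : N ∈ g.cycleType)
    (hdvd : ∀ a ∈ g.cycleType, a ∣ N) : orderOf g = N := by
  rw [← Equiv.Perm.lcm_cycleType]
  apply Nat.dvd_antisymm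
  · exact Multiset.lcm_dvd.mpr hdvd
  · exact Multiset.dvd_lcm hN

end Perm

end Cfsg.Agent.Lib.Helper24.AltChar
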