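import Mathlib
import Cfsg.Prelude.Def_GeometricClasses

/-!
# Prime-dimension corollaries of the hub S5630 (helper24): vocabulary

`Hub n F` is the statement of S5630 (Aschbacher's theorem for `SL_n(F)`) at a fixed `n` and `F`,
used as an explicit hypothesis by the case analysis for `n` prime.
-/

set_option autoImplicit false

namespace Cfsg.Agent.Lib.Helper24.AschPrime

open Cfsg Cfsg.Geo

/-- the conclusion of the hub S5630 for all subgroups of `SL_n(F)` not covering `PSL_n(F)` -/
def Hub (n : ℕ) (F : Type*) [Field F] [Fintype F] : Prop :=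
  ∀ H : Subgroup (Matrix.GeneralLinearGroup (Fin n) F), H ≤ specialLinear (Fin n) F →
    H ⊔ (scalars (Fin n) F ⊓ specialLinear (Fin n) F) ≠ specialLinear (Fin n) F →
    (∃ M : Subgroup (Matrix.GeneralLinearGroup (Fin n) F), InLinearClass n F M ∧ H ≤ M) ∨
      InLinearResidualClass H

/-- the arithmetic side condition of the class-6 member in prime dimension `n`:
`|F| = p ^ e` with `e` odd the multiplicative order of `p` modulo `n` -/
def C6Arith (n : ℕ) (F : Type*) [Field F] [Fintype F] : Prop :=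
  ∃ p e : ℕ, p.Prime ∧ CharP F p ∧ Fintype.card F = p ^ e ∧ Odd e ∧ n ∣ p ^ e - 1 ∧
    ∀ d : ℕ, 0 < d → d < e → ¬ n ∣ p ^ d - 1

/-- the eight-way conclusion for a maximal subgroup of `SL_n(F)`, `n` prime, with the class-6 side
condition left in the generic form `C6Arith n F` -/
def PrimeList (n : ℕ) (F : Type*) [Field F] [Fintype F]
    (H : Subgroup (Matrix.GeneralLinearGroup (Fin n) F)) : Prop :=
  (∃ W : Submodule F (Fin n → F), W ≠ ⊥ ∧ W ≠ ⊤ ∧
      H = subspaceStabilizer W ⊓ specialLinear (Fin n) F) ∨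
  (5 ≤ Fintype.card F ∧ ∃ D : Fin n → Submodule F (Fin n → F), IsMDecomposition 1 D ∧
      H = decompositionStabilizer D ⊓ specialLinear (Fin n) F) ∨
  (∃ K : Subalgebra F (Matrix (Fin n) (Fin n) F), IsFieldSubalgebra n K ∧
      H = subalgebraNormalizer K ⊓ specialLinear (Fin n) F) ∨
  (∃ (F₀ : Subfield F) (r : ℕ) (P : Matrix.GeneralLinearGroup (Fin n) F), r.Prime ∧
      Fintype.card F = Nat.card F₀ ^ r ∧ H = subfieldSubgroup F₀ P ⊓ specialLinear (Fin n) F) ∨
  (C6Arith n F ∧ ∃ R : Subgroup (Matrix.GeneralLinearGroup (Fin n) F),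
      IsLinearSymplecticTypeData n R ∧ H = subgroupNormalizer R ⊓ specialLinear (Fin n) F) ∨
  (Odd (Fintype.card F) ∧ ∃ Q : (Fin n → F) → F, IsNondegenerateQuadraticForm Q ∧
      H = quadSimilarityGroup Q ⊓ specialLinear (Fin n) F) ∨
  (∃ (σ : F ≃+* F) (f : (Fin n → F) → (Fin n → F) → F), IsUnitaryForm σ f ∧
      H = similarityGroup f ⊓ specialLinear (Fin n) F) ∨
  InLinearResidualClass H

end Cfsg.Agent.Lib.Helper24.AschPrime
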