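import Mathlib
import Cfsg.Prelude.Def_GeometricClasses
import Cfsg.Agent.Lib.Helper24.AschPrimeDefs

/-!
# Prime-dimension corollaries of the hub S5630 (helper24): the class-6 arithmetic for n = 5, 7, 11
-/

set_option autoImplicit false

namespace Cfsg.Agent.Lib.Helper24.AschPrime

open Cfsg Cfsg.Geo

theorem dvd_pow_sub_one_iff (n p d : ℕ) (hn : 2 ≤ n) (hp : 0 < p) :
    n ∣ p ^ d - 1 ↔ (p % n) ^ d % n = 1 := by
  have hpos : 0 < p ^ d := pos_of_ne_zero (pow_ne_zero d hp.ne')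
  rw [← Nat.pow_mod]
  constructor
  · intro h
    obtain ⟨k, hk⟩ := h
    have : p ^ d = 1 + n * k := by omega
    rw [this, Nat.add_mul_mod_self_left, Nat.mod_eq_of_lt (by omega)]
  · intro h
    have h1 := Nat.div_add_mod (p ^ d) n
    rw [h] at h1
    exact ⟨p ^ d / n, by omega⟩

/-- the multiplicative order data of `C6Arith`, in residues -/
theorem c6Arith_residue {F : Type*} [Field F] [Fintype F] (n : ℕ) (hn : 2 ≤ n) (h : C6Arith n F) :
    ∃ p e : ℕ, p.Prime ∧ CharP F p ∧ Fintype.card F = p ^ e ∧ Odd e ∧ (p % n) ^ e % n = 1 ∧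
      ∀ d : ℕ, 0 < d → d < e → (p % n) ^ d % n ≠ 1 := by
  obtain ⟨p, e, hp, hchar, hcard, he, hdvd, hmin⟩ := h
  refine ⟨p, e, hp, hchar, hcard, he, (dvd_pow_sub_one_iff n p e hn hp.pos).1 hdvd, ?_⟩
  intro d hd hde hcon
  exact hmin d hd hde ((dvd_pow_sub_one_iff n p d hn hp.pos).2 hcon)

theorem arith5 {F : Type*} [Field F] [Fintype F] (h : C6Arith 5 F) :
    ∃ p : ℕ, p.Prime ∧ Fintype.card F = p ∧ (p % 5 = 1) := by
  obtain ⟨p, e, hp, _, hcard, he, h1, hmin⟩ := c6Arith_residue 5 (by norm_num) h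
  have ha : p % 5 < 5 := Nat.mod_lt _ (by norm_num)
  generalize hpa : p % 5 = a at ha h1 hmin
  have he4 : e ≤ 4 := by
    by_contra hlt
    have h4 := hmin 4 (by norm_num) (by omega)
    have hane : a ≠ 0 := by
      rintro rfl
      obtain ⟨k, rfl⟩ := he
      simp at h1
    interval_cases a <;> simp_all
  have key : ∀ a < 5, ∀ e < 5, (e % 2 = 1 ∧ a ^ e % 5 = 1 ∧ (∀ d < e, 0 < d → a ^ d % 5 ≠ 1)) →
      e = 1 ∧ a = 1 := by decide
  obtain ⟨rfl, rfl⟩ := key a ha e (by omega) ⟨Nat.odd_iff.1 he, h1, fun d hd hd0 => hmin d hd0 hd⟩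
  exact ⟨p, hp, by rw [hcard, pow_one], hpa⟩

set_option synthInstance.maxSize 2000 in
set_option synthInstance.maxHeartbeats 200000 in
theorem arith7 {F : Type*} [Field F] [Fintype F] (h : C6Arith 7 F) :
    ∃ p : ℕ, p.Prime ∧ CharP F p ∧ ((Fintype.card F = p ∧ p % 7 = 1) ∨
      (Fintype.card F = p ^ 3 ∧ (p % 7 = 2 ∨ p % 7 = 4))) := by
  obtain ⟨p, e, hp, hchar, hcard, he, h1, hmin⟩ := c6Arith_residue 7 (by norm_num) h
  have ha : p % 7 < 7 := Nat.mod_lt _ (by norm_num)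
  generalize hpa : p % 7 = a at ha h1 hmin
  have he6 : e ≤ 6 := by
    by_contra hlt
    have h6 := hmin 6 (by norm_num) (by omega)
    have hane : a ≠ 0 := by
      rintro rfl
      obtain ⟨k, rfl⟩ := he
      simp at h1
    interval_cases a <;> simp_all
  have key : ∀ a < 7, ∀ e < 7, (e % 2 = 1 ∧ a ^ e % 7 = 1 ∧ (∀ d < e, 0 < d → a ^ d % 7 ≠ 1)) →
      (e = 1 ∧ a = 1) ∨ (e = 3 ∧ (a = 2 ∨ a = 4)) := by decide
  rcases key a ha e (by omega) ⟨Nat.odd_iff.1 he, h1, fun d hd hd0 => hmin d hd0 hd⟩ with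
    ⟨rfl, rfl⟩ | ⟨rfl, h24⟩
  · exact ⟨p, hp, hchar, Or.inl ⟨by rw [hcard, pow_one], hpa⟩⟩
  · exact ⟨p, hp, hchar, Or.inr ⟨hcard, by rw [hpa]; exact h24⟩⟩

set_option synthInstance.maxSize 2000 in
set_option synthInstance.maxHeartbeats 200000 in
theorem arith11 {F : Type*} [Field F] [Fintype F] (h : C6Arith 11 F) :
    ∃ p : ℕ, p.Prime ∧ CharP F p ∧ ((Fintype.card F = p ∧ p % 11 = 1) ∨
      (Fintype.card F = p ^ 5 ∧ (p % 11 = 3 ∨ p % 11 = 4 ∨ p % 11 = 5 ∨ p % 11 = 9))) := by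
  obtain ⟨p, e, hp, hchar, hcard, he, h1, hmin⟩ := c6Arith_residue 11 (by norm_num) h
  have ha : p % 11 < 11 := Nat.mod_lt _ (by norm_num)
  generalize hpa : p % 11 = a at ha h1 hmin
  have he10 : e ≤ 10 := by
    by_contra hlt
    have h10 := hmin 10 (by norm_num) (by omega)
    have hane : a ≠ 0 := by
      rintro rfl
      obtain ⟨k, rfl⟩ := he
      simp at h1
    interval_cases a <;> simp_all
  have key : ∀ a < 11, ∀ e < 11, (e % 2 = 1 ∧ a ^ e % 11 = 1 ∧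
      (∀ d < e, 0 < d → a ^ d % 11 ≠ 1)) →
      (e = 1 ∧ a = 1) ∨ (e = 5 ∧ (a = 3 ∨ a = 4 ∨ a = 5 ∨ a = 9)) := by decide
  rcases key a ha e (by omega) ⟨Nat.odd_iff.1 he, h1, fun d hd hd0 => hmin d hd0 hd⟩ with
    ⟨rfl, rfl⟩ | ⟨rfl, h24⟩
  · exact ⟨p, hp, hchar, Or.inl ⟨by rw [hcard, pow_one], hpa⟩⟩
  · exact ⟨p, hp, hchar, Or.inr ⟨hcard, by rw [hpa]; exact h24⟩⟩

end Cfsg.Agent.Lib.Helper24.AschPrime
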