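import Mathlib
import Cfsg.Prelude.Def_GeometricClasses
import Cfsg.Agent.Lib.Helper24.AschPrimeDefs
import Cfsg.Agent.Lib.Helper24.AschPrimeArith
import Cfsg.Agent.Lib.Helper24.HubCorS123
import Cfsg.Agent.Lib.Helper24.HubCorA2
import Cfsg.Agent.Lib.Helper24.HubCorA3
import Cfsg.Agent.Lib.Helper29.AschCorA
import Cfsg.Agent.Lib.Helper29.AschCorB
import Cfsg.Agent.Lib.Helper29.AschCorC
import Cfsg.Agent.Lib.Helper17.S5775PRSIM
import Cfsg.Agent.H5.HubCorP2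
import Cfsg.Agent.Lib.Helper9.HubCorA1

/-!
# Prime-dimension corollaries of the hub S5630 (helper24): the case analysis
S5793 (n = 5), S5808 (n = 7), S5853 (n = 11): a maximal subgroup of `SL_n(F)`, `n ≥ 5` prime, is a listed
geometric member intersected with `SL_n` or residual, given the hub statement `Hub n F`.
-/

set_option autoImplicit false

namespace Cfsg.Agent.Lib.Helper24.AschPrime

open Cfsg Cfsg.Geo
open scoped MatrixGroups

variable {F : Type*} [Field F] [Fintype F] {n : ℕ}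

theorem c6Arith_of_data (h3 : 3 ≤ n) (R : Subgroup (GL (Fin n) F))
    (hR : IsLinearSymplecticTypeData n R) (hodd : Odd n) : C6Arith n F := by
  obtain ⟨p, e, hne, ⟨hp, hchar, hcard, hdvd, hmin⟩, hcases⟩ := hR.field
  rcases hcases with ⟨_, he, hZ, _⟩ | ⟨h2, _⟩ | ⟨h2, _⟩
  · rw [hZ] at hdvd hmin
    exact ⟨p, e, hp, hchar, hcard, he, hdvd, hmin⟩
  · omega
  · omega

theorem prime_cases (hn : n.Prime) (h5 : 5 ≤ n) (hub : Hub n F) (H : Subgroup (GL (Fin n) F))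
    (hH : IsMaximalIn (specialLinear (Fin n) F) H) : PrimeList n F H := by
  have h3 : 3 ≤ n := by omega
  have h2 : 2 ≤ n := by omega
  have hoddn : Odd n := by
    rcases hn.eq_two_or_odd' with h | h
    · omega
    · exact h
  rcases hub H hH.1.le (Cfsg.Agent.Lib.Helper29.AschCor.hproper_of_max h3 H hH) with
    ⟨M, hM, hle⟩ | hres
  swap
  · exact Or.inr (Or.inr (Or.inr (Or.inr (Or.inr (Or.inr (Or.inr hres))))))
  have heq : ∀ M : Subgroup (GL (Fin n) F), H ≤ M → ¬ specialLinear (Fin n) F ≤ M →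
      H = M ⊓ specialLinear (Fin n) F :=
    fun M h1 h2 => Cfsg.Agent.Lib.Helper29.AschCor.eq_of_le_member H M hH h1 h2
  have hC1 : ∀ W : Submodule F (Fin n → F), W ≠ ⊥ → W ≠ ⊤ → H ≤ subspaceStabilizer W →
      PrimeList n F H := fun W h0 h1 hle =>
    Or.inl ⟨W, h0, h1, heq _ hle
      (Cfsg.Agent.Lib.Helper29.AschCor.not_sl_le_subspaceStabilizer h2 W h0 h1)⟩
  have hC8q : ∀ Q : (Fin n → F) → F, IsNondegenerateQuadraticForm Q → Odd (Fintype.card F) →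
      H ≤ quadSimilarityGroup Q → PrimeList n F H := fun Q hQ hodd hle =>
    Or.inr (Or.inr (Or.inr (Or.inr (Or.inr (Or.inl ⟨hodd, Q, hQ, heq _ hle
      (Cfsg.Agent.Lib.Helper17.S5775PRSIM.not_sl_le_quadSimilarityGroup h3 Q hQ)⟩)))))
  have hC8u : ∀ (σ : F ≃+* F) (f : (Fin n → F) → (Fin n → F) → F), IsUnitaryForm σ f →
      H ≤ similarityGroup f → PrimeList n F H := fun σ f hf hle =>
    Or.inr (Or.inr (Or.inr (Or.inr (Or.inr (Or.inr (Or.inl ⟨σ, f, hf, heq _ hle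
      (Cfsg.Agent.Lib.Helper17.S5775PRSIM.not_sl_le_similarityGroup_unitary h3 σ f hf)⟩))))))
  rcases hM with ⟨W, h0, h1, rfl⟩ | ⟨W, U, h0, hWU, _, rfl⟩ | ⟨W, U, h0, hinf, hsup, hlt, rfl⟩ |
    ⟨t, m, D, hD, rfl⟩ | ⟨r, K, hr, hK, rfl⟩ | ⟨n₁, n₂, e, P, h1, h2', rfl⟩ |
    ⟨F₀, r, P, hr, hcard, rfl⟩ | ⟨r, R, hR, rfl⟩ | ⟨m, t, e, P, hm, ht, rfl⟩ |
    ⟨f, hf, heven, _, rfl⟩ | ⟨σ, f, hf, _, rfl⟩ | ⟨Q, hQ, hodd, _, rfl⟩
  · exact hC1 W h0 h1 hle
  · -- flag: W < U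
    refine hC1 W h0 ?_ (hle.trans inf_le_left)
    rintro rfl
    exact absurd hWU (not_lt_of_ge le_top)
  · -- complementary pair
    refine hC1 W h0 ?_ (hle.trans inf_le_left)
    rintro rfl
    rw [top_inf_eq] at hinf
    subst hinf
    rw [finrank_bot, finrank_top] at hlt
    omega
  · -- decomposition
    have hcard := Cfsg.Agent.Lib.Helper9.HubCor.mul_eq_of_isMDecomposition D hD
    have hm : m = 1 := by
      rcases (Nat.dvd_prime hn).1 (Dvd.intro_left t hcard) with h | h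
      · exact h
      · exfalso
        have h2t := hD.two_le
        subst h
        have : 0 < m := hD.pos
        nlinarith
    subst hm
    have ht : t = n := by omega
    subst ht
    by_cases hq : 5 ≤ Fintype.card F
    · exact Or.inr (Or.inl ⟨hq, D, hD, heq _ hle
        (Cfsg.Agent.Lib.Helper29.AschCor.not_sl_le_decompositionStabilizer D hD)⟩)
    · have hq1 : 1 < Fintype.card F := Fintype.one_lt_card
      have hq234 : Fintype.card F = 2 ∨ Fintype.card F = 3 ∨ Fintype.card F = 4 := by omega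
      rcases hq234 with hq | hq | hq
      · obtain ⟨W, h0, h1, hW⟩ := Cfsg.Agent.Lib.Helper24.HubCor.S1 h2 hq D hD
        exact hC1 W h0 h1 (hle.trans hW)
      · obtain ⟨Q, hQ, hle'⟩ := Cfsg.Agent.Lib.Helper24.HubCor.S2 hq D hD
        exact hC8q Q hQ (by rw [hq]; decide) (hle.trans hle')
      · obtain ⟨σ, f, hf, hle'⟩ := Cfsg.Agent.Lib.Helper24.HubCor.S3 hq D hD
        exact hC8u σ f hf (hle.trans hle')
  · -- extension field
    have hrn : r = n := (Nat.prime_dvd_prime_iff_eq hr hn).1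
      (Cfsg.Agent.Lib.Helper24.HubCor.dvd_of_isFieldSubalgebra K hK (by omega))
    subst hrn
    exact Or.inr (Or.inr (Or.inl ⟨K, hK, heq _ hle
      (Cfsg.H5.HubCor.not_sl_le_subalgebraNormalizer h3 hr K hK)⟩))
  · -- tensor product: impossible
    exfalso
    have hc := Fintype.card_congr e
    rw [Fintype.card_fin, Fintype.card_prod, Fintype.card_fin, Fintype.card_fin] at hc
    rcases (Nat.dvd_prime hn).1 (Dvd.intro _ hc.symm) with h | h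
    · omega
    · subst h
      have : n₂ = 1 := by nlinarith
      omega
  · -- subfield
    exact Or.inr (Or.inr (Or.inr (Or.inl ⟨F₀, r, P, hr, hcard, heq _ hle
      (Cfsg.Agent.Lib.Helper29.AschCor.not_sl_le_subfieldSubgroup' h2 F₀ r hr hcard P)⟩)))
  · -- symplectic type
    have hrn : r = n :=
      (Nat.prime_dvd_prime_iff_eq hR.symplecticType.prime hn).1
        (Cfsg.Agent.Lib.Helper24.HubCor.dvd_of_symplecticTypeData h2 R hR)
    subst hrn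
    exact Or.inr (Or.inr (Or.inr (Or.inr (Or.inl ⟨c6Arith_of_data h3 R hR hoddn, R, hR, heq _ hle
      (Cfsg.Agent.Lib.Helper29.AschCor.not_sl_le_sympNormalizer h3 r R hR)⟩))))
  · -- tensor wreath: impossible
    exfalso
    have hc := Fintype.card_congr e
    rw [Fintype.card_fin, Fintype.card_fun, Fintype.card_fin, Fintype.card_fin] at hc
    obtain ⟨t', rfl⟩ : ∃ t', t = t' + 2 := ⟨t - 2, by omega⟩
    have hdvd : m * m ∣ n := by
      rw [hc, pow_succ, pow_succ, mul_assoc]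
      exact Dvd.intro_left _ rfl
    rcases (Nat.dvd_prime hn).1 (Dvd.intro _ rfl |>.trans hdvd : m ∣ n) with h | h
    · omega
    · subst h
      have := Nat.le_of_dvd (by omega) hdvd
      nlinarith
  · -- symplectic form: n odd
    exact absurd heven (Nat.not_even_iff_odd.2 hoddn)
  · exact hC8u σ f hf hle
  · exact hC8q Q hQ hodd hle

/-- S5793 from the hub -/
theorem cases5 (hub : Hub 5 F) (H : Subgroup (GL (Fin 5) F))
    (hH : IsMaximalIn (specialLinear (Fin 5) F) H) :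
    (∃ W : Submodule F (Fin 5 → F), W ≠ ⊥ ∧ W ≠ ⊤ ∧ H = Cfsg.Geo.subspaceStabilizer W ⊓ Cfsg.Geo.specialLinear (Fin 5) F) ∨
    (5 ≤ Fintype.card F ∧ ∃ D : Fin 5 → Submodule F (Fin 5 → F), Cfsg.Geo.IsMDecomposition 1 D ∧ H = Cfsg.Geo.decompositionStabilizer D ⊓ Cfsg.Geo.specialLinear (Fin 5) F) ∨
    (∃ K : Subalgebra F (Matrix (Fin 5) (Fin 5) F), Cfsg.Geo.IsFieldSubalgebra 5 K ∧ H = Cfsg.Geo.subalgebraNormalizer K ⊓ Cfsg.Geo.specialLinear (Fin 5) F) ∨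
    (∃ (F₀ : Subfield F) (r : ℕ) (P : Matrix.GeneralLinearGroup (Fin 5) F), r.Prime ∧ Fintype.card F = Nat.card F₀ ^ r ∧ H = Cfsg.Geo.subfieldSubgroup F₀ P ⊓ Cfsg.Geo.specialLinear (Fin 5) F) ∨
    ((∃ p : ℕ, p.Prime ∧ Fintype.card F = p ∧ (p % 5 = 1)) ∧ ∃ R : Subgroup (Matrix.GeneralLinearGroup (Fin 5) F), Cfsg.Geo.IsLinearSymplecticTypeData 5 R ∧ H = Cfsg.Geo.subgroupNormalizer R ⊓ Cfsg.Geo.specialLinear (Fin 5) F) ∨
    (Odd (Fintype.card F) ∧ ∃ Q : (Fin 5 → F) → F, Cfsg.Geo.IsNondegenerateQuadraticForm Q ∧ H = Cfsg.Geo.quadSimilarityGroup Q ⊓ Cfsg.Geo.specialLinear (Fin 5) F) ∨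
    (∃ (σ : F ≃+* F) (f : (Fin 5 → F) → (Fin 5 → F) → F), Cfsg.Geo.IsUnitaryForm σ f ∧ H = Cfsg.Geo.similarityGroup f ⊓ Cfsg.Geo.specialLinear (Fin 5) F) ∨
    Cfsg.Geo.InLinearResidualClass H := by
  rcases prime_cases (by norm_num) (by norm_num) hub H hH with h | h | h | h | ⟨ha, h⟩ | h | h | h
  · exact Or.inl h
  · exact Or.inr (Or.inl h)
  · exact Or.inr (Or.inr (Or.inl h))
  · exact Or.inr (Or.inr (Or.inr (Or.inl h)))
  · exact Or.inr (Or.inr (Or.inr (Or.inr (Or.inl ⟨arith5 ha, h⟩))))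
  · exact Or.inr (Or.inr (Or.inr (Or.inr (Or.inr (Or.inl h)))))
  · exact Or.inr (Or.inr (Or.inr (Or.inr (Or.inr (Or.inr (Or.inl h))))))
  · exact Or.inr (Or.inr (Or.inr (Or.inr (Or.inr (Or.inr (Or.inr h))))))

/-- S5808 from the hub -/
theorem cases7 (hub : Hub 7 F) (H : Subgroup (GL (Fin 7) F))
    (hH : IsMaximalIn (specialLinear (Fin 7) F) H) :
    (∃ W : Submodule F (Fin 7 → F), W ≠ ⊥ ∧ W ≠ ⊤ ∧ H = Cfsg.Geo.subspaceStabilizer W ⊓ Cfsg.Geo.specialLinear (Fin 7) F) ∨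
    (5 ≤ Fintype.card F ∧ ∃ D : Fin 7 → Submodule F (Fin 7 → F), Cfsg.Geo.IsMDecomposition 1 D ∧ H = Cfsg.Geo.decompositionStabilizer D ⊓ Cfsg.Geo.specialLinear (Fin 7) F) ∨
    (∃ K : Subalgebra F (Matrix (Fin 7) (Fin 7) F), Cfsg.Geo.IsFieldSubalgebra 7 K ∧ H = Cfsg.Geo.subalgebraNormalizer K ⊓ Cfsg.Geo.specialLinear (Fin 7) F) ∨
    (∃ (F₀ : Subfield F) (r : ℕ) (P : Matrix.GeneralLinearGroup (Fin 7) F), r.Prime ∧ Fintype.card F = Nat.card F₀ ^ r ∧ H = Cfsg.Geo.subfieldSubgroup F₀ P ⊓ Cfsg.Geo.specialLinear (Fin 7) F) ∨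
    ((∃ p : ℕ, p.Prime ∧ CharP F p ∧ ((Fintype.card F = p ∧ p % 7 = 1) ∨ (Fintype.card F = p ^ 3 ∧ (p % 7 = 2 ∨ p % 7 = 4)))) ∧ ∃ R : Subgroup (Matrix.GeneralLinearGroup (Fin 7) F), Cfsg.Geo.IsLinearSymplecticTypeData 7 R ∧ H = Cfsg.Geo.subgroupNormalizer R ⊓ Cfsg.Geo.specialLinear (Fin 7) F) ∨
    (Odd (Fintype.card F) ∧ ∃ Q : (Fin 7 → F) → F, Cfsg.Geo.IsNondegenerateQuadraticForm Q ∧ H = Cfsg.Geo.quadSimilarityGroup Q ⊓ Cfsg.Geo.specialLinear (Fin 7) F) ∨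
    (∃ (σ : F ≃+* F) (f : (Fin 7 → F) → (Fin 7 → F) → F), Cfsg.Geo.IsUnitaryForm σ f ∧ H = Cfsg.Geo.similarityGroup f ⊓ Cfsg.Geo.specialLinear (Fin 7) F) ∨
    Cfsg.Geo.InLinearResidualClass H := by
  rcases prime_cases (by norm_num) (by norm_num) hub H hH with h | h | h | h | ⟨ha, h⟩ | h | h | h
  · exact Or.inl h
  · exact Or.inr (Or.inl h)
  · exact Or.inr (Or.inr (Or.inl h))
  · exact Or.inr (Or.inr (Or.inr (Or.inl h)))
  · exact Or.inr (Or.inr (Or.inr (Or.inr (Or.inl ⟨arith7 ha, h⟩))))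
  · exact Or.inr (Or.inr (Or.inr (Or.inr (Or.inr (Or.inl h)))))
  · exact Or.inr (Or.inr (Or.inr (Or.inr (Or.inr (Or.inr (Or.inl h))))))
  · exact Or.inr (Or.inr (Or.inr (Or.inr (Or.inr (Or.inr (Or.inr h))))))

/-- S5853 from the hub -/
theorem cases11 (hub : Hub 11 F) (H : Subgroup (GL (Fin 11) F))
    (hH : IsMaximalIn (specialLinear (Fin 11) F) H) :
    (∃ W : Submodule F (Fin 11 → F), W ≠ ⊥ ∧ W ≠ ⊤ ∧ H = Cfsg.Geo.subspaceStabilizer W ⊓ Cfsg.Geo.specialLinear (Fin 11) F) ∨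
    (5 ≤ Fintype.card F ∧ ∃ D : Fin 11 → Submodule F (Fin 11 → F), Cfsg.Geo.IsMDecomposition 1 D ∧ H = Cfsg.Geo.decompositionStabilizer D ⊓ Cfsg.Geo.specialLinear (Fin 11) F) ∨
    (∃ K : Subalgebra F (Matrix (Fin 11) (Fin 11) F), Cfsg.Geo.IsFieldSubalgebra 11 K ∧ H = Cfsg.Geo.subalgebraNormalizer K ⊓ Cfsg.Geo.specialLinear (Fin 11) F) ∨
    (∃ (F₀ : Subfield F) (r : ℕ) (P : Matrix.GeneralLinearGroup (Fin 11) F), r.Prime ∧ Fintype.card F = Nat.card F₀ ^ r ∧ H = Cfsg.Geo.subfieldSubgroup F₀ P ⊓ Cfsg.Geo.specialLinear (Fin 11) F) ∨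
    ((∃ p : ℕ, p.Prime ∧ CharP F p ∧ ((Fintype.card F = p ∧ p % 11 = 1) ∨ (Fintype.card F = p ^ 5 ∧ (p % 11 = 3 ∨ p % 11 = 4 ∨ p % 11 = 5 ∨ p % 11 = 9)))) ∧ ∃ R : Subgroup (Matrix.GeneralLinearGroup (Fin 11) F), Cfsg.Geo.IsLinearSymplecticTypeData 11 R ∧ H = Cfsg.Geo.subgroupNormalizer R ⊓ Cfsg.Geo.specialLinear (Fin 11) F) ∨
    (Odd (Fintype.card F) ∧ ∃ Q : (Fin 11 → F) → F, Cfsg.Geo.IsNondegenerateQuadraticForm Q ∧ H = Cfsg.Geo.quadSimilarityGroup Q ⊓ Cfsg.Geo.specialLinear (Fin 11) F) ∨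
    (∃ (σ : F ≃+* F) (f : (Fin 11 → F) → (Fin 11 → F) → F), Cfsg.Geo.IsUnitaryForm σ f ∧ H = Cfsg.Geo.similarityGroup f ⊓ Cfsg.Geo.specialLinear (Fin 11) F) ∨
    Cfsg.Geo.InLinearResidualClass H := by
  rcases prime_cases (by norm_num) (by norm_num) hub H hH with h | h | h | h | ⟨ha, h⟩ | h | h | h
  · exact Or.inl h
  · exact Or.inr (Or.inl h)
  · exact Or.inr (Or.inr (Or.inl h))
  · exact Or.inr (Or.inr (Or.inr (Or.inl h)))
  · exact Or.inr (Or.inr (Or.inr (Or.inr (Or.inl ⟨arith11 ha, h⟩))))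
  · exact Or.inr (Or.inr (Or.inr (Or.inr (Or.inr (Or.inl h)))))
  · exact Or.inr (Or.inr (Or.inr (Or.inr (Or.inr (Or.inr (Or.inl h))))))
  · exact Or.inr (Or.inr (Or.inr (Or.inr (Or.inr (Or.inr (Or.inr h))))))

end Cfsg.Agent.Lib.Helper24.AschPrime
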