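import Mathlib
import Cfsg.Prelude.Def_GeometricClasses
import Cfsg.Agent.Lib.Helper7.AschDefs
import Cfsg.Agent.Lib.Helper23.S5630I5
import Cfsg.Agent.Lib.Helper8.S5630I1
import Cfsg.Agent.Lib.Helper22.AschC7Top
import Cfsg.Agent.Lib.Helper2.FormRedU
import Cfsg.Agent.Lib.Helper18.S5663U2
import Cfsg.Agent.Lib.Helper24.AschUDefs
import Cfsg.Agent.Lib.Helper24.AschUC6

/-!
# S5663 for PRIME `n` (helper24): the unitary Aschbacher theorem in prime dimension, used by S5811 (`SU_7`) and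
S5856 (`SU_11`).

In prime dimension the tensor blocks (class 4, class 7) are VACUOUS: `c7_false_of_prime` shows that the hypotheses of
the tensor-induced case are contradictory (`n = m ^ t` with `m, t ≥ 2`).  `mainU_prime_of` is the top level with the
blocks that are not yet on main (U4 Clifford-with-forms, U5 class-5 exit, U8 almost simple case) as HYPOTHESES.
-/

set_option autoImplicit false

namespace Cfsg.Agent.Lib.Helper24.AschU

open Matrix Cfsg Cfsg.Geo Cfsg.Agent.Lib.Helper7.Asch Cfsg.Agent.Lib.Helper22.AschC7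
open scoped commutatorElement

variable {F : Type*} [Field F] [Fintype F] {n q : ℕ}

/-- the tensor-induced case does not occur in prime dimension -/
theorem c7_false_of_prime (hp : n.Prime) (H L : Subgroup (GL (Fin n) F)) (hQP : QP H)
    (hLH : L ≤ H) (hLs : ¬ L ≤ scalars (Fin n) F)
    (hconj : ∀ h ∈ H, (∀ x ∈ L, h * x * h⁻¹ ∈ L) ∨
      (∀ x ∈ L, ∀ y ∈ L, (h * x * h⁻¹) * y = y * (h * x * h⁻¹)))
    (hnn : ¬ NormBy H L) : False := by
  have hn0 : 0 < n := hp.pos
  obtain ⟨t, hs, ht, hsH, ⟨i₀, hi₀⟩, hcomm, hperm⟩ := exists_conj_enum H L hLH hconj hnn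
  have hN : AbsIrr (⨆ i, cj (hs i) L) := absIrr_iSup_cj H L hQP hLH hLs hs hsH ⟨i₀, hi₀⟩ hperm
  have hLN : L ≤ ⨆ i, cj (hs i) L := by
    have := le_iSup (fun i => cj (hs i) L) i₀
    rwa [hi₀] at this
  obtain ⟨m, φ, h1, h2⟩ := exists_algHom_span hn0 _ L hN hLN (exists_factor L hs i₀ hi₀ hcomm)
  have hc : ∀ i j, i ≠ j → ∀ a b, ((conjAlg (hs i)).comp φ) a * ((conjAlg (hs j)).comp φ) b =
      ((conjAlg (hs j)).comp φ) b * ((conjAlg (hs i)).comp φ) a :=
    fun i j hij a b => commute_ranges L φ h1 (hs i) (hs j) (hcomm i j hij) a b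
  have hgen := adjoin_ranges_eq_top L φ h2 hs hN
  obtain ⟨e, P, -⟩ := tensor_recognition hn0 m t (by omega) (fun i => (conjAlg (hs i)).comp φ) hc hgen
  have hm : 2 ≤ m := two_le_of_algHom hn0 L hLs m φ h2
  have hcard : n = m ^ t := by
    have := Fintype.card_congr e
    simpa using this
  -- `n = m ^ t` with `m, t ≥ 2` is not prime
  have hdvd : m ∣ n := by
    rw [hcard]
    exact dvd_pow_self m (by omega)
  rcases (Nat.dvd_prime hp).1 hdvd with h | h
  · omega
  · have h3 : m ^ 1 < m ^ t := Nat.pow_lt_pow_right (by omega) (by omega)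
    rw [pow_one, ← hcard, h] at h3
    exact lt_irrefl _ h3

/-- **Aschbacher's theorem for `GU_n(q)`, `n ≥ 3` prime**, with the blocks U4, U5, U8 as hypotheses -/
theorem mainU_prime_of (hF : Fintype.card F = q ^ 2) (hp : n.Prime) (hn : 3 ≤ n) (H : Subgroup (GL (Fin n) F))
    (hHU : H ≤ GU n F q)
    (hU4 : ∀ N : Subgroup (GL (Fin n) F), AbsIrr H → N ≤ H → NormBy H N →
      InClassU n q H ∨ N ≤ scalars (Fin n) F ∨ AbsIrr N)
    (hU5 : ∀ L : Subgroup (GL (Fin n) F), AbsIrr L → NormBy H L → ∀ F₀ : Subfield F, F₀ ≠ ⊤ →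
      RealisableOver F₀ (matrixSet L) →
      (∀ g ∈ L, ∃ c : F, c ∈ F₀ ∧ ∀ u v : Fin n → F,
        hermForm n F q ((g : Matrix (Fin n) (Fin n) F) *ᵥ u) ((g : Matrix (Fin n) (Fin n) F) *ᵥ v) =
          c * hermForm n F q u v) → InClassU n q H)
    (hU8 : ∀ L : Subgroup (GL (Fin n) F), AbsIrr H → QP H → L ≤ H → ¬ L ≤ scalars (Fin n) F → ⁅L, L⁆ = L →
      SimpleModScal L → NormBy H L → InClassU n q H ∨ InUnitaryResidualClass H) :
    InClassU n q H ∨ InUnitaryResidualClass H := by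
  by_cases h1 : Irr H
  swap
  · exact Or.inl (Cfsg.Agent.Lib.Helper2.FormRedU.inClassU_of_not_irr hF hn H hHU h1)
  by_cases h2 : AbsIrr H
  swap
  · exact Or.inl (Cfsg.Agent.Lib.Helper18.S5663U2.inClassU_of_not_absIrr hF hn H hHU h1 h2)
  by_cases h4 : QP H
  swap
  · unfold QP at h4
    push Not at h4
    obtain ⟨N, hNH, hnorm, hns, hna⟩ := h4
    rcases hU4 N h2 hNH hnorm with h | h | h
    · exact Or.inl h
    · exact absurd h hns
    · exact absurd h hna
  have hHs : ¬ H ≤ scalars (Fin n) F :=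
    Cfsg.Agent.Lib.Helper8.S5630I1.not_scalar_of_irr (by omega) H h1
  rcases Cfsg.Agent.Lib.Helper23.S5630I5.group_dichotomy H hHs with
    ⟨N, r, hNH, hnorm, hNs, hmin, hr, hpow, hcomm⟩ | ⟨L, hLH, hLs, hperf, hqs, hconj⟩
  · exact Or.inl (c6_caseU_of hF hn H N r hHU h2 h4 hNH hnorm hNs hmin hr hpow hcomm hU5)
  · by_cases hnL : NormBy H L
    · exact hU8 L h2 h4 hLH hLs hperf hqs hnL
    · exact absurd hnL (fun _ => c7_false_of_prime hp H L h4 hLH hLs hconj hnL)

end Cfsg.Agent.Lib.Helper24.AschU
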