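import Mathlib
import Cfsg.Prelude.Def_GeometricClasses
import Cfsg.Agent.Lib.Helper7.AschDefs
import Cfsg.Agent.Lib.Helper23.S5630I5
import Cfsg.Agent.Lib.Helper8.S5630I1
import Cfsg.Agent.Lib.Helper24.AschUDefs
import Cfsg.Agent.Lib.Helper2.FormRedU
import Cfsg.Agent.Lib.Helper18.S5663U2
import Cfsg.Agent.Lib.Helper11.U4MainP
import Cfsg.Agent.Lib.Helper28.S5663U4T22
import Cfsg.Agent.Lib.Helper24.AschU92
import Cfsg.Agent.Lib.Helper12.S5663U5
import Cfsg.Agent.Lib.Helper24.AschUC6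
import Cfsg.Agent.Lib.Helper22.S5663U7
import Cfsg.Agent.Lib.Helper22.S5663U8

/-!
# S5663: Aschbacher's theorem for the unitary groups `GU_n(q)`, `n ≥ 3` - the REAL top level (helper24)

Blocks: U1 reducible (helper2), U2 not absolutely irreducible (helper18), U4 Clifford with forms (helper11; corners
U4T-22 helper28, U4T-92 helper24 + helper2), U5 form descent (helper12), U6 symplectic type (helper24), U7 tensor
induced and U8 almost simple (helper22).
-/

set_option autoImplicit false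

namespace Cfsg.Agent.Lib.Helper24.AschU

open Matrix Cfsg Cfsg.Geo Cfsg.Agent.Lib.Helper7.Asch
open scoped commutatorElement

variable {F : Type*} [Field F] [Fintype F] {n q : ℕ}

/-- **U4** Clifford trichotomy with forms -/
theorem cliffordU (hF : Fintype.card F = q ^ 2) (hn : 3 ≤ n) (H N : Subgroup (GL (Fin n) F))
    (hHU : H ≤ GU n F q) (hH : AbsIrr H) (hNH : N ≤ H) (hnorm : NormBy H N) :
    InClassU n q H ∨ N ≤ scalars (Fin n) F ∨ AbsIrr N :=
  Cfsg.Agent.Lib.Helper11.U4MainP.cliffordU_of hF hn H N hHU hH hNH hnorm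
    (fun e P f₁ f₂ h1 h2 hT hle =>
      Cfsg.Agent.Lib.Helper28.S5663U4T22.inClassU_of_tensor22 hF H hHU e P f₁ f₂ h1 h2 hT hle)
    (fun hq e P f₁ f₂ h1 h2 hT hle =>
      Cfsg.Agent.Lib.Helper24.U92.inClassU_of_tensor33 hF hq H hHU e P f₁ f₂ h1 h2 hT hle)

/-- **Aschbacher's theorem for `GU_n(q)`, `n ≥ 3`** -/
theorem mainU (hF : Fintype.card F = q ^ 2) (hn : 3 ≤ n) (H : Subgroup (GL (Fin n) F)) (hHU : H ≤ GU n F q) :
    InClassU n q H ∨ InUnitaryResidualClass H := by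
  by_cases h1 : Irr H
  swap
  · exact Or.inl (Cfsg.Agent.Lib.Helper2.FormRedU.inClassU_of_not_irr hF hn H hHU h1)
  by_cases h2 : AbsIrr H
  swap
  · exact Or.inl (Cfsg.Agent.Lib.Helper18.S5663U2.inClassU_of_not_absIrr hF hn H hHU h1 h2)
  by_cases h4 : QP H
  swap
  · unfold QP at h4
    push Not at h4
    obtain ⟨N, hNH, hnorm, hns, hna⟩ := h4
    rcases cliffordU hF hn H N hHU h2 hNH hnorm with h | h | h
    · exact Or.inl h
    · exact absurd h hns
    · exact absurd h hna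
  have hHs : ¬ H ≤ scalars (Fin n) F :=
    Cfsg.Agent.Lib.Helper8.S5630I1.not_scalar_of_irr (by omega) H h1
  have hU5 : ∀ (L H : Subgroup (GL (Fin n) F)), H ≤ GU n F q → AbsIrr L → NormBy H L → ∀ F₀ : Subfield F,
      F₀ ≠ ⊤ → RealisableOver F₀ (matrixSet L) →
      (∀ g ∈ L, ∃ c : F, c ∈ F₀ ∧ ∀ u v : Fin n → F,
        hermForm n F q ((g : Matrix (Fin n) (Fin n) F) *ᵥ u) ((g : Matrix (Fin n) (Fin n) F) *ᵥ v) =
          c * hermForm n F q u v) → InClassU n q H :=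
    fun L H hHU hL hnorm F₀ h0 hreal hmult =>
      Cfsg.Agent.Lib.Helper12.S5663U5.InClassU.of_realisable hF hn L H hHU hL hnorm F₀ h0 hreal hmult
  rcases Cfsg.Agent.Lib.Helper23.S5630I5.group_dichotomy H hHs with
    ⟨N, r, hNH, hnorm, hNs, hmin, hr, hpow, hcomm⟩ | ⟨L, hLH, hLs, hperf, hqs, hconj⟩
  · exact Or.inl (c6_caseU_of hF hn H N r hHU h2 h4 hNH hnorm hNs hmin hr hpow hcomm
      (fun L hL hnormL F₀ h0 hreal hmult => hU5 L H hHU hL hnormL F₀ h0 hreal hmult))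
  · by_cases hnL : NormBy H L
    · exact Cfsg.Agent.Lib.Helper22.S5663U8.s_caseU_of hU5 hF hn H L hHU h2 h4 hLH hLs hperf hqs hnL
    · exact Or.inl
        (Cfsg.Agent.Lib.Helper22.S5663U7.c7_caseU_of hU5 hF hn H L hHU h2 h4 hLH hLs hperf hqs hconj hnL)

/-- the frozen statement S5663 (`hex`, `hproper` are not needed) -/
theorem frozen (n q : ℕ) (hF : Fintype.card F = q ^ 2) (hn : 3 ≤ n) (hex : ¬ (n = 3 ∧ q = 2))
    (H : Subgroup (Matrix.GeneralLinearGroup (Fin n) F))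
    (hH : H ≤ (Cfsg.GU n F q ⊓ Cfsg.Geo.specialLinear (Fin n) F))
    (hproper : H ⊔ (Cfsg.Geo.scalars (Fin n) F ⊓ (Cfsg.GU n F q ⊓ Cfsg.Geo.specialLinear (Fin n) F)) ≠
      (Cfsg.GU n F q ⊓ Cfsg.Geo.specialLinear (Fin n) F)) :
    (∃ M : Subgroup (Matrix.GeneralLinearGroup (Fin n) F), Cfsg.Geo.InUnitaryClass n F q M ∧ H ≤ M) ∨
      Cfsg.Geo.InUnitaryResidualClass H :=
  mainU hF hn H (hH.trans inf_le_left)

end Cfsg.Agent.Lib.Helper24.AschU
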