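import Mathlib

/-!
# S4068 farm, SPARE of piece [C5] (helper24): the final arithmetic.
-/

set_option autoImplicit false

namespace Cfsg.Agent.Lib.Helper19.AutOrb

namespace Helper24

/-- SPARE of [C5]: three primes, each term `< N/3`, the terms with `s = 3 ∨ 3 ∤ N` `< N/5`:
impossible. -/
theorem odd_arith_spare (N : ℕ) (hodd : Odd N) (h3 : N.primeFactors.card = 3) (f : ℕ → ℕ)
    (hN : N = 1 + ∑ s ∈ N.primeFactors, f s)
    (h1 : ∀ s ∈ N.primeFactors, 3 * f s < N)
    (h2 : ∀ s ∈ N.primeFactors, (s = 3 ∨ ¬ 3 ∣ N) → 5 * f s < N) : False := by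
  obtain ⟨a, b, c, hab, hac, hbc, hs⟩ := Finset.card_eq_three.mp h3
  have ha : a ∈ N.primeFactors := by rw [hs]; simp
  have hb : b ∈ N.primeFactors := by rw [hs]; simp
  have hc : c ∈ N.primeFactors := by rw [hs]; simp
  have hsum : ∑ s ∈ N.primeFactors, f s = f a + f b + f c := by
    rw [hs, Finset.sum_insert (by simp [hab, hac]), Finset.sum_insert (by simp [hbc]),
      Finset.sum_singleton]
    ring
  rw [hsum] at hN
  have hN0 : N ≠ 0 := by
    intro h0
    rw [h0] at h3
    simp at h3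
  -- N ≥ 8
  have hdvd : a * b * c ∣ N := by
    have h := Nat.prod_primeFactors_dvd N
    rw [hs, Finset.prod_insert (by simp [hab, hac]), Finset.prod_insert (by simp [hbc]),
      Finset.prod_singleton] at h
    rwa [mul_assoc]
  have h2a : 2 ≤ a := (Nat.prime_of_mem_primeFactors ha).two_le
  have h2b : 2 ≤ b := (Nat.prime_of_mem_primeFactors hb).two_le
  have h2c : 2 ≤ c := (Nat.prime_of_mem_primeFactors hc).two_le
  have h8 : 8 ≤ N := by
    have hle : a * b * c ≤ N := Nat.le_of_dvd (Nat.pos_of_ne_zero hN0) hdvd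
    have : 2 * 2 * 2 ≤ a * b * c := Nat.mul_le_mul (Nat.mul_le_mul h2a h2b) h2c
    omega
  have ha1 := h1 a ha
  have hb1 := h1 b hb
  have hc1 := h1 c hc
  by_cases h3N : 3 ∣ N
  · -- 3 is one of the primes
    have h3mem : 3 ∈ N.primeFactors := Nat.mem_primeFactors.mpr ⟨Nat.prime_three, h3N, hN0⟩
    rw [hs] at h3mem
    simp only [Finset.mem_insert, Finset.mem_singleton] at h3mem
    rcases h3mem with h | h | h
    · have := h2 a ha (Or.inl h.symm); omega
    · have := h2 b hb (Or.inl h.symm); omega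
    · have := h2 c hc (Or.inl h.symm); omega
  · have := h2 a ha (Or.inr h3N)
    have := h2 b hb (Or.inr h3N)
    have := h2 c hc (Or.inr h3N)
    omega

end Helper24

end Cfsg.Agent.Lib.Helper19.AutOrb
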