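import Mathlib

set_option autoImplicit false

namespace Cfsg.Agent.Lib.Helper24.BCFO

/-- Two linearly independent vectors `v, w` in a space of dimension at most two, both
orthogonal to `v`, force `v` to be orthogonal to everything. -/
theorem orth_all_of_pair {F V : Type*} [Field F] [AddCommGroup V] [Module F V]
    [FiniteDimensional F V] (B : V →ₗ[F] V →ₗ[F] F) (hV : Module.finrank F V ≤ 2)
    (v w : V) (hli : LinearIndependent F ![v, w]) (hvv : B v v = 0) (hvw : B v w = 0) :
    ∀ y, B v y = 0 := by
  have hcard : Fintype.card (Fin 2) = Module.finrank F V := by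
    have h1 := hli.fintype_card_le_finrank
    simp only [Fintype.card_fin] at h1 ⊢
    omega
  have hspan : Submodule.span F (Set.range ![v, w]) = ⊤ :=
    hli.span_eq_top_of_card_eq_finrank' hcard
  intro y
  have hy : y ∈ Submodule.span F (Set.range ![v, w]) := by rw [hspan]; trivial
  have hle : Submodule.span F (Set.range ![v, w]) ≤ LinearMap.ker (B v) := by
    rw [Submodule.span_le]
    rintro x ⟨i, rfl⟩
    fin_cases i
    · simpa using hvv
    · simpa using hvw
  exact hle hy

/-- S2474 FO-1: no nontrivial unipotent isometry of a nondegenerate symmetric space of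
dimension at most two (characteristic not two). -/
theorem eq_one_of_unipotent_of_finrank_le_two {F V : Type*} [Field F] [AddCommGroup V]
    [Module F V] [FiniteDimensional F V] (h2 : (2 : F) ≠ 0) (B : V →ₗ[F] V →ₗ[F] F)
    (hsym : ∀ x y, B x y = B y x) (hnd : ∀ x, (∀ y, B x y = 0) → x = 0)
    (hV : Module.finrank F V ≤ 2) (u : Module.End F V)
    (hiso : ∀ x y, B (u x) (u y) = B x y) (k : ℕ) (hu : (u - 1) ^ k = 0) : u = 1 := by
  classical
  have hex : ∃ k, (u - 1) ^ k = 0 := ⟨k, hu⟩
  -- the isometry condition in terms of `N = u - 1`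
  have hstar : ∀ x y, B x ((u - 1) y) + B ((u - 1) x) y + B ((u - 1) x) ((u - 1) y) = 0 := by
    intro x y
    have h := hiso x y
    simp only [LinearMap.sub_apply, Module.End.one_apply, map_sub] at h ⊢
    linear_combination h
  rcases hk : Nat.find hex with _ | _ | m
  · -- `1 = 0` in `End V`
    have h0 := Nat.find_spec hex
    rw [hk, pow_zero] at h0
    calc u = u * 1 := (mul_one u).symm
      _ = u * 0 := by rw [h0]
      _ = 0 := mul_zero u
      _ = 1 := h0.symm
  · have h0 := Nat.find_spec hex
    rw [hk, zero_add, pow_one] at h0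
    exact sub_eq_zero.mp h0
  · exfalso
    have h0 := Nat.find_spec hex
    rw [hk] at h0
    have h1 : (u - 1) ^ (m + 1) ≠ 0 := by
      have := Nat.find_min hex (m := m + 1) (by omega)
      exact this
    have hexw : ∃ w, ((u - 1) ^ (m + 1)) w ≠ 0 := by
      by_contra hcon
      push Not at hcon
      apply h1
      ext w
      simpa using hcon w
    obtain ⟨w0, hw0⟩ := hexw
    -- w := N^m w0, v := N w = N^(m+1) w0 ≠ 0, N v = 0
    have hv_eq : (u - 1) (((u - 1) ^ m) w0) = ((u - 1) ^ (m + 1)) w0 := by
      rw [pow_succ', Module.End.mul_apply]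
    have hNv : (u - 1) ((u - 1) (((u - 1) ^ m) w0)) = 0 := by
      have : (u - 1) ((u - 1) (((u - 1) ^ m) w0)) = ((u - 1) ^ (m + 1 + 1)) w0 := by
        rw [pow_succ' (u - 1) (m + 1), Module.End.mul_apply, hv_eq]
      rw [this, h0]
      rfl
    generalize hwdef : ((u - 1) ^ m) w0 = w at hv_eq hNv
    generalize hvdef : (u - 1) w = v at hv_eq hNv
    have hv0 : v ≠ 0 := by rw [hv_eq]; exact hw0
    -- v ⊥ range N
    have hvN : ∀ y, B v ((u - 1) y) = 0 := by
      intro y
      have h := hstar v y
      rw [hNv] at h
      simpa using h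
    have hvv : B v v = 0 := by
      have := hvN w
      rwa [hvdef] at this
    have hvw : B v w = 0 := by
      have h := hstar w w
      rw [hvdef, hvv, hsym w v] at h
      have h' : (2 : F) * B v w = 0 := by linear_combination h
      rcases mul_eq_zero.mp h' with h'' | h''
      · exact absurd h'' h2
      · exact h''
    -- linear independence
    have hli : LinearIndependent F ![v, w] := by
      rw [LinearIndependent.pair_iff]
      intro a b hab
      have hb : b • v = 0 := by
        have := congrArg (fun x : V => (u - 1 : Module.End F V) x) hab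
        simpa [map_add, map_smul, hNv, hvdef] using this
      have hb0 : b = 0 := by
        rcases smul_eq_zero.mp hb with h | h
        · exact h
        · exact absurd h hv0
      rw [hb0, zero_smul, add_zero] at hab
      have ha0 : a = 0 := by
        rcases smul_eq_zero.mp hab with h | h
        · exact h
        · exact absurd h hv0
      exact ⟨ha0, hb0⟩
    exact hv0 (hnd v (orth_all_of_pair B hV v w hli hvv hvw))

end Cfsg.Agent.Lib.Helper24.BCFO
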