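import Mathlib

set_option autoImplicit false

namespace Cfsg.Agent.Lib.Helper24.BCFO

/-- `(1 + N)^j = 1 + j • N` when `N * N = 0`. -/
theorem one_add_pow_of_sq_zero {R : Type*} [Ring R] (N : R) (hN : N * N = 0) (j : ℕ) :
    (1 + N) ^ j = 1 + (j : R) * N := by
  induction j with
  | zero => simp
  | succ j ih =>
    rw [pow_succ, ih]
    have : (1 + (j : R) * N) * (1 + N) = 1 + ((j : R) + 1) * N + (j : R) * (N * N) := by
      noncomm_ring
    rw [this, hN]
    push_cast
    simp

/-- S2474 FO-3: a transvection of order `p` on any nonzero nondegenerate alternating space. -/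
theorem exists_transvection_alt {F V : Type*} [Field F] [AddCommGroup V] [Module F V]
    (p : ℕ) [Fact p.Prime] [CharP F p] (B : V →ₗ[F] V →ₗ[F] F)
    (halt : ∀ x, B x x = 0) (hnd : ∀ x, (∀ y, B x y = 0) → x = 0) (hV : ∃ x : V, x ≠ 0) :
    ∃ u : Module.End F V, (∀ x y, B (u x) (u y) = B x y) ∧ u ^ p = 1 ∧ u ≠ 1 := by
  obtain ⟨e, he⟩ := hV
  -- skew-symmetry
  have hskew : ∀ x y, B x y = - B y x := by
    intro x y
    have h := halt (x + y)
    simp only [map_add, LinearMap.add_apply, halt, zero_add, add_zero] at h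
    exact eq_neg_of_add_eq_zero_right h
  -- a vector not orthogonal to e
  have hex : ∃ y, B e y ≠ 0 := by
    by_contra hcon
    push Not at hcon
    exact he (hnd e hcon)
  obtain ⟨y, hy⟩ := hex
  -- the nilpotent part
  let N : Module.End F V := (B.flip e).smulRight e
  have hNapp : ∀ v, N v = B v e • e := by
    intro v
    simp [N, LinearMap.smulRight_apply]
  have hNN : N * N = 0 := by
    ext v
    simp only [Module.End.mul_apply, hNapp, map_smul, LinearMap.smul_apply, halt, smul_eq_mul,
      mul_zero, zero_smul, LinearMap.zero_apply]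
  refine ⟨1 + N, ?_, ?_, ?_⟩
  · intro x z
    simp only [LinearMap.add_apply, Module.End.one_apply, hNapp, map_add, map_smul,
      LinearMap.smul_apply, halt, smul_eq_mul, mul_zero, add_zero]
    rw [hskew e z]
    ring
  · rw [one_add_pow_of_sq_zero N hNN p]
    have hp0 : ((p : ℕ) : Module.End F V) = 0 := by
      have h1 : ((p : ℕ) : Module.End F V) = ((p : F)) • (1 : Module.End F V) := by
        rw [Nat.cast_smul_eq_nsmul, nsmul_eq_mul, mul_one]
      rw [h1, CharP.cast_eq_zero, zero_smul]
    rw [hp0, zero_mul, add_zero]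
  · intro h1
    have h2 : (1 + N) y = y := by rw [h1]; rfl
    simp only [LinearMap.add_apply, Module.End.one_apply, hNapp, add_eq_left, smul_eq_zero] at h2
    rcases h2 with h2 | h2
    · apply hy
      rw [hskew, h2, neg_zero]
    · exact he h2

end Cfsg.Agent.Lib.Helper24.BCFO
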