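import Mathlib
import Cfsg.Agent.Lib.Helper24.BrauerFeit
import Cfsg.Agent.Lib.Helper24.BlockOrtho

/-!
# The `p`-part of `∑_{χ ∈ B} χ(1)²` (helper24 library)

For a `p`-block `B` of defect `d` of a group with `|G|_p = p^a`, the exact power of `p` dividing
`∑_{χ ∈ B} χ(1)²` is `p^(2a - d)` (Brauer).  The proof avoids Brauer characters: with `P` a Sylow
`p`-subgroup and `w_ξ = ⟨ξ_P, 1_P⟩`, one has `∑_{ξ ∈ B} ξ(1) w_ξ = S / p^a` (block idempotents
vanish on `p`-singular elements) and, for `χ₀ ∈ B` of height zero,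
`χ₀(1) = ∑_{ξ ∈ B} ξ(1) w_ξ R(χ₀, ξ)` with the contributions `R(χ₀, ξ)` all congruent to one unit.
-/

set_option autoImplicit false
set_option linter.unusedSectionVars false
set_option linter.style.haveILetI false

open scoped ComplexConjugate
open Cfsg.Agent.Lib.Helper2

namespace Cfsg.Agent.Lib.Helper24

section DegreeSum

variable {G : Type*} [Group G] [Fintype G] {p : ℕ} {M : Ideal Cfsg.AlgInt}

/-- the multiplicity of the trivial character in the restriction to a subgroup -/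
noncomputable def trivMult (P : Subgroup G) [Fintype P] (ξ : G → ℂ) : ℂ :=
  Cfsg.classInner (fun u : P => ξ u) (fun _ : P => (1 : ℂ))

theorem trivMult_eq (P : Subgroup G) [Fintype P] (ξ : G → ℂ) :
    trivMult P ξ = (Nat.card P : ℂ)⁻¹ * ∑ u : P, ξ u := by
  unfold trivMult
  rw [classInner_def]
  congr 1
  apply Finset.sum_congr rfl
  intro u _
  rw [map_one, mul_one]

theorem trivMult_nat (P : Subgroup G) [Fintype P] (ξ : Cfsg.IrrCharacter G) :
    ∃ n : ℕ, trivMult P (ξ : G → ℂ) = (n : ℂ) :=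
  classInner_isCharacter_nat (IsCharacter.restrict (IsIrrCharacter.isCharacter ξ.2) P)
    (IsIrrCharacter.isCharacter (isIrrCharacter_one (G := ↥P)))

/-- a sum over a `p`-subgroup of a function vanishing at `p`-singular elements -/
theorem sum_pGroup_eq [Fact p.Prime] (P : Subgroup G) [Fintype P] (hP : IsPGroup p P)
    (f : G → ℂ) (hf : ∀ g : G, p ∣ orderOf g → f g = 0) :
    ∑ u : P, f u = f 1 := by
  rw [Finset.sum_eq_single (1 : P)]
  · rfl
  · intro u _ hu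
    apply hf
    obtain ⟨k, hk⟩ := (IsPGroup.iff_orderOf.1 hP) u
    rw [Subgroup.orderOf_coe, hk]
    have hk0 : k ≠ 0 := by
      rintro rfl
      rw [pow_zero, orderOf_eq_one_iff] at hk
      exact hu hk
    exact dvd_pow_self p hk0
  · intro h
    exact absurd (Finset.mem_univ _) h

/-- `∑_ξ ⟨χ°, ξ⟩ w_ξ = χ(1) / |P|` -/
theorem sum_classInner_pRegularPart_mul_trivMult [Fact p.Prime] [Fintype (Cfsg.IrrCharacter G)]
    (P : Subgroup G) [Fintype P] (hP : IsPGroup p P) (χ : Cfsg.IrrCharacter G) :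
    ∑ ξ : Cfsg.IrrCharacter G,
        Cfsg.classInner (Cfsg.pRegularPart p (χ : G → ℂ)) (ξ : G → ℂ) * trivMult P (ξ : G → ℂ)
      = (Nat.card P : ℂ)⁻¹ * (χ : G → ℂ) 1 := by
  have hp : p.Prime := Fact.out
  have hcf : Cfsg.IsClassFunction G (Cfsg.pRegularPart p (χ : G → ℂ)) :=
    pRegularPart_isClassFunction _ (IrrCharacter.isClassFunction χ)
  have hexp := classFunction_expansion (Cfsg.pRegularPart p (χ : G → ℂ)) hcf
  have hpt : ∀ g : G, Cfsg.pRegularPart p (χ : G → ℂ) g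
      = ∑ ξ : Cfsg.IrrCharacter G,
        Cfsg.classInner (Cfsg.pRegularPart p (χ : G → ℂ)) (ξ : G → ℂ) * (ξ : G → ℂ) g := by
    intro g
    have := congrFun hexp g
    rw [Finset.sum_apply] at this
    rw [this]
    apply Finset.sum_congr rfl
    intro ξ _
    rw [Pi.smul_apply, smul_eq_mul]
  have h1 : ∑ u : P, Cfsg.pRegularPart p (χ : G → ℂ) u = (χ : G → ℂ) 1 := by
    rw [sum_pGroup_eq P hP (Cfsg.pRegularPart p (χ : G → ℂ))
      (fun g hg => pRegularPart_of_singular _ hg)]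
    apply pRegularPart_of_regular
    rw [orderOf_one]
    exact hp.one_lt.ne' ∘ Nat.dvd_one.mp
  rw [← h1]
  have h2 : ∀ ξ : Cfsg.IrrCharacter G,
      Cfsg.classInner (Cfsg.pRegularPart p (χ : G → ℂ)) (ξ : G → ℂ) * trivMult P (ξ : G → ℂ)
      = (Nat.card P : ℂ)⁻¹ * ∑ u : P,
        Cfsg.classInner (Cfsg.pRegularPart p (χ : G → ℂ)) (ξ : G → ℂ) * (ξ : G → ℂ) u := by
    intro ξ
    rw [trivMult_eq, ← Finset.mul_sum]
    ring
  rw [Finset.sum_congr rfl (fun ξ _ => h2 ξ), ← Finset.mul_sum, Finset.sum_comm]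
  congr 1
  apply Finset.sum_congr rfl
  intro u _
  rw [hpt]

/-- `∑_{ξ ∈ B} ξ(1) w_ξ = (∑_{ξ ∈ B} ξ(1)²) / |P|` -/
theorem sum_degree_mul_trivMult [Fact p.Prime] [Fintype (Cfsg.IrrCharacter G)]
    (hM : Cfsg.IsPModular p M) (B : Set (Cfsg.IrrCharacter G)) [DecidablePred (· ∈ B)]
    (hB : Cfsg.IsPBlock M B) (P : Subgroup G) [Fintype P] (hP : IsPGroup p P) :
    ∑ ξ : Cfsg.IrrCharacter G,
        (if ξ ∈ B then (ξ : G → ℂ) 1 * trivMult P (ξ : G → ℂ) else 0)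
      = (Nat.card P : ℂ)⁻¹ *
        ∑ ξ : Cfsg.IrrCharacter G, (if ξ ∈ B then (ξ : G → ℂ) 1 ^ 2 else 0) := by
  have hG0 : (Nat.card G : ℂ) ≠ 0 := Nat.cast_ne_zero.mpr Nat.card_pos.ne'
  have hconj1 : ∀ ξ : Cfsg.IrrCharacter G, conj ((ξ : G → ℂ) 1) = (ξ : G → ℂ) 1 := by
    intro ξ
    rw [apply_one_eq_charDegree, Complex.conj_natCast]
  have hsing : ∀ g : G, p ∣ orderOf g →
      (∑ ξ : Cfsg.IrrCharacter G, (if ξ ∈ B then (ξ : G → ℂ) 1 * (ξ : G → ℂ) g else 0)) = 0 := by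
    intro g hg
    have h0 := blockCoeff_eq_zero_of_singular hM B hB g hg
    rw [blockCoeff_eq_sum] at h0
    have h1 : (∑ ξ : Cfsg.IrrCharacter G,
        if ξ ∈ B then (ξ : G → ℂ) 1 * conj ((ξ : G → ℂ) g) else 0) = 0 := by
      rcases mul_eq_zero.mp h0 with h | h
      · exact absurd (inv_eq_zero.mp h) hG0
      · exact h
    have h2 := congrArg conj h1
    rw [map_sum, map_zero] at h2
    refine Eq.trans ?_ h2
    apply Finset.sum_congr rfl
    intro ξ _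
    by_cases hξ : ξ ∈ B
    · rw [if_pos hξ, if_pos hξ, map_mul, Complex.conj_conj, hconj1]
    · rw [if_neg hξ, if_neg hξ, map_zero]
  have h3 := sum_pGroup_eq P hP
    (fun g : G => ∑ ξ : Cfsg.IrrCharacter G,
      (if ξ ∈ B then (ξ : G → ℂ) 1 * (ξ : G → ℂ) g else 0)) hsing
  have h4 : ∀ ξ : Cfsg.IrrCharacter G,
      (if ξ ∈ B then (ξ : G → ℂ) 1 * trivMult P (ξ : G → ℂ) else 0)
      = (Nat.card P : ℂ)⁻¹ * ∑ u : P,
        (if ξ ∈ B then (ξ : G → ℂ) 1 * (ξ : G → ℂ) u else 0) := by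
    intro ξ
    by_cases hξ : ξ ∈ B
    · simp only [if_pos hξ]
      rw [trivMult_eq, ← Finset.mul_sum]
      ring
    · simp only [if_neg hξ]
      rw [Finset.sum_const_zero, mul_zero]
  rw [Finset.sum_congr rfl (fun ξ _ => h4 ξ), ← Finset.mul_sum, Finset.sum_comm]
  congr 1
  rw [h3]
  apply Finset.sum_congr rfl
  intro ξ _
  by_cases hξ : ξ ∈ B
  · rw [if_pos hξ, if_pos hξ, sq]
  · rw [if_neg hξ, if_neg hξ]

/-- **Brauer**: the exact power of `p` dividing `∑_{χ ∈ B} χ(1)²` is `p^(2a - d)` -/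
theorem factorization_sum_sq [Fact p.Prime] [Fintype (Cfsg.IrrCharacter G)]
    (hM : Cfsg.IsPModular p M) (B : Set (Cfsg.IrrCharacter G)) [DecidablePred (· ∈ B)]
    (hB : Cfsg.IsPBlock M B) :
    (∑ ξ : Cfsg.IrrCharacter G,
        if ξ ∈ B then Cfsg.charDegree (ξ : G → ℂ) ^ 2 else 0).factorization p
      = 2 * (Nat.card G).factorization p - Cfsg.blockDefect p B := by
  have hp : p.Prime := Fact.out
  have hp0 : (p : ℂ) ≠ 0 := Nat.cast_ne_zero.mpr hp.ne_zero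
  obtain ⟨a, ha⟩ : ∃ a, a = (Nat.card G).factorization p := ⟨_, rfl⟩
  obtain ⟨s, hs⟩ : ∃ s, s = sInf ((fun χ : Cfsg.IrrCharacter G =>
      (Cfsg.charDegree (χ : G → ℂ)).factorization p) '' B) := ⟨_, rfl⟩
  obtain ⟨χ₀, hχ₀B, h0⟩ := exists_height_zero hM B hB
  have hsle : ∀ ξ ∈ B, s ≤ (Cfsg.charDegree ((ξ : Cfsg.IrrCharacter G) : G → ℂ)).factorization p := by
    intro ξ hξ
    rw [hs]
    exact Nat.sInf_le ⟨ξ, hξ, rfl⟩
  have hs0 : (Cfsg.charDegree (χ₀ : G → ℂ)).factorization p = s := by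
    unfold Cfsg.blockHeight at h0
    rw [← hs] at h0
    have := hsle χ₀ hχ₀B
    omega
  have hsa : s ≤ a := by
    rw [← hs0, ha]
    exact (Nat.factorization_le_iff_dvd (charDegree_ne_zero χ₀) Nat.card_pos.ne').mpr
      (Cfsg.Agent.Lib.Helper25.charDegree_dvd_card χ₀.2) p
  have hd : Cfsg.blockDefect p B = a - s := by
    unfold Cfsg.blockDefect
    rw [← ha, ← hs]
  -- a Sylow subgroup
  obtain ⟨P⟩ : Nonempty (Sylow p G) := inferInstance
  haveI : Fintype ↥(P : Subgroup G) := Fintype.ofFinite _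
  have hPcard : Nat.card (P : Subgroup G) = p ^ a := by
    rw [ha]
    exact P.card_eq_multiplicity
  have hPg : IsPGroup p (P : Subgroup G) := P.isPGroup'
  choose w hw using fun ξ : Cfsg.IrrCharacter G => trivMult_nat (P : Subgroup G) ξ
  have hdeg : ∀ ξ ∈ B, Cfsg.charDegree ((ξ : Cfsg.IrrCharacter G) : G → ℂ)
      = p ^ s * (Cfsg.charDegree (ξ : G → ℂ) / p ^ s) := by
    intro ξ hξ
    exact (Nat.mul_div_cancel' ((Nat.Prime.pow_dvd_iff_le_factorization hp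
      (charDegree_ne_zero ξ)).2 (hsle ξ hξ))).symm
  have hdegC : ∀ ξ ∈ B, ((ξ : Cfsg.IrrCharacter G) : G → ℂ) 1
      = (p : ℂ) ^ s * ((Cfsg.charDegree (ξ : G → ℂ) / p ^ s : ℕ) : ℂ) := by
    intro ξ hξ
    rw [apply_one_eq_charDegree]
    conv_lhs => rw [hdeg ξ hξ]
    push_cast
    ring
  obtain ⟨N, hN⟩ : ∃ N : ℕ, N = ∑ ξ : Cfsg.IrrCharacter G,
      if ξ ∈ B then (Cfsg.charDegree (ξ : G → ℂ) / p ^ s) * w ξ else 0 := ⟨_, rfl⟩
  -- (A) `S = p^a p^s N`
  have hA : (∑ ξ : Cfsg.IrrCharacter G,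
      if ξ ∈ B then Cfsg.charDegree (ξ : G → ℂ) ^ 2 else 0) = p ^ a * (p ^ s * N) := by
    apply Nat.cast_injective (R := ℂ)
    have h5 := sum_degree_mul_trivMult hM B hB (P : Subgroup G) hPg
    rw [hPcard] at h5
    have hL : ∑ ξ : Cfsg.IrrCharacter G,
        (if ξ ∈ B then (ξ : G → ℂ) 1 * trivMult (P : Subgroup G) (ξ : G → ℂ) else 0)
        = ((p ^ s * N : ℕ) : ℂ) := by
      rw [hN]
      push_cast
      rw [Finset.mul_sum]
      apply Finset.sum_congr rfl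
      intro ξ _
      by_cases hξ : ξ ∈ B
      · rw [if_pos hξ, if_pos hξ, hdegC ξ hξ, hw ξ]
        push_cast
        ring
      · rw [if_neg hξ, if_neg hξ, mul_zero]
    have hR : ∑ ξ : Cfsg.IrrCharacter G, (if ξ ∈ B then (ξ : G → ℂ) 1 ^ 2 else 0)
        = ((∑ ξ : Cfsg.IrrCharacter G,
          if ξ ∈ B then Cfsg.charDegree (ξ : G → ℂ) ^ 2 else 0 : ℕ) : ℂ) := by
      push_cast
      apply Finset.sum_congr rfl
      intro ξ _
      by_cases hξ : ξ ∈ B
      · rw [if_pos hξ, if_pos hξ, apply_one_eq_charDegree]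
      · rw [if_neg hξ, if_neg hξ]
    rw [hL, hR] at h5
    have hpa0 : ((p ^ a : ℕ) : ℂ) ≠ 0 := Nat.cast_ne_zero.mpr (pow_ne_zero _ hp.ne_zero)
    rw [Nat.cast_mul (p ^ a), h5, ← mul_assoc, mul_inv_cancel₀ hpa0, one_mul]
  -- (B) `p ∤ N`
  have hNp : ¬ p ∣ N := by
    intro hdvd
    have h2 := sum_classInner_pRegularPart_mul_trivMult (p := p) (P : Subgroup G) hPg χ₀
    rw [hPcard] at h2
    have hterm : ∀ ξ : Cfsg.IrrCharacter G,
        (p : ℂ) ^ a * (Cfsg.classInner (Cfsg.pRegularPart p (χ₀ : G → ℂ)) (ξ : G → ℂ)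
          * trivMult (P : Subgroup G) (ξ : G → ℂ))
        = if ξ ∈ B then (p : ℂ) ^ s * (((Cfsg.charDegree (ξ : G → ℂ) / p ^ s : ℕ) : ℂ) * (w ξ : ℂ)
            * contribR p (χ₀ : G → ℂ) (ξ : G → ℂ)) else 0 := by
      intro ξ
      by_cases hξ : ξ ∈ B
      · rw [if_pos hξ, ← mul_assoc, ha, pow_mul_classInner_eq, hdegC ξ hξ, hw ξ]
        ring
      · rw [if_neg hξ, classInner_pRegularPart_eq_zero hM B hB χ₀ ξ hχ₀B hξ, zero_mul, mul_zero]
    have h3 : (χ₀ : G → ℂ) 1 = ∑ ξ : Cfsg.IrrCharacter G,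
        if ξ ∈ B then (p : ℂ) ^ s * (((Cfsg.charDegree (ξ : G → ℂ) / p ^ s : ℕ) : ℂ) * (w ξ : ℂ)
            * contribR p (χ₀ : G → ℂ) (ξ : G → ℂ)) else 0 := by
      rw [← Finset.sum_congr rfl (fun ξ _ => hterm ξ), ← Finset.mul_sum, h2]
      have hpa0 : ((p ^ a : ℕ) : ℂ) ≠ 0 := Nat.cast_ne_zero.mpr (pow_ne_zero _ hp.ne_zero)
      rw [← mul_assoc, ← Nat.cast_pow, mul_inv_cancel₀ hpa0, one_mul]
    -- divide by `p^s`
    have h4 : ((Cfsg.charDegree (χ₀ : G → ℂ) / p ^ s : ℕ) : ℂ)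
        = ∑ ξ : Cfsg.IrrCharacter G,
          if ξ ∈ B then (((Cfsg.charDegree (ξ : G → ℂ) / p ^ s : ℕ) : ℂ) * (w ξ : ℂ)
            * contribR p (χ₀ : G → ℂ) (ξ : G → ℂ)) else 0 := by
      apply mul_left_cancel₀ (pow_ne_zero s hp0)
      rw [← hdegC χ₀ hχ₀B, h3, Finset.mul_sum]
      apply Finset.sum_congr rfl
      intro ξ _
      by_cases hξ : ξ ∈ B
      · rw [if_pos hξ, if_pos hξ]
      · rw [if_neg hξ, if_neg hξ, mul_zero]
    -- split off the unit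
    have h5 : ((Cfsg.charDegree (χ₀ : G → ℂ) / p ^ s : ℕ) : ℂ)
        = contribR p (χ₀ : G → ℂ) (χ₀ : G → ℂ) * (N : ℂ)
          + ∑ ξ : Cfsg.IrrCharacter G,
            if ξ ∈ B then (((Cfsg.charDegree (ξ : G → ℂ) / p ^ s : ℕ) : ℂ) * (w ξ : ℂ)
              * (contribR p (χ₀ : G → ℂ) (ξ : G → ℂ)
                - contribR p (χ₀ : G → ℂ) (χ₀ : G → ℂ))) else 0 := by
      rw [h4, hN]
      push_cast
      rw [Finset.mul_sum, ← Finset.sum_add_distrib]
      apply Finset.sum_congr rfl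
      intro ξ _
      by_cases hξ : ξ ∈ B
      · rw [if_pos hξ, if_pos hξ, if_pos hξ]
        ring
      · rw [if_neg hξ, if_neg hξ, if_neg hξ, mul_zero, add_zero]
    have hI : Cfsg.MemLocalIdeal M ((Cfsg.charDegree (χ₀ : G → ℂ) / p ^ s : ℕ) : ℂ) := by
      rw [h5]
      apply memLocalIdeal_add hM
      · exact memLocalIdeal_mul_left hM (contribR_memLocalRing hM χ₀ χ₀)
          ((memLocalIdeal_natCast_iff hM N).mpr hdvd)
      · apply memLocalIdeal_sum hM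
        intro ξ _
        by_cases hξ : ξ ∈ B
        · rw [if_pos hξ]
          exact memLocalIdeal_mul_left hM
            (memLocalRing_mul hM (memLocalRing_natCast hM _) (memLocalRing_natCast hM _))
            (contribR_sub_memLocalIdeal hM χ₀ ξ χ₀ (sameBlock_of_mem hM hB hξ hχ₀B))
        · rw [if_neg hξ]
          exact memLocalIdeal_zero hM
    have hdv := (memLocalIdeal_natCast_iff hM _).mp hI
    have hnd : ¬ p ∣ Cfsg.charDegree (χ₀ : G → ℂ) / p ^ s := by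
      rw [← hs0]
      exact Nat.not_dvd_ordCompl hp (charDegree_ne_zero χ₀)
    exact hnd hdv
  have hN0 : N ≠ 0 := by
    rintro rfl
    exact hNp (dvd_zero p)
  rw [hA, hd, ← mul_assoc, ← pow_add,
    Nat.factorization_mul (pow_ne_zero _ hp.ne_zero) hN0, Nat.Prime.factorization_pow hp,
    Finsupp.add_apply, Finsupp.single_eq_same, Nat.factorization_eq_zero_of_not_dvd hNp]
  omega

end DegreeSum

end Cfsg.Agent.Lib.Helper24
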