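import Mathlib
import Cfsg.Prelude.Def_BlockFusion
import Cfsg.Agent.Lib.Helper24.BlockFusion
import Cfsg.Agent.Lib.Helper24.SupCentralizer

/-!
# Automorphism groups in the fusion system of a block (helper24 library)

* `stabAut Q f : N_G(Q, f) →* Aut(Q)`, with kernel `C_G(Q)`.
* `autGroup_blockFusionSystem`: `Aut_F(Q)` is the image of `N_G(Q, f)`.
* `autInducedBy_eq_map`: `Aut_P(Q)` is the image of `N_P(Q)`.
* `isFullyAutomized_blockFusionSystem`: if `N_P(Q)` is a defect group of the block of `N_G(Q, f)`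
  given by `f`, then `Q` is fully automized.
-/

set_option autoImplicit false

namespace Cfsg.Agent.Lib.Helper24

open Cfsg.Agent.Lib.Helper2 Cfsg.Agent.Lib.Helper7
open scoped ComplexConjugate

section Aut

variable {G : Type*} [Group G] [Fintype G] {p : ℕ} {M : Ideal Cfsg.AlgInt}

/-- conjugation `N_G(Q, f) →* Aut(Q)` -/
noncomputable def stabAut (Q : Subgroup G)
    (f : Set (Cfsg.IrrCharacter (Subgroup.centralizer (Q : Set G)))) :
    stabSubgroup Q f →* MulAut Q :=
  Q.normalizerMonoidHom.comp (Subgroup.inclusion (stabSubgroup_le_normalizer Q f))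

theorem stabAut_apply_coe (Q : Subgroup G)
    (f : Set (Cfsg.IrrCharacter (Subgroup.centralizer (Q : Set G)))) (t : stabSubgroup Q f)
    (u : Q) : ((stabAut Q f t u : Q) : G) = (t : G) * u * (t : G)⁻¹ := rfl

theorem stabAut_ker (Q : Subgroup G)
    (f : Set (Cfsg.IrrCharacter (Subgroup.centralizer (Q : Set G)))) :
    (stabAut Q f).ker = (Subgroup.centralizer (Q : Set G)).subgroupOf (stabSubgroup Q f) := by
  ext t
  rw [MonoidHom.mem_ker, Subgroup.mem_subgroupOf, Subgroup.mem_centralizer_iff]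
  constructor
  · intro h u hu
    have h1 : ((stabAut Q f t ⟨u, hu⟩ : Q) : G) = u := by rw [h]; rfl
    rw [stabAut_apply_coe] at h1
    calc u * (t : G) = ((t : G) * u * (t : G)⁻¹) * t := by rw [h1]
      _ = t * u := by group
  · intro h
    ext u
    rw [stabAut_apply_coe]
    have h1 := h u u.2
    show (t : G) * u * (t : G)⁻¹ = u
    rw [← h1]
    group

/-- an element inducing an automorphism of `Q` by conjugation normalizes `Q` -/
theorem mem_normalizer_of_aut (Q : Subgroup G) (α : MulAut Q) (g : G)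
    (hg : ∀ u : Q, ((α u : Q) : G) = g * (u : G) * g⁻¹) :
    Q.map (MulAut.conj g).toMonoidHom = Q := by
  ext y
  rw [mem_map_conj_iff]
  constructor
  · intro h
    have h1 := hg ⟨_, h⟩
    have e1 : g * (g⁻¹ * y * g) * g⁻¹ = y := by group
    simp only [e1] at h1
    rw [← h1]
    exact (α _).2
  · intro hy
    have h1 := hg (α.symm ⟨y, hy⟩)
    rw [MulEquiv.apply_symm_apply] at h1
    simp only at h1
    have e1 : g⁻¹ * y * g = ((α.symm ⟨y, hy⟩ : Q) : G) := by
      have e2 : g⁻¹ * (g * ((α.symm ⟨y, hy⟩ : Q) : G) * g⁻¹) * g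
          = ((α.symm ⟨y, hy⟩ : Q) : G) := by group
      rw [← h1] at e2
      exact e2
    rw [e1]
    exact (α.symm _).2

/-- **`Aut_F(Q)` is the image of `N_G(Q, f)`.** -/
theorem autGroup_blockFusionSystem (hM : Cfsg.IsPModular p M) (P : Subgroup G)
    (e : Set (Cfsg.IrrCharacter (Subgroup.centralizer (P : Set G))))
    (hPe : Cfsg.IsBrauerPair p M P e) (Q : Subgroup G)
    (f : Set (Cfsg.IrrCharacter (Subgroup.centralizer (Q : Set G)))) (hQP : Q ≤ P)
    (hle : Cfsg.SubpairLE p M Q f P e) :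
    (blockFusionSystem hM P e hPe).autGroup Q = (stabAut Q f).range := by
  haveI : Fact p.Prime := ⟨hM.1⟩
  unfold Cfsg.FusionSystem.autGroup
  have hS : {α : MulAut Q | Q.subtype.comp α.toMonoidHom ∈ (blockFusionSystem hM P e hPe).Hom Q}
      = ((stabAut Q f).range : Set (MulAut Q)) := by
    ext α
    constructor
    · rintro ⟨-, g, hg, hgP, f', hf'1, hf'2⟩
      have hff' : f' = f := subpairLE_unique hM P e hPe Q hQP f' f hf'1 hle
      subst hff'
      have hg' : ∀ u : Q, ((α u : Q) : G) = g * (u : G) * g⁻¹ := hg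
      have hmap := mem_normalizer_of_aut Q α g hg'
      have hgN : g ∈ Subgroup.normalizer (Q : Set G) := mem_normalizer_of_map_conj_eq Q g hmap
      have h1 : Relation.ReflTransGen (Cfsg.NormalSubpairRel p M) (conjIdx g ⟨Q, f'⟩) ⟨P, e⟩ :=
        hf'2
      have h2 := conjIdx_normalizer Q ⟨g, hgN⟩ f'
      simp only at h2
      rw [h2] at h1
      have h3 := subpairLE_unique hM P e hPe Q hQP _ f' h1 hle
      have hgT : g ∈ stabSubgroup Q f' := by
        rw [mem_stabSubgroup]
        refine ⟨hgN, ?_⟩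
        rw [stabilizesBlock_iff]
        exact ⟨normalizer_le_normalizer_centralizer Q hgN, by rw [h3]⟩
      refine ⟨⟨g, hgT⟩, ?_⟩
      ext u
      rw [stabAut_apply_coe]
      exact (hg' u).symm
    · rintro ⟨t, rfl⟩
      refine ⟨hQP, (t : G), fun u => rfl, ?_, f, hle, ?_⟩
      · rw [map_conj_eq_of_mem_normalizer Q (stabSubgroup_le_normalizer Q f t.2)]
        exact hQP
      · show Relation.ReflTransGen (Cfsg.NormalSubpairRel p M) (conjIdx (t : G) ⟨Q, f⟩) ⟨P, e⟩
        rw [conjIdx_of_mem_stabSubgroup Q f t t.2]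
        exact hle
  rw [hS, Subgroup.closure_eq]

/-- **`Aut_P(Q)` is the image of `N_P(Q)`.** -/
theorem autInducedBy_eq_map (hM : Cfsg.IsPModular p M) (P : Subgroup G)
    (e : Set (Cfsg.IrrCharacter (Subgroup.centralizer (P : Set G))))
    (hPe : Cfsg.IsBrauerPair p M P e) (Q : Subgroup G)
    (f : Set (Cfsg.IrrCharacter (Subgroup.centralizer (Q : Set G)))) (hQP : Q ≤ P)
    (hle : Cfsg.SubpairLE p M Q f P e) :
    Cfsg.autInducedBy P Q
      = ((P ⊓ Subgroup.normalizer (Q : Set G)).subgroupOf (stabSubgroup Q f)).map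
          (stabAut Q f) := by
  unfold Cfsg.autInducedBy
  have hS : {α : MulAut Q | ∃ g ∈ P, ∀ x : Q, ((α x : Q) : G) = g * (x : G) * g⁻¹}
      = ((((P ⊓ Subgroup.normalizer (Q : Set G)).subgroupOf (stabSubgroup Q f)).map
          (stabAut Q f) : Subgroup (MulAut Q)) : Set (MulAut Q)) := by
    ext α
    constructor
    · rintro ⟨g, hgP, hg⟩
      have hmap := mem_normalizer_of_aut Q α g hg
      have hgN : g ∈ Subgroup.normalizer (Q : Set G) := mem_normalizer_of_map_conj_eq Q g hmap
      have hgD : g ∈ P ⊓ Subgroup.normalizer (Q : Set G) := Subgroup.mem_inf.mpr ⟨hgP, hgN⟩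
      have hgT : g ∈ stabSubgroup Q f := normalizerIn_le_stabSubgroup hM P Q e f hPe hQP hle hgD
      refine ⟨⟨g, hgT⟩, Subgroup.mem_subgroupOf.mpr hgD, ?_⟩
      ext u
      rw [stabAut_apply_coe]
      exact (hg u).symm
    · rintro ⟨d, hd, rfl⟩
      exact ⟨(d : G), (Subgroup.mem_inf.mp (Subgroup.mem_subgroupOf.mp hd)).1, fun x => rfl⟩
  rw [hS, Subgroup.closure_eq]

/-- a Sylow subgroup of the range from a subgroup covering a Sylow subgroup of the quotient -/
theorem exists_sylow_of_map [Fact p.Prime] {T : Type*} [Group T] [Finite T] {X : Type*}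
    [Group X] (κ : T →* X) (D : Subgroup T) (hD : IsPGroup p D)
    (hidx : ¬ p ∣ (D ⊔ κ.ker).index) (A B : Subgroup X) (hA : A = κ.range)
    (hB : B = D.map κ) : ∃ R : Sylow p A, (R : Subgroup A) = B.subgroupOf A := by
  subst hA hB
  have h1 : IsPGroup p ((D.map κ).subgroupOf κ.range) := (hD.map κ).comap_subtype
  have h2 : ((D.map κ).subgroupOf κ.range).index = (D ⊔ κ.ker).index := by
    show (D.map κ).relIndex κ.range = _
    rw [MonoidHom.range_eq_map, Subgroup.relIndex_map_map, top_sup_eq,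
      Subgroup.relIndex_top_right]
  have h3 : ¬ p ∣ ((D.map κ).subgroupOf κ.range).index := by rw [h2]; exact hidx
  exact ⟨h1.toSylow h3, IsPGroup.toSylow_coe h1 h3⟩

/-- **Fully normalized subgroups are fully automized**: if `N_P(Q)` is a defect group of the
block of `N_G(Q, f)` given by `f`, then `Aut_P(Q)` is a Sylow `p`-subgroup of `Aut_F(Q)`. -/
theorem isFullyAutomized_blockFusionSystem [Fact p.Prime] (hM : Cfsg.IsPModular p M)
    (P : Subgroup G) (e : Set (Cfsg.IrrCharacter (Subgroup.centralizer (P : Set G))))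
    (hPe : Cfsg.IsBrauerPair p M P e) (Q : Subgroup G)
    (f : Set (Cfsg.IrrCharacter (Subgroup.centralizer (Q : Set G)))) (hQP : Q ≤ P)
    (hf : Cfsg.IsPBlock M f) (hle : Cfsg.SubpairLE p M Q f P e)
    (FT : Set (Cfsg.IrrCharacter (stabSubgroup Q f))) (hFT : Cfsg.IsPBlock M FT)
    (hFTc : ∀ t : stabSubgroup Q f, Cfsg.blockCoeff FT t
      = Cfsg.subgroupBlockCoeff (Subgroup.centralizer (Q : Set G)) f (t : G))
    (hDT : Cfsg.IsDefectGroup p M FT
      ((P ⊓ Subgroup.normalizer (Q : Set G)).subgroupOf (stabSubgroup Q f))) :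
    (blockFusionSystem hM P e hPe).IsFullyAutomized p Q := by
  refine ⟨hQP, ?_⟩
  have hidx := not_dvd_index_sup_subgroupOf hM (stabSubgroup Q f)
    (Subgroup.centralizer (Q : Set G)) (centralizer_le_stabSubgroup Q f)
    ((stabSubgroup_le_normalizer Q f).trans (normalizer_le_normalizer_centralizer Q))
    f hf FT hFT hFTc _ hDT
  rw [sup_comm, ← stabAut_ker Q f] at hidx
  have hD : IsPGroup p ((P ⊓ Subgroup.normalizer (Q : Set G)).subgroupOf (stabSubgroup Q f)) :=
    (hPe.1.to_le inf_le_left).comap_subtype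
  exact exists_sylow_of_map (stabAut Q f) _ hD hidx _ _
    (autGroup_blockFusionSystem hM P e hPe Q f hQP hle)
    (autInducedBy_eq_map hM P e hPe Q f hQP hle)

end Aut

end Cfsg.Agent.Lib.Helper24
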