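import Mathlib
import Cfsg.Prelude.Def_BlockFusion
import Cfsg.Agent.Lib.Helper24.BlockFusionAut

/-!
# Receptivity and saturation of the fusion system of a block (helper24 library)

* `isMaximalBrauerPair_mid`: for `(Q, f) ≤ (P, e)` with `N_P(Q)` a defect group of the block of
  `N_G(Q, f)` given by `f`, the pair on `N_P(Q)` is a maximal Brauer pair of the block given by `f`
  of every `H` with `N_P(Q) C_G(Q) ≤ H ≤ N_G(Q, f)`.
* `exists_conj_centralizer_subpairLE`: the extension step.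
* `isReceptive_blockFusionSystem`, `isSaturated_blockFusionSystem`.
-/

set_option autoImplicit false

namespace Cfsg.Agent.Lib.Helper24

open Cfsg.Agent.Lib.Helper2 Cfsg.Agent.Lib.Helper7
open scoped ComplexConjugate

section Receptive

variable {G : Type*} [Group G] [Fintype G] {p : ℕ} {M : Ideal Cfsg.AlgInt}

theorem isMaximalBrauerPair_mid [Fact p.Prime] (hM : Cfsg.IsPModular p M) (P Q : Subgroup G)
    (e : Set (Cfsg.IrrCharacter (Subgroup.centralizer (P : Set G))))
    (f : Set (Cfsg.IrrCharacter (Subgroup.centralizer (Q : Set G))))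
    (hPe : Cfsg.IsBrauerPair p M P e) (hQP : Q ≤ P) (hf : Cfsg.IsPBlock M f)
    (FT : Set (Cfsg.IrrCharacter (stabSubgroup Q f))) (hFT : Cfsg.IsPBlock M FT)
    (hFTc : ∀ t : stabSubgroup Q f, Cfsg.blockCoeff FT t
      = Cfsg.subgroupBlockCoeff (Subgroup.centralizer (Q : Set G)) f (t : G))
    (hDT : Cfsg.IsDefectGroup p M FT
      ((P ⊓ Subgroup.normalizer (Q : Set G)).subgroupOf (stabSubgroup Q f)))
    (H : Subgroup G) (hDH : P ⊓ Subgroup.normalizer (Q : Set G) ≤ H)
    (hCH : Subgroup.centralizer (Q : Set G) ≤ H) (hHT : H ≤ stabSubgroup Q f)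
    (b : Set (Cfsg.IrrCharacter H)) (hb : Cfsg.IsPBlock M b)
    (hbc : ∀ t : H, Cfsg.blockCoeff b t
      = Cfsg.subgroupBlockCoeff (Subgroup.centralizer (Q : Set G)) f (t : G))
    (eD : Set (Cfsg.IrrCharacter
      (Subgroup.centralizer ((P ⊓ Subgroup.normalizer (Q : Set G) : Subgroup G) : Set G))))
    (heD : Cfsg.IsPBlock M eD)
    (hQD : Cfsg.SubpairLE p M Q f (P ⊓ Subgroup.normalizer (Q : Set G)) eD)
    (hCD : Subgroup.centralizer ((P ⊓ Subgroup.normalizer (Q : Set G) : Subgroup G) : Set G)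
      ≤ H) :
    Cfsg.IsMaximalBrauerPair p M b ((P ⊓ Subgroup.normalizer (Q : Set G)).subgroupOf H)
      (irrMap (centH H (P ⊓ Subgroup.normalizer (Q : Set G)) hDH hCD).symm '' eD) := by
  classical
  haveI : Fintype H := Fintype.ofFinite _
  haveI : Fintype (stabSubgroup Q f) := Fintype.ofFinite _
  have hQ : IsPGroup p Q := hPe.1.to_le hQP
  have hDp : IsPGroup p (P ⊓ Subgroup.normalizer (Q : Set G) : Subgroup G) :=
    hPe.1.to_le inf_le_left
  have hQD' : Q ≤ P ⊓ Subgroup.normalizer (Q : Set G) := le_inf hQP Subgroup.le_normalizer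
  have hns : Cfsg.IsNormalSubpair p M Q f (P ⊓ Subgroup.normalizer (Q : Set G)) eD :=
    isNormalSubpair_of_subpairLE hM ⟨hDp, heD⟩ hQD' inf_le_right hQD
  have hpair : Cfsg.IsBrauerPairOf p M b ((P ⊓ Subgroup.normalizer (Q : Set G)).subgroupOf H)
      (irrMap (centH H (P ⊓ Subgroup.normalizer (Q : Set G)) hDH hCD).symm '' eD) := by
    rw [isBrauerPairOf_mid_iff Q hQ f hf H hCH hHT b hb hbc _ hQD' hDH, image_irrMap_image_symm]
    exact hns
  apply isMaximalBrauerPair_of_forall_isNormalSubpair hM b _ _ hpair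
  intro S g hSg
  obtain ⟨R, hRH, rfl⟩ : ∃ R : Subgroup G, R ≤ H ∧ R.subgroupOf H = S :=
    ⟨S.map H.subtype, Subgroup.map_subtype_le S,
      Subgroup.comap_map_eq_self_of_injective H.subtype_injective S⟩
  have hDR : P ⊓ Subgroup.normalizer (Q : Set G) ≤ R := by
    intro x hx
    have : (⟨x, hDH hx⟩ : H) ∈ (P ⊓ Subgroup.normalizer (Q : Set G)).subgroupOf H :=
      Subgroup.mem_subgroupOf.mpr hx
    exact Subgroup.mem_subgroupOf.mp (hSg.2.2.1 this)
  have hCR : Subgroup.centralizer (R : Set G) ≤ H :=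
    (Subgroup.centralizer_le (SetLike.coe_subset_coe.mpr hDR)).trans hCD
  have hG := (isNormalSubpair_centH_iff H _ R hDR hRH hCD _ g).mp hSg
  rw [image_irrMap_image_symm] at hG
  have hle2 : Cfsg.SubpairLE p M Q f R (irrMap (centH H R hRH hCR) '' g) :=
    Relation.ReflTransGen.tail hQD hG
  have hRT : R ≤ stabSubgroup Q f := hRH.trans hHT
  have hRN : R ≤ Subgroup.normalizer (Q : Set G) := hRT.trans (stabSubgroup_le_normalizer Q f)
  have hQR : Q ≤ R := hQD'.trans hDR
  have hns2 := isNormalSubpair_of_subpairLE hM hG.2.1 hQR hRN hle2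
  have hCT := centralizer_le_stabSubgroup Q f
  have hCRT : Subgroup.centralizer (R : Set G) ≤ stabSubgroup Q f :=
    (Subgroup.centralizer_le (SetLike.coe_subset_coe.mpr hQR)).trans hCT
  have hpT : Cfsg.IsBrauerPairOf p M FT (R.subgroupOf (stabSubgroup Q f))
      (irrMap (centH (stabSubgroup Q f) R hRT hCRT).symm ''
        (irrMap (centH H R hRH hCR) '' g)) := by
    rw [isBrauerPairOf_mid_iff Q hQ f hf (stabSubgroup Q f) hCT le_rfl FT hFT hFTc R hQR hRT,
      image_irrMap_image_symm]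
    exact hns2
  obtain ⟨eT, hmaxT⟩ := exists_isMaximalBrauerPair_of_isDefectGroup hM FT hFT _ hDT
  have hcard := card_le_of_isBrauerPairOf hM FT _ eT hmaxT _ _ hpT
  have hc1 : Nat.card (R.subgroupOf (stabSubgroup Q f)) = Nat.card R :=
    Nat.card_congr (Subgroup.subgroupOfEquivOfLe hRT).toEquiv
  have hc2 : Nat.card ((P ⊓ Subgroup.normalizer (Q : Set G)).subgroupOf (stabSubgroup Q f))
      = Nat.card (P ⊓ Subgroup.normalizer (Q : Set G) : Subgroup G) :=
    Nat.card_congr (Subgroup.subgroupOfEquivOfLe (hDH.trans hHT)).toEquiv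
  rw [hc1, hc2] at hcard
  have := Subgroup.eq_of_le_of_card_ge hDR hcard
  rw [this]

/-- **The extension step**: for `(Q, f) ≤ (P, e)` with `N_P(Q)` a defect group of the block of
`N_G(Q, f)` given by `f`, every pair `(N', f') ⊵ (Q, f)` with `N' ≤ N_P(Q) C_G(Q)` is conjugate
under `C_G(Q)` to a pair below `(P, e)`. -/
theorem exists_conj_centralizer_subpairLE [Fact p.Prime] (hM : Cfsg.IsPModular p M)
    (P Q : Subgroup G)
    (e : Set (Cfsg.IrrCharacter (Subgroup.centralizer (P : Set G))))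
    (f : Set (Cfsg.IrrCharacter (Subgroup.centralizer (Q : Set G))))
    (hPe : Cfsg.IsBrauerPair p M P e) (hQP : Q ≤ P) (hf : Cfsg.IsPBlock M f)
    (hle : Cfsg.SubpairLE p M Q f P e)
    (FT : Set (Cfsg.IrrCharacter (stabSubgroup Q f))) (hFT : Cfsg.IsPBlock M FT)
    (hFTc : ∀ t : stabSubgroup Q f, Cfsg.blockCoeff FT t
      = Cfsg.subgroupBlockCoeff (Subgroup.centralizer (Q : Set G)) f (t : G))
    (hDT : Cfsg.IsDefectGroup p M FT
      ((P ⊓ Subgroup.normalizer (Q : Set G)).subgroupOf (stabSubgroup Q f)))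
    (N' : Subgroup G) (f' : Set (Cfsg.IrrCharacter (Subgroup.centralizer (N' : Set G))))
    (hns : Cfsg.IsNormalSubpair p M Q f N' f')
    (hN'H : N' ≤ (P ⊓ Subgroup.normalizer (Q : Set G)) ⊔ Subgroup.centralizer (Q : Set G)) :
    ∃ c ∈ Subgroup.centralizer (Q : Set G),
      Cfsg.SubpairLE p M (N'.map (MulAut.conj c).toMonoidHom) (Cfsg.conjBlock N' c f') P e := by
  classical
  have hQ : IsPGroup p Q := hPe.1.to_le hQP
  have hQD' : Q ≤ P ⊓ Subgroup.normalizer (Q : Set G) := le_inf hQP Subgroup.le_normalizer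
  obtain ⟨H, hH⟩ : ∃ H : Subgroup G,
      H = (P ⊓ Subgroup.normalizer (Q : Set G)) ⊔ Subgroup.centralizer (Q : Set G) := ⟨_, rfl⟩
  have hDH : P ⊓ Subgroup.normalizer (Q : Set G) ≤ H := hH ▸ le_sup_left
  have hCH : Subgroup.centralizer (Q : Set G) ≤ H := hH ▸ le_sup_right
  have hHT : H ≤ stabSubgroup Q f := by
    rw [hH]
    exact sup_le (normalizerIn_le_stabSubgroup hM P Q e f hPe hQP hle)
      (centralizer_le_stabSubgroup Q f)
  rw [← hH] at hN'H
  haveI : Fintype H := Fintype.ofFinite _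
  obtain ⟨b, hb, hbc⟩ := exists_block_of_mid hM Q hQ f hf H (hQD'.trans hDH) hCH hHT
  obtain ⟨eD, heD, hQD, hDP⟩ := exists_intermediate_subpairLE hM hPe hQD' inf_le_left hle
  have hCD : Subgroup.centralizer ((P ⊓ Subgroup.normalizer (Q : Set G) : Subgroup G) : Set G)
      ≤ H := (Subgroup.centralizer_le (SetLike.coe_subset_coe.mpr hQD')).trans hCH
  have hmaxH := isMaximalBrauerPair_mid hM P Q e f hPe hQP hf FT hFT hFTc hDT H hDH hCH hHT
    b hb hbc eD heD hQD hCD
  have hQN' : Q ≤ N' := hns.2.2.1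
  have hCN' : Subgroup.centralizer (N' : Set G) ≤ H :=
    (Subgroup.centralizer_le (SetLike.coe_subset_coe.mpr hQN')).trans hCH
  have hpair : Cfsg.IsBrauerPairOf p M b (N'.subgroupOf H)
      (irrMap (centH H N' hN'H hCN').symm '' f') := by
    rw [isBrauerPairOf_mid_iff Q hQ f hf H hCH hHT b hb hbc N' hQN' hN'H,
      image_irrMap_image_symm]
    exact hns
  obtain ⟨h, hh⟩ := exists_conj_subpairLE (G := H) hM b _ _ _ _ hmaxH hpair
  have hN'h : N'.map (MulAut.conj (h : G)).toMonoidHom ≤ H := by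
    intro x hx
    rw [mem_map_conj_iff] at hx
    have := H.mul_mem (H.mul_mem h.2 (hN'H hx)) (H.inv_mem h.2)
    have e1 : (h : G) * ((h : G)⁻¹ * x * (h : G)) * (h : G)⁻¹ = x := by group
    rwa [e1] at this
  have hCN'h : Subgroup.centralizer
      ((N'.map (MulAut.conj (h : G)).toMonoidHom : Subgroup G) : Set G) ≤ H := by
    intro x hx
    rw [mem_centralizer_map_conj_iff] at hx
    have := H.mul_mem (H.mul_mem h.2 (hCN' hx)) (H.inv_mem h.2)
    have e1 : (h : G) * ((h : G)⁻¹ * x * (h : G)) * (h : G)⁻¹ = x := by group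
    rwa [e1] at this
  have hh' : Relation.ReflTransGen (Cfsg.NormalSubpairRel p M)
      (conjIdx h (⟨N'.subgroupOf H, irrMap (centH H N' hN'H hCN').symm '' f'⟩ :
        Cfsg.BrauerPairIdx H))
      ⟨(P ⊓ Subgroup.normalizer (Q : Set G)).subgroupOf H,
        irrMap (centH H (P ⊓ Subgroup.normalizer (Q : Set G)) hDH hCD).symm '' eD⟩ := hh
  rw [conjIdx_subgroupOf H N' hN'H hCN' h hN'h hCN'h] at hh'
  have hG := subpairLE_of_subgroupOf H _ _ hN'h hDH hCN'h hCD _ _ hh'
  rw [image_irrMap_image_symm, image_irrMap_image_symm, image_irrMap_image_symm] at hG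
  have hG2 : Cfsg.SubpairLE p M (N'.map (MulAut.conj (h : G)).toMonoidHom)
      (Cfsg.conjBlock N' (h : G) f') P e := Relation.ReflTransGen.trans hG hDP
  -- decompose `h = d * c`
  have hDnC : P ⊓ Subgroup.normalizer (Q : Set G)
      ≤ Subgroup.normalizer ((Subgroup.centralizer (Q : Set G) : Subgroup G) : Set G) :=
    inf_le_right.trans (normalizer_le_normalizer_centralizer Q)
  have hmem : (h : G) ∈ (((P ⊓ Subgroup.normalizer (Q : Set G)) ⊔
      Subgroup.centralizer (Q : Set G) : Subgroup G) : Set G) := by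
    rw [← hH]; exact h.2
  rw [Subgroup.coe_mul_of_left_le_normalizer_right _ _ hDnC] at hmem
  obtain ⟨d, hd, c, hc, hdc⟩ := hmem
  have hdP : d ∈ P := (Subgroup.mem_inf.mp hd).1
  have hG3 := subpairLE_conj_of_mem_stabSubgroup (p := p) (M := M) d⁻¹
    (le_stabSubgroup P e (P.inv_mem hdP)) hG2
  refine ⟨c, hc, ?_⟩
  have hG4 : Relation.ReflTransGen (Cfsg.NormalSubpairRel p M)
      (conjIdx d⁻¹ (conjIdx (h : G) ⟨N', f'⟩)) ⟨P, e⟩ := hG3
  rw [conjIdx_mul] at hG4
  have e2 : d⁻¹ * (h : G) = c := by rw [← hdc]; group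
  rw [e2] at hG4
  exact hG4


/-- **Fully normalized subgroups are receptive.** -/
theorem isReceptive_blockFusionSystem [Fact p.Prime] (hM : Cfsg.IsPModular p M)
    (P : Subgroup G) (e : Set (Cfsg.IrrCharacter (Subgroup.centralizer (P : Set G))))
    (hPe : Cfsg.IsBrauerPair p M P e) (Q : Subgroup G)
    (f : Set (Cfsg.IrrCharacter (Subgroup.centralizer (Q : Set G)))) (hQP : Q ≤ P)
    (hf : Cfsg.IsPBlock M f) (hle : Cfsg.SubpairLE p M Q f P e)
    (FT : Set (Cfsg.IrrCharacter (stabSubgroup Q f))) (hFT : Cfsg.IsPBlock M FT)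
    (hFTc : ∀ t : stabSubgroup Q f, Cfsg.blockCoeff FT t
      = Cfsg.subgroupBlockCoeff (Subgroup.centralizer (Q : Set G)) f (t : G))
    (hDT : Cfsg.IsDefectGroup p M FT
      ((P ⊓ Subgroup.normalizer (Q : Set G)).subgroupOf (stabSubgroup Q f))) :
    (blockFusionSystem hM P e hPe).IsReceptive Q := by
  classical
  refine ⟨hQP, ?_⟩
  intro R φ hφ hrange
  obtain ⟨hRP, g, hg, hgP, fR, hfR1, hfR2⟩ := hφ
  have hQ' : Q = R.map (MulAut.conj g).toMonoidHom := by
    rw [← hrange]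
    exact range_eq_map_conj R g φ hg
  subst hQ'
  have hff : f = Cfsg.conjBlock R g fR := subpairLE_unique hM P e hPe _ hgP f _ hle hfR2
  subst hff
  have hP : IsPGroup p P := hPe.1
  -- the extender
  have hNle : Cfsg.FusionSystem.extender P R φ ≤ P ⊓ Subgroup.normalizer (R : Set G) := by
    unfold Cfsg.FusionSystem.extender
    rw [Subgroup.closure_le]
    intro y hy
    exact Subgroup.mem_inf.mpr ⟨hy.1, hy.2.1⟩
  have hφP : ∀ u : R, φ u ∈ P := by
    intro u
    apply hgP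
    rw [mem_map_conj_iff, hg]
    have e1 : g⁻¹ * (g * (u : G) * g⁻¹) * g = u := by group
    rw [e1]
    exact u.2
  have hRN : R ≤ Cfsg.FusionSystem.extender P R φ := by
    intro u hu
    apply Subgroup.subset_closure
    refine ⟨hRP hu, Subgroup.le_normalizer hu, φ ⟨u, hu⟩, hφP _, ?_⟩
    intro x hx
    have e1 : (⟨u * (x : G) * u⁻¹, hx⟩ : R) = ⟨u, hu⟩ * x * (⟨u, hu⟩ : R)⁻¹ := Subtype.ext rfl
    rw [e1, map_mul, map_mul, map_inv]
  have hNP : Cfsg.FusionSystem.extender P R φ ≤ P := hNle.trans inf_le_left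
  have hNnR : Cfsg.FusionSystem.extender P R φ ≤ Subgroup.normalizer (R : Set G) :=
    hNle.trans inf_le_right
  have hNgH : (Cfsg.FusionSystem.extender P R φ).map (MulAut.conj g).toMonoidHom
      ≤ (P ⊓ Subgroup.normalizer ((R.map (MulAut.conj g).toMonoidHom : Subgroup G) : Set G))
        ⊔ Subgroup.centralizer ((R.map (MulAut.conj g).toMonoidHom : Subgroup G) : Set G) := by
    unfold Cfsg.FusionSystem.extender
    rw [MonoidHom.map_closure, Subgroup.closure_le]
    rintro _ ⟨y, ⟨hyP, hyN, z, hzP, hz⟩, rfl⟩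
    show g * y * g⁻¹ ∈ _
    -- the key identity
    have key : ∀ q ∈ R.map (MulAut.conj g).toMonoidHom,
        (g * y * g⁻¹) * q * (g * y * g⁻¹)⁻¹ = z * q * z⁻¹ ∧
          z * q * z⁻¹ ∈ R.map (MulAut.conj g).toMonoidHom := by
      intro q hq
      rw [mem_map_conj_iff] at hq
      have hx : y * (g⁻¹ * q * g) * y⁻¹ ∈ R :=
        (Subgroup.mem_normalizer_iff.mp hyN _).mp hq
      have h1 := hz ⟨_, hq⟩ hx
      rw [hg, hg] at h1
      simp only at h1
      have e1 : g * (g⁻¹ * q * g) * g⁻¹ = q := by group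
      rw [e1] at h1
      have e2 : (g * y * g⁻¹) * q * (g * y * g⁻¹)⁻¹ = g * (y * (g⁻¹ * q * g) * y⁻¹) * g⁻¹ := by
        group
      refine ⟨by rw [e2, h1], ?_⟩
      rw [← h1, mem_map_conj_iff]
      have e3 : g⁻¹ * (g * (y * (g⁻¹ * q * g) * y⁻¹) * g⁻¹) * g = y * (g⁻¹ * q * g) * y⁻¹ := by
        group
      rw [e3]
      exact hx
    have hzN : z ∈ Subgroup.normalizer
        ((R.map (MulAut.conj g).toMonoidHom : Subgroup G) : Set G) :=
      Subgroup.mem_normalizer_fintype (fun q hq => (key q hq).2)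
    have hzc : z⁻¹ * (g * y * g⁻¹) ∈ Subgroup.centralizer
        ((R.map (MulAut.conj g).toMonoidHom : Subgroup G) : Set G) := by
      rw [Subgroup.mem_centralizer_iff]
      intro q hq
      have h1 := (key q hq).1
      calc q * (z⁻¹ * (g * y * g⁻¹))
          = z⁻¹ * (z * q * z⁻¹) * (g * y * g⁻¹) := by group
        _ = z⁻¹ * ((g * y * g⁻¹) * q * (g * y * g⁻¹)⁻¹) * (g * y * g⁻¹) := by rw [h1]
        _ = z⁻¹ * (g * y * g⁻¹) * q := by group
    have e4 : g * y * g⁻¹ = z * (z⁻¹ * (g * y * g⁻¹)) := by group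
    rw [e4]
    exact Subgroup.mul_mem _ (Subgroup.mem_sup_left (Subgroup.mem_inf.mpr ⟨hzP, hzN⟩))
      (Subgroup.mem_sup_right hzc)
  obtain ⟨fN, hfN1, hfN2, hfN3⟩ := exists_intermediate_subpairLE hM hPe hRN hNP hfR1
  have hns0 : Cfsg.IsNormalSubpair p M R fR (Cfsg.FusionSystem.extender P R φ) fN :=
    isNormalSubpair_of_subpairLE hM ⟨hP.to_le hNP, hfN1⟩ hRN hNnR hfN2
  have hns := isNormalSubpair_conj (p := p) (M := M) g hns0
  obtain ⟨c, hc, hcle⟩ := exists_conj_centralizer_subpairLE hM P _ e _ hPe hgP hf hle FT hFT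
    hFTc hDT _ _ hns hNgH
  have hfin : Cfsg.SubpairLE p M
      ((Cfsg.FusionSystem.extender P R φ).map (MulAut.conj (c * g)).toMonoidHom)
      (Cfsg.conjBlock (Cfsg.FusionSystem.extender P R φ) (c * g) fN) P e := by
    show Relation.ReflTransGen (Cfsg.NormalSubpairRel p M)
      (conjIdx (c * g) ⟨Cfsg.FusionSystem.extender P R φ, fN⟩) ⟨P, e⟩
    rw [← conjIdx_mul]
    exact hcle
  refine ⟨Cfsg.conjHom (Cfsg.FusionSystem.extender P R φ) (c * g),
    isBlockFusionMap_conjHom hNP (c * g) fN hfN3 hfin, ?_⟩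
  intro x hxR hxN
  show c * g * x * (c * g)⁻¹ = φ ⟨x, hxR⟩
  rw [hg]
  have hq : g * x * g⁻¹ ∈ R.map (MulAut.conj g).toMonoidHom := by
    rw [mem_map_conj_iff]
    have e1 : g⁻¹ * (g * x * g⁻¹) * g = x := by group
    rw [e1]
    exact hxR
  have h1 := Subgroup.mem_centralizer_iff.mp hc _ hq
  calc c * g * x * (c * g)⁻¹ = c * (g * x * g⁻¹) * c⁻¹ := by group
    _ = (g * x * g⁻¹) * c * c⁻¹ := by rw [h1]
    _ = g * x * g⁻¹ := by group

/-- **The fusion system of a block on a maximal Brauer pair is saturated.** -/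
theorem isSaturated_blockFusionSystem [Fact p.Prime] (hM : Cfsg.IsPModular p M)
    (B : Set (Cfsg.IrrCharacter G)) (P : Subgroup G)
    (e : Set (Cfsg.IrrCharacter (Subgroup.centralizer (P : Set G))))
    (hmax : Cfsg.IsMaximalBrauerPair p M B P e) :
    (blockFusionSystem hM P e hmax.1.1).IsSaturated p := by
  classical
  have hPe := hmax.1.1
  intro Q hQP
  obtain ⟨f, hf, hle⟩ := exists_subpairLE hM P e hPe Q hQP
  obtain ⟨x, hlex, hDx⟩ := exists_conj_isDefectGroup_normalizerIn hM B P Q e f hmax hQP hf hle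
  have hQxP : Q.map (MulAut.conj x).toMonoidHom ≤ P := le_of_reflTransGen hlex
  have hfx : Cfsg.IsPBlock M (Cfsg.conjBlock Q x f) := by
    rw [conjBlock_eq_image]
    exact isPBlock_image_irrMap _ hf
  obtain ⟨FT, hFT, hFTc⟩ := exists_block_of_stab hM (Q.map (MulAut.conj x).toMonoidHom)
    (hPe.1.to_le hQxP) (Cfsg.conjBlock Q x f) hfx
  have hDT := hDx FT hFT hFTc
  refine ⟨Q.map (MulAut.conj x).toMonoidHom, ?_, ?_, ?_⟩
  · exact ⟨Cfsg.conjHom Q x, isBlockFusionMap_conjHom hQP x f hle hlex,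
      range_eq_map_conj Q x _ (fun _ => rfl)⟩
  · exact isFullyAutomized_blockFusionSystem hM P e hPe _ _ hQxP hfx hlex FT hFT hFTc hDT
  · exact isReceptive_blockFusionSystem hM P e hPe _ _ hQxP hfx hlex FT hFT hFTc hDT

end Receptive

end Cfsg.Agent.Lib.Helper24
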