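import Mathlib
import Cfsg.Prelude.Def_FusionSystem
import Cfsg.Agent.Lib.Helper1.BaerSuzuki

/-!
# Saturated fusion systems with `p`-groups of automorphisms are inner (helper24 library)

Abstract fusion systems (`Cfsg.FusionSystem P`, ambient group `G` finite).

* `fusionSystem_ext`: a fusion system is determined by its maps.
* `exists_of_mem_autInducedBy`: members of `Aut_K(Q)` are conjugations by elements of `K`.
* `exists_aut_of_hom`: a map `R → R` of the system is an element of `Aut_F(R)`.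
* `autGroup_le_autInducedBy`: fully automized with `Aut_F(Q)` a `p`-group gives
  `Aut_F(Q) = Aut_P(Q)`.
* `normalizerIn_le_extender`.
* `hom_inner_of_autGroup_isPGroup`: a saturated fusion system all of whose automorphism groups
  are `p`-groups consists of conjugations by elements of `P` (Frobenius).
-/

set_option autoImplicit false

namespace Cfsg.Agent.Lib.Helper24

section FusionInner

variable {G : Type*} [Group G] {P : Subgroup G} {p : ℕ}

theorem fusionSystem_ext {F F' : Cfsg.FusionSystem P} (h : ∀ Q, F.Hom Q = F'.Hom Q) :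
    F = F' := by
  rcases F with ⟨H1, a1, a2, a3, a4, a5⟩
  rcases F' with ⟨H2, b1, b2, b3, b4, b5⟩
  have hH : H1 = H2 := funext h
  subst hH
  rfl

theorem exists_of_mem_autInducedBy (K Q : Subgroup G) (α : MulAut Q)
    (h : α ∈ Cfsg.autInducedBy K Q) :
    ∃ g ∈ K, ∀ x : Q, ((α x : Q) : G) = g * (x : G) * g⁻¹ := by
  unfold Cfsg.autInducedBy at h
  induction h using Subgroup.closure_induction with
  | mem α hα => exact hα
  | one => exact ⟨1, K.one_mem, fun x => by simp⟩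
  | mul α β _ _ ha hb =>
    obtain ⟨g₁, hg₁, h₁⟩ := ha
    obtain ⟨g₂, hg₂, h₂⟩ := hb
    refine ⟨g₁ * g₂, K.mul_mem hg₁ hg₂, fun x => ?_⟩
    rw [MulAut.mul_apply, h₁, h₂]
    group
  | inv α _ ha =>
    obtain ⟨g, hg, h⟩ := ha
    refine ⟨g⁻¹, K.inv_mem hg, fun x => ?_⟩
    have h1 := h (α⁻¹ x)
    rw [MulAut.apply_inv_self] at h1
    calc ((α⁻¹ x : Q) : G) = g⁻¹ * (g * ((α⁻¹ x : Q) : G) * g⁻¹) * g⁻¹⁻¹ := by group
      _ = g⁻¹ * (x : G) * g⁻¹⁻¹ := by rw [← h1]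

theorem exists_aut_of_hom [Finite G] (F : Cfsg.FusionSystem P) (R : Subgroup G) (θ : R →* G)
    (hθ : θ ∈ F.Hom R) (h : ∀ x : R, θ x ∈ R) :
    ∃ α : MulAut R, α ∈ F.autGroup R ∧ ∀ x : R, ((α x : R) : G) = θ x := by
  have hinj : Function.Injective (θ.codRestrict R h) := fun a b hab =>
    F.injective_of_mem hθ (congrArg Subtype.val hab)
  have hbij := Finite.injective_iff_bijective.mp hinj
  refine ⟨MulEquiv.ofBijective (θ.codRestrict R h) hbij, ?_, fun x => rfl⟩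
  apply Subgroup.subset_closure
  have : R.subtype.comp (MulEquiv.ofBijective (θ.codRestrict R h) hbij).toMonoidHom = θ := by
    ext x
    rfl
  show R.subtype.comp (MulEquiv.ofBijective (θ.codRestrict R h) hbij).toMonoidHom ∈ F.Hom R
  rw [this]
  exact hθ

theorem autGroup_le_autInducedBy [Fact p.Prime] (F : Cfsg.FusionSystem P) (Q : Subgroup G)
    (hFA : F.IsFullyAutomized p Q) (haut : IsPGroup p (F.autGroup Q)) :
    F.autGroup Q ≤ Cfsg.autInducedBy P Q := by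
  obtain ⟨_, R, hR⟩ := hFA
  have htop : (⊤ : Subgroup (F.autGroup Q)) = (R : Subgroup (F.autGroup Q)) :=
    R.is_maximal' (haut.to_subgroup ⊤) le_top
  rw [hR] at htop
  exact Subgroup.subgroupOf_eq_top.mp htop.symm

theorem normalizerIn_le_extender [Fact p.Prime] [Finite G] (F : Cfsg.FusionSystem P)
    (Q : Subgroup G) (ψ : Q →* G) (hψ : ψ ∈ F.Hom Q)
    (hFA : F.IsFullyAutomized p ψ.range) (haut : IsPGroup p (F.autGroup ψ.range)) :
    P ⊓ Subgroup.normalizer (Q : Set G) ≤ Cfsg.FusionSystem.extender P Q ψ := by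
  intro y hy
  obtain ⟨hyP, hyN⟩ := Subgroup.mem_inf.mp hy
  have hQP := (F.le_of_mem hψ).1
  apply Subgroup.subset_closure
  refine ⟨hyP, hyN, ?_⟩
  obtain ⟨ψ', hψ', hinv⟩ := F.inv_mem hψ
  have hc : Cfsg.conjHom Q y ∈ F.Hom Q := F.conj_mem hQP hyP
  have h₁ : ∀ r : ψ.range, ψ' r ∈ Q := by
    rintro ⟨_, x, rfl⟩
    rw [hinv]
    exact x.2
  have hθ₁ := F.comp_mem hψ' hc h₁
  have h₂ : ∀ r : ψ.range, ((Cfsg.conjHom Q y).comp (ψ'.codRestrict Q h₁)) r ∈ Q := by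
    intro r
    show y * (ψ' r) * y⁻¹ ∈ Q
    exact (Subgroup.mem_normalizer_iff.mp hyN _).mp (h₁ r)
  have hθ := F.comp_mem hθ₁ hψ h₂
  obtain ⟨α, hα, hαeq⟩ := exists_aut_of_hom F ψ.range _ hθ (fun r => ⟨_, rfl⟩)
  have hα' := autGroup_le_autInducedBy F _ hFA haut hα
  obtain ⟨z, hzP, hz⟩ := exists_of_mem_autInducedBy P _ α hα'
  refine ⟨z, hzP, ?_⟩
  intro x hx
  have h3 := hz ⟨ψ x, x, rfl⟩
  rw [hαeq] at h3
  rw [← h3]
  show ψ ⟨y * x * y⁻¹, hx⟩ = ψ ⟨y * ψ' ⟨ψ x, x, rfl⟩ * y⁻¹, _⟩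
  apply congrArg
  apply Subtype.ext
  show y * (x : G) * y⁻¹ = y * ψ' ⟨ψ x, x, rfl⟩ * y⁻¹
  rw [hinv]

theorem card_lt_of_lt [Finite G] {H K : Subgroup G} (h : H < K) : Nat.card H < Nat.card K := by
  apply lt_of_le_of_ne (Subgroup.card_le_of_le h.le)
  intro hc
  exact h.ne (Subgroup.eq_of_le_of_card_ge h.le hc.ge)

theorem hom_inner_aux [Fact p.Prime] [Finite G] (F : Cfsg.FusionSystem P) (hP : IsPGroup p P)
    (haut : ∀ Q ≤ P, IsPGroup p (F.autGroup Q))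
    (Q₁ : Subgroup G) (hlt : Q₁ < P)
    (IH : ∀ (Q₃ : Subgroup G) (φ₃ : Q₃ →* G), φ₃ ∈ F.Hom Q₃ → Nat.card Q₁ < Nat.card Q₃ →
      ∃ u ∈ P, ∀ x : Q₃, φ₃ x = u * (x : G) * u⁻¹)
    (ψ₁ : Q₁ →* G) (hψ₁ : ψ₁ ∈ F.Hom Q₁) (hFA : F.IsFullyAutomized p ψ₁.range)
    (hRec : F.IsReceptive ψ₁.range) :
    ∃ u ∈ P, ∀ x : Q₁, ψ₁ x = u * (x : G) * u⁻¹ := by
  have hQP := hlt.le
  have hle := normalizerIn_le_extender F Q₁ ψ₁ hψ₁ hFA (haut _ hFA.1)
  obtain ⟨ψt, hψt, hext⟩ := hRec.2 Q₁ ψ₁ hψ₁ rfl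
  haveI : Group.IsNilpotent P := hP.isNilpotent
  obtain ⟨v, hvP, hvN, hvQ⟩ :=
    Cfsg.Agent.Lib.Helper1.exists_mem_normalizer_notMem_of_lt (D := P) inferInstance hlt
  have hQ₁N : Q₁ ≤ Cfsg.FusionSystem.extender P Q₁ ψ₁ :=
    le_trans (le_inf hQP Subgroup.le_normalizer) hle
  have hlt' : Q₁ < Cfsg.FusionSystem.extender P Q₁ ψ₁ := by
    apply lt_of_le_of_ne hQ₁N
    intro h
    apply hvQ
    rw [h]
    exact hle (Subgroup.mem_inf.mpr ⟨hvP, hvN⟩)
  obtain ⟨u, huP, hu⟩ := IH _ ψt hψt (card_lt_of_lt hlt')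
  refine ⟨u, huP, fun x => ?_⟩
  rw [← hext x x.2 (hQ₁N x.2)]
  exact hu ⟨x, _⟩

/-- **Frobenius for fusion systems**: a saturated fusion system over a `p`-group `P` in which
every `Aut_F(Q)` is a `p`-group consists of conjugations by elements of `P`. -/
theorem hom_inner_of_autGroup_isPGroup [Fact p.Prime] [Finite G] (F : Cfsg.FusionSystem P)
    (hP : IsPGroup p P) (hsat : F.IsSaturated p)
    (haut : ∀ Q ≤ P, IsPGroup p (F.autGroup Q)) :
    ∀ (n : ℕ) (Q : Subgroup G) (φ : Q →* G), φ ∈ F.Hom Q → Nat.card P - Nat.card Q = n →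
      ∃ u ∈ P, ∀ x : Q, φ x = u * (x : G) * u⁻¹ := by
  intro n
  induction n using Nat.strong_induction_on with
  | _ n ih =>
    intro Q φ hφ hn
    have hQP := (F.le_of_mem hφ).1
    have IH : ∀ (Q₃ : Subgroup G) (φ₃ : Q₃ →* G), φ₃ ∈ F.Hom Q₃ →
        Nat.card Q < Nat.card Q₃ → ∃ u ∈ P, ∀ x : Q₃, φ₃ x = u * (x : G) * u⁻¹ := by
      intro Q₃ φ₃ hφ₃ hlt
      have hQ₃P := (F.le_of_mem hφ₃).1
      have := Subgroup.card_le_of_le hQ₃P
      exact ih (Nat.card P - Nat.card Q₃) (by omega) Q₃ φ₃ hφ₃ rfl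
    rcases eq_or_lt_of_le hQP with heq | hlt
    · subst heq
      obtain ⟨Q', ⟨ψ, hψ, hr⟩, hFA, hRec⟩ := hsat Q le_rfl
      have hQ'P : Q' ≤ Q := hFA.1
      have hcard : Nat.card Q' = Nat.card Q := by
        rw [← hr]
        exact Nat.card_congr (MonoidHom.ofInjective (F.injective_of_mem hψ)).toEquiv.symm
      have hQ' : Q' = Q := Subgroup.eq_of_le_of_card_ge hQ'P hcard.ge
      subst hQ'
      obtain ⟨α, hα, hαeq⟩ := exists_aut_of_hom F _ φ hφ (F.le_of_mem hφ).2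
      have hα' := autGroup_le_autInducedBy F _ hFA (haut _ le_rfl) hα
      obtain ⟨z, hzP, hz⟩ := exists_of_mem_autInducedBy _ _ α hα'
      exact ⟨z, hzP, fun x => by rw [← hαeq]; exact hz x⟩
    · obtain ⟨Q', ⟨ψ, hψ, hr⟩, hFA, hRec⟩ := hsat Q hQP
      subst hr
      obtain ⟨u, huP, hu⟩ := hom_inner_aux F hP haut Q hlt IH ψ hψ hFA hRec
      obtain ⟨φ', hφ', hinv⟩ := F.inv_mem hφ
      have h₁ : ∀ r : φ.range, φ' r ∈ Q := by
        rintro ⟨_, x, rfl⟩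
        rw [hinv]
        exact x.2
      have hψ₂ := F.comp_mem hφ' hψ h₁
      have h4 : ∀ x : Q, (ψ.comp (φ'.codRestrict Q h₁)) ⟨φ x, x, rfl⟩ = ψ x := by
        intro x
        show ψ ⟨φ' ⟨φ x, x, rfl⟩, _⟩ = ψ x
        apply congrArg
        apply Subtype.ext
        exact hinv x
      have hr₂ : (ψ.comp (φ'.codRestrict Q h₁)).range = ψ.range := by
        ext y
        constructor
        · rintro ⟨r, rfl⟩
          exact ⟨_, rfl⟩
        · rintro ⟨x, rfl⟩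
          exact ⟨⟨φ x, x, rfl⟩, h4 x⟩
      have hφrP : φ.range ≤ P := by
        rintro _ ⟨x, rfl⟩
        exact (F.le_of_mem hφ).2 x
      have hcard₂ : Nat.card φ.range = Nat.card Q :=
        Nat.card_congr (MonoidHom.ofInjective (F.injective_of_mem hφ)).toEquiv.symm
      have hlt₂ : φ.range < P := by
        apply lt_of_le_of_ne hφrP
        intro h
        have h5 := card_lt_of_lt hlt
        rw [← hcard₂, h] at h5
        exact lt_irrefl _ h5
      have hFA₂ : F.IsFullyAutomized p (ψ.comp (φ'.codRestrict Q h₁)).range := by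
        rw [hr₂]; exact hFA
      have hRec₂ : F.IsReceptive (ψ.comp (φ'.codRestrict Q h₁)).range := by
        rw [hr₂]; exact hRec
      obtain ⟨u₂, hu₂P, hu₂⟩ := hom_inner_aux F hP haut φ.range hlt₂
        (by rw [hcard₂]; exact IH) _ hψ₂ hFA₂ hRec₂
      refine ⟨u₂⁻¹ * u, P.mul_mem (P.inv_mem hu₂P) huP, fun x => ?_⟩
      have h3 := hu₂ ⟨φ x, x, rfl⟩
      rw [h4, hu x] at h3
      calc φ x = u₂⁻¹ * (u₂ * φ x * u₂⁻¹) * u₂ := by group
        _ = u₂⁻¹ * (u * (x : G) * u⁻¹) * u₂ := by rw [← h3]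
        _ = u₂⁻¹ * u * (x : G) * (u₂⁻¹ * u)⁻¹ := by group

end FusionInner

end Cfsg.Agent.Lib.Helper24
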