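import Mathlib
import Cfsg.Prelude.Def_BlockFusion
import Cfsg.Agent.Lib.Helper24.BlockFusionRec
import Cfsg.Agent.Lib.Helper24.FusionInner

/-!
# Nilpotent blocks and inner fusion systems (helper24 library)

* `eq_blockFusionSystem`: a fusion system satisfying `IsBlockFusionSystemOn` is
  `blockFusionSystem`.
* `isPGroup_autGroup_of_nilpotent`: in a nilpotent block all `Aut_F(Q)` are `p`-groups.
* `hom_eq_inner_of_nilpotent`, `nilpotent_of_hom_eq_inner`: a block is nilpotent iff its fusion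
  system is the inner fusion system of `P`.
-/

set_option autoImplicit false

namespace Cfsg.Agent.Lib.Helper24

open Cfsg.Agent.Lib.Helper2 Cfsg.Agent.Lib.Helper7
open scoped ComplexConjugate

section Nil

variable {G : Type*} [Group G] [Fintype G] {p : ℕ} {M : Ideal Cfsg.AlgInt}

theorem eq_blockFusionSystem (hM : Cfsg.IsPModular p M) (B : Set (Cfsg.IrrCharacter G))
    (P : Subgroup G) (e : Set (Cfsg.IrrCharacter (Subgroup.centralizer (P : Set G))))
    (F : Cfsg.FusionSystem P) (hF : Cfsg.IsBlockFusionSystemOn p M B P e F) :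
    F = blockFusionSystem hM P e hF.1.1.1 :=
  fusionSystem_ext (fun Q => Set.ext (fun φ => hF.2 Q φ))

/-- a power of `t` of order prime to `p` -/
theorem exists_pow_isPRegular [Fact p.Prime] (t : G) :
    ∃ k : ℕ, Cfsg.IsPRegular p (t ^ p ^ k) := by
  have hp : p.Prime := Fact.out
  have hn : orderOf t ≠ 0 := (orderOf_pos t).ne'
  obtain ⟨k, m, hm, hkm⟩ := Nat.exists_eq_pow_mul_and_not_dvd hn p hp.ne_one
  refine ⟨k, ?_⟩
  unfold Cfsg.IsPRegular
  rw [orderOf_pow' t (pow_ne_zero k hp.ne_zero), hkm,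
    Nat.gcd_eq_right (dvd_mul_right _ _), Nat.mul_div_cancel_left _ (pow_pos hp.pos k)]
  exact hm

theorem isPGroup_autGroup_of_nilpotent [Fact p.Prime] (hM : Cfsg.IsPModular p M)
    (B : Set (Cfsg.IrrCharacter G)) (P : Subgroup G)
    (e : Set (Cfsg.IrrCharacter (Subgroup.centralizer (P : Set G))))
    (hmax : Cfsg.IsMaximalBrauerPair p M B P e) (hnil : Cfsg.IsNilpotentBlock p M B)
    (Q : Subgroup G) (hQP : Q ≤ P) :
    IsPGroup p ((blockFusionSystem hM P e hmax.1.1).autGroup Q) := by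
  have hPe := hmax.1.1
  obtain ⟨f, hf, hle⟩ := exists_subpairLE hM P e hPe Q hQP
  have hQf : Cfsg.IsBrauerPairOf p M B Q f :=
    (isBrauerPairOf_iff_of_subpairLE hM hPe ⟨hPe.1.to_le hQP, hf⟩ hle B hmax.1.2.1).mp hmax.1
  rw [autGroup_blockFusionSystem hM P e hPe Q f hQP hle]
  rintro ⟨_, t, rfl⟩
  obtain ⟨k, hk⟩ := exists_pow_isPRegular (p := p) (t : G)
  refine ⟨k, ?_⟩
  apply Subtype.ext
  show (stabAut Q f t) ^ p ^ k = 1
  rw [← map_pow, ← MonoidHom.mem_ker, stabAut_ker, Subgroup.mem_subgroupOf]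
  have ht : ((t ^ p ^ k : stabSubgroup Q f) : G) ∈ stabSubgroup Q f := (t ^ p ^ k).2
  obtain ⟨h1, h2⟩ := (mem_stabSubgroup Q f _).mp ht
  exact hnil.2 Q f hQf _ h1 h2 (by rw [Subgroup.coe_pow]; exact hk)

/-- **A nilpotent block has the inner fusion system.** -/
theorem hom_eq_inner_of_nilpotent [Fact p.Prime] (hM : Cfsg.IsPModular p M)
    (B : Set (Cfsg.IrrCharacter G)) (P : Subgroup G)
    (e : Set (Cfsg.IrrCharacter (Subgroup.centralizer (P : Set G))))
    (hmax : Cfsg.IsMaximalBrauerPair p M B P e) (hnil : Cfsg.IsNilpotentBlock p M B)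
    (Q : Subgroup G) :
    (blockFusionSystem hM P e hmax.1.1).Hom Q = (Cfsg.innerFusionSystem P).Hom Q := by
  ext φ
  constructor
  · intro hφ
    have hQP := ((blockFusionSystem hM P e hmax.1.1).le_of_mem hφ).1
    obtain ⟨u, huP, hu⟩ := hom_inner_of_autGroup_isPGroup (blockFusionSystem hM P e hmax.1.1)
      hmax.1.1.1 (isSaturated_blockFusionSystem hM B P e hmax)
      (fun Q hQ => isPGroup_autGroup_of_nilpotent hM B P e hmax hnil Q hQ) _ Q φ hφ rfl
    exact ⟨hQP, u, huP, hu⟩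
  · rintro ⟨hQP, g, hgP, hg⟩
    have h1 : φ = Cfsg.conjHom Q g := by
      ext x
      exact hg x
    rw [h1]
    exact (blockFusionSystem hM P e hmax.1.1).conj_mem hQP hgP

/-- **A block with inner fusion system is nilpotent.** -/
theorem nilpotent_of_hom_eq_inner [Fact p.Prime] (hM : Cfsg.IsPModular p M)
    (B : Set (Cfsg.IrrCharacter G)) (P : Subgroup G)
    (e : Set (Cfsg.IrrCharacter (Subgroup.centralizer (P : Set G))))
    (hmax : Cfsg.IsMaximalBrauerPair p M B P e)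
    (hinner : ∀ Q : Subgroup G,
      (blockFusionSystem hM P e hmax.1.1).Hom Q = (Cfsg.innerFusionSystem P).Hom Q) :
    Cfsg.IsNilpotentBlock p M B := by
  classical
  have hPe := hmax.1.1
  have hp : p.Prime := Fact.out
  refine ⟨hmax.1.2.1, ?_⟩
  intro Q f hQf x hxN hxs hxreg
  obtain ⟨y, hy⟩ := exists_conj_subpairLE hM B P Q e f hmax hQf
  have hx₁T : y * x * y⁻¹ ∈ stabSubgroup (Q.map (MulAut.conj y).toMonoidHom)
      (Cfsg.conjBlock Q y f) :=
    (mem_stabSubgroup_conj_iff Q y f x).mpr ((mem_stabSubgroup Q f x).mpr ⟨hxN, hxs⟩)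
  have hQ₁P : Q.map (MulAut.conj y).toMonoidHom ≤ P := le_of_reflTransGen hy
  have hmem : Cfsg.conjHom (Q.map (MulAut.conj y).toMonoidHom) (y * x * y⁻¹)
      ∈ (blockFusionSystem hM P e hmax.1.1).Hom (Q.map (MulAut.conj y).toMonoidHom) := by
    apply isBlockFusionMap_conjHom hQ₁P _ _ hy
    show Relation.ReflTransGen (Cfsg.NormalSubpairRel p M)
      (conjIdx (y * x * y⁻¹) ⟨Q.map (MulAut.conj y).toMonoidHom, Cfsg.conjBlock Q y f⟩) ⟨P, e⟩
    rw [conjIdx_of_mem_stabSubgroup _ _ _ hx₁T]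
    exact hy
  rw [hinner] at hmem
  obtain ⟨-, u, huP, hu⟩ := hmem
  have hu' : ∀ q ∈ Q.map (MulAut.conj y).toMonoidHom,
      (y * x * y⁻¹) * q * (y * x * y⁻¹)⁻¹ = u * q * u⁻¹ := fun q hq => hu ⟨q, hq⟩
  have hx₁N := ((mem_stabSubgroup _ _ _).mp hx₁T).1
  have huN : u ∈ Subgroup.normalizer
      ((Q.map (MulAut.conj y).toMonoidHom : Subgroup G) : Set G) := by
    apply Subgroup.mem_normalizer_fintype
    intro q hq
    rw [← hu' q hq]
    exact (Subgroup.mem_normalizer_iff.mp hx₁N q).mp hq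
  have huT : u ∈ stabSubgroup (Q.map (MulAut.conj y).toMonoidHom) (Cfsg.conjBlock Q y f) :=
    normalizerIn_le_stabSubgroup hM P _ e _ hPe hQ₁P hy (Subgroup.mem_inf.mpr ⟨huP, huN⟩)
  have hκ : stabAut _ _ (⟨y * x * y⁻¹, hx₁T⟩ : stabSubgroup
      (Q.map (MulAut.conj y).toMonoidHom) (Cfsg.conjBlock Q y f))
      = stabAut _ _ ⟨u, huT⟩ := by
    ext q
    rw [stabAut_apply_coe, stabAut_apply_coe]
    exact hu' q q.2
  -- orders
  have ho1 : orderOf (stabAut _ _ (⟨y * x * y⁻¹, hx₁T⟩ : stabSubgroup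
      (Q.map (MulAut.conj y).toMonoidHom) (Cfsg.conjBlock Q y f))) ∣ orderOf x := by
    have h1 := orderOf_map_dvd (stabAut (Q.map (MulAut.conj y).toMonoidHom)
      (Cfsg.conjBlock Q y f)) (⟨y * x * y⁻¹, hx₁T⟩ : stabSubgroup
      (Q.map (MulAut.conj y).toMonoidHom) (Cfsg.conjBlock Q y f))
    rw [Subgroup.orderOf_mk] at h1
    have h2 : orderOf (y * x * y⁻¹) = orderOf x := (MulAut.conj y).orderOf_eq x
    rwa [h2] at h1
  have ho2 : ∃ k : ℕ, orderOf (stabAut _ _ (⟨y * x * y⁻¹, hx₁T⟩ : stabSubgroup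
      (Q.map (MulAut.conj y).toMonoidHom) (Cfsg.conjBlock Q y f))) ∣ p ^ k := by
    obtain ⟨k, hk⟩ := (IsPGroup.iff_orderOf.mp hPe.1) ⟨u, huP⟩
    rw [Subgroup.orderOf_mk] at hk
    refine ⟨k, ?_⟩
    rw [hκ, ← hk]
    have h1 := orderOf_map_dvd (stabAut (Q.map (MulAut.conj y).toMonoidHom)
      (Cfsg.conjBlock Q y f)) (⟨u, huT⟩ : stabSubgroup
      (Q.map (MulAut.conj y).toMonoidHom) (Cfsg.conjBlock Q y f))
    rwa [Subgroup.orderOf_mk] at h1
  obtain ⟨k, ho2⟩ := ho2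
  have hcop : Nat.Coprime (orderOf x) (p ^ k) :=
    Nat.Coprime.pow_right k ((Nat.Prime.coprime_iff_not_dvd hp).mpr hxreg).symm
  have hone : orderOf (stabAut _ _ (⟨y * x * y⁻¹, hx₁T⟩ : stabSubgroup
      (Q.map (MulAut.conj y).toMonoidHom) (Cfsg.conjBlock Q y f))) = 1 :=
    Nat.eq_one_of_dvd_coprimes hcop ho1 ho2
  rw [orderOf_eq_one_iff, ← MonoidHom.mem_ker, stabAut_ker, Subgroup.mem_subgroupOf] at hone
  have h3 := (mem_centralizer_map_conj_iff Q y _).mp hone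
  have e1 : y⁻¹ * (y * x * y⁻¹) * y = x := by group
  simp only at h3
  rwa [e1] at h3

end Nil

end Cfsg.Agent.Lib.Helper24
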