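import Mathlib
import Cfsg.Agent.Lib.Helper2.GlaubermanCyclic
import Cfsg.Agent.Lib.Helper2.Ito
import Cfsg.Agent.Lib.Helper11.Clifford2
import Cfsg.Agent.Lib.Helper11.CyclicTIGalois

/-!
# Inducing the canonical extension (helper24 library)

`K ⊴ Γ` with `(|Γ : K|, |K|) = 1`.  For `θ ∈ Irr(K)` with inertia group `T`, the canonical
extension `θ̂ ∈ Irr(T)` induces to a character `Φ` of `Γ` with `Φ|_K` the sum of the distinct
conjugates of `θ`, and `Φ (x ^ n) = Φ x` for `n` coprime to `|Γ|` with `n ≡ 1 (mod |K|)`.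
Summing over orbits: every `Γ`-stable finite set of irreducible characters of `K` is the
restriction of such a "rational over `K`" character of `Γ`.
-/

set_option autoImplicit false
set_option linter.unusedSectionVars false
set_option linter.style.haveILetI false
set_option linter.unusedVariables false

namespace Cfsg.Agent.Lib.Helper24.CanonInd

open Cfsg Cfsg.Agent.Lib Cfsg.Agent.Lib.Helper2

section Orbit

variable {Γ : Type*} [Group Γ] [Fintype Γ] (K : Subgroup Γ) [hK : K.Normal]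

open Classical in
/-- the finite set of conjugates of `θ` -/
noncomputable def conjSet (θ : K → ℂ) : Finset (K → ℂ) :=
  Finset.univ.image (fun g : Γ => Helper2.conjFun K g θ)

theorem mem_conjSet {θ ψ : K → ℂ} : ψ ∈ conjSet K θ ↔ ∃ g : Γ, Helper2.conjFun K g θ = ψ := by
  classical
  unfold conjSet
  simp

theorem self_mem_conjSet (θ : K → ℂ) : θ ∈ conjSet K θ :=
  (mem_conjSet K).2 ⟨1, Helper2.conjFun_one K θ⟩

theorem conjFun_mem_conjSet {θ ψ : K → ℂ} (h : ψ ∈ conjSet K θ) (g : Γ) :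
    Helper2.conjFun K g ψ ∈ conjSet K θ := by
  obtain ⟨a, rfl⟩ := (mem_conjSet K).1 h
  exact (mem_conjSet K).2 ⟨a * g, Helper2.conjFun_mul K a g θ⟩

/-- orbit–stabiliser for the sum of the conjugates -/
theorem sum_conjFun_eq (θ : K → ℂ) (k : K) :
    ∑ g : Γ, Helper2.conjFun K g θ k
      = (Nat.card (Helper2.inertia K θ) : ℂ) * ∑ ψ ∈ conjSet K θ, ψ k := by
  classical
  unfold conjSet
  have h1 := Finset.sum_comp (s := (Finset.univ : Finset Γ)) (fun ψ : K → ℂ => ψ k)
    (fun g : Γ => Helper2.conjFun K g θ)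
  rw [h1, Finset.mul_sum]
  apply Finset.sum_congr rfl
  intro ψ hψ
  obtain ⟨g₀, -, rfl⟩ := Finset.mem_image.1 hψ
  have hcard : (Finset.univ.filter (fun a : Γ => Helper2.conjFun K a θ
      = Helper2.conjFun K g₀ θ)).card = Nat.card (Helper2.inertia K θ) := by
    rw [Nat.card_eq_fintype_card, Fintype.card_subtype]
    symm
    apply Finset.card_equiv (Equiv.mulRight g₀)
    intro a
    simp only [Finset.mem_filter, Finset.mem_univ, true_and, Equiv.coe_mulRight]
    rw [Helper2.conjFun_mul, Helper2.mem_inertia]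
    constructor
    · intro ha; rw [ha]
    · intro ha
      have h2 := congrArg (Helper2.conjFun K g₀⁻¹) ha
      have h3 : ∀ φ : K → ℂ, Helper2.conjFun K g₀⁻¹ (Helper2.conjFun K g₀ φ) = φ := by
        intro φ
        rw [← Helper2.conjFun_mul, mul_inv_cancel, Helper2.conjFun_one]
      rw [h3, h3] at h2
      exact h2
  rw [hcard, nsmul_eq_mul]

end Orbit

section Single

variable {Γ : Type*} [Group Γ] [Fintype Γ] (K : Subgroup Γ) [hK : K.Normal]

/-- the canonical extension of `θ` to its inertia group, induced to `Γ` -/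
theorem exists_canon_induced (hcop : Nat.Coprime K.index (Nat.card K))
    {θ : K → ℂ} (hθ : IsIrrCharacter K θ) :
    ∃ Φ : Γ → ℂ, IsCharacter Γ Φ ∧
      (∀ k : K, Φ k = ∑ ψ ∈ conjSet K θ, ψ k) ∧
      (∀ n : ℕ, n.Coprime (Nat.card Γ) → n ≡ 1 [MOD Nat.card K] → ∀ x, Φ (x ^ n) = Φ x) := by
  classical
  obtain ⟨T, hT⟩ : ∃ T : Subgroup Γ, T = Helper2.inertia K θ := ⟨_, rfl⟩
  have hθc : IsClassFunction K θ :=
    Helper25.isClassFunction_of_char (Helper25.isCharacter_of_irr hθ)
  have hKT : K ≤ T := by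
    rw [hT]
    exact Helper2.le_inertia K hθc
  haveI hn : (K.subgroupOf T).Normal := Subgroup.normal_subgroupOf
  obtain ⟨e, he⟩ : ∃ e : K.subgroupOf T ≃* K, ∀ n : K.subgroupOf T, ((e n : K) : Γ) = ((n : T) : Γ) :=
    ⟨Subgroup.subgroupOfEquivOfLe hKT, fun n => rfl⟩
  have hcardN : Nat.card (K.subgroupOf T) = Nat.card K := Nat.card_congr e.toEquiv
  have hidx : (K.subgroupOf T).index ∣ K.index := Subgroup.relIndex_dvd_index_of_normal K T
  have hcop' : Nat.Coprime (K.subgroupOf T).index (Nat.card (K.subgroupOf T)) := by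
    rw [hcardN]
    exact Nat.Coprime.coprime_dvd_left hidx hcop
  obtain ⟨ϑ, hϑdef⟩ : ∃ ϑ : K.subgroupOf T → ℂ, ϑ = θ ∘ e := ⟨_, rfl⟩
  have hϑ : IsIrrCharacter (K.subgroupOf T) ϑ := by
    rw [hϑdef]
    exact Helper11.isIrrCharacter_comp_equiv e hθ
  have hinv : ∀ (g : T) (n : K.subgroupOf T),
      ϑ ⟨g * n * g⁻¹, hn.conj_mem (n : T) n.2 g⟩ = ϑ n := by
    intro g n
    have hg : Helper2.conjFun K (g : Γ) θ = θ := by
      have h0 : (g : Γ) ∈ Helper2.inertia K θ := hT ▸ g.2
      exact h0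
    have h1 := congrFun hg (e n)
    rw [Helper2.conjFun_apply] at h1
    rw [hϑdef, Function.comp_apply, Function.comp_apply, ← h1]
    congr 1
    apply Subtype.ext
    rw [he]
    simp [he]
  obtain ⟨η, hη, hηr, hηd⟩ := GlCyc.canon_exists (K.subgroupOf T) hϑ hcop' hinv
  have hηc : IsCharacter T η := Helper25.isCharacter_of_irr hη
  refine ⟨Cfsg.indFun T η, Helper2.indFun_isCharacter T η hηc, ?_, ?_⟩
  · intro k
    rw [Helper2.indFun_apply]
    have h1 : ∀ x : Γ, Cfsg.extendByZero T η (x⁻¹ * (k : Γ) * x)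
        = Helper2.conjFun K x⁻¹ θ k := by
      intro x
      have hmK : x⁻¹ * (k : Γ) * x ∈ K := by
        have := hK.conj_mem (k : Γ) k.2 x⁻¹
        rwa [inv_inv] at this
      have hmT : x⁻¹ * (k : Γ) * x ∈ T := hKT hmK
      rw [Helper2.extendByZero_of_mem T η hmT]
      have h2 := hηr ⟨⟨x⁻¹ * (k : Γ) * x, hmT⟩, Subgroup.mem_subgroupOf.2 hmK⟩
      rw [h2, hϑdef, Function.comp_apply, Helper2.conjFun_apply]
      congr 1
      apply Subtype.ext
      rw [he]
      simp
    rw [Finset.sum_congr rfl (fun x _ => h1 x)]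
    have h2 : ∑ x : Γ, Helper2.conjFun K x⁻¹ θ k = ∑ x : Γ, Helper2.conjFun K x θ k :=
      Fintype.sum_equiv (Equiv.inv Γ) _ _ (fun x => rfl)
    rw [h2, sum_conjFun_eq K θ k, ← hT, ← mul_assoc, inv_mul_cancel₀, one_mul]
    exact Nat.cast_ne_zero.2 Nat.card_pos.ne'
  · intro n hn1 hn2 x
    have h1 := congrFun (Helper11.indFun_comp_pow T η n hn1) x
    rw [h1]
    congr 1
    funext h
    have hres : IsIrrCharacter (K.subgroupOf T) (fun g : K.subgroupOf T => η g) := by
      have : (fun g : K.subgroupOf T => η g) = ϑ := funext hηr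
      rw [this]
      exact hϑ
    have hdet : Nat.Coprime (K.subgroupOf T).index (detOrder η) :=
      Nat.Coprime.coprime_dvd_right hηd hcop'
    apply GlCyc.canon_pow_invariant (K.subgroupOf T) hcop' hη hres hdet n
    · exact Nat.Coprime.coprime_dvd_right (Subgroup.card_subgroup_dvd_card T) hn1
    · rw [hcardN]
      exact hn2

/-- every `Γ`-stable finite set of irreducible characters of `K` is the restriction of a
character of `Γ` which is fixed by the Galois twists `x ↦ x ^ n`, `n ≡ 1 (mod |K|)` -/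
theorem exists_char_of_stable (hcop : Nat.Coprime K.index (Nat.card K)) :
    ∀ (m : ℕ) (S : Finset (K → ℂ)), S.card = m →
      (∀ θ ∈ S, IsIrrCharacter K θ) → (∀ θ ∈ S, ∀ g : Γ, Helper2.conjFun K g θ ∈ S) →
      ∃ Ψ : Γ → ℂ, IsCharacter Γ Ψ ∧ (∀ k : K, Ψ k = ∑ θ ∈ S, θ k) ∧
        (∀ n : ℕ, n.Coprime (Nat.card Γ) → n ≡ 1 [MOD Nat.card K] →
          ∀ x, Ψ (x ^ n) = Ψ x) := by
  classical
  intro m
  induction m using Nat.strong_induction_on with
  | _ m ih =>
    intro S hS hirr hst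
    by_cases hem : S = ∅
    · refine ⟨0, Helper2.isCharacter_zero, ?_, ?_⟩
      · intro k
        rw [hem, Finset.sum_empty]
        rfl
      · intro n _ _ x
        rfl
    · obtain ⟨θ, hθS⟩ := Finset.nonempty_iff_ne_empty.2 hem
      have hsub : conjSet K θ ⊆ S := by
        intro ψ hψ
        obtain ⟨g, rfl⟩ := (mem_conjSet K).1 hψ
        exact hst θ hθS g
      have hlt : (S \ conjSet K θ).card < m := by
        rw [← hS]
        apply Finset.card_lt_card
        refine ⟨Finset.sdiff_subset, ?_⟩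
        intro h
        have := h hθS
        rw [Finset.mem_sdiff] at this
        exact this.2 (self_mem_conjSet K θ)
      have hirr' : ∀ ψ ∈ S \ conjSet K θ, IsIrrCharacter K ψ :=
        fun ψ hψ => hirr ψ (Finset.mem_sdiff.1 hψ).1
      have hst' : ∀ ψ ∈ S \ conjSet K θ, ∀ g : Γ,
          Helper2.conjFun K g ψ ∈ S \ conjSet K θ := by
        intro ψ hψ g
        rw [Finset.mem_sdiff] at hψ ⊢
        refine ⟨hst ψ hψ.1 g, ?_⟩
        intro h
        apply hψ.2
        have h2 := conjFun_mem_conjSet K h g⁻¹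
        rw [← Helper2.conjFun_mul, mul_inv_cancel, Helper2.conjFun_one] at h2
        exact h2
      obtain ⟨Ψ', hΨ', hres', hpow'⟩ := ih _ hlt (S \ conjSet K θ) rfl hirr' hst'
      obtain ⟨Φ, hΦ, hresΦ, hpowΦ⟩ := exists_canon_induced K hcop (hirr θ hθS)
      refine ⟨Ψ' + Φ, Helper2.isCharacter_add hΨ' hΦ, ?_, ?_⟩
      · intro k
        rw [Pi.add_apply, hres', hresΦ, Finset.sum_sdiff hsub]
      · intro n hn1 hn2 x
        rw [Pi.add_apply, Pi.add_apply, hpow' n hn1 hn2, hpowΦ n hn1 hn2]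

end Single

section Sums

variable {K : Type*} [Group K] [Finite K]

/-- if a sum of character values at `k` equals the sum of the degrees, then each value is the
degree -/
theorem eq_of_sum_eq {ι : Type*} (s : Finset ι) (f : ι → K → ℂ)
    (hf : ∀ i ∈ s, IsCharacter K (f i)) (k : K)
    (h : ∑ i ∈ s, f i k = ∑ i ∈ s, f i 1) : ∀ i ∈ s, f i k = f i 1 := by
  classical
  have hex : ∀ i ∈ s, ∃ n : ℕ, f i 1 = (n : ℂ) ∧ ∀ g : K, ‖f i g‖ ≤ (n : ℝ) :=
    fun i hi => Helper11.IsCharacter.exists_degree_norm_le (hf i hi)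
  have hre : ∑ i ∈ s, (f i k).re = ∑ i ∈ s, (f i 1).re := by
    have := congrArg Complex.re h
    rwa [Complex.re_sum, Complex.re_sum] at this
  have hle : ∀ i ∈ s, (f i k).re ≤ (f i 1).re := by
    intro i hi
    obtain ⟨n, h1, h2⟩ := hex i hi
    rw [h1]
    simp only [Complex.natCast_re]
    exact le_trans (Complex.re_le_norm _) (h2 k)
  intro i hi
  have h3 := (Finset.sum_eq_sum_iff_of_le hle).1 hre i hi
  obtain ⟨n, h1, h2⟩ := hex i hi
  rw [h1] at h3 ⊢
  simp only [Complex.natCast_re] at h3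
  exact Helper11.eq_of_re_eq_of_norm_le h3 (h2 k)

end Sums

section Main

variable {Γ : Type*} [Group Γ] [Fintype Γ] (K : Subgroup Γ) [hK : K.Normal]

/-- `K ⊴ Γ` of index coprime to `|K|`: every character `χ` of `Γ` can be replaced by a character
`Ψ` of no larger degree, whose kernel on `K` is contained in that of `χ`, and which is fixed by the
Galois twists `x ↦ x ^ n` for `n ≡ 1 (mod |K|)`. -/
theorem exists_rational_over (hcop : Nat.Coprime K.index (Nat.card K)) {χ : Γ → ℂ}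
    (hχ : IsCharacter Γ χ) :
    ∃ Ψ : Γ → ℂ, IsCharacter Γ Ψ ∧ charDegree Ψ ≤ charDegree χ ∧
      (∀ k : K, Ψ k = Ψ 1 → χ k = χ 1) ∧
      (∀ n : ℕ, n.Coprime (Nat.card Γ) → n ≡ 1 [MOD Nat.card K] → ∀ x, Ψ (x ^ n) = Ψ x) := by
  classical
  haveI : Fintype K := Fintype.ofFinite K
  haveI : Fintype (IrrCharacter K) := Fintype.ofFinite _
  obtain ⟨φ, hφdef⟩ : ∃ φ : K → ℂ, φ = fun k : K => χ k := ⟨_, rfl⟩
  have hφ : IsCharacter K φ := by
    rw [hφdef]
    exact Helper2.IsCharacter.restrict hχ K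
  have hχc : IsClassFunction Γ χ := Helper25.isClassFunction_of_char hχ
  have hmult : ∀ θ : IrrCharacter K, ∃ a : ℕ, classInner φ (θ : K → ℂ) = (a : ℂ) :=
    fun θ => Helper2.classInner_isCharacter_nat hφ (Helper25.isCharacter_of_irr θ.2)
  choose a ha using hmult
  have hexp : ∀ k : K, φ k = ∑ θ : IrrCharacter K, (a θ : ℂ) * (θ : K → ℂ) k := by
    intro k
    rw [Helper25.classFunction_expansion φ (Helper25.isClassFunction_of_char hφ) k]
    exact Finset.sum_congr rfl (fun θ _ => by rw [ha])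
  obtain ⟨S0, hS0⟩ : ∃ S0 : Finset (IrrCharacter K), S0 = Finset.univ.filter (fun θ => a θ ≠ 0) :=
    ⟨_, rfl⟩
  have hmemS0 : ∀ θ : IrrCharacter K, θ ∈ S0 ↔ a θ ≠ 0 := by
    intro θ
    rw [hS0, Finset.mem_filter]
    exact ⟨fun h => h.2, fun h => ⟨Finset.mem_univ _, h⟩⟩
  obtain ⟨S, hSdef⟩ : ∃ S : Finset (K → ℂ), S = S0.image Subtype.val := ⟨_, rfl⟩
  have hSirr : ∀ θ ∈ S, IsIrrCharacter K θ := by
    intro θ hθ
    rw [hSdef] at hθ
    obtain ⟨θ', _, rfl⟩ := Finset.mem_image.1 hθ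
    exact θ'.2
  have hSst : ∀ θ ∈ S, ∀ g : Γ, Helper2.conjFun K g θ ∈ S := by
    intro θ hθ g
    rw [hSdef] at hθ ⊢
    obtain ⟨θ', hθ', rfl⟩ := Finset.mem_image.1 hθ
    have hirr := Helper2.isIrrCharacter_conjFun K g θ'.2
    refine Finset.mem_image.2 ⟨⟨_, hirr⟩, ?_, rfl⟩
    rw [hmemS0] at hθ' ⊢
    intro h0
    apply hθ'
    have h1 := ha ⟨_, hirr⟩
    have h2 := ha θ'
    have h3 : classInner φ (Helper2.conjFun K g (θ' : K → ℂ)) = classInner φ (θ' : K → ℂ) := by
      rw [hφdef]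
      exact Helper2.classInner_restrict_conjFun K hχc _ g
    rw [h3, h2, h0] at h1
    exact_mod_cast h1
  obtain ⟨Ψ, hΨ, hres, hpow⟩ := exists_char_of_stable K hcop _ S rfl hSirr hSst
  have hsumS : ∀ k : K, Ψ k = ∑ θ ∈ S0, (θ : K → ℂ) k := by
    intro k
    rw [hres, hSdef, Finset.sum_image]
    intro x _ y _ h
    exact Subtype.ext h
  refine ⟨Ψ, hΨ, ?_, ?_, hpow⟩
  · have h1 : (charDegree Ψ : ℂ) = ∑ θ ∈ S0, ((charDegree (θ : K → ℂ) : ℕ) : ℂ) := by
      rw [← Helper25.char_one_eq_charDegree hΨ]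
      have := hsumS 1
      rw [OneMemClass.coe_one] at this
      rw [this]
      apply Finset.sum_congr rfl
      intro θ _
      exact Helper25.char_one_eq_charDegree (Helper25.isCharacter_of_irr θ.2)
    have h2 : (charDegree χ : ℂ)
        = ∑ θ : IrrCharacter K, (a θ : ℂ) * ((charDegree (θ : K → ℂ) : ℕ) : ℂ) := by
      rw [← Helper25.char_one_eq_charDegree hχ]
      have := hexp 1
      rw [hφdef] at this
      simp only [OneMemClass.coe_one] at this
      rw [this]
      apply Finset.sum_congr rfl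
      intro θ _
      rw [Helper25.char_one_eq_charDegree (Helper25.isCharacter_of_irr θ.2)]
    have h1' : charDegree Ψ = ∑ θ ∈ S0, charDegree (θ : K → ℂ) := by exact_mod_cast h1
    have h2' : charDegree χ = ∑ θ : IrrCharacter K, a θ * charDegree (θ : K → ℂ) := by
      exact_mod_cast h2
    rw [h1', h2']
    calc ∑ θ ∈ S0, charDegree (θ : K → ℂ) ≤ ∑ θ ∈ S0, a θ * charDegree (θ : K → ℂ) := by
          apply Finset.sum_le_sum
          intro θ hθ
          have : a θ ≠ 0 := (hmemS0 θ).1 hθ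
          exact Nat.le_mul_of_pos_left _ (Nat.pos_of_ne_zero this)
      _ ≤ ∑ θ : IrrCharacter K, a θ * charDegree (θ : K → ℂ) :=
          Finset.sum_le_sum_of_subset (Finset.subset_univ _)
  · intro k hk
    have h1 : ∑ θ ∈ S0, (θ : K → ℂ) k = ∑ θ ∈ S0, (θ : K → ℂ) 1 := by
      have e1 := hsumS k
      have e2 := hsumS 1
      rw [OneMemClass.coe_one] at e2
      rw [← e1, ← e2]
      exact hk
    have h2 := eq_of_sum_eq S0 (fun θ => (θ : K → ℂ))
      (fun θ _ => Helper25.isCharacter_of_irr θ.2) k h1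
    have h3 : χ k = φ k := by rw [hφdef]
    have h4 : χ 1 = φ 1 := by
      rw [hφdef]
      simp
    rw [h3, h4, hexp k, hexp 1]
    apply Finset.sum_congr rfl
    intro θ _
    by_cases h0 : a θ = 0
    · rw [h0]
      simp
    · rw [h2 θ ((hmemS0 θ).2 h0)]

end Main

end Cfsg.Agent.Lib.Helper24.CanonInd
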