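import Mathlib

/-!
# Embeddings into regular wreath products (helper24 library)

* `kkEmbed N : G →* N ≀ᵣ (G ⧸ N)` (Kaloujnine–Krasner), injective;
* `mapLeft f : D₁ ≀ᵣ Q →* D₂ ≀ᵣ Q` for `f : D₁ →* D₂`, injective when `f` is.
-/

set_option autoImplicit false

namespace Cfsg.Agent.Lib.Helper24.WreathM

open RegularWreathProduct

section KK

variable {G : Type*} [Group G] (N : Subgroup G) [hN : N.Normal]

/-- the chosen section of `G → G ⧸ N` -/
noncomputable def sec (q : G ⧸ N) : G := Quotient.out q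

theorem mk_sec (q : G ⧸ N) : ((sec N q : G) : G ⧸ N) = q := QuotientGroup.out_eq' q

theorem kk_mem (g : G) (q : G ⧸ N) :
    (sec N q)⁻¹ * g * sec N ((g : G ⧸ N)⁻¹ * q) ∈ N := by
  rw [← QuotientGroup.eq_one_iff]
  simp only [QuotientGroup.mk_mul, QuotientGroup.mk_inv, mk_sec]
  group

/-- the Kaloujnine–Krasner embedding -/
noncomputable def kkEmbed : G →* N ≀ᵣ (G ⧸ N) where
  toFun g := ⟨fun q => ⟨(sec N q)⁻¹ * g * sec N ((g : G ⧸ N)⁻¹ * q), kk_mem N g q⟩, (g : G ⧸ N)⟩
  map_one' := by
    ext q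
    · simp
    · rfl
  map_mul' g h := by
    ext q
    · simp only [mul_left, Pi.mul_apply, Subgroup.coe_mul, QuotientGroup.mk_mul, mul_inv_rev]
      rw [mul_assoc ((h : G ⧸ N)⁻¹)]
      group
    · rfl

theorem kkEmbed_injective : Function.Injective (kkEmbed N) := by
  rw [injective_iff_map_eq_one]
  intro g hg
  have h1 : ((kkEmbed N g).left 1 : G) = 1 := by rw [hg]; rfl
  have h2 : (kkEmbed N g).right = 1 := by rw [hg]; rfl
  have h3 : (g : G ⧸ N) = 1 := h2
  simp only [kkEmbed, MonoidHom.coe_mk, OneHom.coe_mk] at h1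
  rw [h3, inv_one, one_mul] at h1
  have : g = sec N 1 * ((sec N 1)⁻¹ * g * sec N 1) * (sec N 1)⁻¹ := by group
  rw [this, h1, mul_one, mul_inv_cancel]

end KK

section MapLeft

variable {D₁ D₂ Q : Type*} [Group D₁] [Group D₂] [Group Q]

/-- functoriality of the wreath product in the base factor -/
def mapLeft (f : D₁ →* D₂) : D₁ ≀ᵣ Q →* D₂ ≀ᵣ Q where
  toFun w := ⟨fun q => f (w.left q), w.right⟩
  map_one' := by
    ext q
    · simp
    · rfl
  map_mul' a b := by
    ext q
    · simp
    · rfl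

theorem mapLeft_injective {f : D₁ →* D₂} (hf : Function.Injective f) :
    Function.Injective (mapLeft (Q := Q) f) := by
  intro a b hab
  have h1 : ∀ q, f (a.left q) = f (b.left q) := by
    intro q
    have := congrArg (fun w => w.left q) hab
    exact this
  have h2 : a.right = b.right := congrArg (fun w => w.right) hab
  ext q
  · exact hf (h1 q)
  · exact h2

end MapLeft

end Cfsg.Agent.Lib.Helper24.WreathM
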