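import Mathlib
import Cfsg.Prelude.Def_Characters
import Cfsg.Agent.Lib.Helper2.DirectProduct
import Cfsg.Agent.Lib.Helper2.Regular
import Cfsg.Agent.Lib.Helper2.Induction
import Cfsg.Agent.Lib.Helper25.Linear

/-!
# Irreducible characters of a finite power `ι → D` of a finite group (helper24 library)

`piFun φ x = ∏ i, φ i (x i)`; products of irreducible characters are irreducible, every
irreducible character of `ι → D` is such a product, and induction commutes with products.
-/

set_option autoImplicit false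

namespace Cfsg.Agent.Lib.Helper24.PiChar

open Cfsg.Agent.Lib.Helper2
open scoped ComplexConjugate

variable {ι : Type*} [Fintype ι] [DecidableEq ι] {D : Type*} [Group D] [Fintype D]

/-- the product function on `ι → D` of a family of functions on `D` -/
noncomputable def piFun (φ : ι → D → ℂ) : (ι → D) → ℂ := fun x => ∏ i, φ i (x i)

theorem piFun_apply (φ : ι → D → ℂ) (x : ι → D) : piFun φ x = ∏ i, φ i (x i) := rfl

theorem sum_piFun (φ : ι → D → ℂ) : ∑ x : ι → D, piFun φ x = ∏ i, ∑ d : D, φ i d := by
  classical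
  simp only [piFun]
  rw [Finset.prod_univ_sum]
  rfl

theorem classInner_piFun (φ φ' : ι → D → ℂ) :
    Cfsg.classInner (piFun φ) (piFun φ') = ∏ i, Cfsg.classInner (φ i) (φ' i) := by
  classical
  simp only [classInner_def]
  have h1 : ∀ x : ι → D, piFun φ x * conj (piFun φ' x)
      = piFun (fun i d => φ i d * conj (φ' i d)) x := by
    intro x
    simp only [piFun, map_prod, Finset.prod_mul_distrib]
  simp only [h1, sum_piFun]
  rw [Finset.prod_mul_distrib, Finset.prod_const, Finset.card_univ]
  congr 1
  rw [Nat.card_eq_fintype_card, Fintype.card_pi, Finset.prod_const, Finset.card_univ,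
    Nat.card_eq_fintype_card]
  push_cast
  rw [inv_pow]

theorem isCharacter_one' {G : Type*} [Group G] : Cfsg.IsCharacter G (fun _ => (1 : ℂ)) :=
  Cfsg.Agent.Lib.Helper25.isCharacter_of_irr Cfsg.Agent.Lib.Helper25.isIrrCharacter_one

theorem isCharacter_finset_prod {G : Type*} [Group G] {κ : Type*} (s : Finset κ)
    (f : κ → G → ℂ) (h : ∀ i ∈ s, Cfsg.IsCharacter G (f i)) :
    Cfsg.IsCharacter G (fun g => ∏ i ∈ s, f i g) := by
  classical
  induction s using Finset.induction_on with
  | empty =>
    simp only [Finset.prod_empty]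
    exact isCharacter_one'
  | insert a s ha ih =>
    have h1 := isCharacter_mul (h a (Finset.mem_insert_self a s))
      (ih (fun i hi => h i (Finset.mem_insert_of_mem hi)))
    have h2 : (fun g => ∏ i ∈ insert a s, f i g) = f a * fun g => ∏ i ∈ s, f i g := by
      funext g
      rw [Finset.prod_insert ha, Pi.mul_apply]
    rw [h2]
    exact h1

theorem isCharacter_piFun {φ : ι → D → ℂ} (h : ∀ i, Cfsg.IsCharacter D (φ i)) :
    Cfsg.IsCharacter (ι → D) (piFun φ) := by
  have := isCharacter_finset_prod (G := ι → D) Finset.univ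
    (fun i x => φ i (x i))
    (fun i _ => IsCharacter.comp (h i) (Pi.evalMonoidHom (fun _ : ι => D) i))
  exact this

theorem isIrrCharacter_piFun {φ : ι → D → ℂ} (h : ∀ i, Cfsg.IsIrrCharacter D (φ i)) :
    Cfsg.IsIrrCharacter (ι → D) (piFun φ) := by
  apply isIrrCharacter_of_classInner_self_eq_one
  · exact isCharacter_piFun (fun i => IsIrrCharacter.isCharacter (h i))
  · rw [classInner_piFun]
    apply Finset.prod_eq_one
    intro i _
    exact classInner_irrCharacter_self (⟨φ i, h i⟩ : Cfsg.IrrCharacter D)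

/-- the product map on families of irreducible characters -/
noncomputable def irrPi (φ : ι → Cfsg.IrrCharacter D) : Cfsg.IrrCharacter (ι → D) :=
  ⟨piFun (fun i => (φ i : D → ℂ)), isIrrCharacter_piFun (fun i => (φ i).2)⟩

theorem irrPi_injective : Function.Injective (irrPi (ι := ι) (D := D)) := by
  classical
  intro φ φ' hpq
  by_contra hne
  have h1 : Cfsg.classInner ((irrPi φ : Cfsg.IrrCharacter (ι → D)) : (ι → D) → ℂ)
      ((irrPi φ' : Cfsg.IrrCharacter (ι → D)) : (ι → D) → ℂ) = 1 := by
    rw [hpq]; exact classInner_irrCharacter_self _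
  simp only [irrPi] at h1
  rw [classInner_piFun] at h1
  have hne' : ∃ i, φ i ≠ φ' i := by
    by_contra hcon
    push Not at hcon
    exact hne (funext hcon)
  obtain ⟨i, hi⟩ := hne'
  rw [Finset.prod_eq_zero (Finset.mem_univ i) (classInner_irrCharacter_ne hi)] at h1
  exact zero_ne_one h1

/-- Every irreducible character of `ι → D` is a product. -/
theorem irrPi_surjective : Function.Surjective (irrPi (ι := ι) (D := D)) := by
  classical
  haveI : Fintype (Cfsg.IrrCharacter D) := Fintype.ofFinite _
  haveI : Fintype (Cfsg.IrrCharacter (ι → D)) := Fintype.ofFinite _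
  have hdeg : ∀ θ : Cfsg.IrrCharacter (ι → D), ∃ n : ℕ, 0 < n ∧ (θ : (ι → D) → ℂ) 1 = (n : ℂ) :=
    fun θ => IsIrrCharacter.apply_one θ.2
  choose d hdpos hd using hdeg
  have hcard : Nat.card (ι → D) = Nat.card D ^ Fintype.card ι := by
    rw [Nat.card_eq_fintype_card, Fintype.card_pi, Finset.prod_const, Finset.card_univ,
      Nat.card_eq_fintype_card]
  have hall : ∑ θ : Cfsg.IrrCharacter (ι → D), (d θ) ^ 2 = Nat.card D ^ Fintype.card ι := by
    have h := sum_irr_degree_sq (G := ι → D)
    simp only [hd, hcard] at h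
    exact_mod_cast h
  have himg : ∑ θ ∈ Finset.univ.image (irrPi (ι := ι) (D := D)), (d θ) ^ 2
      = Nat.card D ^ Fintype.card ι := by
    rw [Finset.sum_image (fun p _ q _ h => irrPi_injective h)]
    have h1 := sum_irr_degree_sq (G := D)
    have h3 : ((∑ p : ι → Cfsg.IrrCharacter D, (d (irrPi p)) ^ 2 : ℕ) : ℂ)
        = (Nat.card D : ℂ) ^ Fintype.card ι := by
      push_cast
      rw [← h1]
      have h4 : ∀ p : ι → Cfsg.IrrCharacter D, ((d (irrPi p) : ℂ)) ^ 2
          = ∏ i, ((p i : D → ℂ) 1) ^ 2 := by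
        intro p
        rw [← hd (irrPi p)]
        simp only [irrPi, piFun, Pi.one_apply]
        rw [Finset.prod_pow]
      simp only [h4]
      rw [← Finset.card_univ, ← Finset.prod_const, Finset.prod_univ_sum]
      rfl
    exact_mod_cast h3
  intro θ
  by_contra hθ
  have hθ' : θ ∉ Finset.univ.image (irrPi (ι := ι) (D := D)) := by
    intro hmem
    obtain ⟨p, _, hp⟩ := Finset.mem_image.mp hmem
    exact hθ ⟨p, hp⟩
  have hsplit := Finset.sum_sdiff (f := fun θ => (d θ) ^ 2)
    (Finset.subset_univ (Finset.univ.image (irrPi (ι := ι) (D := D))))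
  rw [himg, hall] at hsplit
  have hzero : ∑ θ ∈ Finset.univ \ Finset.univ.image (irrPi (ι := ι) (D := D)), (d θ) ^ 2
      = 0 := by omega
  have := (Finset.sum_eq_zero_iff.mp hzero) θ (Finset.mem_sdiff.mpr ⟨Finset.mem_univ θ, hθ'⟩)
  have hpos := hdpos θ
  have : d θ = 0 := by
    rcases Nat.eq_zero_or_pos (d θ) with h | h
    · exact h
    · exact absurd this (pow_pos h 2).ne'
  omega

/-- The irreducible characters of `ι → D` are the products of irreducible characters. -/
theorem exists_piFun_of_isIrrCharacter {θ : (ι → D) → ℂ} (h : Cfsg.IsIrrCharacter (ι → D) θ) :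
    ∃ φ : ι → D → ℂ, (∀ i, Cfsg.IsIrrCharacter D (φ i)) ∧ θ = piFun φ := by
  obtain ⟨p, hp⟩ := irrPi_surjective (⟨θ, h⟩ : Cfsg.IrrCharacter (ι → D))
  refine ⟨fun i => (p i : D → ℂ), fun i => (p i).2, ?_⟩
  have := congrArg Subtype.val hp
  exact this.symm

end Cfsg.Agent.Lib.Helper24.PiChar
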