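import Mathlib
import Cfsg.Prelude.Def_Characters
import Cfsg.Agent.Lib.Helper24.PiChar
import Cfsg.Agent.Lib.Helper24.Transport
import Cfsg.Agent.Lib.Helper2.NormalInduction

/-!
# The regular wreath product `D ≀ᵣ Q`: base group, coordinate subgroups, induced functions
(helper24 library)
-/

set_option autoImplicit false

namespace Cfsg.Agent.Lib.Helper24.WreathM

open RegularWreathProduct Cfsg.Agent.Lib.Helper2 Cfsg.Agent.Lib.Helper24.PiChar
open scoped ComplexConjugate

variable {D : Type*} [Group D] {Q : Type*} [Group Q]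

/-- the base group of the wreath product -/
def base (D : Type*) [Group D] (Q : Type*) [Group Q] : Subgroup (D ≀ᵣ Q) :=
  (rightHom : D ≀ᵣ Q →* Q).ker

instance base_normal : (base D Q).Normal := MonoidHom.normal_ker _

theorem mem_base (w : D ≀ᵣ Q) : w ∈ base D Q ↔ w.right = 1 := by
  unfold base
  rw [MonoidHom.mem_ker]
  rfl

/-- the base group is the power `Q → D` -/
def baseEquiv (D : Type*) [Group D] (Q : Type*) [Group Q] : (Q → D) ≃* base D Q where
  toFun f := ⟨⟨f, 1⟩, (mem_base _).2 rfl⟩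
  invFun k := k.1.left
  left_inv f := rfl
  right_inv k := by
    apply Subtype.ext
    ext
    · rfl
    · exact ((mem_base _).1 k.2).symm
  map_mul' f g := by
    apply Subtype.ext
    ext q
    · simp
    · simp

theorem baseEquiv_apply_left (f : Q → D) : ((baseEquiv D Q f : base D Q) : D ≀ᵣ Q).left = f := rfl

theorem baseEquiv_symm_apply (k : base D Q) : (baseEquiv D Q).symm k = k.1.left := rfl

/-- conjugation of a base element -/
theorem conj_base_left (a f : Q → D) (c : Q) (t : Q) :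
    ((⟨a, c⟩ : D ≀ᵣ Q)⁻¹ * ⟨f, 1⟩ * ⟨a, c⟩).left t = (a (c * t))⁻¹ * f (c * t) * a (c * t) := by
  simp [mul_assoc]

theorem conj_base_right (a f : Q → D) (c : Q) :
    ((⟨a, c⟩ : D ≀ᵣ Q)⁻¹ * ⟨f, 1⟩ * ⟨a, c⟩).right = 1 := by
  simp

theorem conj_right (x w : D ≀ᵣ Q) : (x⁻¹ * w * x).right = x.right⁻¹ * w.right * x.right := by
  simp

/-- conjugation by `inl c` shifts the coordinates -/
theorem inl_conj_left (f : Q → D) (c : Q) (t : Q) :
    ((inl c : D ≀ᵣ Q) * (⟨f, 1⟩ : D ≀ᵣ Q) * (inl c)⁻¹).left t = f (c⁻¹ * t) := by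
  simp

/-- the subgroup of the base group with `q`-th coordinate in `H q` -/
def famSub (H : Q → Subgroup D) : Subgroup (D ≀ᵣ Q) where
  carrier := {w | w.right = 1 ∧ ∀ q, w.left q ∈ H q}
  mul_mem' := by
    intro a b ha hb
    refine ⟨by rw [mul_right, ha.1, hb.1, one_mul], fun q => ?_⟩
    rw [mul_left, Pi.mul_apply, ha.1, inv_one, one_mul]
    exact (H q).mul_mem (ha.2 q) (hb.2 q)
  one_mem' := ⟨rfl, fun q => (H q).one_mem⟩
  inv_mem' := by
    intro a ha
    refine ⟨by rw [inv_right, ha.1, inv_one], fun q => ?_⟩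
    rw [inv_left, ha.1]
    show (a.left⁻¹) (1 * q) ∈ H q
    rw [one_mul, Pi.inv_apply]
    exact (H q).inv_mem (ha.2 q)

theorem mem_famSub (H : Q → Subgroup D) (w : D ≀ᵣ Q) :
    w ∈ famSub H ↔ w.right = 1 ∧ ∀ q, w.left q ∈ H q := Iff.rfl

/-- the subgroup with all coordinates in `H` -/
def coordSub (Q : Type*) [Group Q] (H : Subgroup D) : Subgroup (D ≀ᵣ Q) where
  carrier := {w | ∀ q, w.left q ∈ H}
  mul_mem' := by
    intro a b ha hb q
    rw [mul_left, Pi.mul_apply]
    exact H.mul_mem (ha q) (hb _)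
  one_mem' := fun q => H.one_mem
  inv_mem' := by
    intro a ha q
    rw [inv_left]
    exact H.inv_mem (ha _)

theorem mem_coordSub (H : Subgroup D) (w : D ≀ᵣ Q) :
    w ∈ coordSub Q H ↔ ∀ q, w.left q ∈ H := Iff.rfl

variable [Fintype Q]

/-- the product of a family of linear characters, on `famSub H` -/
noncomputable def famHom (H : Q → Subgroup D) (μ : ∀ q, H q →* ℂˣ) : famSub H →* ℂˣ where
  toFun w := ∏ q, μ q ⟨w.1.left q, w.2.2 q⟩
  map_one' := by
    apply Finset.prod_eq_one
    intro q _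
    exact (μ q).map_one
  map_mul' a b := by
    rw [← Finset.prod_mul_distrib]
    apply Finset.prod_congr rfl
    intro q _
    rw [← map_mul]
    congr 1
    apply Subtype.ext
    simp only [Subgroup.coe_mul, mul_left, Pi.mul_apply]
    rw [a.2.1, inv_one, one_mul]

/-- the product linear character on `coordSub Q H` -/
noncomputable def coordHom (H : Subgroup D) (μ : H →* ℂˣ) : coordSub Q H →* ℂˣ where
  toFun w := ∏ q, μ ⟨w.1.left q, w.2 q⟩
  map_one' := by
    apply Finset.prod_eq_one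
    intro q _
    exact μ.map_one
  map_mul' a b := by
    have h1 : ∀ q, μ ⟨(a * b).1.left q, (a * b).2 q⟩
        = μ ⟨a.1.left q, a.2 q⟩ * μ ⟨b.1.left (a.1.right⁻¹ * q), b.2 _⟩ := by
      intro q
      rw [← map_mul]
      congr 1
    simp only [h1]
    rw [Finset.prod_mul_distrib]
    congr 1
    exact Fintype.prod_equiv (Equiv.mulLeft (a.1.right⁻¹)) _ _ (fun q => rfl)

end Cfsg.Agent.Lib.Helper24.WreathM
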