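import Mathlib
import Cfsg.Prelude.Def_Characters
import Cfsg.Agent.Lib.Helper24.WreathBase

/-!
# Induced functions on the regular wreath product `D ≀ᵣ Q` (helper24 library)
-/

set_option autoImplicit false

namespace Cfsg.Agent.Lib.Helper24.WreathM

open RegularWreathProduct Cfsg.Agent.Lib.Helper2 Cfsg.Agent.Lib.Helper24.PiChar
open scoped ComplexConjugate

variable {D : Type*} [Group D] [Fintype D] {Q : Type*} [Group Q] [Fintype Q] [DecidableEq Q]
  [Fintype (D ≀ᵣ Q)]

theorem sum_wreath (F : D ≀ᵣ Q → ℂ) :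
    ∑ w : D ≀ᵣ Q, F w = ∑ c : Q, ∑ a : Q → D, F ⟨a, c⟩ := by
  rw [Fintype.sum_equiv (equivProd D Q) F (fun p => F ⟨p.1, p.2⟩) (fun w => rfl),
    Fintype.sum_prod_type, Finset.sum_comm]

theorem conj_base (a f : Q → D) (c : Q) :
    (⟨a, c⟩ : D ≀ᵣ Q)⁻¹ * ⟨f, 1⟩ * ⟨a, c⟩
      = ⟨fun t => (a (c * t))⁻¹ * f (c * t) * a (c * t), 1⟩ := by
  ext t
  · exact conj_base_left a f c t
  · exact conj_base_right a f c

theorem card_base : Nat.card (base D Q) = Nat.card D ^ Fintype.card Q := by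
  rw [← Nat.card_congr (baseEquiv D Q).toEquiv, Nat.card_eq_fintype_card, Fintype.card_pi,
    Finset.prod_const, Finset.card_univ, Nat.card_eq_fintype_card]

/-- `famSub H` is the product of the `H q` -/
def famSubEquiv (H : Q → Subgroup D) : famSub H ≃ (∀ q, H q) where
  toFun w := fun q => ⟨w.1.left q, w.2.2 q⟩
  invFun h := ⟨⟨fun q => (h q : D), 1⟩, rfl, fun q => (h q).2⟩
  left_inv w := by
    apply Subtype.ext
    ext
    · rfl
    · exact w.2.1.symm
  right_inv h := rfl

theorem card_famSub (H : Q → Subgroup D) : Nat.card (famSub H) = ∏ q, Nat.card (H q) := by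
  rw [Nat.card_congr (famSubEquiv H), Nat.card_pi]

/-- `coordSub Q H` is `(Q → H) × Q` -/
def coordSubEquiv (H : Subgroup D) : coordSub Q H ≃ (Q → H) × Q where
  toFun w := (fun q => ⟨w.1.left q, w.2 q⟩, w.1.right)
  invFun p := ⟨⟨fun q => (p.1 q : D), p.2⟩, fun q => (p.1 q).2⟩
  left_inv w := rfl
  right_inv p := rfl

theorem card_coordSub (H : Subgroup D) :
    Nat.card (coordSub Q H) = Nat.card H ^ Fintype.card Q * Fintype.card Q := by
  rw [Nat.card_congr (coordSubEquiv H), Nat.card_prod, Nat.card_pi, Finset.prod_const,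
    Finset.card_univ, Nat.card_eq_fintype_card (α := Q)]

theorem ext_famSub (H : Q → Subgroup D) (μ : ∀ q, H q →* ℂˣ) (w : D ≀ᵣ Q) :
    Cfsg.extendByZero (famSub H) (fun v => ((famHom H μ v : ℂˣ) : ℂ)) w
      = if w.right = 1 then
          ∏ q, Cfsg.extendByZero (H q) (fun h => ((μ q h : ℂˣ) : ℂ)) (w.left q) else 0 := by
  by_cases hw : w ∈ famSub H
  · rw [extendByZero_of_mem _ _ hw, if_pos hw.1]
    simp only [famHom, MonoidHom.coe_mk, OneHom.coe_mk, Units.coe_prod]
    apply Finset.prod_congr rfl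
    intro q _
    rw [extendByZero_of_mem _ _ (hw.2 q)]
  · rw [extendByZero_of_not_mem _ _ hw]
    by_cases h1 : w.right = 1
    · rw [if_pos h1]
      have : ∃ q, w.left q ∉ H q := by
        by_contra hcon
        push Not at hcon
        exact hw ⟨h1, hcon⟩
      obtain ⟨q, hq⟩ := this
      symm
      apply Finset.prod_eq_zero (Finset.mem_univ q)
      exact extendByZero_of_not_mem _ _ hq
    · rw [if_neg h1]

theorem ext_coordSub (H : Subgroup D) (μ : H →* ℂˣ) (w : D ≀ᵣ Q) :
    Cfsg.extendByZero (coordSub Q H) (fun v => ((coordHom H μ v : ℂˣ) : ℂ)) w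
      = ∏ q, Cfsg.extendByZero H (fun h => ((μ h : ℂˣ) : ℂ)) (w.left q) := by
  by_cases hw : w ∈ coordSub Q H
  · rw [extendByZero_of_mem _ _ hw]
    simp only [coordHom, MonoidHom.coe_mk, OneHom.coe_mk, Units.coe_prod]
    apply Finset.prod_congr rfl
    intro q _
    rw [extendByZero_of_mem _ _ (hw q)]
  · rw [extendByZero_of_not_mem _ _ hw]
    have : ∃ q, w.left q ∉ H := by
      by_contra hcon
      push Not at hcon
      exact hw hcon
    obtain ⟨q, hq⟩ := this
    symm
    apply Finset.prod_eq_zero (Finset.mem_univ q)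
    exact extendByZero_of_not_mem _ _ hq

/-- reindexing a sum over `Q → D` by a translation of `Q` -/
theorem sum_comp_mulLeft (c : Q) (F : (Q → D) → ℂ) :
    ∑ a : Q → D, F (fun t => a (c * t)) = ∑ a : Q → D, F a := by
  apply Fintype.sum_equiv ((Equiv.mulLeft c⁻¹).arrowCongr (Equiv.refl D)) _ _
  intro a
  congr 1
  funext t
  simp [Equiv.arrowCongr]

/-- the sum over `d` of the extension by zero of `μ` at `d⁻¹ y d` -/
theorem sum_ext_conj (H : Subgroup D) (φ : H → ℂ) (y : D) :
    ∑ d : D, Cfsg.extendByZero H φ (d⁻¹ * y * d) = (Nat.card H : ℂ) * Cfsg.indFun H φ y := by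
  rw [indFun_apply, ← mul_assoc, mul_inv_cancel₀ (card_subgroup_ne_zero H), one_mul]

/-- the function induced from `famSub H`, on the base group -/
theorem indFun_famSub_base (H : Q → Subgroup D) (μ : ∀ q, H q →* ℂˣ) (f : Q → D) :
    Cfsg.indFun (famSub H) (fun v => ((famHom H μ v : ℂˣ) : ℂ)) (⟨f, 1⟩ : D ≀ᵣ Q)
      = ∑ c : Q, ∏ t, Cfsg.indFun (H t) (fun h => ((μ t h : ℂˣ) : ℂ)) (f (c * t)) := by
  rw [indFun_apply, sum_wreath, Finset.mul_sum]
  apply Finset.sum_congr rfl
  intro c _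
  have h1 : ∀ a : Q → D,
      Cfsg.extendByZero (famSub H) (fun v => ((famHom H μ v : ℂˣ) : ℂ))
        ((⟨a, c⟩ : D ≀ᵣ Q)⁻¹ * ⟨f, 1⟩ * ⟨a, c⟩)
      = piFun (fun t d => Cfsg.extendByZero (H t) (fun h => ((μ t h : ℂˣ) : ℂ))
          (d⁻¹ * f (c * t) * d)) (fun t => a (c * t)) := by
    intro a
    rw [conj_base, ext_famSub, if_pos rfl]
    rfl
  simp only [h1]
  rw [sum_comp_mulLeft c (piFun _), sum_piFun]
  simp only [sum_ext_conj]
  rw [Finset.prod_mul_distrib, card_famSub, ← mul_assoc]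
  push_cast
  rw [inv_mul_cancel₀, one_mul]
  rw [Finset.prod_ne_zero_iff]
  intro q _
  exact card_subgroup_ne_zero (H q)

/-- the function induced from `coordSub Q H`, on the base group -/
theorem indFun_coordSub_base (H : Subgroup D) (μ : H →* ℂˣ) (f : Q → D) :
    Cfsg.indFun (coordSub Q H) (fun v => ((coordHom H μ v : ℂˣ) : ℂ)) (⟨f, 1⟩ : D ≀ᵣ Q)
      = ∏ t, Cfsg.indFun H (fun h => ((μ h : ℂˣ) : ℂ)) (f t) := by
  rw [indFun_apply, sum_wreath]
  have h1 : ∀ (c : Q) (a : Q → D),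
      Cfsg.extendByZero (coordSub Q H) (fun v => ((coordHom H μ v : ℂˣ) : ℂ))
        ((⟨a, c⟩ : D ≀ᵣ Q)⁻¹ * ⟨f, 1⟩ * ⟨a, c⟩)
      = piFun (fun t d => Cfsg.extendByZero H (fun h => ((μ h : ℂˣ) : ℂ))
          (d⁻¹ * f t * d)) a := by
    intro c a
    rw [conj_base, ext_coordSub]
    simp only [piFun]
    exact Fintype.prod_equiv (Equiv.mulLeft c) _ _ (fun t => rfl)
  simp only [h1, sum_piFun, sum_ext_conj]
  rw [Finset.sum_const, Finset.card_univ, nsmul_eq_mul, Finset.prod_mul_distrib,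
    Finset.prod_const, Finset.card_univ, card_coordSub]
  push_cast
  have hH : (Nat.card H : ℂ) ≠ 0 := card_subgroup_ne_zero H
  have hQ : (Fintype.card Q : ℂ) ≠ 0 := by
    exact_mod_cast Fintype.card_ne_zero
  field_simp

/-- the function induced from the base group, for a product of class functions -/
theorem indFun_base (φ : Q → D → ℂ) (hφ : ∀ q, Cfsg.IsClassFunction D (φ q)) (f : Q → D) :
    Cfsg.indFun (base D Q) (fun k => ∏ t, φ t (k.1.left t)) (⟨f, 1⟩ : D ≀ᵣ Q)
      = ∑ c : Q, ∏ t, φ t (f (c * t)) := by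
  rw [indFun_apply, sum_wreath, Finset.mul_sum]
  apply Finset.sum_congr rfl
  intro c _
  have h1 : ∀ a : Q → D,
      Cfsg.extendByZero (base D Q) (fun k => ∏ t, φ t (k.1.left t))
        ((⟨a, c⟩ : D ≀ᵣ Q)⁻¹ * ⟨f, 1⟩ * ⟨a, c⟩) = ∏ t, φ t (f (c * t)) := by
    intro a
    rw [conj_base, extendByZero_of_mem _ _ ((mem_base _).2 rfl)]
    apply Finset.prod_congr rfl
    intro t _
    have := hφ t (f (c * t)) (a (c * t))⁻¹
    rw [inv_inv] at this
    exact this
  simp only [h1]
  rw [Finset.sum_const, Finset.card_univ, nsmul_eq_mul, card_base, ← mul_assoc, Fintype.card_pi,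
    Finset.prod_const, Finset.card_univ]
  push_cast
  rw [Nat.card_eq_fintype_card, inv_mul_cancel₀, one_mul]
  exact pow_ne_zero _ (by exact_mod_cast Fintype.card_ne_zero)

/-- off the base group, the function induced from `famSub H` vanishes -/
theorem indFun_famSub_off (H : Q → Subgroup D) (φ : famSub H → ℂ) {w : D ≀ᵣ Q}
    (hw : w.right ≠ 1) : Cfsg.indFun (famSub H) φ w = 0 := by
  rw [indFun_apply]
  have : ∀ x : D ≀ᵣ Q, Cfsg.extendByZero (famSub H) φ (x⁻¹ * w * x) = 0 := by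
    intro x
    apply extendByZero_of_not_mem
    intro hx
    apply hw
    have h1 := hx.1
    rw [conj_right] at h1
    have h2 : w.right = x.right * (x.right⁻¹ * w.right * x.right) * x.right⁻¹ := by group
    rw [h2, h1, mul_one, mul_inv_cancel]
  simp [this]

/-- **Induction from `famSub H` equals induction from the base group** of the product of the
induced characters. -/
theorem indFun_famSub_eq (H : Q → Subgroup D) (μ : ∀ q, H q →* ℂˣ) :
    Cfsg.indFun (famSub H) (fun v => ((famHom H μ v : ℂˣ) : ℂ))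
      = Cfsg.indFun (base D Q)
          (fun k => ∏ t, Cfsg.indFun (H t) (fun h => ((μ t h : ℂˣ) : ℂ)) (k.1.left t)) := by
  funext w
  by_cases hw : w.right = 1
  · have hw' : w = ⟨w.left, 1⟩ := by
      ext
      · rfl
      · exact hw
    rw [hw', indFun_famSub_base, indFun_base]
    intro q
    exact indFun_isClassFunction (H q) _
  · rw [indFun_famSub_off H _ hw, indFun_apply_not_mem (base D Q) _ (fun h => hw ((mem_base _).1 h))]

end Cfsg.Agent.Lib.Helper24.WreathM
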