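import Mathlib
import Cfsg.Prelude.Def_Characters
import Cfsg.Agent.Lib.Helper24.WreathInd
import Cfsg.Agent.Lib.Helper2.BrolineGarrison
import Cfsg.Agent.Lib.Helper2.RelGallagher
import Cfsg.Agent.Lib.Helper2.GaloisConjPGroup
import Cfsg.Agent.Lib.Helper7.CliffordCentral

/-!
# The wreath product of an M-group with a group of prime order is an M-group
(helper24 library)
-/

set_option autoImplicit false

namespace Cfsg.Agent.Lib.Helper24.WreathM

open RegularWreathProduct Cfsg.Agent.Lib.Helper2 Cfsg.Agent.Lib.Helper24.PiChar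
open scoped ComplexConjugate

/-- `M` is an M-group: every irreducible character is induced from a linear character. -/
def IsMGrp (M : Type*) [Group M] [Fintype M] : Prop :=
  ∀ χ : M → ℂ, Cfsg.IsIrrCharacter M χ →
    ∃ (H : Subgroup M) (lam : ↥H →* ℂˣ), χ = Cfsg.indFun H (fun h => ((lam h : ℂˣ) : ℂ))

/-- a character with irreducible restriction to a subgroup is irreducible -/
theorem isIrrCharacter_of_restrict {G : Type*} [Group G] [Fintype G] (K : Subgroup G)
    [Fintype K] {ψ : G → ℂ} (hψ : Cfsg.IsCharacter G ψ)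
    (h : Cfsg.IsIrrCharacter K (fun k : K => ψ k)) : Cfsg.IsIrrCharacter G ψ := by
  have h0 : ψ ≠ 0 := by
    intro h0
    have := IsIrrCharacter.apply_one_ne_zero h
    apply this
    show ψ ((1 : K) : G) = 0
    rw [h0]; rfl
  obtain ⟨χ₁, Ψ', hΨ', hsum⟩ := exists_irr_add_of_ne_zero hψ h0
  have hA : Cfsg.IsCharacter K (fun k : K => (χ₁ : G → ℂ) k) :=
    IsCharacter.restrict (IsIrrCharacter.isCharacter χ₁.2) K
  have hC : Cfsg.IsCharacter K (fun k : K => Ψ' k) := IsCharacter.restrict hΨ' K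
  have hsplit : (fun k : K => ψ k) = (fun k : K => (χ₁ : G → ℂ) k) + fun k : K => Ψ' k := by
    funext k
    rw [hsum]; rfl
  have hnorm := classInner_irrCharacter_self (⟨_, h⟩ : Cfsg.IrrCharacter K)
  simp only at hnorm
  rw [hsplit, classInner_add_left, classInner_add_right, classInner_add_right] at hnorm
  obtain ⟨a, ha⟩ := classInner_isCharacter_nat hA hA
  obtain ⟨b, hb⟩ := classInner_isCharacter_nat hA hC
  obtain ⟨b', hb'⟩ := classInner_isCharacter_nat hC hA
  obtain ⟨c, hc⟩ := classInner_isCharacter_nat hC hC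
  rw [ha, hb, hb', hc] at hnorm
  have hnat : a + b + (b' + c) = 1 := by exact_mod_cast hnorm
  have ha0 : a ≠ 0 := by
    intro ha0
    rw [ha0, Nat.cast_zero] at ha
    have := eq_zero_of_classInner_self_eq_zero _ ha
    have h1 := congrFun this 1
    exact IsIrrCharacter.apply_one_ne_zero χ₁.2 h1
  have hc0 : c = 0 := by omega
  rw [hc0, Nat.cast_zero] at hc
  have hC0 := eq_zero_of_classInner_self_eq_zero _ hc
  have hΨ1 : Ψ' 1 = 0 := congrFun hC0 1
  have hΨ0 := BG.eq_zero_of_apply_one_eq_zero hΨ' hΨ1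
  rw [hsum, hΨ0, add_zero]
  exact χ₁.2

variable {D : Type*} [Group D] [Fintype D] {Q : Type*} [Group Q] [Fintype Q] [DecidableEq Q]
  [Fintype (D ≀ᵣ Q)]

/-- an irreducible character of the base group is a product of irreducible characters -/
theorem exists_piFun_base (θ : Cfsg.IrrCharacter (base D Q)) :
    ∃ φ : Q → D → ℂ, (∀ q, Cfsg.IsIrrCharacter D (φ q)) ∧
      ∀ k : base D Q, (θ : base D Q → ℂ) k = ∏ t, φ t (k.1.left t) := by
  haveI : Finite (base D Q) := inferInstance
  obtain ⟨φ, hφ, hθ⟩ := exists_piFun_of_isIrrCharacter (irrMap (baseEquiv D Q).symm θ).2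
  refine ⟨φ, hφ, fun k => ?_⟩
  have h1 := congrFun hθ (k.1.left)
  rw [irrMap_apply] at h1
  have h2 : (baseEquiv D Q).symm.symm (k.1.left) = k := by
    rw [MulEquiv.symm_symm]
    exact (baseEquiv D Q).apply_symm_apply k
  rw [h2] at h1
  rw [h1]
  rfl

theorem commutator_le_base (hQ : ∀ a b : Q, a * b = b * a) :
    commutator (D ≀ᵣ Q) ≤ base D Q := by
  rw [commutator_def, Subgroup.commutator_le]
  intro x _ y _
  rw [mem_base]
  show (x * y * x⁻¹ * y⁻¹).right = 1
  simp only [mul_right, inv_right]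
  rw [hQ x.right y.right, mul_assoc, mul_assoc, mul_inv_cancel_left, mul_inv_cancel]

/-- the conjugate of a product character of the base group by `inl c` -/
theorem conjFun_inl (θ : base D Q → ℂ) (φ : Q → D → ℂ)
    (hθ : ∀ k : base D Q, θ k = ∏ t, φ t (k.1.left t)) (c : Q) (f : Q → D) :
    Cfsg.Agent.Lib.Helper2.conjFun (base D Q) (inl c) θ (baseEquiv D Q f) = ∏ s, φ (c * s) (f s) := by
  rw [Cfsg.Agent.Lib.Helper2.conjFun_apply, hθ]
  have h1 : ∀ t, φ t ((⟨(inl c : D ≀ᵣ Q) * ((baseEquiv D Q f : base D Q) : D ≀ᵣ Q) * (inl c)⁻¹,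
      (base_normal (D := D) (Q := Q)).conj_mem _ (baseEquiv D Q f).2 (inl c)⟩ : base D Q).1.left t)
      = φ t (f (c⁻¹ * t)) := by
    intro t
    congr 1
    exact inl_conj_left f c t
  simp only [h1]
  apply Fintype.prod_equiv (Equiv.mulLeft c⁻¹) _ _
  intro t
  simp

/-- the stabilizer of a nonconstant product character is the base group -/
theorem mem_base_of_conjFun_eq (hp : (Nat.card Q).Prime) (θ : Cfsg.IrrCharacter (base D Q))
    (φ : Q → D → ℂ) (hφ : ∀ q, Cfsg.IsIrrCharacter D (φ q))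
    (hθ : ∀ k : base D Q, (θ : base D Q → ℂ) k = ∏ t, φ t (k.1.left t))
    (hnc : ¬ ∀ q, φ q = φ 1) (g : D ≀ᵣ Q)
    (hg : Cfsg.Agent.Lib.Helper2.conjFun (base D Q) g (θ : base D Q → ℂ) = (θ : base D Q → ℂ)) : g ∈ base D Q := by
  classical
  rw [mem_base]
  by_contra hc
  apply hnc
  have hk : g * (inl g.right)⁻¹ ∈ base D Q := by
    rw [mem_base]
    simp
  have hg2 : g = (g * (inl g.right)⁻¹) * inl g.right := by group
  have hθcf : Cfsg.IsClassFunction (base D Q) (θ : base D Q → ℂ) :=
    IrrCharacter.isClassFunction θ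
  rw [hg2, conjFun_mul, conjFun_of_mem (base D Q) hθcf hk] at hg
  have hfun : ∀ f : Q → D, ∏ s, φ (g.right * s) (f s) = ∏ s, φ s (f s) := by
    intro f
    rw [← conjFun_inl (θ : base D Q → ℂ) φ hθ g.right f, hg, hθ]
    rfl
  have hirr : irrPi (fun s => (⟨φ (g.right * s), hφ _⟩ : Cfsg.IrrCharacter D))
      = irrPi (fun s => (⟨φ s, hφ s⟩ : Cfsg.IrrCharacter D)) := by
    apply Subtype.ext
    funext f
    exact hfun f
  have hshift : ∀ s, φ (g.right * s) = φ s := by
    intro s
    have := congrFun (irrPi_injective hirr) s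
    exact congrArg Subtype.val this
  have hpow : ∀ n : ℕ, φ (g.right ^ n) = φ 1 := by
    intro n
    induction n with
    | zero => rw [pow_zero]
    | succ n ih => rw [pow_succ', hshift, ih]
  intro q
  haveI : Fact (Nat.card Q).Prime := ⟨hp⟩
  have htop := zpowers_eq_top_of_prime_card (G := Q) rfl hc
  have hq : q ∈ Subgroup.zpowers g.right := by rw [htop]; exact Subgroup.mem_top q
  rw [← mem_powers_iff_mem_zpowers] at hq
  obtain ⟨n, hn⟩ := hq
  rw [← hn]
  exact hpow n

/-- **The wreath product of an M-group with a group of prime order is an M-group.** -/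
theorem isMGrp_wreath (hD : IsMGrp D) (hp : (Nat.card Q).Prime) : IsMGrp (D ≀ᵣ Q) := by
  classical
  intro χ hχ
  haveI : Fintype (base D Q) := Fintype.ofFinite _
  obtain ⟨θ, hθχ⟩ := Helper7.exists_constituent_restrict (N := base D Q) (⟨χ, hχ⟩ : Cfsg.IrrCharacter _)
  simp only at hθχ
  obtain ⟨φ, hφ, hθ⟩ := exists_piFun_base θ
  have hmon : ∀ q, ∃ (H : Subgroup D) (lam : ↥H →* ℂˣ),
      φ q = Cfsg.indFun H (fun h => ((lam h : ℂˣ) : ℂ)) := fun q => hD (φ q) (hφ q)
  choose H μ hHμ using hmon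
  have hθfun : (θ : base D Q → ℂ)
      = fun k => ∏ t, Cfsg.indFun (H t) (fun h => ((μ t h : ℂˣ) : ℂ)) (k.1.left t) := by
    funext k
    rw [hθ]
    apply Finset.prod_congr rfl
    intro t _
    rw [hHμ t]
  have hχcf : Cfsg.IsClassFunction (D ≀ᵣ Q) χ :=
    IsCharacter.isClassFunction (IsIrrCharacter.isCharacter hχ)
  by_cases hconst : ∀ q, φ q = φ 1
  · -- all factors equal: extend and use Gallagher
    have hQcomm : ∀ a b : Q, a * b = b * a := by
      haveI : Fact (Nat.card Q).Prime := ⟨hp⟩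
      haveI := isCyclic_of_prime_card (α := Q) rfl
      intro a b
      exact (IsCyclic.commutative (α := Q)).is_comm.comm a b
    obtain ⟨ψ, hψdef⟩ : ∃ ψ : D ≀ᵣ Q → ℂ, ψ = Cfsg.indFun (coordSub Q (H 1))
        (fun v => ((coordHom (H 1) (μ 1) v : ℂˣ) : ℂ)) := ⟨_, rfl⟩
    have hψchar : Cfsg.IsCharacter (D ≀ᵣ Q) ψ := by
      rw [hψdef]
      apply indFun_isCharacter
      exact Helper25.isCharacter_of_irr (Helper25.isIrrCharacter_of_hom (coordHom (H 1) (μ 1)))
    have hψres : (fun k : base D Q => ψ k) = (θ : base D Q → ℂ) := by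
      funext k
      have hk : (k : D ≀ᵣ Q) = ⟨k.1.left, 1⟩ := by
        ext
        · rfl
        · exact (mem_base _).1 k.2
      rw [hψdef, hk, indFun_coordSub_base, hθ]
      apply Finset.prod_congr rfl
      intro t _
      rw [hconst t, hHμ 1]
    have hψresirr : Cfsg.IsIrrCharacter (base D Q) (fun k : base D Q => ψ k) := by
      rw [hψres]; exact θ.2
    have hψirr : Cfsg.IsIrrCharacter (D ≀ᵣ Q) ψ :=
      isIrrCharacter_of_restrict (base D Q) hψchar hψresirr
    obtain ⟨-, -, h3⟩ := RelG.gallagher_type (base D Q) hψirr hψresirr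
    have hne : Cfsg.classInner (fun n : base D Q => χ n) (fun n : base D Q => ψ n) ≠ 0 := by
      rw [hψres]; exact hθχ
    obtain ⟨β, hβ, hβker, hβψ⟩ := h3 χ hχ hne
    have hβ1 : β 1 = 1 := by
      apply GCP.degree_one_of_commutator_le_ker hβ
      intro g hg
      exact hβker g (commutator_le_base hQcomm hg)
    obtain ⟨lam, hlam⟩ := exists_monoidHom_of_isIrrCharacter_of_apply_one hβ hβ1
    have hβcf : Cfsg.IsClassFunction (D ≀ᵣ Q) β :=
      IsCharacter.isClassFunction (IsIrrCharacter.isCharacter hβ)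
    refine ⟨coordSub Q (H 1), coordHom (H 1) (μ 1) * lam.comp (coordSub Q (H 1)).subtype, ?_⟩
    rw [← hβψ, mul_comm, hψdef, ← Helper7.indFun_mul_restrict _ _ β hβcf]
    congr 1
    funext v
    rw [Pi.mul_apply, hlam]
    simp
  · -- not all equal: induced from the base group
    have hstab : ∀ g : D ≀ᵣ Q,
        Cfsg.Agent.Lib.Helper2.conjFun (base D Q) g (θ : base D Q → ℂ) = (θ : base D Q → ℂ) ↔ g ∈ base D Q := by
      intro g
      constructor
      · exact mem_base_of_conjFun_eq hp θ φ hφ hθ hconst g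
      · intro hg
        exact conjFun_of_mem (base D Q) (IrrCharacter.isClassFunction θ) hg
    have hcount := card_mul_classInner_indFun_indFun (base D Q) θ.2 θ.2
    have hcard : Nat.card {g : D ≀ᵣ Q // Cfsg.Agent.Lib.Helper2.conjFun (base D Q) g (θ : base D Q → ℂ)
        = (θ : base D Q → ℂ)} = Nat.card (base D Q) := by
      apply Nat.card_congr
      exact Equiv.subtypeEquivRight hstab
    rw [hcard] at hcount
    have hnorm : Cfsg.classInner (Cfsg.indFun (base D Q) (θ : base D Q → ℂ))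
        (Cfsg.indFun (base D Q) (θ : base D Q → ℂ)) = 1 := by
      have h0 : (Nat.card (base D Q) : ℂ) ≠ 0 := card_subgroup_ne_zero (base D Q)
      have := mul_left_cancel₀ h0 (hcount.trans (mul_one _).symm)
      exact this
    have hindchar : Cfsg.IsCharacter (D ≀ᵣ Q) (Cfsg.indFun (base D Q) (θ : base D Q → ℂ)) :=
      indFun_isCharacter _ _ (IsIrrCharacter.isCharacter θ.2)
    have hindirr := isIrrCharacter_of_classInner_self_eq_one hindchar hnorm
    have hfr := frobenius_reciprocity (base D Q) (θ : base D Q → ℂ) χ hχcf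
    have hne : Cfsg.classInner (Cfsg.indFun (base D Q) (θ : base D Q → ℂ)) χ ≠ 0 := by
      rw [hfr, ← classInner_conj_symm]
      exact fun h0 => hθχ ((map_eq_zero _).1 h0)
    have heq : Cfsg.indFun (base D Q) (θ : base D Q → ℂ) = χ := by
      by_contra hcon
      apply hne
      have := classInner_irrCharacter_ne (χ := (⟨_, hindirr⟩ : Cfsg.IrrCharacter (D ≀ᵣ Q)))
        (ψ := ⟨χ, hχ⟩) (fun h => hcon (congrArg Subtype.val h))
      exact this
    refine ⟨famSub H, famHom H μ, ?_⟩
    rw [indFun_famSub_eq, ← hθfun, heq]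

end Cfsg.Agent.Lib.Helper24.WreathM
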