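import Mathlib
import Cfsg.Agent.Lib.Helper24.CentralTypeQuot
import Cfsg.Agent.Lib.Helper24.WreathMGroup
import Cfsg.Agent.Lib.Helper24.WreathEmbed

/-!
# Central type is preserved by wreath products with a group of prime order (helper24 library)

If `θ ∈ Irr(K)` is fully ramified over its centre `Z`, then `(K × C_p) ≀ᵣ C_p` has an irreducible
character `χ'`, induced from a product character of the base group, which is fully ramified over
its centre `Z'`; and `(K / Z) ≀ᵣ C_p` embeds in the quotient by `Z'` (Gagola's construction).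
-/

set_option autoImplicit false

namespace Cfsg.Agent.Lib.Helper24.CentralWreath

open RegularWreathProduct Cfsg Cfsg.Agent.Lib.Helper2 Cfsg.Agent.Lib.Helper24.WreathM
  Cfsg.Agent.Lib.Helper24.PiChar Cfsg.Agent.Lib.Helper24.CentralType Cfsg.Agent.Lib.Helper24
open scoped ComplexConjugate

universe u

section IrrInd

variable {D : Type*} [Group D] [Fintype D] {Q : Type*} [Group Q] [Fintype Q] [DecidableEq Q]
  [Fintype (D ≀ᵣ Q)]

theorem isIrrCharacter_base_prod (φ : Q → D → ℂ) (hφ : ∀ q, IsIrrCharacter D (φ q)) :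
    IsIrrCharacter (base D Q) (fun k => ∏ t, φ t (k.1.left t)) := by
  have h := (irrMap (baseEquiv D Q) (irrPi (fun q => (⟨φ q, hφ q⟩ : IrrCharacter D)))).2
  have e : (fun k : base D Q => ∏ t, φ t (k.1.left t))
      = (irrMap (baseEquiv D Q) (irrPi (fun q => (⟨φ q, hφ q⟩ : IrrCharacter D)))).1 := by
    funext k
    rw [irrMap_apply]
    rfl
  rw [e]
  exact h

/-- inducing a nonconstant product character of the base group gives an irreducible character -/
theorem isIrrCharacter_ind_base (hp : (Nat.card Q).Prime) (φ : Q → D → ℂ)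
    (hφ : ∀ q, IsIrrCharacter D (φ q)) (hnc : ¬ ∀ q, φ q = φ 1) :
    IsIrrCharacter (D ≀ᵣ Q) (indFun (base D Q) (fun k => ∏ t, φ t (k.1.left t))) := by
  classical
  haveI : Fintype (base D Q) := Fintype.ofFinite _
  obtain ⟨θ, hθdef⟩ : ∃ θ : IrrCharacter (base D Q),
      (θ : base D Q → ℂ) = fun k => ∏ t, φ t (k.1.left t) :=
    ⟨⟨_, isIrrCharacter_base_prod φ hφ⟩, rfl⟩
  have hθ : ∀ k : base D Q, (θ : base D Q → ℂ) k = ∏ t, φ t (k.1.left t) := by
    intro k
    rw [hθdef]
  rw [← hθdef]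
  have hstab : ∀ g : D ≀ᵣ Q,
      Cfsg.Agent.Lib.Helper2.conjFun (base D Q) g (θ : base D Q → ℂ) = (θ : base D Q → ℂ)
        ↔ g ∈ base D Q := by
    intro g
    constructor
    · exact mem_base_of_conjFun_eq hp θ φ hφ hθ hnc g
    · intro hg
      exact conjFun_of_mem (base D Q) (IrrCharacter.isClassFunction θ) hg
  have hcount := card_mul_classInner_indFun_indFun (base D Q) θ.2 θ.2
  have hcard : Nat.card {g : D ≀ᵣ Q //
      Cfsg.Agent.Lib.Helper2.conjFun (base D Q) g (θ : base D Q → ℂ)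
        = (θ : base D Q → ℂ)} = Nat.card (base D Q) := by
    apply Nat.card_congr
    exact Equiv.subtypeEquivRight hstab
  rw [hcard] at hcount
  have hnorm : classInner (indFun (base D Q) (θ : base D Q → ℂ))
      (indFun (base D Q) (θ : base D Q → ℂ)) = 1 := by
    have h0 : (Nat.card (base D Q) : ℂ) ≠ 0 := card_subgroup_ne_zero (base D Q)
    exact mul_left_cancel₀ h0 (hcount.trans (mul_one _).symm)
  have hindchar : IsCharacter (D ≀ᵣ Q) (indFun (base D Q) (θ : base D Q → ℂ)) :=
    indFun_isCharacter _ _ (IsIrrCharacter.isCharacter θ.2)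
  exact isIrrCharacter_of_classInner_self_eq_one hindchar hnorm

end IrrInd

section Pairing

variable (p : ℕ) [hp : Fact p.Prime]

/-- the standard additive character of `ZMod p` -/
noncomputable def psi : AddChar (ZMod p) ℂ := ZMod.stdAddChar (N := p)

theorem psi_injective : Function.Injective (psi p) := ZMod.injective_stdAddChar

theorem psi_isPrimitive : (psi p).IsPrimitive := ZMod.isPrimitive_stdAddChar p

theorem norm_psi (a : ZMod p) : ‖psi p a‖ = 1 := by
  unfold psi
  rw [ZMod.stdAddChar_apply]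
  exact Circle.norm_coe _

theorem psi_pow (a : ZMod p) (m : ℕ) (hm : p ∣ m) : psi p a ^ m = 1 := by
  rw [← AddChar.map_nsmul_eq_pow]
  obtain ⟨k, rfl⟩ := hm
  have : (p * k) • a = 0 := by
    rw [mul_smul]
    have h1 : (p : ZMod p) = 0 := ZMod.natCast_self p
    rw [nsmul_eq_mul, h1, zero_mul]
  rw [this, AddChar.map_zero_eq_one]

/-- the linear character `y ↦ ψ(t y)` of `C_p` -/
noncomputable def prHom (t : Multiplicative (ZMod p)) : Multiplicative (ZMod p) →* ℂˣ :=
  (AddChar.toMonoidHom (AddChar.mulShift (psi p) (Multiplicative.toAdd t))).toHomUnits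

theorem prHom_apply (t y : Multiplicative (ZMod p)) :
    ((prHom p t y : ℂˣ) : ℂ) = psi p (Multiplicative.toAdd t * Multiplicative.toAdd y) := rfl

theorem sum_psi (A B : ZMod p) :
    ∑ c : Multiplicative (ZMod p), psi p (A - Multiplicative.toAdd c * B)
      = psi p A * (if B = 0 then (p : ℂ) else 0) := by
  classical
  have h1 : ∀ c : Multiplicative (ZMod p), psi p (A - Multiplicative.toAdd c * B)
      = psi p A * psi p (Multiplicative.toAdd c * (-B)) := by
    intro c
    rw [← AddChar.map_add_eq_mul]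
    congr 1
    ring
  rw [Finset.sum_congr rfl (fun c _ => h1 c), ← Finset.mul_sum]
  congr 1
  rw [Fintype.sum_equiv Multiplicative.toAdd
    (fun c : Multiplicative (ZMod p) => psi p (Multiplicative.toAdd c * (-B)))
    (fun x : ZMod p => psi p (x * (-B))) (fun c => rfl),
    AddChar.sum_mulShift (-B) (psi_isPrimitive p), ZMod.card]
  by_cases hB : B = 0
  · rw [if_pos hB, if_pos (by rw [hB, neg_zero])]
  · rw [if_neg hB, if_neg (by rwa [neg_eq_zero])]
    simp

theorem psi_sum {ι : Type*} (s : Finset ι) (a : ι → ZMod p) :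
    psi p (∑ i ∈ s, a i) = ∏ i ∈ s, psi p (a i) := by
  classical
  induction s using Finset.induction_on with
  | empty => simp
  | insert i s hi ih => rw [Finset.sum_insert hi, Finset.prod_insert hi, AddChar.map_add_eq_mul, ih]

end Pairing

section Step

variable (p : ℕ) [hp : Fact p.Prime] {K : Type u} [Group K] [Fintype K] {n : ℕ}
  (ρ : Representation ℂ K (Fin n → ℂ))

/-- the factors of the product character -/
noncomputable def phi (t : Multiplicative (ZMod p)) : K × Multiplicative (ZMod p) → ℂ :=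
  fun x => ρ.character x.1 * ((prHom p t x.2 : ℂˣ) : ℂ)

theorem phi_apply (t : Multiplicative (ZMod p)) (x : K × Multiplicative (ZMod p)) :
    phi p ρ t x = ρ.character x.1 * psi p (Multiplicative.toAdd t * Multiplicative.toAdd x.2) := rfl

theorem isIrr_phi (hirr : ρ.IsIrreducible) (t : Multiplicative (ZMod p)) :
    IsIrrCharacter (K × Multiplicative (ZMod p)) (phi p ρ t) :=
  isIrrCharacter_prod ⟨n, ρ, hirr, rfl⟩ (Cfsg.Agent.Lib.Helper25.isIrrCharacter_of_hom (prHom p t))

theorem char_one : ρ.character 1 = (n : ℂ) := by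
  have := char_of_scalar ρ (g := 1) (c := 1) (by rw [map_one, one_smul]; rfl)
  rw [this, one_mul]

theorem phi_nonconst (hn : 0 < n) : ¬ ∀ q, phi p ρ q = phi p ρ 1 := by
  intro h
  have h1 := congrFun (h (Multiplicative.ofAdd 1)) (1, Multiplicative.ofAdd 1)
  rw [phi_apply, phi_apply] at h1
  simp only [toAdd_ofAdd, toAdd_one, mul_one, zero_mul, AddChar.map_zero_eq_one] at h1
  rw [char_one] at h1
  have hn0 : (n : ℂ) ≠ 0 := by exact_mod_cast hn.ne'
  have h2 : psi p 1 = psi p 0 := by
    rw [AddChar.map_zero_eq_one]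
    exact mul_left_cancel₀ hn0 (h1.trans (mul_one _).symm)
  have h3 := psi_injective p h2
  exact one_ne_zero h3

/-- the two linear functionals on the second coordinates -/
def AA (f : Multiplicative (ZMod p) → K × Multiplicative (ZMod p)) : ZMod p :=
  ∑ s, Multiplicative.toAdd s * Multiplicative.toAdd (f s).2

def BB (f : Multiplicative (ZMod p) → K × Multiplicative (ZMod p)) : ZMod p :=
  ∑ s, Multiplicative.toAdd (f s).2

theorem prod_phi (f : Multiplicative (ZMod p) → K × Multiplicative (ZMod p))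
    (c : Multiplicative (ZMod p)) :
    ∏ t, phi p ρ t (f (c * t))
      = (∏ s, ρ.character (f s).1) * psi p (AA p f - Multiplicative.toAdd c * BB p f) := by
  simp only [phi_apply]
  rw [Finset.prod_mul_distrib]
  congr 1
  · exact Fintype.prod_equiv (Equiv.mulLeft c) _ _ (fun t => rfl)
  · rw [← psi_sum]
    congr 1
    have h1 : ∑ t : Multiplicative (ZMod p),
        Multiplicative.toAdd t * Multiplicative.toAdd (f (c * t)).2
        = ∑ s : Multiplicative (ZMod p),
          (Multiplicative.toAdd s - Multiplicative.toAdd c) * Multiplicative.toAdd (f s).2 := by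
      apply Fintype.sum_equiv (Equiv.mulLeft c)
      intro t
      simp only [Equiv.coe_mulLeft, toAdd_mul]
      ring
    rw [h1]
    unfold AA BB
    rw [Finset.mul_sum, ← Finset.sum_sub_distrib]
    apply Finset.sum_congr rfl
    intro s _
    ring

variable [Fintype ((K × Multiplicative (ZMod p)) ≀ᵣ Multiplicative (ZMod p))]

/-- the induced character of `(K × C_p) ≀ᵣ C_p` -/
noncomputable def chi : (K × Multiplicative (ZMod p)) ≀ᵣ Multiplicative (ZMod p) → ℂ :=
  indFun (base (K × Multiplicative (ZMod p)) (Multiplicative (ZMod p)))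
    (fun k => ∏ t, phi p ρ t (k.1.left t))

theorem chi_base (hirr : ρ.IsIrreducible)
    (f : Multiplicative (ZMod p) → K × Multiplicative (ZMod p)) :
    chi p ρ ⟨f, 1⟩ = (∏ s, ρ.character (f s).1) * psi p (AA p f)
      * (if BB p f = 0 then (p : ℂ) else 0) := by
  unfold chi
  rw [indFun_base (phi p ρ) (fun q => IsCharacter.isClassFunction
    (IsIrrCharacter.isCharacter (isIrr_phi p ρ hirr q))) f]
  simp only [prod_phi]
  rw [← Finset.mul_sum, sum_psi, mul_assoc]

theorem chi_off {w : (K × Multiplicative (ZMod p)) ≀ᵣ Multiplicative (ZMod p)}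
    (hw : w.right ≠ 1) : chi p ρ w = 0 := by
  unfold chi
  exact indFun_apply_not_mem _ _ (fun h => hw ((mem_base _).1 h))

theorem isIrr_chi (hirr : ρ.IsIrreducible) (hn : 0 < n) :
    IsIrrCharacter ((K × Multiplicative (ZMod p)) ≀ᵣ Multiplicative (ZMod p)) (chi p ρ) := by
  unfold chi
  apply isIrrCharacter_ind_base _ (phi p ρ) (isIrr_phi p ρ hirr) (phi_nonconst p ρ hn)
  rw [Nat.card_eq_fintype_card, Fintype.card_multiplicative, ZMod.card]
  exact hp.out

end Step

section Scalar

variable (p : ℕ) [hp : Fact p.Prime] {K : Type u} [Group K] [Fintype K] {n : ℕ}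
  (ρ : Representation ℂ K (Fin n → ℂ))
  [Fintype ((K × Multiplicative (ZMod p)) ≀ᵣ Multiplicative (ZMod p))]
  {n' : ℕ}
  (ρ' : Representation ℂ ((K × Multiplicative (ZMod p)) ≀ᵣ Multiplicative (ZMod p)) (Fin n' → ℂ))

theorem card_Cp : Fintype.card (Multiplicative (ZMod p)) = p := by
  rw [Fintype.card_multiplicative, ZMod.card]

omit [Fintype K] in
theorem AA_one : AA p (1 : Multiplicative (ZMod p) → K × Multiplicative (ZMod p)) = 0 := by
  unfold AA
  simp

omit [Fintype K] in
theorem BB_one : BB p (1 : Multiplicative (ZMod p) → K × Multiplicative (ZMod p)) = 0 := by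
  unfold BB
  simp

theorem n'_eq (hirr : ρ.IsIrreducible) (hρ' : ρ'.character = chi p ρ) : n' = p * n ^ p := by
  have h1 := char_one ρ'
  rw [hρ'] at h1
  have h2 : (1 : (K × Multiplicative (ZMod p)) ≀ᵣ Multiplicative (ZMod p)) = ⟨1, 1⟩ := rfl
  rw [h2, chi_base p ρ hirr 1, AA_one, BB_one, if_pos rfl, AddChar.map_zero_eq_one, mul_one] at h1
  simp only [Pi.one_apply, Prod.fst_one, char_one, Finset.prod_const, Finset.card_univ,
    card_Cp] at h1
  have h3 : ((n' : ℕ) : ℂ) = ((p * n ^ p : ℕ) : ℂ) := by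
    rw [← h1]
    push_cast
    ring
  exact_mod_cast h3

theorem norm_char_of_mem {z : K} (hz : z ∈ scalarSubgroup ρ) : ‖ρ.character z‖ = (n : ℝ) := by
  have h1 := (norm_char_eq_finrank_iff ρ z).2 hz
  rwa [Module.finrank_fin_fun] at h1

theorem eq_base {w : (K × Multiplicative (ZMod p)) ≀ᵣ Multiplicative (ZMod p)}
    (hw : w.right = 1) : w = ⟨w.left, 1⟩ :=
  RegularWreathProduct.ext rfl hw

/-- where `χ'` does not vanish -/
theorem of_chi_ne_zero (hirr : ρ.IsIrreducible) (hidx : n ^ 2 = (scalarSubgroup ρ).index)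
    {w : (K × Multiplicative (ZMod p)) ≀ᵣ Multiplicative (ZMod p)} (hw : chi p ρ w ≠ 0) :
    w.right = 1 ∧ (∀ s, (w.left s).1 ∈ scalarSubgroup ρ) ∧ BB p w.left = 0 := by
  have h1 : w.right = 1 := by
    by_contra h
    exact hw (chi_off p ρ h)
  rw [eq_base p h1, chi_base p ρ hirr] at hw
  refine ⟨h1, ?_, ?_⟩
  · intro s
    by_contra hs
    apply hw
    have h2 := (sq_eq_index_iff ρ hirr).1 hidx _ hs
    rw [Finset.prod_eq_zero (Finset.mem_univ s) h2, zero_mul, zero_mul]
  · by_contra hB
    apply hw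
    rw [if_neg hB, mul_zero]

theorem norm_chi_of_mem (hirr : ρ.IsIrreducible)
    {w : (K × Multiplicative (ZMod p)) ≀ᵣ Multiplicative (ZMod p)}
    (h1 : w.right = 1) (h2 : ∀ s, (w.left s).1 ∈ scalarSubgroup ρ) (h3 : BB p w.left = 0) :
    ‖chi p ρ w‖ = (p : ℝ) * (n : ℝ) ^ p := by
  rw [eq_base p h1, chi_base p ρ hirr, if_pos h3, norm_mul, norm_mul, norm_psi, mul_one,
    norm_prod, Finset.prod_congr rfl (fun s _ => norm_char_of_mem ρ (h2 s)), Finset.prod_const,
    Finset.card_univ, card_Cp]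
  simp [mul_comm]

theorem mem_scalar_iff (hirr : ρ.IsIrreducible) (hn : 0 < n)
    (hidx : n ^ 2 = (scalarSubgroup ρ).index)
    (hρ' : ρ'.character = chi p ρ)
    (w : (K × Multiplicative (ZMod p)) ≀ᵣ Multiplicative (ZMod p)) :
    w ∈ scalarSubgroup ρ' ↔
      w.right = 1 ∧ (∀ s, (w.left s).1 ∈ scalarSubgroup ρ) ∧ BB p w.left = 0 := by
  rw [mem_scalarSubgroup, ← norm_char_eq_finrank_iff, Module.finrank_fin_fun, hρ',
    n'_eq p ρ ρ' hirr hρ']
  have hpos : (0 : ℝ) < ((p * n ^ p : ℕ) : ℝ) := by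
    have : 0 < p * n ^ p := Nat.mul_pos hp.out.pos (pow_pos hn p)
    exact_mod_cast this
  constructor
  · intro h
    apply of_chi_ne_zero p ρ hirr hidx
    intro h0
    rw [h0, norm_zero] at h
    exact hpos.ne h
  · rintro ⟨h1, h2, h3⟩
    rw [norm_chi_of_mem p ρ hirr h1 h2 h3]
    push_cast
    rfl

theorem index_eq (hirr : ρ.IsIrreducible) (hn : 0 < n)
    (hidx : n ^ 2 = (scalarSubgroup ρ).index) (hirr' : ρ'.IsIrreducible)
    (hρ' : ρ'.character = chi p ρ) : n' ^ 2 = (scalarSubgroup ρ').index := by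
  rw [sq_eq_index_iff ρ' hirr']
  intro w hw
  by_contra h0
  apply hw
  rw [mem_scalar_iff p ρ ρ' hirr hn hidx hρ']
  rw [hρ'] at h0
  exact of_chi_ne_zero p ρ hirr hidx h0

/-- the scalar by which an element of the centre of `χ'` acts -/
theorem scalar_eq (hirr : ρ.IsIrreducible) (hn : 0 < n)
    (hρ' : ρ'.character = chi p ρ)
    {w : (K × Multiplicative (ZMod p)) ≀ᵣ Multiplicative (ZMod p)} {c' : ℂ}
    (hc' : ρ' w = c' • LinearMap.id) (h1 : w.right = 1) (h3 : BB p w.left = 0)
    (cs : Multiplicative (ZMod p) → ℂ)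
    (hcs : ∀ s, ρ (w.left s).1 = cs s • LinearMap.id) :
    c' = (∏ s, cs s) * psi p (AA p w.left) := by
  have e1 := char_of_scalar ρ' hc'
  rw [hρ', eq_base p h1, chi_base p ρ hirr, if_pos h3,
    Finset.prod_congr rfl (fun s _ => char_of_scalar ρ (hcs s)), Finset.prod_mul_distrib,
    Finset.prod_const, Finset.card_univ, card_Cp, n'_eq p ρ ρ' hirr hρ'] at e1
  have hne : ((p * n ^ p : ℕ) : ℂ) ≠ 0 := by
    have : p * n ^ p ≠ 0 := (Nat.mul_pos hp.out.pos (pow_pos hn p)).ne'
    exact_mod_cast this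
  have e2 : c' * ((p * n ^ p : ℕ) : ℂ)
      = ((∏ s, cs s) * psi p (AA p w.left)) * ((p * n ^ p : ℕ) : ℂ) := by
    rw [← e1]
    push_cast
    ring
  exact mul_right_cancel₀ hne e2

end Scalar

end Cfsg.Agent.Lib.Helper24.CentralWreath
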