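import Mathlib
import Cfsg.Agent.Lib.Helper24.CentralWreath
import Cfsg.Agent.Lib.Helper25.DetSolv

/-!
# Gagola's embedding: the invariant (helper24 library)

`InvP G P`: `G` embeds in `W / Z(ρ)` for a group `W` with an irreducible representation `ρ`, fully
ramified over its centre `Z(ρ)` (the scalar subgroup), whose scalars have squarefree exponent `M`
with prime divisors exactly the primes satisfying `P`.  It is inherited by subgroups and by wreath
products with groups of prime order, and it gives the group of central type of the statement.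
-/

set_option autoImplicit false

namespace Cfsg.Agent.Lib.Helper24.CentralInv

open RegularWreathProduct Cfsg Cfsg.Agent.Lib.Helper2 Cfsg.Agent.Lib.Helper24.WreathM
  Cfsg.Agent.Lib.Helper24.CentralType Cfsg.Agent.Lib.Helper24.CentralWreath

universe u

/-- the invariant -/
def InvP (G : Type u) [Group G] (P : ℕ → Prop) : Prop :=
  ∃ (W : Type u) (_ : Group W) (_ : Finite W) (n : ℕ) (ρ : Representation ℂ W (Fin n → ℂ)) (M : ℕ),
    ρ.IsIrreducible ∧ n ^ 2 = (scalarSubgroup ρ).index ∧
    (∃ f : G → W, (∀ a b, (f a * f b)⁻¹ * f (a * b) ∈ scalarSubgroup ρ) ∧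
       ∀ a, f a ∈ scalarSubgroup ρ → a = 1) ∧
    Squarefree M ∧ (∀ q : ℕ, q.Prime → (q ∣ M ↔ P q)) ∧ (∀ q : ℕ, q.Prime → q ∣ n → P q) ∧
    (∀ (z : W) (c : ℂ), ρ z = c • (LinearMap.id : (Fin n → ℂ) →ₗ[ℂ] (Fin n → ℂ)) → c ^ M = 1) ∧
    (∀ q : ℕ, q.Prime → P q → ∃ (z : W) (c : ℂ),
      ρ z = c • (LinearMap.id : (Fin n → ℂ) →ₗ[ℂ] (Fin n → ℂ)) ∧ c ≠ 1 ∧ c ^ q = 1)

theorem InvP.congr {G : Type u} [Group G] {P P' : ℕ → Prop}
    (h : ∀ q : ℕ, q.Prime → (P q ↔ P' q)) (hG : InvP G P) : InvP G P' := by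
  obtain ⟨W, iW, iF, n, ρ, M, hirr, hidx, hf, hsq, hM, hn, hscal, hprim⟩ := hG
  refine ⟨W, iW, iF, n, ρ, M, hirr, hidx, hf, hsq, ?_, ?_, hscal, ?_⟩
  · intro q hq
    rw [hM q hq, h q hq]
  · intro q hq hqn
    exact (h q hq).1 (hn q hq hqn)
  · intro q hq hPq
    exact hprim q hq ((h q hq).2 hPq)

theorem InvP.mono {G G' : Type u} [Group G] [Group G'] {P : ℕ → Prop}
    (j : G' →* G) (hj : Function.Injective j) (hG : InvP G P) : InvP G' P := by
  obtain ⟨W, iW, iF, n, ρ, M, hirr, hidx, ⟨f, hf1, hf2⟩, hsq, hM, hn, hscal, hprim⟩ := hG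
  refine ⟨W, iW, iF, n, ρ, M, hirr, hidx, ⟨fun a => f (j a), ?_, ?_⟩, hsq, hM, hn, hscal, hprim⟩
  · intro a b
    show (f (j a) * f (j b))⁻¹ * f (j (a * b)) ∈ scalarSubgroup ρ
    rw [map_mul]
    exact hf1 (j a) (j b)
  · intro a ha
    have := hf2 (j a) ha
    exact hj (this.trans (map_one j).symm)

theorem InvP.of_subsingleton (G : Type u) [Group G] [Subsingleton G] :
    InvP G (fun _ => False) := by
  haveI : Finite G := Finite.of_subsingleton
  haveI : Fintype G := Fintype.ofFinite G
  obtain ⟨n, ρ, hirr, hchar⟩ := Cfsg.Agent.Lib.Helper25.isIrrCharacter_of_hom (1 : G →* ℂˣ)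
  have hn1 : n = 1 := by
    have h1 := char_one ρ
    rw [hchar] at h1
    simp only [MonoidHom.one_apply, Units.val_one] at h1
    exact_mod_cast h1.symm
  have htop : scalarSubgroup ρ = ⊤ := by
    rw [eq_top_iff]
    intro g _
    rw [Subsingleton.elim g 1]
    exact Subgroup.one_mem _
  refine ⟨G, inferInstance, inferInstance, n, ρ, 1, hirr, ?_, ⟨id, ?_, ?_⟩, squarefree_one, ?_, ?_,
    ?_, ?_⟩
  · rw [htop, Subgroup.index_top, hn1, one_pow]
  · intro a b
    rw [htop]
    exact Subgroup.mem_top _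
  · intro a _
    exact Subsingleton.elim a 1
  · intro q hq
    constructor
    · intro h
      exact hq.one_lt.ne' (Nat.dvd_one.1 h)
    · intro h
      exact h.elim
  · intro q hq hqn
    rw [hn1] at hqn
    exact hq.one_lt.ne' (Nat.dvd_one.1 hqn)
  · intro z c _
    rw [pow_one]
    have hz : z = 1 := Subsingleton.elim z 1
    subst hz
    have h1 := char_of_scalar ρ ‹_›
    rw [char_one, hn1] at h1
    simp only [Nat.cast_one, mul_one] at h1
    exact h1.symm
  · intro q _ h
    exact h.elim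

section Wreath

variable (p : ℕ) [hp : Fact p.Prime]

theorem left_inv_mul {D Q : Type*} [Group D] [Group Q] (x y : D ≀ᵣ Q) (s : Q) :
    (x⁻¹ * y).left s = (x.left (x.right * s))⁻¹ * y.left (x.right * s) := by
  simp

theorem InvP.wreath {D : Type u} [Group D] {P : ℕ → Prop} (hD : InvP D P) :
    InvP (D ≀ᵣ Multiplicative (ZMod p)) (fun q => P q ∨ q = p) := by
  classical
  obtain ⟨W, iW, iF, n, ρ, M, hirr, hidx, ⟨f, hf1, hf2⟩, hsq, hM, hn, hscal, hprim⟩ := hD
  haveI : Fintype W := Fintype.ofFinite W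
  haveI : Finite ((W × Multiplicative (ZMod p)) ≀ᵣ Multiplicative (ZMod p)) := inferInstance
  haveI : Fintype ((W × Multiplicative (ZMod p)) ≀ᵣ Multiplicative (ZMod p)) := Fintype.ofFinite _
  have hn0 : 0 < n := by
    rcases Nat.eq_zero_or_pos n with h | h
    · exfalso
      have h1 : (scalarSubgroup ρ).index ≠ 0 := Subgroup.index_ne_zero_of_finite
      apply h1
      rw [← hidx, h]
      rfl
    · exact h
  obtain ⟨n', ρ', hirr', hρ'⟩ := isIrr_chi p ρ hirr hn0
  have hmem := mem_scalar_iff p ρ ρ' hirr hn0 hidx hρ'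
  have hn' := n'_eq p ρ ρ' hirr hρ'
  have hMdvd : M ∣ (if p ∣ M then M else M * p) := by
    split_ifs
    · exact dvd_rfl
    · exact dvd_mul_right _ _
  have hpdvd : p ∣ (if p ∣ M then M else M * p) := by
    split_ifs with h
    · exact h
    · exact dvd_mul_left _ _
  refine ⟨(W × Multiplicative (ZMod p)) ≀ᵣ Multiplicative (ZMod p), inferInstance, inferInstance,
    n', ρ', if p ∣ M then M else M * p, hirr', index_eq p ρ ρ' hirr hn0 hidx hirr' hρ',
    ⟨fun d => ⟨fun s => (f (d.left s), 1), d.right⟩, ?_, ?_⟩, ?_, ?_, ?_, ?_, ?_⟩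
  · -- multiplicativity modulo scalars
    intro a b
    rw [hmem]
    refine ⟨?_, ?_, ?_⟩
    · simp
    · intro s
      rw [left_inv_mul]
      simp only [mul_left, mul_right, Pi.mul_apply, Prod.fst_mul, Prod.fst_inv, Prod.mk_mul_mk]
      exact hf1 _ _
    · unfold BB
      apply Finset.sum_eq_zero
      intro s _
      rw [left_inv_mul]
      simp
  · -- injectivity modulo scalars
    intro a ha
    rw [hmem] at ha
    obtain ⟨h1, h2, -⟩ := ha
    apply RegularWreathProduct.ext
    · funext s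
      exact hf2 _ (h2 s)
    · exact h1
  · -- squarefree
    split_ifs with h
    · exact hsq
    · rw [Nat.squarefree_mul_iff]
      exact ⟨((Nat.Prime.coprime_iff_not_dvd hp.out).2 h).symm, hsq, hp.out.prime.squarefree⟩
  · -- the primes of M'
    intro q hq
    split_ifs with h
    · rw [hM q hq]
      constructor
      · intro h1
        exact Or.inl h1
      · rintro (h1 | h1)
        · exact h1
        · rw [h1]
          exact (hM p hp.out).1 h
    · rw [hq.dvd_mul, hM q hq, Nat.prime_dvd_prime_iff_eq hq hp.out]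
  · -- the primes of n'
    intro q hq hqn
    rw [hn', hq.dvd_mul] at hqn
    rcases hqn with h | h
    · exact Or.inr ((Nat.prime_dvd_prime_iff_eq hq hp.out).1 h)
    · exact Or.inl (hn q hq (hq.dvd_of_dvd_pow h))
  · -- the scalars
    intro w c' hc'
    have hw : w ∈ scalarSubgroup ρ' := ⟨c', hc'⟩
    rw [hmem] at hw
    obtain ⟨h1, h2, h3⟩ := hw
    choose cs hcs using h2
    rw [scalar_eq p ρ ρ' hirr hn0 hρ' hc' h1 h3 cs hcs, mul_pow, psi_pow p _ _ hpdvd, mul_one,
      ← Finset.prod_pow]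
    apply Finset.prod_eq_one
    intro s _
    obtain ⟨k, hk⟩ := hMdvd
    rw [hk, pow_mul, hscal _ _ (hcs s), one_pow]
  · -- elements of prime order
    intro q hq hPq
    rcases hPq with hPq | hPq
    · obtain ⟨z₀, c₀, hz₀, hc₀1, hc₀q⟩ := hprim q hq hPq
      have hw : (⟨fun s => if s = 1 then (z₀, 1) else 1, 1⟩ :
          (W × Multiplicative (ZMod p)) ≀ᵣ Multiplicative (ZMod p)) ∈ scalarSubgroup ρ' := by
        rw [hmem]
        refine ⟨rfl, ?_, ?_⟩
        · intro s
          show (if s = 1 then ((z₀, 1) : W × Multiplicative (ZMod p)) else 1).1 ∈ scalarSubgroup ρ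
          split_ifs
          · exact ⟨c₀, hz₀⟩
          · exact Subgroup.one_mem _
        · unfold BB
          apply Finset.sum_eq_zero
          intro s _
          show Multiplicative.toAdd
            (if s = 1 then ((z₀, 1) : W × Multiplicative (ZMod p)) else 1).2 = 0
          split_ifs <;> rfl
      obtain ⟨c', hc'⟩ := hw
      refine ⟨_, c', hc', ?_⟩
      have hAA : AA p (fun s : Multiplicative (ZMod p) =>
          if s = 1 then ((z₀, 1) : W × Multiplicative (ZMod p)) else 1) = 0 := by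
        unfold AA
        apply Finset.sum_eq_zero
        intro s _
        have : Multiplicative.toAdd
            (if s = 1 then ((z₀, 1) : W × Multiplicative (ZMod p)) else 1).2 = 0 := by
          split_ifs <;> rfl
        rw [this, mul_zero]
      have hBB : BB p (fun s : Multiplicative (ZMod p) =>
          if s = 1 then ((z₀, 1) : W × Multiplicative (ZMod p)) else 1) = 0 := by
        unfold BB
        apply Finset.sum_eq_zero
        intro s _
        show Multiplicative.toAdd
          (if s = 1 then ((z₀, 1) : W × Multiplicative (ZMod p)) else 1).2 = 0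
        split_ifs <;> rfl
      have hsc := scalar_eq p ρ ρ' hirr hn0 hρ' hc' rfl hBB
        (fun s => if s = 1 then c₀ else 1) (by
          intro s
          show ρ (if s = 1 then ((z₀, 1) : W × Multiplicative (ZMod p)) else 1).1 = _
          split_ifs
          · exact hz₀
          · show ρ 1 = _
            rw [map_one, one_smul]
            rfl)
      have hc'c₀ : c' = c₀ := by
        rw [hsc]
        show (∏ s, if s = 1 then c₀ else 1) * psi p (AA p _) = c₀
        rw [hAA, AddChar.map_zero_eq_one, mul_one, Finset.prod_ite_eq' Finset.univ 1]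
        simp
      rw [hc'c₀]
      exact ⟨hc₀1, hc₀q⟩
    · subst hPq
      -- the second coordinates
      have hy : ∃ y : Multiplicative (ZMod q) → ZMod q,
          (∑ s, y s = 0) ∧ (∑ s, Multiplicative.toAdd s * y s = 1) := by
        refine ⟨fun s => (if s = Multiplicative.ofAdd 1 then 1 else 0)
          - (if s = Multiplicative.ofAdd 0 then 1 else 0), ?_, ?_⟩
        · rw [Finset.sum_sub_distrib]
          simp
        · simp only [mul_sub, mul_ite, mul_one, mul_zero]
          rw [Finset.sum_sub_distrib]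
          simp
      obtain ⟨y, hy1, hy2⟩ := hy
      have hw : (⟨fun s => (1, Multiplicative.ofAdd (y s)), 1⟩ :
          (W × Multiplicative (ZMod q)) ≀ᵣ Multiplicative (ZMod q)) ∈ scalarSubgroup ρ' := by
        rw [hmem]
        refine ⟨rfl, ?_, ?_⟩
        · intro s
          exact Subgroup.one_mem _
        · exact hy1
      obtain ⟨c', hc'⟩ := hw
      refine ⟨_, c', hc', ?_⟩
      have hsc := scalar_eq q ρ ρ' hirr hn0 hρ' hc' rfl hy1
        (fun _ => 1) (by
          intro s
          show ρ 1 = _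
          rw [map_one, one_smul]
          rfl)
      have hc'1 : c' = psi q 1 := by
        rw [hsc]
        show (∏ _s : Multiplicative (ZMod q), (1 : ℂ)) * psi q (AA q _) = psi q 1
        rw [Finset.prod_const_one, one_mul]
        congr 1
      rw [hc'1]
      constructor
      · intro h
        rw [← AddChar.map_zero_eq_one (psi q)] at h
        exact one_ne_zero (psi_injective q h)
      · exact psi_pow q 1 q dvd_rfl

end Wreath

section Final

variable {W : Type u} [Group W] [Finite W] {n : ℕ} (ρ : Representation ℂ W (Fin n → ℂ))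

theorem mk_mem_center_iff (hirr : ρ.IsIrreducible) (w : W) :
    ((w : W ⧸ MonoidHom.ker ρ)) ∈ Subgroup.center (W ⧸ MonoidHom.ker ρ) ↔ w ∈ scalarSubgroup ρ := by
  rw [← comap_center ρ hirr, Subgroup.mem_comap]
  rfl

theorem index_center (hirr : ρ.IsIrreducible) :
    (Subgroup.center (W ⧸ MonoidHom.ker ρ)).index = (scalarSubgroup ρ).index := by
  rw [← comap_center ρ hirr,
    Subgroup.index_comap_of_surjective _ (QuotientGroup.mk'_surjective (MonoidHom.ker ρ))]

/-- the scalar by which a central element of the quotient acts -/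
noncomputable def scHom (hirr : ρ.IsIrreducible) (hn : 0 < n) :
    Subgroup.center (W ⧸ MonoidHom.ker ρ) →* ℂ where
  toFun z := (quotRep ρ).character (z : W ⧸ MonoidHom.ker ρ) / n
  map_one' := by
    have hn0 : (n : ℂ) ≠ 0 := by exact_mod_cast hn.ne'
    haveI : Fintype (W ⧸ MonoidHom.ker ρ) := Fintype.ofFinite _
    rw [Subgroup.coe_one, char_one, div_self hn0]
  map_mul' z z' := by
    have hn0 : (n : ℂ) ≠ 0 := by exact_mod_cast hn.ne'
    obtain ⟨c', hc'⟩ := Cfsg.Agent.Lib.Helper7.central_scalar (quotRep ρ)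
      (quotRep_irreducible ρ hirr) (z' : W ⧸ MonoidHom.ker ρ) z'.2
    rw [Subgroup.coe_mul, Cfsg.Agent.Lib.Helper7.char_mul_scalar (quotRep ρ) _ _ c' hc',
      char_of_scalar (quotRep ρ) hc']
    field_simp

theorem scHom_apply (hirr : ρ.IsIrreducible) (hn : 0 < n)
    (z : Subgroup.center (W ⧸ MonoidHom.ker ρ)) :
    scHom ρ hirr hn z = (quotRep ρ).character (z : W ⧸ MonoidHom.ker ρ) / n := rfl

theorem scHom_mk (hirr : ρ.IsIrreducible) (hn : 0 < n) (w : W) (c : ℂ)
    (hc : ρ w = c • (LinearMap.id : (Fin n → ℂ) →ₗ[ℂ] (Fin n → ℂ)))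
    (hw : ((w : W ⧸ MonoidHom.ker ρ)) ∈ Subgroup.center (W ⧸ MonoidHom.ker ρ)) :
    scHom ρ hirr hn ⟨(w : W ⧸ MonoidHom.ker ρ), hw⟩ = c := by
  have hn0 : (n : ℂ) ≠ 0 := by exact_mod_cast hn.ne'
  rw [scHom_apply]
  show (quotRep ρ).character (w : W ⧸ MonoidHom.ker ρ) / n = c
  rw [quotRep_character, char_of_scalar ρ hc]
  field_simp

theorem scHom_injective (hirr : ρ.IsIrreducible) (hn : 0 < n) :
    Function.Injective (scHom ρ hirr hn) := by
  rw [injective_iff_map_eq_one]
  intro z hz
  have hn0 : (n : ℂ) ≠ 0 := by exact_mod_cast hn.ne'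
  haveI : Fintype (W ⧸ MonoidHom.ker ρ) := Fintype.ofFinite _
  rw [scHom_apply, div_eq_one_iff_eq hn0, ← char_one (quotRep ρ)] at hz
  have := quotRep_faithful ρ _ hz
  exact Subtype.ext this

theorem InvP.final {G : Type u} [Group G] [Finite G] (hG : InvP G (fun q => q ∣ Nat.card G)) :
    ∃ (H : Type u) (_ : Group H) (_ : Finite H) (χ : Cfsg.IrrCharacter H),
      (∀ h : H, (χ : H → ℂ) h = (χ : H → ℂ) 1 → h = 1) ∧
      (Cfsg.charDegree (χ : H → ℂ)) ^ 2 = (Subgroup.center H).index ∧
      (∃ f : G →* H ⧸ Subgroup.center H, Function.Injective f) ∧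
      (∀ p : ℕ, p.Prime → ((p ∣ Nat.card H ↔ p ∣ Nat.card G) ∧
        (p ∣ Nat.card (Subgroup.center H) ↔ p ∣ Nat.card G))) ∧
      Squarefree (Nat.card (Subgroup.center H)) := by
  classical
  obtain ⟨W, iW, iF, n, ρ, M, hirr, hidx, ⟨f, hf1, hf2⟩, hsq, hM, hn, hscal, hprim⟩ := hG
  have hn0 : 0 < n := by
    rcases Nat.eq_zero_or_pos n with h | h
    · exfalso
      have h1 : (scalarSubgroup ρ).index ≠ 0 := Subgroup.index_ne_zero_of_finite
      apply h1
      rw [← hidx, h]
      rfl
    · exact h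
  have hinj := scHom_injective ρ hirr hn0
  haveI hcyc : IsCyclic (Subgroup.center (W ⧸ MonoidHom.ker ρ)) :=
    isCyclic_of_injective_ringHom (scHom ρ hirr hn0) hinj
  -- every central element is the class of a scalar element
  have hrep : ∀ z : Subgroup.center (W ⧸ MonoidHom.ker ρ), ∃ (w : W) (c : ℂ),
      ρ w = c • (LinearMap.id : (Fin n → ℂ) →ₗ[ℂ] (Fin n → ℂ)) ∧ scHom ρ hirr hn0 z = c := by
    rintro ⟨z, hz⟩
    induction z using QuotientGroup.induction_on with
    | H w =>
      obtain ⟨c, hc⟩ := (mk_mem_center_iff ρ hirr w).1 hz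
      exact ⟨w, c, hc, scHom_mk ρ hirr hn0 w c hc hz⟩
  have hcardM : Nat.card (Subgroup.center (W ⧸ MonoidHom.ker ρ)) ∣ M := by
    rw [← IsCyclic.exponent_eq_card]
    apply Monoid.exponent_dvd_of_forall_pow_eq_one
    intro z
    apply hinj
    obtain ⟨w, c, hc, hz⟩ := hrep z
    rw [map_pow, hz, map_one]
    exact hscal w c hc
  have hcen1 : ∀ q : ℕ, q.Prime →
      (q ∣ Nat.card (Subgroup.center (W ⧸ MonoidHom.ker ρ)) ↔ q ∣ Nat.card G) := by
    intro q hq
    constructor
    · intro h
      exact (hM q hq).1 (h.trans hcardM)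
    · intro h
      obtain ⟨z₀, c, hc, hc1, hcq⟩ := hprim q hq h
      have hz₀ : ((z₀ : W ⧸ MonoidHom.ker ρ)) ∈ Subgroup.center (W ⧸ MonoidHom.ker ρ) :=
        (mk_mem_center_iff ρ hirr z₀).2 ⟨c, hc⟩
      have hsc := scHom_mk ρ hirr hn0 z₀ c hc hz₀
      have hord : orderOf (⟨(z₀ : W ⧸ MonoidHom.ker ρ), hz₀⟩ :
          Subgroup.center (W ⧸ MonoidHom.ker ρ)) = q := by
        haveI : Fact q.Prime := ⟨hq⟩
        apply orderOf_eq_prime
        · apply hinj
          rw [map_pow, hsc, map_one, hcq]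
        · intro h1
          apply hc1
          rw [← hsc, h1, map_one]
      rw [← hord]
      exact orderOf_dvd_natCard _
  have hcardH : Nat.card (W ⧸ MonoidHom.ker ρ)
      = Nat.card (Subgroup.center (W ⧸ MonoidHom.ker ρ)) * n ^ 2 := by
    rw [hidx, ← index_center ρ hirr, Subgroup.card_mul_index]
  refine ⟨W ⧸ MonoidHom.ker ρ, inferInstance, inferInstance,
    ⟨(quotRep ρ).character, ⟨n, quotRep ρ, quotRep_irreducible ρ hirr, rfl⟩⟩, ?_, ?_, ?_, ?_, ?_⟩
  · intro h hh
    exact quotRep_faithful ρ h hh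
  · show (Cfsg.charDegree (quotRep ρ).character) ^ 2 = _
    rw [Cfsg.Agent.Lib.Helper25.charDegree_rep, index_center ρ hirr, hidx]
  · refine ⟨MonoidHom.mk' (fun g => (((f g : W ⧸ MonoidHom.ker ρ)) :
        (W ⧸ MonoidHom.ker ρ) ⧸ Subgroup.center (W ⧸ MonoidHom.ker ρ))) ?_, ?_⟩
    · intro a b
      rw [← QuotientGroup.mk_mul, ← QuotientGroup.mk_mul, eq_comm, QuotientGroup.eq,
        ← QuotientGroup.mk_inv, ← QuotientGroup.mk_mul, mk_mem_center_iff ρ hirr]
      exact hf1 a b
    · rw [injective_iff_map_eq_one]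
      intro a ha
      rw [MonoidHom.mk'_apply, QuotientGroup.eq_one_iff, mk_mem_center_iff ρ hirr] at ha
      exact hf2 a ha
  · intro q hq
    refine ⟨?_, hcen1 q hq⟩
    rw [hcardH]
    constructor
    · intro h
      rcases (hq.dvd_mul).1 h with h1 | h1
      · exact (hcen1 q hq).1 h1
      · exact hn q hq (hq.dvd_of_dvd_pow h1)
    · intro h
      exact ((hcen1 q hq).2 h).trans (dvd_mul_right _ _)
  · exact hsq.squarefree_of_dvd hcardM

end Final

end Cfsg.Agent.Lib.Helper24.CentralInv
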