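import Mathlib
import Cfsg.Agent.Lib.Helper24.BrauerFeit
import Cfsg.Agent.Lib.Helper24.Principal
import Cfsg.Agent.Lib.Helper7.PPrimeNormal
import Cfsg.Agent.Lib.Helper7.RootInd

/-!
# Real characters of odd degree lie in the principal 2-block
-/

open scoped ComplexConjugate
open Cfsg.Agent.Lib.Helper2

namespace Cfsg.Agent.Lib.Helper24

section RealOdd

variable {G : Type*} [Group G] [Fintype G] {M : Ideal Cfsg.AlgInt}

/-- the sum of a real irreducible character of odd degree over the elements of odd order is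
not zero -/
theorem sum_pRegularPart_ne_zero_of_real_odd (hM : Cfsg.IsPModular 2 M)
    (χ : Cfsg.IrrCharacter G) (hreal : ∀ g : G, ((χ : G → ℂ) g).im = 0)
    (hodd : Odd (Cfsg.charDegree (χ : G → ℂ))) :
    ∑ y : G, Cfsg.pRegularPart 2 (χ : G → ℂ) y ≠ 0 := by
  classical
  intro hS
  have h2M : (2 : Cfsg.AlgInt) ∈ M := by
    have := hM.2.2
    exact_mod_cast this
  obtain ⟨a, ha⟩ : ∃ a : G → Cfsg.AlgInt, ∀ g, ((a g : Cfsg.AlgInt) : ℂ) = (χ : G → ℂ) g :=
    ⟨fun g => ⟨(χ : G → ℂ) g, Cfsg.Agent.Lib.Helper7.irr_value_isIntegral χ g⟩, fun g => rfl⟩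
  have hinv : ∀ g, a g⁻¹ = a g := by
    intro g
    apply Subtype.ext
    rw [ha, ha, IrrCharacter.apply_inv]
    exact Complex.conj_eq_iff_im.mpr (hreal g)
  obtain ⟨s, hs⟩ : ∃ s : Finset G, s = Finset.univ.filter (fun g : G => ¬ 2 ∣ orderOf g) :=
    ⟨_, rfl⟩
  have hmem : ∀ g, g ∈ s ↔ ¬ 2 ∣ orderOf g := by
    intro g
    rw [hs]
    simp
  have h1 : ∑ g ∈ s, a g = 0 := by
    apply Subtype.ext
    rw [AddSubmonoidClass.coe_finset_sum]
    simp only [ha]
    rw [ZeroMemClass.coe_zero, ← hS, hs, Finset.sum_filter]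
    apply Finset.sum_congr rfl
    intro g _
    by_cases hg : 2 ∣ orderOf g
    · rw [if_neg (not_not.mpr hg), pRegularPart_of_singular _ hg]
    · rw [if_pos hg, pRegularPart_of_regular _ hg]
  have h1s : (1 : G) ∈ s := by
    rw [hmem, orderOf_one]
    norm_num
  have h2 : Ideal.Quotient.mk M (∑ g ∈ s, a g) = Ideal.Quotient.mk M (a 1) := by
    rw [map_sum, ← Finset.add_sum_erase s _ h1s]
    have h0 : ∑ g ∈ s.erase 1, Ideal.Quotient.mk M (a g) = 0 := by
      apply Finset.sum_involution (fun g _ => g⁻¹)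
      · intro g _
        rw [hinv g, ← map_add, ← two_mul, Ideal.Quotient.eq_zero_iff_mem]
        exact M.mul_mem_right _ h2M
      · intro g hg _ hgg
        have hg1 : g ≠ 1 := Finset.ne_of_mem_erase hg
        have hgs : ¬ 2 ∣ orderOf g := (hmem g).mp (Finset.mem_of_mem_erase hg)
        have hsq : g ^ 2 = 1 := by
          rw [pow_two]
          nth_rewrite 1 [← hgg]
          exact inv_mul_cancel g
        have hdvd : orderOf g ∣ 2 := orderOf_dvd_of_pow_eq_one hsq
        rcases (Nat.dvd_prime Nat.prime_two).mp hdvd with h | h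
        · exact hg1 (orderOf_eq_one_iff.mp h)
        · exact hgs (by rw [h])
      · intro g _
        exact inv_inv g
      · intro g hg
        have hg1 : g ≠ 1 := Finset.ne_of_mem_erase hg
        have hgs : ¬ 2 ∣ orderOf g := (hmem g).mp (Finset.mem_of_mem_erase hg)
        apply Finset.mem_erase.mpr
        refine ⟨fun h => hg1 (inv_eq_one.mp h), ?_⟩
        rw [hmem, orderOf_inv]
        exact hgs
    rw [h0, add_zero]
  rw [h1, map_zero] at h2
  have h3 : a 1 ∈ M := Ideal.Quotient.eq_zero_iff_mem.mp h2.symm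
  obtain ⟨m, hm⟩ := hodd
  have h4 : a 1 = (2 : Cfsg.AlgInt) * (m : Cfsg.AlgInt) + 1 := by
    apply Subtype.ext
    rw [ha, apply_one_eq_charDegree, hm]
    push_cast
    rfl
  have h5 : (1 : Cfsg.AlgInt) ∈ M := by
    have e : (1 : Cfsg.AlgInt) = a 1 - (2 : Cfsg.AlgInt) * (m : Cfsg.AlgInt) := by
      rw [h4]
      ring
    rw [e]
    exact M.sub_mem h3 (M.mul_mem_right _ h2M)
  exact hM.2.1.ne_top ((Ideal.eq_top_iff_one M).mpr h5)

/-- real irreducible characters of odd degree lie in the principal `2`-block -/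
theorem mem_principalBlock_of_real_odd (hM : Cfsg.IsPModular 2 M)
    (χ : Cfsg.IrrCharacter G) (hreal : ∀ g : G, ((χ : G → ℂ) g).im = 0)
    (hodd : Odd (Cfsg.charDegree (χ : G → ℂ))) : χ ∈ Cfsg.principalBlock M G := by
  by_contra hcon
  exact sum_pRegularPart_ne_zero_of_real_odd hM χ hreal hodd (sum_pRegularPart_eq_zero hM χ hcon)

end RealOdd

end Cfsg.Agent.Lib.Helper24
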