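import Mathlib
import Cfsg.Agent.Lib.Helper24.RealOdd

/-!
# A 2-block of full defect stable under inversion of odd roots of unity is principal
-/

open scoped ComplexConjugate
open Cfsg.Agent.Lib.Helper2

namespace Cfsg.Agent.Lib.Helper24

section SigmaStable

variable {G : Type*} [Group G] [Fintype G] {M : Ideal Cfsg.AlgInt}

theorem mk_intCast_of_odd (hM : Cfsg.IsPModular 2 M) {n : ℤ} (hn : Odd n) :
    Ideal.Quotient.mk M ((n : ℤ) : Cfsg.AlgInt) = 1 := by
  have h2M : (2 : Cfsg.AlgInt) ∈ M := by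
    have := hM.2.2
    exact_mod_cast this
  obtain ⟨j, rfl⟩ := hn
  have e : (((2 * j + 1 : ℤ)) : Cfsg.AlgInt) = (2 : Cfsg.AlgInt) * (j : Cfsg.AlgInt) + 1 := by
    push_cast
    ring
  rw [e, map_add, map_one]
  have : Ideal.Quotient.mk M ((2 : Cfsg.AlgInt) * (j : Cfsg.AlgInt)) = 0 :=
    Ideal.Quotient.eq_zero_iff_mem.mpr (M.mul_mem_right _ h2M)
  rw [this, zero_add]

/-- a `2`-block of full defect which is stable under a Galois automorphism inverting the roots
of unity of odd order is the principal block -/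
theorem eq_principalBlock_of_sigma_stable (hM : Cfsg.IsPModular 2 M) (k : ℕ)
    (hk₂ : ∀ g : G, Odd (orderOf g) → g ^ k = g⁻¹) (B : Set (Cfsg.IrrCharacter G))
    (hB : Cfsg.IsPBlock M B)
    (hdef : Cfsg.blockDefect 2 B = (Nat.card G).factorization 2)
    (hstab : ∀ χ ∈ B, ∃ ψ ∈ B, ∀ g : G, (ψ : G → ℂ) g = (χ : G → ℂ) (g ^ k)) :
    B = Cfsg.principalBlock M G := by
  classical
  haveI : Fact (Nat.Prime 2) := ⟨Nat.prime_two⟩
  have h2M : (2 : Cfsg.AlgInt) ∈ M := by
    have := hM.2.2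
    exact_mod_cast this
  obtain ⟨ψ, hψ, h0⟩ := exists_height_zero (p := 2) hM B hB
  obtain ⟨ψ', hψ', hval⟩ := hstab ψ hψ
  -- the degree of `ψ` is odd
  obtain ⟨a, ha⟩ : ∃ a, a = (Nat.card G).factorization 2 := ⟨_, rfl⟩
  have hdeg0 : (Cfsg.charDegree (ψ : G → ℂ)).factorization 2 = 0 := by
    have hva : (Cfsg.charDegree (ψ : G → ℂ)).factorization 2 ≤ a := by
      rw [ha]
      exact (Nat.factorization_le_iff_dvd (charDegree_ne_zero ψ) Nat.card_pos.ne').mpr
        (Cfsg.Agent.Lib.Helper25.charDegree_dvd_card ψ.2) 2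
    have hs : sInf ((fun χ : Cfsg.IrrCharacter G =>
        (Cfsg.charDegree (χ : G → ℂ)).factorization 2) '' B)
        ≤ (Cfsg.charDegree (ψ : G → ℂ)).factorization 2 := Nat.sInf_le ⟨ψ, hψ, rfl⟩
    unfold Cfsg.blockDefect at hdef
    unfold Cfsg.blockHeight at h0
    rw [← ha] at hdef
    omega
  have hdeg' : Cfsg.charDegree (ψ' : G → ℂ) = Cfsg.charDegree (ψ : G → ℂ) := by
    have h1 := apply_one_eq_charDegree ψ'
    rw [hval 1, one_pow, apply_one_eq_charDegree ψ] at h1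
    exact_mod_cast h1.symm
  -- the contribution of `ψ'`
  obtain ⟨n, hn, hn0, hnval⟩ := (height_zero_iff_forall hM B hB ψ hψ).2.mp h0 ψ' hψ'
  rw [hdeg', hdeg0] at hnval
  have hnodd : Odd n := by
    rw [← Int.not_even_iff_odd]
    intro hev
    have h2 : ((2 : ℕ) : ℤ) ^ 1 ∣ n := by
      rw [pow_one]
      exact_mod_cast even_iff_two_dvd.mp hev
    rcases (padicValInt_dvd_iff (p := 2) 1 n).mp h2 with h | h
    · exact hn0 h
    · omega
  -- algebraic integers
  obtain ⟨c, hc⟩ : ∃ c : G → Cfsg.AlgInt, ∀ g, ((c g : Cfsg.AlgInt) : ℂ) = (ψ : G → ℂ) g :=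
    ⟨fun g => ⟨(ψ : G → ℂ) g, Cfsg.Agent.Lib.Helper7.irr_value_isIntegral ψ g⟩, fun g => rfl⟩
  obtain ⟨s, hs⟩ : ∃ s : Finset G, s = Finset.univ.filter (fun g : G => ¬ 2 ∣ orderOf g) :=
    ⟨_, rfl⟩
  -- `∑_{g odd} ψ(g)² = (|G| / 2^a) n`
  have hsq : ((2 : ℂ) ^ a) * ∑ g ∈ s, (ψ : G → ℂ) g ^ 2 = (Nat.card G : ℂ) * (n : ℂ) := by
    rw [classInner_def] at hn
    have hG0 : (Nat.card G : ℂ) ≠ 0 := Nat.cast_ne_zero.mpr Nat.card_pos.ne'
    rw [← hn, ← mul_assoc, mul_inv_cancel₀ hG0, one_mul, hs, Finset.sum_filter, Finset.mul_sum]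
    apply Finset.sum_congr rfl
    intro g _
    by_cases hg : 2 ∣ orderOf g
    · rw [if_pos hg, if_neg (not_not.mpr hg), zero_mul, mul_zero]
    · rw [if_neg hg, if_pos hg, hval g, hk₂ g (Nat.not_even_iff_odd.mp
        (fun h => hg (even_iff_two_dvd.mp h))), IrrCharacter.apply_inv, Complex.conj_conj, ← ha]
      push_cast
      ring
  -- move to the algebraic integers
  obtain ⟨m, hm⟩ : ∃ m : ℕ, m = ordCompl[2] (Nat.card G) := ⟨_, rfl⟩
  have hmodd : Odd m := by
    rw [← Nat.not_even_iff_odd, even_iff_two_dvd, hm]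
    exact Nat.not_dvd_ordCompl Nat.prime_two Nat.card_pos.ne'
  have hcard : Nat.card G = 2 ^ a * m := by
    rw [ha, hm]
    exact (Nat.ordProj_mul_ordCompl_eq_self (Nat.card G) 2).symm
  have hQ : ∑ g ∈ s, c g ^ 2 = ((m : ℤ) * n : ℤ) := by
    have h2a : ((2 : Cfsg.AlgInt) ^ a) ≠ 0 := pow_ne_zero _ two_ne_zero
    apply mul_left_cancel₀ h2a
    apply Subtype.ext
    have e2 : ((2 : Cfsg.AlgInt) : ℂ) = 2 := rfl
    push_cast
    simp only [hc, e2]
    rw [hcard] at hsq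
    push_cast at hsq
    rw [hsq]
    ring
  -- the residue field has characteristic two
  haveI hmax : M.IsMaximal := hM.2.1
  haveI : CharP (Cfsg.AlgInt ⧸ M) 2 := by
    apply CharTwo.of_one_ne_zero_of_two_eq_zero one_ne_zero
    have : Ideal.Quotient.mk M (2 : Cfsg.AlgInt) = 0 := Ideal.Quotient.eq_zero_iff_mem.mpr h2M
    rw [map_ofNat] at this
    exact this
  have hA : Ideal.Quotient.mk M (∑ g ∈ s, c g) ≠ 0 := by
    intro h
    have h1 : (Ideal.Quotient.mk M (∑ g ∈ s, c g)) ^ 2 = 1 := by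
      rw [map_sum, CharTwo.sum_sq]
      have h2 : ∑ g ∈ s, (Ideal.Quotient.mk M (c g)) ^ 2
          = Ideal.Quotient.mk M (∑ g ∈ s, c g ^ 2) := by
        rw [map_sum]
        apply Finset.sum_congr rfl
        intro g _
        rw [map_pow]
      rw [h2, hQ]
      exact mk_intCast_of_odd hM (Odd.mul (by exact_mod_cast hmodd) hnodd)
    rw [h, zero_pow two_ne_zero] at h1
    exact zero_ne_one h1
  -- hence the sum of `ψ` over the odd-order elements is not zero
  have hS : ∑ y : G, Cfsg.pRegularPart 2 (ψ : G → ℂ) y ≠ 0 := by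
    intro hS
    apply hA
    have : ∑ g ∈ s, c g = 0 := by
      apply Subtype.ext
      rw [AddSubmonoidClass.coe_finset_sum]
      simp only [hc]
      rw [ZeroMemClass.coe_zero, ← hS, hs, Finset.sum_filter]
      apply Finset.sum_congr rfl
      intro g _
      by_cases hg : 2 ∣ orderOf g
      · rw [if_neg (not_not.mpr hg), pRegularPart_of_singular _ hg]
      · rw [if_pos hg, pRegularPart_of_regular _ hg]
    rw [this, map_zero]
  have hψ0 : ψ ∈ Cfsg.principalBlock M G := by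
    by_contra hcon
    exact hS (sum_pRegularPart_eq_zero hM ψ hcon)
  rw [eq_blockOf_of_mem hM hB hψ, eq_blockOf_of_mem hM isPBlock_principalBlock hψ0]

end SigmaStable

end Cfsg.Agent.Lib.Helper24
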