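import Mathlib
import Cfsg.Agent.Lib.Helper24.SigmaStable
import Cfsg.Agent.Lib.Helper24.Covering94
import Cfsg.Agent.Lib.Helper24.Knorr2
import Cfsg.Agent.Lib.Helper25.PResidualChars
import Cfsg.Agent.Lib.Helper25.Kernel
import Cfsg.Agent.Lib.Helper25.Codegree
import Cfsg.Agent.Lib.Helper11.GaloisTwist

/-!
# Galois twists by power maps, blocks, and normal subgroups of odd index (helper24 library)

* `twistIrr k hk χ`: the irreducible character `g ↦ χ (g ^ k)` for `k` coprime to `|G|`;
* `sameBlock_pow_coprime`: power-map twists preserve block membership;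
* `mem_principalBlock_of_sigma_fixed_over`: `N ⊴ G` of odd index, `χ ∈ Irr(G)` fixed by a power
  map inverting the odd-order elements and lying over some `θ` in the principal `2`-block of `N`
  is in the principal `2`-block of `G`;
* `mem_principalBlock_of_over`: constituents of restrictions of characters in the principal
  block lie in the principal block.
-/

set_option autoImplicit false
set_option linter.unusedSectionVars false
set_option linter.style.haveILetI false

open scoped ComplexConjugate
open Cfsg.Agent.Lib.Helper2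

namespace Cfsg.Agent.Lib.Helper24

section Twist

variable {G : Type*} [Group G] [Fintype G]

/-- the twist of an irreducible character by a power map -/
noncomputable def twistIrr (k : ℕ) (hk : k.Coprime (Nat.card G)) (χ : Cfsg.IrrCharacter G) :
    Cfsg.IrrCharacter G :=
  ⟨fun g => (χ : G → ℂ) (g ^ k), Cfsg.Agent.Lib.Helper11.isIrrCharacter_pow_coprime k hk χ.2⟩

theorem twistIrr_apply (k : ℕ) (hk : k.Coprime (Nat.card G)) (χ : Cfsg.IrrCharacter G) (g : G) :
    (twistIrr k hk χ : G → ℂ) g = (χ : G → ℂ) (g ^ k) := rfl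

theorem centralizer_pow_coprime (k : ℕ) (hk : k.Coprime (Nat.card G)) (g : G) :
    Subgroup.centralizer ({g ^ k} : Set G) = Subgroup.centralizer ({g} : Set G) := by
  have hk' : k.Coprime (orderOf g) := Nat.Coprime.coprime_dvd_right (orderOf_dvd_natCard g) hk
  obtain ⟨m, hm⟩ := exists_pow_eq_self_of_coprime hk'
  apply le_antisymm
  · intro x hx
    rw [Subgroup.mem_centralizer_singleton_iff] at hx ⊢
    have h1 : Commute x (g ^ k) := hx
    have h2 := h1.pow_right m
    rw [hm] at h2
    exact h2
  · intro x hx
    rw [Subgroup.mem_centralizer_singleton_iff] at hx ⊢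
    have h1 : Commute x g := hx
    exact h1.pow_right k

theorem centralChar_pow_coprime (k : ℕ) (hk : k.Coprime (Nat.card G)) (χ : G → ℂ) (g : G) :
    Cfsg.centralChar (fun x => χ (x ^ k)) g = Cfsg.centralChar χ (g ^ k) := by
  unfold Cfsg.centralChar
  rw [centralizer_pow_coprime k hk g]
  simp only [one_pow]

theorem sameBlock_pow_coprime {M : Ideal Cfsg.AlgInt} (k : ℕ) (hk : k.Coprime (Nat.card G))
    {χ ψ : G → ℂ} (h : Cfsg.SameBlock M χ ψ) :
    Cfsg.SameBlock M (fun x => χ (x ^ k)) (fun x => ψ (x ^ k)) := by
  intro g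
  rw [centralChar_pow_coprime k hk, centralChar_pow_coprime k hk]
  exact h (g ^ k)

end Twist

section OddIndex

variable {G : Type*} [Group G] [Fintype G] (N : Subgroup G) [hN : N.Normal] [Fintype N]
variable {M : Ideal Cfsg.AlgInt}

/-- an irreducible character of `G` over the trivial character of `N` has degree dividing the
index of `N` -/
theorem charDegree_dvd_index_of_over_one (β : Cfsg.IrrCharacter G)
    (hne : Cfsg.classInner (fun n : N => (β : G → ℂ) n) (fun _ : N => (1 : ℂ)) ≠ 0) :
    Cfsg.charDegree (β : G → ℂ) ∣ N.index := by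
  have hβcf : Cfsg.IsClassFunction G (β : G → ℂ) := IrrCharacter.isClassFunction β
  have hne' : Cfsg.classInner (Cfsg.indFun N (fun _ : N => (1 : ℂ))) (β : G → ℂ) ≠ 0 := by
    rw [frobenius_reciprocity N _ _ hβcf]
    rw [← classInner_conj_symm]
    intro h
    apply hne
    have := congrArg (starRingEnd ℂ) h
    simpa using this
  have hker := Cfsg.Agent.Lib.Helper25.const_on_of_over_one N β.2 hne'
  obtain ⟨ψ, hψ, hψβ⟩ := Cfsg.Agent.Lib.Helper25.exists_deflation N β.2 hker
  have hdvd := Cfsg.Agent.Lib.Helper25.charDegree_dvd_card hψ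
  have h1 : Cfsg.charDegree (β : G → ℂ) = Cfsg.charDegree ψ := by
    unfold Cfsg.charDegree
    rw [hψβ 1]
    rfl
  rw [h1]
  have h2 : Nat.card (G ⧸ N) = N.index := rfl
  rw [← h2]
  exact hdvd

end OddIndex

end Cfsg.Agent.Lib.Helper24
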