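import Mathlib
import Cfsg.Agent.Lib.Helper24.SigmaOdd
import Cfsg.Agent.Lib.Helper2.DirectProduct
import Cfsg.Agent.Lib.Helper14.DegGraph
import Cfsg.Agent.Lib.Helper7.RegularDetermines
import Cfsg.Agent.Lib.Helper11.Clifford

/-!
# Principal blocks: constituents on normal subgroups, central products (helper24 library)

* `mem_principalBlock_of_over`: an irreducible constituent of the restriction to a normal
  subgroup of a character in the principal block lies in the principal block;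
* central products `G = U₁ U₂`, `[U₁, U₂] = 1`: `cpHom`, `cp_char_mul`
  (`χ (a b) = ψ₁ a ψ₂ b`), `cp_index_centralizer` (class sizes multiply for `p`-regular
  elements when `U₁ ∩ U₂` is a `p`-group), `cp_mem_principalBlock`.
-/

set_option autoImplicit false
set_option linter.unusedSectionVars false
set_option linter.style.haveILetI false

open scoped ComplexConjugate
open Cfsg.Agent.Lib.Helper2

namespace Cfsg.Agent.Lib.Helper24

section Over

variable {G : Type*} [Group G] [Fintype G] (N : Subgroup G) [hN : N.Normal] [Fintype N]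
variable {p : ℕ} {M : Ideal Cfsg.AlgInt}

/-- constituents on a normal subgroup of characters of the principal block lie in the principal
block -/
theorem mem_principalBlock_of_over (hM : Cfsg.IsPModular p M) (χ : Cfsg.IrrCharacter G)
    (hχB : χ ∈ Cfsg.principalBlock M G) (θ : Cfsg.IrrCharacter N)
    (hover : Cfsg.classInner (fun n : N => (χ : G → ℂ) n) (θ : N → ℂ) ≠ 0) :
    θ ∈ Cfsg.principalBlock M N := by
  classical
  have hone : Cfsg.classInner (fun n : N => (trivIrr G : G → ℂ) n) (trivIrr N : N → ℂ) ≠ 0 := by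
    have h1 : (fun n : N => (trivIrr G : G → ℂ) n) = (trivIrr N : N → ℂ) := rfl
    rw [h1, classInner_irrCharacter_self]
    exact one_ne_zero
  have hB := isPBlock_principalBlock (M := M) (G := G)
  have hb : Cfsg.IsPBlock M (Cfsg.blockOf M (θ : N → ℂ)) := ⟨θ, rfl⟩
  have hc := isPBlock_principalBlock (M := M) (G := N)
  have hcovb : ∃ χ' ∈ Cfsg.principalBlock M G, ∃ θ' ∈ Cfsg.blockOf M (θ : N → ℂ),
      Cfsg.classInner (fun n : N => (χ' : G → ℂ) n) (θ' : N → ℂ) ≠ 0 :=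
    ⟨χ, hχB, θ, mem_blockOf_self hM θ, hover⟩
  have hcovc : ∃ χ' ∈ Cfsg.principalBlock M G, ∃ θ' ∈ Cfsg.principalBlock M N,
      Cfsg.classInner (fun n : N => (χ' : G → ℂ) n) (θ' : N → ℂ) ≠ 0 :=
    ⟨trivIrr G, trivIrr_mem_principalBlock hM, trivIrr N, trivIrr_mem_principalBlock hM, hone⟩
  obtain ⟨z, hz⟩ := exists_cs_eq_of_covered N hM _ hB _ _ hb hc hcovb hcovc
  have h1 : trivIrr N ∈ cs N z (Cfsg.principalBlock M N) := by
    refine ⟨trivIrr N, trivIrr_mem_principalBlock hM, ?_⟩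
    apply Subtype.ext
    funext n
    rfl
  rw [← hz] at h1
  exact sameBlock_symm hM h1

end Over

section CentralProd

variable {G : Type*} [Group G] (U₁ U₂ : Subgroup G)

/-- the multiplication map of a central product -/
noncomputable def cpHom (hcomm : ∀ u ∈ U₁, ∀ v ∈ U₂, u * v = v * u) : ↥U₁ × ↥U₂ →* G :=
  MonoidHom.noncommCoprod U₁.subtype U₂.subtype
    (fun a b => (show Commute (U₁.subtype a) (U₂.subtype b) from hcomm a a.2 b b.2))

theorem cpHom_apply (hcomm : ∀ u ∈ U₁, ∀ v ∈ U₂, u * v = v * u) (a : U₁) (b : U₂) :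
    cpHom U₁ U₂ hcomm (a, b) = (a : G) * (b : G) := rfl

theorem cpHom_surjective (hcomm : ∀ u ∈ U₁, ∀ v ∈ U₂, u * v = v * u) (hgen : U₁ ⊔ U₂ = ⊤) :
    Function.Surjective (cpHom U₁ U₂ hcomm) := by
  rw [← MonoidHom.range_eq_top]
  unfold cpHom
  rw [MonoidHom.noncommCoprod_range, Subgroup.range_subtype, Subgroup.range_subtype, hgen]

theorem cp_normal_left (hcomm : ∀ u ∈ U₁, ∀ v ∈ U₂, u * v = v * u) (hgen : U₁ ⊔ U₂ = ⊤) :
    U₁.Normal := by
  rw [← Subgroup.normalizer_eq_top_iff, eq_top_iff, ← hgen]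
  apply sup_le Subgroup.le_normalizer
  intro v hv
  rw [Subgroup.mem_normalizer_iff]
  intro u
  constructor
  · intro hu
    have h1 : v * u * v⁻¹ = u := by
      rw [← hcomm u hu v hv, mul_inv_cancel_right]
    rw [h1]
    exact hu
  · intro hu
    have h1 := hcomm _ hu v hv
    have h2 : u = v * u * v⁻¹ := by
      have h3 : v * u * v⁻¹ * v = v * (v * u * v⁻¹) := h1
      have h4 : v * u = v * (v * u * v⁻¹) := by
        rw [← h3]
        group
      exact mul_left_cancel h4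
    rw [h2]
    exact hu

theorem cp_normal_right (hcomm : ∀ u ∈ U₁, ∀ v ∈ U₂, u * v = v * u) (hgen : U₁ ⊔ U₂ = ⊤) :
    U₂.Normal := by
  apply cp_normal_left U₂ U₁ (fun u hu v hv => (hcomm v hv u hu).symm)
  rw [sup_comm]
  exact hgen

end CentralProd

section CentralProd2

variable {G : Type*} [Group G] [Fintype G] (U₁ U₂ : Subgroup G) [Fintype U₁] [Fintype U₂]

/-- irreducible characters of a central product factor -/
theorem cp_char_mul (hcomm : ∀ u ∈ U₁, ∀ v ∈ U₂, u * v = v * u) (hgen : U₁ ⊔ U₂ = ⊤)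
    (χ : Cfsg.IrrCharacter G) :
    ∃ (φ₁ : Cfsg.IrrCharacter U₁) (φ₂ : Cfsg.IrrCharacter U₂), ∀ (a : U₁) (b : U₂),
      (χ : G → ℂ) ((a : G) * (b : G)) = (φ₁ : U₁ → ℂ) a * (φ₂ : U₂ → ℂ) b := by
  have h1 := Cfsg.Agent.Lib.Helper14.isIrrCharacter_comp_surj (cpHom U₁ U₂ hcomm)
    (cpHom_surjective U₁ U₂ hcomm hgen) χ.2
  rw [isIrrCharacter_prod_iff] at h1
  obtain ⟨φ, ψ, hφ, hψ, h⟩ := h1
  exact ⟨⟨φ, hφ⟩, ⟨ψ, hψ⟩, fun a b => congrFun h (a, b)⟩

/-- the factors are the constituents of the restrictions -/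
theorem cp_char_mul_of_over (hcomm : ∀ u ∈ U₁, ∀ v ∈ U₂, u * v = v * u) (hgen : U₁ ⊔ U₂ = ⊤)
    (χ : Cfsg.IrrCharacter G) (ψ₁ : Cfsg.IrrCharacter U₁) (ψ₂ : Cfsg.IrrCharacter U₂)
    (h₁ : Cfsg.classInner (fun u : U₁ => (χ : G → ℂ) u) (ψ₁ : U₁ → ℂ) ≠ 0)
    (h₂ : Cfsg.classInner (fun u : U₂ => (χ : G → ℂ) u) (ψ₂ : U₂ → ℂ) ≠ 0)
    (a : U₁) (b : U₂) :
    (χ : G → ℂ) ((a : G) * (b : G)) = (ψ₁ : U₁ → ℂ) a * (ψ₂ : U₂ → ℂ) b := by
  obtain ⟨φ₁, φ₂, h⟩ := cp_char_mul U₁ U₂ hcomm hgen χ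
  have e1 : (fun u : U₁ => (χ : G → ℂ) u) = ((φ₂ : U₂ → ℂ) 1) • (φ₁ : U₁ → ℂ) := by
    funext u
    have := h u 1
    simp only [OneMemClass.coe_one, mul_one] at this
    rw [this, Pi.smul_apply, smul_eq_mul, mul_comm]
  have e2 : (fun u : U₂ => (χ : G → ℂ) u) = ((φ₁ : U₁ → ℂ) 1) • (φ₂ : U₂ → ℂ) := by
    funext u
    have := h 1 u
    simp only [OneMemClass.coe_one, one_mul] at this
    rw [this, Pi.smul_apply, smul_eq_mul]
  rw [e1, classInner_smul_left] at h₁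
  rw [e2, classInner_smul_left] at h₂
  have h1' := Cfsg.Agent.Lib.Helper11.eq_of_irr_of_classInner_ne_zero φ₁.2 ψ₁.2 (right_ne_zero_of_mul h₁)
  have h2' := Cfsg.Agent.Lib.Helper11.eq_of_irr_of_classInner_ne_zero φ₂.2 ψ₂.2 (right_ne_zero_of_mul h₂)
  rw [h a b, h1', h2']

/-- a `p`-regular element of a central product is a product of `p`-regular elements -/
theorem cp_exists_regular {p : ℕ} [Fact p.Prime] (hcomm : ∀ u ∈ U₁, ∀ v ∈ U₂, u * v = v * u)
    (hgen : U₁ ⊔ U₂ = ⊤) (g : G) (hg : ¬ p ∣ orderOf g) :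
    ∃ (a : U₁) (b : U₂), ¬ p ∣ orderOf a ∧ ¬ p ∣ orderOf b ∧ (a : G) * (b : G) = g := by
  have hp : p.Prime := Fact.out
  obtain ⟨⟨a₀, b₀⟩, hab⟩ := cpHom_surjective U₁ U₂ hcomm hgen g
  rw [cpHom_apply] at hab
  have hn0 : Nat.card G ≠ 0 := Nat.card_pos.ne'
  have hm : ¬ p ∣ ordCompl[p] (Nat.card G) := Nat.not_dvd_ordCompl hp hn0
  have hcop : Nat.Coprime (ordProj[p] (Nat.card G)) (ordCompl[p] (Nat.card G)) :=
    Nat.Coprime.pow_left _ ((Nat.Prime.coprime_iff_not_dvd hp).2 hm)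
  have hprod : ordProj[p] (Nat.card G) * ordCompl[p] (Nat.card G) = Nat.card G :=
    Nat.ordProj_mul_ordCompl_eq_self _ _
  obtain ⟨k, hk0, hk1⟩ := Nat.chineseRemainder hcop 0 1
  have hpk : ordProj[p] (Nat.card G) ∣ k := (Nat.modEq_zero_iff_dvd).1 hk0
  -- powers
  have hreg : ∀ x : G, ¬ p ∣ orderOf (x ^ k) := by
    intro x hx
    have h1 : (x ^ k) ^ (ordCompl[p] (Nat.card G)) = 1 := by
      obtain ⟨c, hc⟩ := hpk
      rw [← pow_mul, hc, mul_comm _ c, mul_assoc, hprod, pow_mul, pow_card_eq_one']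
    exact hm (hx.trans (orderOf_dvd_of_pow_eq_one h1))
  have hgk : g ^ k = g := by
    have h1 : orderOf g ∣ ordCompl[p] (Nat.card G) := by
      have h2 : orderOf g ∣ ordProj[p] (Nat.card G) * ordCompl[p] (Nat.card G) := by
        rw [hprod]
        exact orderOf_dvd_natCard g
      exact (Nat.Coprime.pow_right _ ((Nat.Prime.coprime_iff_not_dvd hp).2 hg).symm).dvd_of_dvd_mul_left h2
    have h3 : k ≡ 1 [MOD orderOf g] := hk1.of_dvd h1
    calc g ^ k = g ^ 1 := (pow_eq_pow_iff_modEq).2 h3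
      _ = g := pow_one g
  refine ⟨a₀ ^ k, b₀ ^ k, ?_, ?_, ?_⟩
  · rw [← Subgroup.orderOf_coe]
    exact hreg _
  · rw [← Subgroup.orderOf_coe]
    exact hreg _
  · have hc : Commute (a₀ : G) (b₀ : G) := hcomm a₀ a₀.2 b₀ b₀.2
    rw [Subgroup.coe_pow, Subgroup.coe_pow, ← hc.mul_pow, hab, hgk]

/-- key step: a central `p`-element `z` with `u⁻¹ a u = a z` for a `p`-regular `a` is trivial -/
theorem cp_eq_one_of_conj {p : ℕ} [Fact p.Prime] {a u z : G} (ha : ¬ p ∣ orderOf a)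
    (hz : ∃ k : ℕ, z ^ (p ^ k) = 1) (hza : Commute a z) (h : u⁻¹ * a * u = a * z) : z = 1 := by
  have hp : p.Prime := Fact.out
  obtain ⟨k, hk⟩ := hz
  have h1 : z ^ orderOf a = 1 := by
    have h2 : (u⁻¹ * a * u) ^ orderOf a = 1 := by
      have h3 : u⁻¹ * a * u = u⁻¹ * a * u⁻¹⁻¹ := by rw [inv_inv]
      rw [h3, conj_pow, pow_orderOf_eq_one, mul_one, mul_inv_cancel]
    rw [h, hza.mul_pow, pow_orderOf_eq_one, one_mul] at h2
    exact h2
  have h4 : orderOf z ∣ Nat.gcd (orderOf a) (p ^ k) :=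
    Nat.dvd_gcd (orderOf_dvd_of_pow_eq_one h1) (orderOf_dvd_of_pow_eq_one hk)
  have h5 : Nat.gcd (orderOf a) (p ^ k) = 1 :=
    Nat.Coprime.pow_right _ ((Nat.Prime.coprime_iff_not_dvd hp).2 ha).symm
  rw [h5, Nat.dvd_one, orderOf_eq_one_iff] at h4
  exact h4

/-- centralizers of products of `p`-regular elements in a central product whose intersection
is a `p`-group -/
theorem cp_comap_centralizer {p : ℕ} [Fact p.Prime] (hcomm : ∀ u ∈ U₁, ∀ v ∈ U₂, u * v = v * u)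
    (hZ : IsPGroup p ↥(U₁ ⊓ U₂)) (a : U₁) (b : U₂) (ha : ¬ p ∣ orderOf a)
    (hb : ¬ p ∣ orderOf b) :
    Subgroup.comap (cpHom U₁ U₂ hcomm) (Subgroup.centralizer ({(a : G) * (b : G)} : Set G))
      = (Subgroup.centralizer ({a} : Set U₁)).prod (Subgroup.centralizer ({b} : Set U₂)) := by
  ext ⟨u, v⟩
  rw [Subgroup.mem_comap, cpHom_apply, Subgroup.mem_prod, Subgroup.mem_centralizer_singleton_iff,
    Subgroup.mem_centralizer_singleton_iff, Subgroup.mem_centralizer_singleton_iff]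
  have hub : (u : G) * (b : G) = (b : G) * (u : G) := hcomm u u.2 b b.2
  have hav : (a : G) * (v : G) = (v : G) * (a : G) := hcomm a a.2 v v.2
  constructor
  · intro h
    -- h : u v a b = a b u v
    have h' : (u : G) * (a : G) * ((v : G) * (b : G)) = (a : G) * (u : G) * ((b : G) * (v : G)) := by
      calc (u : G) * (a : G) * ((v : G) * (b : G))
          = (u : G) * ((a : G) * (v : G)) * (b : G) := by group
        _ = (u : G) * ((v : G) * (a : G)) * (b : G) := by rw [hav]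
        _ = (u : G) * (v : G) * ((a : G) * (b : G)) := by group
        _ = (a : G) * (b : G) * ((u : G) * (v : G)) := h
        _ = (a : G) * ((b : G) * (u : G)) * (v : G) := by group
        _ = (a : G) * ((u : G) * (b : G)) * (v : G) := by rw [hub]
        _ = (a : G) * (u : G) * ((b : G) * (v : G)) := by group
    -- z := (a u)⁻¹ (u a) = (b v) (v b)⁻¹
    have hz12 : ((a : G) * (u : G))⁻¹ * ((u : G) * (a : G))
        = (b : G) * (v : G) * ((v : G) * (b : G))⁻¹ := by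
      rw [eq_mul_inv_iff_mul_eq, mul_assoc, h']
      group
    have hz1 : ((a : G) * (u : G))⁻¹ * ((u : G) * (a : G)) ∈ U₁ :=
      U₁.mul_mem (U₁.inv_mem (U₁.mul_mem a.2 u.2)) (U₁.mul_mem u.2 a.2)
    have hz2 : ((a : G) * (u : G))⁻¹ * ((u : G) * (a : G)) ∈ U₂ := by
      rw [hz12]
      exact U₂.mul_mem (U₂.mul_mem b.2 v.2) (U₂.inv_mem (U₂.mul_mem v.2 b.2))
    have hzp : ∃ k : ℕ, (((a : G) * (u : G))⁻¹ * ((u : G) * (a : G))) ^ (p ^ k) = 1 := by
      obtain ⟨k, hk⟩ := hZ ⟨_, Subgroup.mem_inf.2 ⟨hz1, hz2⟩⟩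
      refine ⟨k, ?_⟩
      have := congrArg Subtype.val hk
      simpa using this
    -- first factor
    have hau : (a : G) * (u : G) = (u : G) * (a : G) := by
      -- u⁻¹⁻¹ ... use cp_eq_one_of_conj with conjugating element u⁻¹: u a u⁻¹ = a z'?
      -- a u z = u a, i.e. u⁻¹ (a) u ... we use: (u⁻¹)⁻¹ * a * u⁻¹ = ...
      have hcz : Commute (a : G) (((a : G) * (u : G))⁻¹ * ((u : G) * (a : G))) :=
        hcomm a a.2 _ hz2
      have hcuz : Commute (u : G) (((a : G) * (u : G))⁻¹ * ((u : G) * (a : G))) :=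
        hcomm u u.2 _ hz2
      have hconj : ((u : G)⁻¹)⁻¹ * (a : G) * (u : G)⁻¹
          = (a : G) * (((a : G) * (u : G))⁻¹ * ((u : G) * (a : G))) := by
        have e1 : (u : G) * (a : G) = (a : G) * (u : G)
            * (((a : G) * (u : G))⁻¹ * ((u : G) * (a : G))) := by group
        have e2 : (u : G) * (a : G) = (a : G) * (((a : G) * (u : G))⁻¹ * ((u : G) * (a : G)))
            * (u : G) := by
          rw [mul_assoc (a : G) _ (u : G), ← hcuz.eq, ← mul_assoc]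
          exact e1
        rw [inv_inv, mul_inv_eq_iff_eq_mul]
        exact e2
      have hz1' := cp_eq_one_of_conj (p := p) (by rwa [Subgroup.orderOf_coe]) hzp hcz hconj
      have : (u : G) * (a : G) = (a : G) * (u : G) * 1 := by
        rw [← hz1']
        group
      rw [this, mul_one]
    have hbv : (b : G) * (v : G) = (v : G) * (b : G) := by
      have h1 : ((a : G) * (u : G))⁻¹ * ((u : G) * (a : G)) = 1 := by
        rw [hau, inv_mul_cancel]
      rw [h1] at hz12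
      have := hz12.symm
      rwa [mul_inv_eq_one] at this
    constructor
    · apply Subtype.ext
      rw [Subgroup.coe_mul, Subgroup.coe_mul]
      exact hau.symm
    · apply Subtype.ext
      rw [Subgroup.coe_mul, Subgroup.coe_mul]
      exact hbv.symm
  · rintro ⟨h1, h2⟩
    have h1' : (u : G) * (a : G) = (a : G) * (u : G) := by
      have := congrArg Subtype.val h1
      simpa using this
    have h2' : (v : G) * (b : G) = (b : G) * (v : G) := by
      have := congrArg Subtype.val h2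
      simpa using this
    calc (u : G) * (v : G) * ((a : G) * (b : G))
        = (u : G) * ((v : G) * (a : G)) * (b : G) := by group
      _ = (u : G) * ((a : G) * (v : G)) * (b : G) := by rw [hav]
      _ = (u : G) * (a : G) * ((v : G) * (b : G)) := by group
      _ = (a : G) * (u : G) * ((b : G) * (v : G)) := by rw [h1', h2']
      _ = (a : G) * ((u : G) * (b : G)) * (v : G) := by group
      _ = (a : G) * ((b : G) * (u : G)) * (v : G) := by rw [hub]
      _ = (a : G) * (b : G) * ((u : G) * (v : G)) := by group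

/-- class sizes multiply -/
theorem cp_index_centralizer {p : ℕ} [Fact p.Prime] (hcomm : ∀ u ∈ U₁, ∀ v ∈ U₂, u * v = v * u)
    (hgen : U₁ ⊔ U₂ = ⊤)
    (hZ : IsPGroup p ↥(U₁ ⊓ U₂)) (a : U₁) (b : U₂) (ha : ¬ p ∣ orderOf a)
    (hb : ¬ p ∣ orderOf b) :
    (Subgroup.centralizer ({(a : G) * (b : G)} : Set G)).index
      = (Subgroup.centralizer ({a} : Set U₁)).index * (Subgroup.centralizer ({b} : Set U₂)).index := by
  rw [← Subgroup.index_comap_of_surjective _ (cpHom_surjective U₁ U₂ hcomm hgen),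
    cp_comap_centralizer U₁ U₂ hcomm hZ a b ha hb, Subgroup.index_prod]

/-- principal blocks of central products over `p`-groups: the product direction -/
theorem cp_mem_principalBlock {p : ℕ} [Fact p.Prime] {M : Ideal Cfsg.AlgInt}
    (hM : Cfsg.IsPModular p M) (hcomm : ∀ u ∈ U₁, ∀ v ∈ U₂, u * v = v * u)
    (hgen : U₁ ⊔ U₂ = ⊤) (hZ : IsPGroup p ↥(U₁ ⊓ U₂))
    (χ : Cfsg.IrrCharacter G) (ψ₁ : Cfsg.IrrCharacter U₁) (ψ₂ : Cfsg.IrrCharacter U₂)
    (hmul : ∀ (a : U₁) (b : U₂),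
      (χ : G → ℂ) ((a : G) * (b : G)) = (ψ₁ : U₁ → ℂ) a * (ψ₂ : U₂ → ℂ) b)
    (h1 : ψ₁ ∈ Cfsg.principalBlock M U₁) (h2 : ψ₂ ∈ Cfsg.principalBlock M U₂) :
    χ ∈ Cfsg.principalBlock M G := by
  have key : χ ∈ Cfsg.blockOf M ((trivIrr G : Cfsg.IrrCharacter G) : G → ℂ) := by
    apply Cfsg.Agent.Lib.Helper7.mem_blockOf_of_regular hM (trivIrr G) χ
    intro g hg
    obtain ⟨a, b, ha, hb, rfl⟩ := cp_exists_regular U₁ U₂ hcomm hgen g hg
    have hidx := cp_index_centralizer U₁ U₂ hcomm hgen hZ a b ha hb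
    have hχ1 : (χ : G → ℂ) 1 = (ψ₁ : U₁ → ℂ) 1 * (ψ₂ : U₂ → ℂ) 1 := by
      have := hmul 1 1
      simpa using this
    have hψ₁1 : (ψ₁ : U₁ → ℂ) 1 ≠ 0 := Cfsg.Agent.Lib.Helper2.IsIrrCharacter.apply_one_ne_zero ψ₁.2
    have hψ₂1 : (ψ₂ : U₂ → ℂ) 1 ≠ 0 := Cfsg.Agent.Lib.Helper2.IsIrrCharacter.apply_one_ne_zero ψ₂.2
    have e1 : Cfsg.centralChar ((trivIrr G : Cfsg.IrrCharacter G) : G → ℂ) ((a : G) * (b : G))
        = Cfsg.centralChar ((trivIrr U₁ : Cfsg.IrrCharacter U₁) : U₁ → ℂ) a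
          * Cfsg.centralChar ((trivIrr U₂ : Cfsg.IrrCharacter U₂) : U₂ → ℂ) b := by
      unfold Cfsg.centralChar
      rw [hidx, trivIrr_apply, trivIrr_apply, trivIrr_apply, trivIrr_apply, trivIrr_apply,
        trivIrr_apply]
      push_cast
      ring
    have e2 : Cfsg.centralChar (χ : G → ℂ) ((a : G) * (b : G))
        = Cfsg.centralChar (ψ₁ : U₁ → ℂ) a * Cfsg.centralChar (ψ₂ : U₂ → ℂ) b := by
      unfold Cfsg.centralChar
      rw [hidx, hmul a b, hχ1]
      push_cast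
      field_simp
    rw [e1, e2]
    have d1 : Cfsg.MemLocalIdeal M
        (Cfsg.centralChar ((trivIrr U₁ : Cfsg.IrrCharacter U₁) : U₁ → ℂ) a
          - Cfsg.centralChar (ψ₁ : U₁ → ℂ) a) := h1 a
    have d2 : Cfsg.MemLocalIdeal M
        (Cfsg.centralChar ((trivIrr U₂ : Cfsg.IrrCharacter U₂) : U₂ → ℂ) b
          - Cfsg.centralChar (ψ₂ : U₂ → ℂ) b) := h2 b
    have e3 : Cfsg.centralChar ((trivIrr U₁ : Cfsg.IrrCharacter U₁) : U₁ → ℂ) a
          * Cfsg.centralChar ((trivIrr U₂ : Cfsg.IrrCharacter U₂) : U₂ → ℂ) b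
        - Cfsg.centralChar (ψ₁ : U₁ → ℂ) a * Cfsg.centralChar (ψ₂ : U₂ → ℂ) b
        = Cfsg.centralChar ((trivIrr U₁ : Cfsg.IrrCharacter U₁) : U₁ → ℂ) a
          * (Cfsg.centralChar ((trivIrr U₂ : Cfsg.IrrCharacter U₂) : U₂ → ℂ) b
            - Cfsg.centralChar (ψ₂ : U₂ → ℂ) b)
          + (Cfsg.centralChar ((trivIrr U₁ : Cfsg.IrrCharacter U₁) : U₁ → ℂ) a
            - Cfsg.centralChar (ψ₁ : U₁ → ℂ) a) * Cfsg.centralChar (ψ₂ : U₂ → ℂ) b := by
      ring
    rw [e3]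
    exact memLocalIdeal_add hM
      (memLocalIdeal_mul_left hM (centralChar_memLocalRing hM (trivIrr U₁) a) d2)
      (memLocalIdeal_mul_right hM d1 (centralChar_memLocalRing hM ψ₂ b))
  exact key

/-- principal blocks of central products over `p`-groups -/
theorem cp_mem_principalBlock_iff {p : ℕ} [Fact p.Prime] {M : Ideal Cfsg.AlgInt}
    (hM : Cfsg.IsPModular p M) (hcomm : ∀ u ∈ U₁, ∀ v ∈ U₂, u * v = v * u)
    (hgen : U₁ ⊔ U₂ = ⊤) (hZ : IsPGroup p ↥(U₁ ⊓ U₂))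
    (χ : Cfsg.IrrCharacter G) (ψ₁ : Cfsg.IrrCharacter U₁) (ψ₂ : Cfsg.IrrCharacter U₂)
    (h₁ : Cfsg.classInner (fun u : U₁ => (χ : G → ℂ) u) (ψ₁ : U₁ → ℂ) ≠ 0)
    (h₂ : Cfsg.classInner (fun u : U₂ => (χ : G → ℂ) u) (ψ₂ : U₂ → ℂ) ≠ 0) :
    χ ∈ Cfsg.principalBlock M G ↔
      (ψ₁ ∈ Cfsg.principalBlock M U₁ ∧ ψ₂ ∈ Cfsg.principalBlock M U₂) := by
  constructor
  · intro hχ
    haveI := cp_normal_left U₁ U₂ hcomm hgen
    haveI := cp_normal_right U₁ U₂ hcomm hgen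
    exact ⟨mem_principalBlock_of_over U₁ hM χ hχ ψ₁ h₁, mem_principalBlock_of_over U₂ hM χ hχ ψ₂ h₂⟩
  · rintro ⟨h1, h2⟩
    exact cp_mem_principalBlock U₁ U₂ hM hcomm hgen hZ χ ψ₁ ψ₂
      (cp_char_mul_of_over U₁ U₂ hcomm hgen χ ψ₁ ψ₂ h₁ h₂) h1 h2

end CentralProd2

end Cfsg.Agent.Lib.Helper24
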