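import Mathlib
import Cfsg.Prelude.Def_BlockFusion
import Cfsg.Agent.Lib.Helper24.BlockFusionNil

/-!
# Brauer pairs of nilpotent blocks (helper24 library)

* `subgroupBlockCoeff_centSub`.
* `isNilpotentBlock_of_isBrauerPairOf`: for a Brauer pair `(Q, f)` of a nilpotent block, `f` is a
  nilpotent block of `C_G(Q)`.
* `isFullyCentralized_of_hom_eq_inner`: in the inner fusion system every subgroup is fully
  centralized.
-/

set_option autoImplicit false

namespace Cfsg.Agent.Lib.Helper24

open Cfsg.Agent.Lib.Helper2 Cfsg.Agent.Lib.Helper7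
open scoped ComplexConjugate

section NilPairs

variable {G : Type*} [Group G] [Fintype G] {p : ℕ} {M : Ideal Cfsg.AlgInt}

theorem subgroupBlockCoeff_centSub (Q : Subgroup G)
    (S : Subgroup (Subgroup.centralizer (Q : Set G)))
    (g : Set (Cfsg.IrrCharacter
      (Subgroup.centralizer (S : Set (Subgroup.centralizer (Q : Set G))))))
    (t : Subgroup.centralizer (Q : Set G)) :
    Cfsg.subgroupBlockCoeff (Subgroup.centralizer
        ((Q ⊔ S.map (Subgroup.centralizer (Q : Set G)).subtype : Subgroup G) : Set G))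
      (irrMap (centSub Q S) '' g) (t : G)
      = Cfsg.subgroupBlockCoeff
          (Subgroup.centralizer (S : Set (Subgroup.centralizer (Q : Set G)))) g t := by
  classical
  rw [subgroupBlockCoeff_eq_extZ, subgroupBlockCoeff_eq_extZ]
  by_cases ht : t ∈ Subgroup.centralizer (S : Set (Subgroup.centralizer (Q : Set G)))
  · have ht' : (t : G) ∈ Subgroup.centralizer
        ((Q ⊔ S.map (Subgroup.centralizer (Q : Set G)).subtype : Subgroup G) : Set G) :=
      (centSub Q S ⟨t, ht⟩).2
    rw [extendByZero_apply_mem _ _ ht', extendByZero_apply_mem _ _ ht, blockCoeff_image_irrMap]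
    apply congrArg
    apply Subtype.ext
    apply Subtype.ext
    rfl
  · have ht' : (t : G) ∉ Subgroup.centralizer
        ((Q ⊔ S.map (Subgroup.centralizer (Q : Set G)).subtype : Subgroup G) : Set G) := by
      intro hc
      exact ht ((centSub Q S).symm ⟨(t : G), hc⟩).2
    rw [extendByZero_apply_not_mem _ _ ht', extendByZero_apply_not_mem _ _ ht]

/-- **Brauer pairs of a nilpotent block carry nilpotent blocks.** -/
theorem isNilpotentBlock_of_isBrauerPairOf [Fact p.Prime] (hM : Cfsg.IsPModular p M)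
    (B : Set (Cfsg.IrrCharacter G)) (hnil : Cfsg.IsNilpotentBlock p M B) (Q : Subgroup G)
    (f : Set (Cfsg.IrrCharacter (Subgroup.centralizer (Q : Set G))))
    (hQf : Cfsg.IsBrauerPairOf p M B Q f) : Cfsg.IsNilpotentBlock p M f := by
  classical
  have hQ : IsPGroup p Q := hQf.1.1
  have hf : Cfsg.IsPBlock M f := hQf.1.2
  haveI : Fintype (Subgroup.centralizer (Q : Set G)) := Fintype.ofFinite _
  refine ⟨hf, ?_⟩
  intro S g hSg x hxN hxs hxreg
  have hns := isNormalSubpair_of_isBrauerPairOf_centralizer Q hQ f S g hSg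
  have hle : Cfsg.SubpairLE p M Q f (Q ⊔ S.map (Subgroup.centralizer (Q : Set G)).subtype)
      (irrMap (centSub Q S) '' g) := Relation.ReflTransGen.single hns
  have hRg : Cfsg.IsBrauerPairOf p M B (Q ⊔ S.map (Subgroup.centralizer (Q : Set G)).subtype)
      (irrMap (centSub Q S) '' g) :=
    (isBrauerPairOf_iff_of_subpairLE hM hns.2.1 hQf.1 hle B hnil.1).mpr hQf
  -- `x` normalizes `Q S`
  have hxNR : (x : G) ∈ Subgroup.normalizer
      ((Q ⊔ S.map (Subgroup.centralizer (Q : Set G)).subtype : Subgroup G) : Set G) := by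
    apply Subgroup.mem_normalizer_fintype
    have hcomap : Q ⊔ S.map (Subgroup.centralizer (Q : Set G)).subtype
        ≤ (Q ⊔ S.map (Subgroup.centralizer (Q : Set G)).subtype).comap
          (MulAut.conj (x : G)).toMonoidHom := by
      apply sup_le
      · intro q hq
        rw [Subgroup.mem_comap]
        apply Subgroup.mem_sup_left
        show (x : G) * q * (x : G)⁻¹ ∈ Q
        have := Subgroup.mem_centralizer_iff.mp x.2 q hq
        rw [← this]
        simpa using hq
      · rintro _ ⟨s, hs, rfl⟩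
        rw [Subgroup.mem_comap]
        apply Subgroup.mem_sup_right
        refine ⟨x * s * x⁻¹, (Subgroup.mem_normalizer_iff.mp hxN s).mp hs, rfl⟩
    intro n hn
    exact hcomap hn
  -- `x` stabilizes the block
  have hxs' : Cfsg.StabilizesBlock (Subgroup.centralizer
      ((Q ⊔ S.map (Subgroup.centralizer (Q : Set G)).subtype : Subgroup G) : Set G))
      (irrMap (centSub Q S) '' g) (x : G) := by
    apply stabilizesBlock_of_conj_invariant _ _ _ (normalizer_le_normalizer_centralizer _ hxNR)
    intro y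
    by_cases hy : y ∈ Subgroup.centralizer (Q : Set G)
    · have h1 := subgroupBlockCoeff_conj_of_stabilizes _ g x hxs ⟨y, hy⟩
      rw [← subgroupBlockCoeff_centSub Q S g, ← subgroupBlockCoeff_centSub Q S g] at h1
      exact h1
    · have hcle : Subgroup.centralizer
          ((Q ⊔ S.map (Subgroup.centralizer (Q : Set G)).subtype : Subgroup G) : Set G)
          ≤ Subgroup.centralizer (Q : Set G) :=
        Subgroup.centralizer_le (SetLike.coe_subset_coe.mpr le_sup_left)
      have hy1 : y ∉ Subgroup.centralizer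
          ((Q ⊔ S.map (Subgroup.centralizer (Q : Set G)).subtype : Subgroup G) : Set G) :=
        fun h => hy (hcle h)
      have hy2 : (x : G) * y * (x : G)⁻¹ ∉ Subgroup.centralizer
          ((Q ⊔ S.map (Subgroup.centralizer (Q : Set G)).subtype : Subgroup G) : Set G) := by
        intro h
        apply hy
        have h2 := Subgroup.mul_mem _ (Subgroup.mul_mem _ (Subgroup.inv_mem _ x.2) (hcle h)) x.2
        have e1 : (x : G)⁻¹ * ((x : G) * y * (x : G)⁻¹) * (x : G) = y := by group
        rwa [e1] at h2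
      rw [subgroupBlockCoeff_eq_extZ, extendByZero_apply_not_mem _ _ hy1,
        extendByZero_apply_not_mem _ _ hy2]
  have hreg' : Cfsg.IsPRegular p (x : G) := by
    unfold Cfsg.IsPRegular at hxreg ⊢
    rwa [Subgroup.orderOf_coe]
  have hxc := hnil.2 _ _ hRg (x : G) hxNR hxs' hreg'
  rw [Subgroup.mem_centralizer_iff]
  intro s hs
  apply Subtype.ext
  have hsR : (s : G) ∈ ((Q ⊔ S.map (Subgroup.centralizer (Q : Set G)).subtype : Subgroup G)
      : Set G) :=
    (le_sup_right : S.map (Subgroup.centralizer (Q : Set G)).subtype ≤ _) ⟨s, hs, rfl⟩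
  exact Subgroup.mem_centralizer_iff.mp hxc (s : G) hsR

/-- in the inner fusion system every subgroup is fully centralized -/
theorem isFullyCentralized_of_hom_eq_inner {P : Subgroup G} (F : Cfsg.FusionSystem P)
    (hinner : ∀ Q : Subgroup G, F.Hom Q = (Cfsg.innerFusionSystem P).Hom Q) (Q : Subgroup G)
    (hQP : Q ≤ P) : F.IsFullyCentralized Q := by
  refine ⟨hQP, ?_⟩
  rintro Q' ⟨φ, hφ, hr⟩
  rw [hinner] at hφ
  obtain ⟨-, u, huP, hu⟩ := hφ
  have hQ' : Q' = Q.map (MulAut.conj u).toMonoidHom := by
    rw [← hr]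
    exact range_eq_map_conj Q u φ hu
  subst hQ'
  unfold Cfsg.FusionSystem.centralizerIn
  have hle : (P ⊓ Subgroup.centralizer
      ((Q.map (MulAut.conj u).toMonoidHom : Subgroup G) : Set G)).map
        (MulAut.conj u⁻¹).toMonoidHom ≤ P ⊓ Subgroup.centralizer (Q : Set G) := by
    rintro _ ⟨x, hx, rfl⟩
    obtain ⟨hxP, hxC⟩ := Subgroup.mem_inf.mp hx
    refine Subgroup.mem_inf.mpr ⟨?_, ?_⟩
    · show u⁻¹ * x * u⁻¹⁻¹ ∈ P
      exact P.mul_mem (P.mul_mem (P.inv_mem huP) hxP) (P.inv_mem (P.inv_mem huP))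
    · have := (mem_centralizer_map_conj_iff Q u x).mp hxC
      show u⁻¹ * x * u⁻¹⁻¹ ∈ _
      rwa [inv_inv]
  calc Nat.card ↥(P ⊓ Subgroup.centralizer
        ((Q.map (MulAut.conj u).toMonoidHom : Subgroup G) : Set G))
      = Nat.card ↥((P ⊓ Subgroup.centralizer
          ((Q.map (MulAut.conj u).toMonoidHom : Subgroup G) : Set G)).map
            (MulAut.conj u⁻¹).toMonoidHom) :=
        (Subgroup.card_map_of_injective (MulAut.conj u⁻¹).injective).symm
    _ ≤ Nat.card ↥(P ⊓ Subgroup.centralizer (Q : Set G)) := Subgroup.card_le_of_le hle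

end NilPairs

end Cfsg.Agent.Lib.Helper24
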