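import Mathlib
import Cfsg.Prelude.Def_BlockFusion
import Cfsg.Agent.Lib.Helper24.NilpotentPairs

/-!
# Centric normal Brauer pairs (helper24 library)

For a Brauer pair `(Q, f) ≤ (P, e)` of `B` such that all of `G` normalizes `Q` and stabilizes `f`:
* `blockCoeff_eq_of_forall_stabilizes`: the idempotent of `B` is the idempotent of `f`;
* `exists_nilpotent_block_of_centric`: if moreover `Q` is centric in the fusion system, the block
  of `Q C_G(Q)` given by `f` is nilpotent.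
-/

set_option autoImplicit false

namespace Cfsg.Agent.Lib.Helper24

open Cfsg.Agent.Lib.Helper2 Cfsg.Agent.Lib.Helper7
open scoped ComplexConjugate

section CentricNormal

variable {G : Type*} [Group G] [Fintype G] {p : ℕ} {M : Ideal Cfsg.AlgInt}

theorem blockCoeff_eq_of_forall_stabilizes [Fact p.Prime] (hM : Cfsg.IsPModular p M)
    (B : Set (Cfsg.IrrCharacter G)) (Q : Subgroup G)
    (f : Set (Cfsg.IrrCharacter (Subgroup.centralizer (Q : Set G))))
    (hQf : Cfsg.IsBrauerPairOf p M B Q f)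
    (hG : ∀ x : G, x ∈ Subgroup.normalizer (Q : Set G) ∧
      Cfsg.StabilizesBlock (Subgroup.centralizer (Q : Set G)) f x) :
    Cfsg.blockCoeff B = Cfsg.subgroupBlockCoeff (Subgroup.centralizer (Q : Set G)) f := by
  classical
  haveI : Q.Normal := ⟨fun n hn g => (Subgroup.mem_normalizer_iff.mp (hG g).1 n).mp hn⟩
  have hT : ∀ x : G, x ∈ (⊤ : Subgroup G) ↔
      Cfsg.StabilizesBlock (Subgroup.centralizer (Q : Set G)) f x :=
    fun x => ⟨fun _ => (hG x).2, fun _ => Subgroup.mem_top x⟩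
  funext g
  rw [blockCoeff_eq_orbit_sum hM Q hQf.1.1 B f hQf ⊤ hT g]
  have h2 : ∀ x ∈ (Finset.univ : Finset G),
      Cfsg.subgroupBlockCoeff (Subgroup.centralizer (Q : Set G)) f (x⁻¹ * g * x)
        = Cfsg.subgroupBlockCoeff (Subgroup.centralizer (Q : Set G)) f g := by
    intro x _
    have := subgroupBlockCoeff_conj_of_stabilizes _ f x⁻¹ (hG x⁻¹).2 g
    rwa [inv_inv] at this
  have hne : (Fintype.card G : ℂ) ≠ 0 := by exact_mod_cast Fintype.card_ne_zero
  rw [Finset.sum_congr rfl h2, Finset.sum_const, Finset.card_univ, nsmul_eq_mul,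
    Subgroup.card_top, Nat.card_eq_fintype_card, ← mul_assoc, inv_mul_cancel₀ hne, one_mul]

theorem exists_nilpotent_block_of_centric [Fact p.Prime] (hM : Cfsg.IsPModular p M)
    (B : Set (Cfsg.IrrCharacter G)) (P : Subgroup G)
    (e : Set (Cfsg.IrrCharacter (Subgroup.centralizer (P : Set G))))
    (hmax : Cfsg.IsMaximalBrauerPair p M B P e) (F : Cfsg.FusionSystem P) (Q : Subgroup G)
    (f : Set (Cfsg.IrrCharacter (Subgroup.centralizer (Q : Set G)))) (hQP : Q ≤ P)
    (hf : Cfsg.IsPBlock M f) (hle : Cfsg.SubpairLE p M Q f P e) (hcen : F.IsCentric Q)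
    (hG : ∀ x : G, x ∈ Subgroup.normalizer (Q : Set G) ∧
      Cfsg.StabilizesBlock (Subgroup.centralizer (Q : Set G)) f x) :
    ∃ F' : Set (Cfsg.IrrCharacter ↥(Q ⊔ Subgroup.centralizer (Q : Set G))),
      Cfsg.IsPBlock M F' ∧
      (∀ t : ↥(Q ⊔ Subgroup.centralizer (Q : Set G)), Cfsg.blockCoeff F' t
        = Cfsg.subgroupBlockCoeff (Subgroup.centralizer (Q : Set G)) f (t : G)) ∧
      Cfsg.IsNilpotentBlock p M F' := by
  classical
  have hPe := hmax.1.1
  have hQ : IsPGroup p Q := hPe.1.to_le hQP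
  have hQf : Cfsg.IsBrauerPairOf p M B Q f :=
    (isBrauerPairOf_iff_of_subpairLE hM hPe ⟨hQ, hf⟩ hle B hmax.1.2.1).mp hmax.1
  have hQnC : Q ≤ Subgroup.normalizer
      ((Subgroup.centralizer (Q : Set G) : Subgroup G) : Set G) :=
    Subgroup.le_normalizer.trans (normalizer_le_normalizer_centralizer Q)
  -- the key step
  have key : ∀ (R : Subgroup G) (g' : Set (Cfsg.IrrCharacter (Subgroup.centralizer (R : Set G)))),
      Cfsg.IsNormalSubpair p M Q f R g' → R ≤ Q ⊔ Subgroup.centralizer (Q : Set G) → R = Q := by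
    intro R g' hns hRH
    have hR : Cfsg.IsBrauerPairOf p M B R g' :=
      (isBrauerPairOf_iff_of_subpairLE hM hns.2.1 ⟨hQ, hf⟩ (Relation.ReflTransGen.single hns) B
        hmax.1.2.1).mpr hQf
    obtain ⟨y, hy⟩ := exists_conj_subpairLE hM B P R e g' hmax hR
    have hRyP : R.map (MulAut.conj y).toMonoidHom ≤ P := le_of_reflTransGen hy
    have hnormal : Q ⊔ Subgroup.centralizer (Q : Set G)
        ≤ (Q ⊔ Subgroup.centralizer (Q : Set G)).comap (MulAut.conj y).toMonoidHom := by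
      apply sup_le
      · intro q hq
        rw [Subgroup.mem_comap]
        apply Subgroup.mem_sup_left
        exact (Subgroup.mem_normalizer_iff.mp (hG y).1 q).mp hq
      · intro c hc
        rw [Subgroup.mem_comap]
        apply Subgroup.mem_sup_right
        exact conj_mem_centralizer_of_mem_normalizer Q (hG y).1 hc
    have hconj : F.IsConj Q Q := by
      refine ⟨Cfsg.conjHom Q 1, F.conj_mem hQP P.one_mem, ?_⟩
      rw [range_eq_map_conj Q 1 _ (fun _ => rfl)]
      ext u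
      rw [mem_map_conj_iff]
      simp
    have hcent := hcen.2 Q hconj
    apply le_antisymm _ hns.2.2.1
    intro r hr
    have h1 : y * r * y⁻¹ ∈ P := hRyP ⟨r, hr, rfl⟩
    have h3 : y * r * y⁻¹ ∈ ((Q ⊔ Subgroup.centralizer (Q : Set G) : Subgroup G) : Set G) :=
      hnormal (hRH hr)
    rw [Subgroup.coe_mul_of_left_le_normalizer_right Q _ hQnC] at h3
    obtain ⟨q, hq, c, hc, hqc⟩ := h3
    have hcP : c ∈ P := by
      have e1 : c = q⁻¹ * (y * r * y⁻¹) := by rw [← hqc]; group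
      rw [e1]
      exact P.mul_mem (P.inv_mem (hQP hq)) h1
    have hcQ : c ∈ Q := hcent (Subgroup.mem_inf.mpr ⟨hcP, hc⟩)
    have h4 : y * r * y⁻¹ ∈ Q := by
      rw [← hqc]
      exact Q.mul_mem hq hcQ
    have h5 := (Subgroup.mem_normalizer_iff.mp (hG y⁻¹).1 _).mp h4
    have e1 : y⁻¹ * (y * r * y⁻¹) * y⁻¹⁻¹ = r := by group
    rwa [e1] at h5
  -- the block of `Q C_G(Q)`
  have hQH : Q ≤ Q ⊔ Subgroup.centralizer (Q : Set G) := le_sup_left
  have hCH : Subgroup.centralizer (Q : Set G) ≤ Q ⊔ Subgroup.centralizer (Q : Set G) :=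
    le_sup_right
  have hHT := sup_centralizer_le_stabSubgroup Q f
  obtain ⟨F', hF', hF'c⟩ := exists_block_of_mid hM Q hQ f hf _ hQH hCH hHT
  refine ⟨F', hF', hF'c, ?_⟩
  haveI : Fintype ↥(Q ⊔ Subgroup.centralizer (Q : Set G)) := Fintype.ofFinite _
  have hnsQ : Cfsg.IsNormalSubpair p M Q f Q f := by
    refine ⟨⟨hQ, hf⟩, ⟨hQ, hf⟩, le_rfl, Subgroup.le_normalizer, fun x _ => (hG x).2, ?_⟩
    intro ξ hξ
    rw [brauerOmega_subgroupBlockCoeff_self, if_pos hξ, sub_self]
    exact memLocalIdeal_zero hM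
  have hpair : Cfsg.IsBrauerPairOf p M F'
      (Q.subgroupOf (Q ⊔ Subgroup.centralizer (Q : Set G)))
      (irrMap (centH (Q ⊔ Subgroup.centralizer (Q : Set G)) Q hQH hCH).symm '' f) := by
    rw [isBrauerPairOf_mid_iff Q hQ f hf _ hCH hHT F' hF' hF'c Q le_rfl hQH,
      image_irrMap_image_symm]
    exact hnsQ
  have hmaxH : Cfsg.IsMaximalBrauerPair p M F'
      (Q.subgroupOf (Q ⊔ Subgroup.centralizer (Q : Set G)))
      (irrMap (centH (Q ⊔ Subgroup.centralizer (Q : Set G)) Q hQH hCH).symm '' f) := by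
    apply isMaximalBrauerPair_of_forall_isNormalSubpair hM F' _ _ hpair
    intro S g hSg
    obtain ⟨R, hRH, rfl⟩ : ∃ R : Subgroup G,
        R ≤ Q ⊔ Subgroup.centralizer (Q : Set G) ∧
          R.subgroupOf (Q ⊔ Subgroup.centralizer (Q : Set G)) = S :=
      ⟨S.map (Q ⊔ Subgroup.centralizer (Q : Set G)).subtype, Subgroup.map_subtype_le S,
        Subgroup.comap_map_eq_self_of_injective
          (Q ⊔ Subgroup.centralizer (Q : Set G)).subtype_injective S⟩
    have hQR : Q ≤ R := by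
      intro x hx
      have : (⟨x, hQH hx⟩ : ↥(Q ⊔ Subgroup.centralizer (Q : Set G)))
          ∈ Q.subgroupOf (Q ⊔ Subgroup.centralizer (Q : Set G)) := Subgroup.mem_subgroupOf.mpr hx
      exact Subgroup.mem_subgroupOf.mp (hSg.2.2.1 this)
    have hG' := (isNormalSubpair_centH_iff _ Q R hQR hRH hCH _ g).mp hSg
    rw [image_irrMap_image_symm] at hG'
    rw [key R _ hG' hRH]
  apply nilpotent_of_hom_eq_inner (G := ↥(Q ⊔ Subgroup.centralizer (Q : Set G))) hM F' _ _ hmaxH
  intro S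
  ext φ
  constructor
  · rintro ⟨hSQ, h, hh, -⟩
    have h3 : (h : G) ∈ ((Q ⊔ Subgroup.centralizer (Q : Set G) : Subgroup G) : Set G) := h.2
    rw [Subgroup.coe_mul_of_left_le_normalizer_right Q _ hQnC] at h3
    obtain ⟨q, hq, c, hc, hqc⟩ := h3
    refine ⟨hSQ, ⟨q, hQH hq⟩, Subgroup.mem_subgroupOf.mpr hq, fun u => ?_⟩
    rw [hh u]
    apply Subtype.ext
    show (h : G) * (u : G) * (h : G)⁻¹ = q * (u : G) * q⁻¹
    have hu : ((u : ↥(Q ⊔ Subgroup.centralizer (Q : Set G))) : G) ∈ Q :=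
      Subgroup.mem_subgroupOf.mp (hSQ u.2)
    have hcu := Subgroup.mem_centralizer_iff.mp hc _ hu
    rw [← hqc]
    calc q * c * (u : G) * (q * c)⁻¹ = q * (c * (u : G)) * c⁻¹ * q⁻¹ := by group
      _ = q * ((u : G) * c) * c⁻¹ * q⁻¹ := by rw [hcu]
      _ = q * (u : G) * q⁻¹ := by group
  · rintro ⟨hSQ, g, hgQ, hg⟩
    have h1 : φ = Cfsg.conjHom S g := by
      ext x
      exact congrArg Subtype.val (hg x)
    rw [h1]
    exact (blockFusionSystem hM _ _ hmaxH.1.1).conj_mem hSQ hgQ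

end CentricNormal

end Cfsg.Agent.Lib.Helper24
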