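import Mathlib

/-!
# Lifting matrix units along a surjection with nil kernel (helper24 library)

`π : B → Mat_n(F)` a surjective algebra map whose kernel consists of nilpotent elements.
There are `e, u_i, v_i ∈ B` with `e` an idempotent lifting `E₀₀`, `v_j u_i = δ_ij e`,
`∑ u_i v_i = 1`.
-/

set_option autoImplicit false

namespace Cfsg.Agent.Lib.Helper24.SymAlg

open Matrix

variable {F B : Type*} [Field F] [Ring B] [Algebra F B]

theorem completeOrthogonalIdempotents_single (n : ℕ) :
    CompleteOrthogonalIdempotents (fun i : Fin n => Matrix.single i i (1 : F)) := by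
  refine ⟨⟨?_, ?_⟩, Matrix.sum_single_one⟩
  · intro i
    show Matrix.single i i (1 : F) * Matrix.single i i (1 : F) = _
    rw [Matrix.single_mul_single_same, mul_one]
  · intro i j hij
    show Matrix.single i i (1 : F) * Matrix.single j j (1 : F) = 0
    rw [Matrix.single_mul_single_of_ne]
    exact hij

/-- an idempotent in the kernel is zero -/
theorem eq_zero_of_idem_nilpotent {x : B} (hx : IsIdempotentElem x) (hn : IsNilpotent x) :
    x = 0 := by
  obtain ⟨k, hk⟩ := hn
  rcases k with _ | k
  · rw [pow_zero] at hk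
    rw [← mul_one x, hk, mul_zero]
  · rw [hx.pow_succ_eq] at hk
    exact hk

/-- **lifting matrix units** -/
theorem exists_matrix_units {n : ℕ} [NeZero n] (π : B →ₐ[F] Matrix (Fin n) (Fin n) F)
    (hsurj : Function.Surjective π)
    (hnil : ∀ x : B, π x = 0 → IsNilpotent x) :
    ∃ (e : B) (u v : Fin n → B), IsIdempotentElem e ∧ π e = Matrix.single 0 0 1 ∧
      (∀ i j, v j * u i = if i = j then e else 0) ∧ (∑ i, u i * v i = 1) ∧
      (∀ i, u i * e = u i) ∧ (∀ i, e * v i = v i) ∧
      (∀ i, i ≠ 0 → v i * e = 0) ∧ v 0 * e = v 0 ∧ e * u 0 = u 0 ∧ u 0 * v 0 = e := by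
  classical
  have hnil' : ∀ x ∈ RingHom.ker (π : B →+* Matrix (Fin n) (Fin n) F), IsNilpotent x := by
    intro x hx
    exact hnil x hx
  obtain ⟨ε, hε, hεπ⟩ := CompleteOrthogonalIdempotents.lift_of_isNilpotent_ker
    (π : B →+* Matrix (Fin n) (Fin n) F) hnil' (completeOrthogonalIdempotents_single (F := F) n)
    (fun i => hsurj _)
  have hεπ' : ∀ i, π (ε i) = Matrix.single i i (1 : F) := fun i => congrFun hεπ i
  choose a ha using fun i : Fin n => hsurj (Matrix.single i 0 (1 : F))
  choose b hb using fun i : Fin n => hsurj (Matrix.single 0 i (1 : F))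
  set e := ε 0 with he_def
  have hee : e * e = e := hε.idem 0
  have hπe : π e = Matrix.single 0 0 1 := hεπ' 0
  obtain ⟨u, hu⟩ : ∃ u : Fin n → B, ∀ i, u i = ε i * a i * e := ⟨_, fun _ => rfl⟩
  obtain ⟨v', hv'⟩ : ∃ v' : Fin n → B, ∀ i, v' i = e * b i * ε i := ⟨_, fun _ => rfl⟩
  obtain ⟨c, hc⟩ : ∃ c : Fin n → B, ∀ i, c i = v' i * u i := ⟨_, fun _ => rfl⟩
  have hπu : ∀ i, π (u i) = Matrix.single i 0 1 := by
    intro i
    simp only [hu, map_mul, hεπ', ha, hπe, Matrix.single_mul_single_same, mul_one]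
  have hπv' : ∀ i, π (v' i) = Matrix.single 0 i 1 := by
    intro i
    simp only [hv', map_mul, hεπ', hb, hπe, Matrix.single_mul_single_same, mul_one]
  have hπc : ∀ i, π (c i) = Matrix.single 0 0 1 := by
    intro i
    simp only [hc, map_mul, hπu, hπv', Matrix.single_mul_single_same, mul_one]
  have hec : ∀ i, e * c i = c i := by
    intro i
    simp only [hc, hv', ← mul_assoc, hee]
  have hce : ∀ i, c i * e = c i := by
    intro i
    simp only [hc, hu, mul_assoc, hee]
  obtain ⟨x, hx⟩ : ∃ x : Fin n → B, ∀ i, x i = e - c i := ⟨_, fun _ => rfl⟩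
  have hxnil : ∀ i, IsNilpotent (x i) := by
    intro i
    apply hnil
    simp only [hx, map_sub, hπe, hπc, sub_self]
  have hex : ∀ i, e * x i = x i := by
    intro i
    simp only [hx, mul_sub, hee, hec]
  have hxe : ∀ i, x i * e = x i := by
    intro i
    simp only [hx, sub_mul, hee, hce]
  choose N hN using hxnil
  obtain ⟨g, hgdef⟩ : ∃ g : Fin n → B, ∀ i, g i = ∑ k ∈ Finset.range (N i + 1), x i ^ k :=
    ⟨_, fun _ => rfl⟩
  have hg : ∀ i, g i * (1 - x i) = 1 := by
    intro i
    rw [hgdef, geom_sum_mul_neg, pow_succ, hN i, zero_mul, sub_zero]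
  have hcomm : ∀ i, Commute e (g i) := by
    intro i
    rw [hgdef]
    apply Commute.sum_right
    intro k _
    apply Commute.pow_right
    show e * x i = x i * e
    rw [hex, hxe]
  have hπg : ∀ i, π (g i) = 1 := by
    intro i
    have hx0 : π (x i) = 0 := by simp only [hx, map_sub, hπe, hπc, sub_self]
    simp only [hgdef, map_sum, map_pow, hx0]
    rw [Finset.sum_range_succ']
    simp
  obtain ⟨w, hw⟩ : ∃ w : Fin n → B, ∀ i, w i = e * g i := ⟨_, fun _ => rfl⟩
  have hwc : ∀ i, w i * c i = e := by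
    intro i
    have h1 : c i = e * (1 - x i) := by
      simp only [hx, mul_sub, mul_one, hee, hec]
      abel
    rw [h1, hw]
    calc e * g i * (e * (1 - x i)) = e * (g i * e) * (1 - x i) := by simp only [mul_assoc]
      _ = e * (e * g i) * (1 - x i) := by rw [(hcomm i).eq]
      _ = e * e * (g i * (1 - x i)) := by simp only [mul_assoc]
      _ = e := by rw [hg, hee, mul_one]
  obtain ⟨v, hv⟩ : ∃ v : Fin n → B, ∀ i, v i = w i * v' i := ⟨_, fun _ => rfl⟩
  have hπv : ∀ i, π (v i) = Matrix.single 0 i 1 := by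
    intro i
    simp only [hv, hw, map_mul, hπe, hπg, hπv', mul_one, Matrix.single_mul_single_same]
  have huε : ∀ i, ε i * u i = u i := by
    intro i
    simp only [hu, ← mul_assoc, (hε.idem i).eq]
  have hvε : ∀ i, v i * ε i = v i := by
    intro i
    simp only [hv, hv', mul_assoc, (hε.idem i).eq]
  have hue : ∀ i, u i * e = u i := by
    intro i
    simp only [hu, mul_assoc, hee]
  have hev : ∀ i, e * v i = v i := by
    intro i
    simp only [hv, hw, ← mul_assoc, hee]
  have hvu : ∀ i, v i * u i = e := by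
    intro i
    rw [hv, mul_assoc, ← hc]
    exact hwc i
  have hvu0 : ∀ i j, i ≠ j → v j * u i = 0 := by
    intro i j hij
    rw [← hvε j, ← huε i, mul_assoc, ← mul_assoc (ε j), hε.ortho (Ne.symm hij), zero_mul, mul_zero]
  -- `u i * v i = ε i`
  have hp : ∀ i, u i * v i = ε i := by
    intro i
    have hpidem : IsIdempotentElem (u i * v i) := by
      show u i * v i * (u i * v i) = u i * v i
      rw [mul_assoc, ← mul_assoc (v i), hvu, hev]
    have hcm : Commute (ε i) (u i * v i) := by
      show ε i * (u i * v i) = u i * v i * ε i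
      rw [← mul_assoc, huε, mul_assoc, hvε]
    have hnl : IsNilpotent (ε i - u i * v i) := by
      apply hnil
      rw [map_sub, map_mul, hπu, hπv, hεπ', Matrix.single_mul_single_same, mul_one, sub_self]
    exact (eq_of_isNilpotent_sub_of_isIdempotentElem_of_commute (hε.idem i) hpidem hnl hcm).symm
  refine ⟨e, u, v, hε.idem 0, hπe, ?_, ?_, hue, hev, ?_, ?_, ?_, ?_⟩
  · intro i j
    by_cases hij : i = j
    · subst hij
      rw [if_pos rfl]
      exact hvu i
    · rw [if_neg hij]
      exact hvu0 i j hij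
  · simp only [hp]
    exact hε.complete
  · intro i hi
    rw [← hvε i, mul_assoc]
    show v i * (ε i * ε 0) = 0
    rw [hε.ortho hi, mul_zero]
  · exact hvε 0
  · exact huε 0
  · exact hp 0

end Cfsg.Agent.Lib.Helper24.SymAlg
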