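import Mathlib
import Cfsg.Agent.Lib.Helper24.SymAlgDual
import Cfsg.Agent.Lib.Helper24.MatrixUnitsLift

/-!
# Consequences of a system of matrix units (helper24 library)

With `e, u_i, v_i` as in `exists_matrix_units`: every left ideal `L` has dimension
`n · dim (e L)`, and `e B e ∩ [B, B] ⊆ [e B e, e B e]`.
-/

set_option autoImplicit false

namespace Cfsg.Agent.Lib.Helper24.SymAlg

open Module

variable {F B : Type*} [Field F] [Ring B] [Algebra F B]

/-- a system of matrix units relative to the idempotent `e` -/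
structure IsMatUnits {n : ℕ} [NeZero n] (e : B) (u v : Fin n → B) : Prop where
  idem : IsIdempotentElem e
  vu : ∀ i j, v j * u i = if i = j then e else 0
  sum : ∑ i, u i * v i = 1
  ue : ∀ i, u i * e = u i
  ev : ∀ i, e * v i = v i
  ve : ∀ i, i ≠ 0 → v i * e = 0
  v0e : v 0 * e = v 0
  eu0 : e * u 0 = u 0
  u0v0 : u 0 * v 0 = e

/-- the corner `e B e` as a subspace -/
def cornerSub (F : Type*) {B : Type*} [Field F] [Ring B] [Algebra F B] (e : B) : Submodule F B :=
  LinearMap.range ((LinearMap.mulLeft F e) ∘ₗ (LinearMap.mulRight F e))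

theorem mem_cornerSub_iff {e : B} (he : IsIdempotentElem e) (x : B) :
    x ∈ cornerSub F e ↔ e * x = x ∧ x * e = x := by
  constructor
  · rintro ⟨y, rfl⟩
    simp only [LinearMap.coe_comp, Function.comp_apply, LinearMap.mulRight_apply,
      LinearMap.mulLeft_apply]
    constructor
    · rw [← mul_assoc, he.eq]
    · rw [mul_assoc, mul_assoc, he.eq]
  · rintro ⟨h1, h2⟩
    refine ⟨x, ?_⟩
    simp only [LinearMap.coe_comp, Function.comp_apply, LinearMap.mulRight_apply,
      LinearMap.mulLeft_apply]
    rw [h2, h1]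

theorem mul_mem_cornerSub {e : B} (he : IsIdempotentElem e) (b : B) :
    e * b * e ∈ cornerSub F e := by
  rw [mem_cornerSub_iff he]
  constructor
  · rw [← mul_assoc, ← mul_assoc, he.eq]
  · rw [mul_assoc, he.eq]

/-- span of the commutators of the corner -/
def cornerComm (F : Type*) {B : Type*} [Field F] [Ring B] [Algebra F B] (e : B) : Submodule F B :=
  Submodule.span F {z | ∃ x ∈ cornerSub F e, ∃ y ∈ cornerSub F e, z = x * y - y * x}

section

variable {n : ℕ} [NeZero n] {e : B} {u v : Fin n → B}

theorem IsMatUnits.vbu_mem (h : IsMatUnits e u v) (i j : Fin n) (b : B) :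
    v i * b * u j ∈ cornerSub F e := by
  rw [mem_cornerSub_iff h.idem]
  constructor
  · rw [← mul_assoc, ← mul_assoc, h.ev]
  · rw [mul_assoc, h.ue]

/-- dimension of a left ideal -/
theorem IsMatUnits.finrank_leftIdeal [FiniteDimensional F B] (h : IsMatUnits e u v)
    (L : Submodule F B) (hL : ∀ b x : B, x ∈ L → b * x ∈ L) :
    finrank F L = n * finrank F (L.map (LinearMap.mulLeft F e)) := by
  set L₀ := L.map (LinearMap.mulLeft F e) with hL₀
  have hmem₀ : ∀ y : L₀, e * (y : B) = y := by
    intro y
    obtain ⟨x, _, hx⟩ := y.2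
    rw [← hx, LinearMap.mulLeft_apply, ← mul_assoc, h.idem.eq]
  have hsub : ∀ y : L₀, (y : B) ∈ L := by
    intro y
    obtain ⟨x, hxL, hx⟩ := y.2
    rw [← hx]
    exact hL e x hxL
  let toF : L →ₗ[F] (Fin n → L₀) :=
    { toFun := fun x i => ⟨v i * (x : B), ⟨v i * (x : B), hL _ _ x.2, by
        rw [LinearMap.mulLeft_apply, ← mul_assoc, h.ev]⟩⟩
      map_add' := by
        intro x y
        funext i
        apply Subtype.ext
        simp [mul_add]
      map_smul' := by
        intro c x
        funext i
        apply Subtype.ext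
        simp }
  let invF : (Fin n → L₀) → L := fun y =>
    ⟨∑ i, u i * (y i : B), Submodule.sum_mem _ (fun i _ => hL _ _ (hsub (y i)))⟩
  have hleft : ∀ x : L, invF (toF x) = x := by
    intro x
    apply Subtype.ext
    show ∑ i, u i * (v i * (x : B)) = x
    simp only [← mul_assoc]
    rw [← Finset.sum_mul, h.sum, one_mul]
  have hright : ∀ y : Fin n → L₀, toF (invF y) = y := by
    intro y
    funext j
    apply Subtype.ext
    show v j * (∑ i, u i * (y i : B)) = y j
    rw [Finset.mul_sum]
    simp only [← mul_assoc, h.vu]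
    rw [Finset.sum_eq_single j]
    · rw [if_pos rfl, hmem₀]
    · intro i _ hij
      rw [if_neg hij, zero_mul]
    · intro hj
      exact absurd (Finset.mem_univ j) hj
  let eqv : L ≃ₗ[F] (Fin n → L₀) :=
    { toF with
      invFun := invF
      left_inv := hleft
      right_inv := hright }
  rw [eqv.finrank_eq, Module.finrank_pi_fintype]
  simp

/-- the "trace" map `b ↦ ∑ v_i b u_i` -/
noncomputable def traceMap (F : Type*) {B : Type*} [Field F] [Ring B] [Algebra F B] {n : ℕ}
    (u v : Fin n → B) : B →ₗ[F] B :=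
  ∑ i, (LinearMap.mulLeft F (v i)) ∘ₗ (LinearMap.mulRight F (u i))

theorem traceMap_apply (b : B) : traceMap F u v b = ∑ i, v i * (b * u i) := by
  simp [traceMap, LinearMap.sum_apply]

theorem IsMatUnits.traceMap_comm_mem (h : IsMatUnits e u v) (x y : B) :
    traceMap F u v (x * y - y * x) ∈ cornerComm F e := by
  have h1 : traceMap F u v (x * y) = ∑ i, ∑ j, (v i * x * u j) * (v j * y * u i) := by
    rw [traceMap_apply]
    apply Finset.sum_congr rfl
    intro i _
    calc v i * (x * y * u i) = v i * x * ((∑ j, u j * v j) * (y * u i)) := by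
          rw [h.sum, one_mul]; simp only [mul_assoc]
      _ = ∑ j, (v i * x * u j) * (v j * y * u i) := by
          rw [Finset.sum_mul, Finset.mul_sum]
          apply Finset.sum_congr rfl
          intro j _
          simp only [mul_assoc]
  have h2 : traceMap F u v (y * x) = ∑ i, ∑ j, (v j * y * u i) * (v i * x * u j) := by
    rw [traceMap_apply, Finset.sum_comm]
    apply Finset.sum_congr rfl
    intro j _
    calc v j * (y * x * u j) = v j * y * ((∑ i, u i * v i) * (x * u j)) := by
          rw [h.sum, one_mul]; simp only [mul_assoc]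
      _ = ∑ i, (v j * y * u i) * (v i * x * u j) := by
          rw [Finset.sum_mul, Finset.mul_sum]
          apply Finset.sum_congr rfl
          intro i _
          simp only [mul_assoc]
  rw [map_sub, h1, h2, ← Finset.sum_sub_distrib]
  apply Submodule.sum_mem
  intro i _
  rw [← Finset.sum_sub_distrib]
  apply Submodule.sum_mem
  intro j _
  exact Submodule.subset_span ⟨_, h.vbu_mem i j x, _, h.vbu_mem j i y, rfl⟩

theorem IsMatUnits.traceMap_commSpan_le (h : IsMatUnits e u v) :
    (commSpan F B).map (traceMap F u v) ≤ cornerComm F e := by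
  rw [Submodule.map_le_iff_le_comap]
  unfold commSpan
  rw [Submodule.span_le]
  rintro _ ⟨x, y, rfl⟩
  exact h.traceMap_comm_mem x y

theorem IsMatUnits.traceMap_sub_mem (h : IsMatUnits e u v) (a : B) (ha : a ∈ cornerSub F e) :
    traceMap F u v a - a ∈ cornerComm F e := by
  obtain ⟨hea, hae⟩ := (mem_cornerSub_iff h.idem a).mp ha
  have h1 : traceMap F u v a = v 0 * (a * u 0) := by
    rw [traceMap_apply, Finset.sum_eq_single 0]
    · intro i _ hi
      rw [← hea, ← mul_assoc, ← mul_assoc, h.ve i hi, zero_mul, zero_mul]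
    · intro h0
      exact absurd (Finset.mem_univ _) h0
  have h2 : a = (a * u 0) * v 0 := by
    rw [mul_assoc, h.u0v0, hae]
  have hv0 : v 0 ∈ cornerSub F e := by
    rw [mem_cornerSub_iff h.idem]
    exact ⟨h.ev 0, h.v0e⟩
  have hau : a * u 0 ∈ cornerSub F e := by
    rw [mem_cornerSub_iff h.idem]
    constructor
    · rw [← mul_assoc, hea]
    · rw [mul_assoc, h.ue]
  rw [h1]
  nth_rewrite 2 [h2]
  exact Submodule.subset_span ⟨_, hv0, _, hau, rfl⟩

/-- `e B e ∩ [B,B] ⊆ [e B e, e B e]` -/
theorem IsMatUnits.inf_commSpan_le (h : IsMatUnits e u v) :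
    cornerSub F e ⊓ commSpan F B ≤ cornerComm F e := by
  intro a ha
  obtain ⟨ha1, ha2⟩ := ha
  have h1 : traceMap F u v a ∈ cornerComm F e :=
    h.traceMap_commSpan_le ⟨a, ha2, rfl⟩
  have h2 := h.traceMap_sub_mem a ha1
  have : a = traceMap F u v a - (traceMap F u v a - a) := by abel
  rw [this]
  exact Submodule.sub_mem _ h1 h2

/-- codimension of the corner commutators -/
theorem IsMatUnits.finrank_corner_le [FiniteDimensional F B] (h : IsMatUnits e u v) (k : ℕ)
    (hk : finrank F B ≤ finrank F (commSpan F B) + k) :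
    finrank F (cornerSub F e) ≤ finrank F (cornerComm F e) + k := by
  have h1 := Submodule.finrank_sup_add_finrank_inf_eq (cornerSub F e) (commSpan F B)
  have h2 : finrank F ↥(cornerSub F e ⊔ commSpan F B) ≤ finrank F B := Submodule.finrank_le _
  have h3 := Submodule.finrank_mono (h.inf_commSpan_le (F := F))
  omega

end

end Cfsg.Agent.Lib.Helper24.SymAlg
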