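import Mathlib
import Cfsg.Agent.Lib.Helper24.MatrixUnitsCons

/-!
# A local symmetric corner with small commutator codimension (helper24 library)

If the corner `A = e B e` is `F e ⊕ N` with `N` a nilpotent multiplicatively closed subspace and the
span of commutators of `A` has codimension at most two in `A`, then `dim A ≤ 2`.
-/

set_option autoImplicit false

namespace Cfsg.Agent.Lib.Helper24.SymAlg

open Module

variable {F B : Type*} [Field F] [Ring B] [Algebra F B]

/-- pairwise commuting generators span a commutative subspace -/
theorem commute_of_mem_span {G : Set B} (hG : ∀ a ∈ G, ∀ b ∈ G, a * b = b * a)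
    {a b : B} (ha : a ∈ Submodule.span F G) (hb : b ∈ Submodule.span F G) : a * b = b * a := by
  induction ha using Submodule.span_induction with
  | mem a ha =>
    induction hb using Submodule.span_induction with
    | mem b hb => exact hG a ha b hb
    | zero => simp
    | add b c _ _ hb hc => rw [mul_add, add_mul, hb, hc]
    | smul c b _ hb => rw [mul_smul_comm, smul_mul_assoc, hb]
  | zero => simp
  | add a c _ _ ha hc => rw [mul_add, add_mul, ha, hc]
  | smul c a _ ha => rw [mul_smul_comm, smul_mul_assoc, ha]

theorem submodule_mul_le_mul {M N P Q : Submodule F B} (h1 : M ≤ P) (h2 : N ≤ Q) :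
    M * N ≤ P * Q :=
  Submodule.mul_le.mpr (fun _ hm _ hn => Submodule.mul_mem_mul (h1 hm) (h2 hn))

theorem pow_succ_le_of_mul_le (N : Submodule F B) (hmul : N * N ≤ N) (m : ℕ) (hm : 1 ≤ m) :
    N ^ (m + 1) ≤ N ^ m := by
  induction m, hm using Nat.le_induction with
  | base => rw [pow_one, pow_succ, pow_one]; exact hmul
  | succ m _ ih =>
    rw [pow_succ N (m + 1)]
    nth_rewrite 2 [pow_succ]
    exact submodule_mul_le_mul ih le_rfl

theorem finrank_corner_le_two [FiniteDimensional F B] (e : B) (he : IsIdempotentElem e)
    (N : Submodule F B) (hNA : N ≤ cornerSub F e)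
    (hAN : cornerSub F e ≤ Submodule.span F {e} ⊔ N)
    (hmul : N * N ≤ N) (K : ℕ) (hK : N ^ (K + 1) = ⊥)
    (hcomm : finrank F (cornerSub F e) ≤ finrank F (cornerComm F e) + 2) :
    finrank F (cornerSub F e) ≤ 2 := by
  classical
  have hNe : ∀ x ∈ N, e * x = x ∧ x * e = x := fun x hx => (mem_cornerSub_iff he x).mp (hNA hx)
  have heA : e ∈ cornerSub F e := (mem_cornerSub_iff he e).mpr ⟨he.eq, he.eq⟩
  by_cases he0 : e = 0
  · have : cornerSub F e = ⊥ := by
      rw [eq_bot_iff]
      intro x hx
      have := ((mem_cornerSub_iff he x).mp hx).1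
      rw [he0, zero_mul] at this
      rw [Submodule.mem_bot, ← this]
    rw [this, finrank_bot]
    omega
  -- Step 1
  have h1 : cornerComm F e ≤ N * N := by
    unfold cornerComm
    rw [Submodule.span_le]
    rintro _ ⟨x, hx, y, hy, rfl⟩
    obtain ⟨x1, hx1, x', hx', rfl⟩ := Submodule.mem_sup.mp (hAN hx)
    obtain ⟨y1, hy1, y', hy', rfl⟩ := Submodule.mem_sup.mp (hAN hy)
    obtain ⟨c, rfl⟩ := Submodule.mem_span_singleton.mp hx1
    obtain ⟨d, rfl⟩ := Submodule.mem_span_singleton.mp hy1
    have e1 := (hNe x' hx').1
    have e2 := (hNe x' hx').2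
    have e3 := (hNe y' hy').1
    have e4 := (hNe y' hy').2
    have hA : (c • e + x') * (d • e + y') = (c * d) • e + c • y' + d • x' + x' * y' := by
      rw [add_mul, mul_add, mul_add, smul_mul_smul_comm, he.eq, smul_mul_assoc, e3,
        mul_smul_comm, e2]
      abel
    have hB : (d • e + y') * (c • e + x') = (c * d) • e + c • y' + d • x' + y' * x' := by
      rw [add_mul, mul_add, mul_add, smul_mul_smul_comm, he.eq, smul_mul_assoc, e1,
        mul_smul_comm, e4, mul_comm d c]
      abel
    have : (c • e + x') * (d • e + y') - (d • e + y') * (c • e + x') = x' * y' - y' * x' := by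
      rw [hA, hB]
      abel
    rw [SetLike.mem_coe, this]
    exact Submodule.sub_mem _ (Submodule.mul_mem_mul hx' hy') (Submodule.mul_mem_mul hy' hx')
  -- Step 3
  have heN : e ∉ N := by
    intro hmem
    have := Submodule.pow_mem_pow N hmem (K + 1)
    rw [hK, Submodule.mem_bot, he.pow_succ_eq] at this
    exact he0 this
  -- Step 4
  have hAeq : cornerSub F e = Submodule.span F {e} ⊔ N := by
    apply le_antisymm hAN
    apply sup_le _ hNA
    rw [Submodule.span_le]
    intro z hz
    rw [Set.mem_singleton_iff.mp hz]
    exact heA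
  have hdisj : Submodule.span F {e} ⊓ N = ⊥ := by
    rw [eq_bot_iff]
    rintro z ⟨hz1, hz2⟩
    obtain ⟨c, rfl⟩ := Submodule.mem_span_singleton.mp hz1
    by_cases hc : c = 0
    · rw [hc, zero_smul]; exact Submodule.zero_mem _
    · exfalso
      apply heN
      have := N.smul_mem c⁻¹ hz2
      rwa [smul_smul, inv_mul_cancel₀ hc, one_smul] at this
  have h4 : finrank F (cornerSub F e) = 1 + finrank F N := by
    have := Submodule.finrank_sup_add_finrank_inf_eq (Submodule.span F {e}) N
    rw [hdisj, finrank_bot, add_zero, finrank_span_singleton he0] at this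
    rw [hAeq, this]
  -- Step 5
  have h5 : finrank F N ≤ finrank F ↥(N * N) + 1 := by
    have := Submodule.finrank_mono h1
    omega
  -- Step 6
  obtain ⟨x, hxN, hx⟩ : ∃ x ∈ N, N ≤ Submodule.span F {x} ⊔ N * N := by
    by_cases heq : N * N = N
    · refine ⟨0, N.zero_mem, ?_⟩
      rw [heq]
      exact le_sup_right
    · have hlt : N * N < N := lt_of_le_of_ne hmul heq
      obtain ⟨x, hxN, hxn⟩ := SetLike.exists_of_lt hlt
      refine ⟨x, hxN, ?_⟩
      have hle : Submodule.span F {x} ⊔ N * N ≤ N := by
        apply sup_le _ hmul
        rw [Submodule.span_le]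
        intro z hz
        rw [Set.mem_singleton_iff.mp hz]
        exact hxN
      have hlt2 : N * N < Submodule.span F {x} ⊔ N * N := by
        apply lt_of_le_of_ne le_sup_right
        intro hcon
        apply hxn
        rw [hcon]
        exact Submodule.mem_sup_left (Submodule.mem_span_singleton_self x)
      have := Submodule.finrank_lt_finrank_of_lt hlt2
      have heq2 : Submodule.span F {x} ⊔ N * N = N := by
        apply Submodule.eq_of_le_of_finrank_le hle
        omega
      rw [heq2]
  -- powers of `x`
  have hxpow : ∀ k : ℕ, x ^ (k + 1) ∈ N := by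
    intro k
    induction k with
    | zero => rw [zero_add, pow_one]; exact hxN
    | succ k ih =>
      rw [pow_succ]
      exact hmul (Submodule.mul_mem_mul ih hxN)
  -- Step 7
  have h7 : ∀ k : ℕ, 1 ≤ k → N ^ k ≤ Submodule.span F {x ^ k} ⊔ N ^ (k + 1) := by
    intro k hk
    induction k, hk using Nat.le_induction with
    | base => rw [pow_one, pow_one, pow_succ, pow_one]; exact hx
    | succ k hk ih =>
      have hNN : N * N = N ^ 2 := by rw [pow_two]
      calc N ^ (k + 1) = N ^ k * N := pow_succ N k
        _ ≤ (Submodule.span F {x ^ k} ⊔ N ^ (k + 1)) * (Submodule.span F {x} ⊔ N * N) :=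
            submodule_mul_le_mul ih hx
        _ ≤ Submodule.span F {x ^ (k + 1)} ⊔ N ^ (k + 1 + 1) := by
            rw [Submodule.sup_mul, Submodule.mul_sup, Submodule.mul_sup]
            have hspan : Submodule.span F {x ^ k} ≤ N ^ k := by
              rw [Submodule.span_le]
              intro z hz
              rw [Set.mem_singleton_iff.mp hz]
              exact Submodule.pow_mem_pow N hxN k
            have hspan1 : Submodule.span F {x} ≤ N := by
              rw [Submodule.span_le]
              intro z hz
              rw [Set.mem_singleton_iff.mp hz]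
              exact hxN
            have hk2 : N ^ k * (N * N) = N ^ (k + 1 + 1) := by
              rw [pow_succ N (k + 1), pow_succ N k, mul_assoc]
            apply sup_le
            · apply sup_le
              · rw [Submodule.span_mul_span, Set.singleton_mul_singleton, ← pow_succ]
                exact le_sup_left
              · refine le_trans ?_ le_sup_right
                rw [← hk2]
                exact submodule_mul_le_mul hspan le_rfl
            · apply sup_le
              · refine le_trans ?_ le_sup_right
                rw [pow_succ N (k + 1)]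
                exact submodule_mul_le_mul le_rfl hspan1
              · refine le_trans ?_ le_sup_right
                rw [pow_succ N (k + 1)]
                exact submodule_mul_le_mul le_rfl hmul
  -- Step 8
  set S : Submodule F B := Submodule.span F (Set.range (fun k : ℕ => x ^ (k + 1))) with hS
  have h8 : ∀ k : ℕ, 1 ≤ k → N ≤ S ⊔ N ^ k := by
    intro k hk
    induction k, hk using Nat.le_induction with
    | base => rw [pow_one]; exact le_sup_right
    | succ k hk ih =>
      refine le_trans ih ?_
      apply sup_le le_sup_left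
      refine le_trans (h7 k hk) ?_
      apply sup_le _ le_sup_right
      refine le_trans ?_ le_sup_left
      rw [Submodule.span_le]
      intro z hz
      rw [Set.mem_singleton_iff.mp hz]
      apply Submodule.subset_span
      obtain ⟨k', rfl⟩ : ∃ k', k = k' + 1 := ⟨k - 1, by omega⟩
      exact ⟨k', rfl⟩
  have hNS : N ≤ S := by
    have := h8 (K + 1) (by omega)
    rwa [hK, sup_bot_eq] at this
  -- Step 9
  set G : Set B := {e} ∪ Set.range (fun k : ℕ => x ^ (k + 1)) with hGdef
  have hAG : cornerSub F e ≤ Submodule.span F G := by
    refine le_trans hAN ?_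
    apply sup_le
    · exact Submodule.span_mono Set.subset_union_left
    · refine le_trans hNS ?_
      exact Submodule.span_mono Set.subset_union_right
  have hGc : ∀ a ∈ G, ∀ b ∈ G, a * b = b * a := by
    intro a ha b hb
    rcases ha with ha | ⟨k, rfl⟩
    · rw [Set.mem_singleton_iff.mp ha]
      rcases hb with hb | ⟨j, rfl⟩
      · rw [Set.mem_singleton_iff.mp hb]
      · rw [(hNe _ (hxpow j)).1, (hNe _ (hxpow j)).2]
    · rcases hb with hb | ⟨j, rfl⟩
      · rw [Set.mem_singleton_iff.mp hb, (hNe _ (hxpow k)).1, (hNe _ (hxpow k)).2]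
      · exact ((Commute.refl x).pow_pow (k + 1) (j + 1)).eq
  have hcc : cornerComm F e = ⊥ := by
    rw [eq_bot_iff]
    unfold cornerComm
    rw [Submodule.span_le]
    rintro _ ⟨a, ha, b, hb, rfl⟩
    rw [SetLike.mem_coe, Submodule.mem_bot, commute_of_mem_span hGc (hAG ha) (hAG hb), sub_self]
  rw [hcc, finrank_bot] at hcomm
  omega

end Cfsg.Agent.Lib.Helper24.SymAlg
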