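import Mathlib

/-!
# Dimensions of column ideals in a product of matrix algebras (helper24 library)
-/

set_option autoImplicit false

namespace Cfsg.Agent.Lib.Helper24.SymAlg

open Module Matrix

variable {F : Type*} [Field F]

/-- the column embedding -/
noncomputable def colMap {l : ℕ} (d : Fin l → ℕ) (i : Fin l) [NeZero (d i)] :
    (Fin (d i) → F) →ₗ[F] (Π j : Fin l, Matrix (Fin (d j)) (Fin (d j)) F) where
  toFun w := Pi.single i (Matrix.of fun r c => if c = 0 then w r else 0)
  map_add' w w' := by
    rw [← Pi.single_add]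
    congr 1
    ext r c
    by_cases hc : c = 0 <;> simp [hc]
  map_smul' a w := by
    rw [RingHom.id_apply, ← Pi.single_smul]
    congr 1
    ext r c
    by_cases hc : c = 0 <;> simp [hc]

theorem colMap_injective {l : ℕ} (d : Fin l → ℕ) (i : Fin l) [NeZero (d i)] :
    Function.Injective (colMap (F := F) d i) := by
  intro w w' h
  funext r
  have := congrFun (congrFun (congrFun h i) r) 0
  simpa [colMap] using this

theorem mul_single_eq_colMap {l : ℕ} (d : Fin l → ℕ) (i : Fin l) [NeZero (d i)]
    (x : Π j : Fin l, Matrix (Fin (d j)) (Fin (d j)) F) :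
    x * Pi.single i (Matrix.single 0 0 (1 : F)) = colMap d i (fun r => x i r 0) := by
  funext j
  by_cases hj : j = i
  · subst hj
    simp only [Pi.mul_apply, Pi.single_eq_same, colMap, LinearMap.coe_mk, AddHom.coe_mk]
    ext r c
    by_cases hc : c = 0
    · subst hc
      simp
    · rw [Matrix.mul_single_apply_of_ne (1 : F) 0 0 r c hc]
      simp [hc]
  · have h1 : (Pi.single i (Matrix.single 0 0 (1 : F)) :
        Π j : Fin l, Matrix (Fin (d j)) (Fin (d j)) F) j = 0 := Pi.single_eq_of_ne hj _
    rw [Pi.mul_apply, h1, mul_zero]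
    symm
    exact Pi.single_eq_of_ne hj _

/-- the column ideal has dimension `d i` -/
theorem finrank_range_mulRight_single {l : ℕ} (d : Fin l → ℕ) (i : Fin l) [NeZero (d i)] :
    finrank F (LinearMap.range (LinearMap.mulRight F
      (Pi.single i (Matrix.single 0 0 (1 : F)) :
        Π j : Fin l, Matrix (Fin (d j)) (Fin (d j)) F))) = d i := by
  have heq : LinearMap.range (LinearMap.mulRight F
      (Pi.single i (Matrix.single 0 0 (1 : F)) :
        Π j : Fin l, Matrix (Fin (d j)) (Fin (d j)) F)) = LinearMap.range (colMap (F := F) d i) := by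
    apply le_antisymm
    · rintro _ ⟨x, rfl⟩
      rw [LinearMap.mulRight_apply, mul_single_eq_colMap]
      exact ⟨_, rfl⟩
    · rintro _ ⟨w, rfl⟩
      refine ⟨colMap d i w, ?_⟩
      rw [LinearMap.mulRight_apply, mul_single_eq_colMap]
      congr 1
      funext r
      simp [colMap]
  rw [heq, LinearMap.finrank_range_of_inj (colMap_injective d i)]
  simp

/-- a product of matrix algebras all of whose column ideals have dimension divisible by `q` -/
theorem sq_dvd_finrank_of_equiv_pi {B : Type*} [Ring B] [Algebra F B] {l : ℕ} (d : Fin l → ℕ)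
    (hd : ∀ i, NeZero (d i))
    (Ψ : B ≃ₐ[F] Π j : Fin l, Matrix (Fin (d j)) (Fin (d j)) F) (q : ℕ)
    (hq : ∀ e : B, IsIdempotentElem e →
      q ∣ finrank F (LinearMap.range (LinearMap.mulRight F e))) :
    q ^ 2 ∣ finrank F B := by
  classical
  have hfr : finrank F B = ∑ i, d i ^ 2 := by
    rw [Ψ.toLinearEquiv.finrank_eq, Module.finrank_pi_fintype]
    apply Finset.sum_congr rfl
    intro i _
    rw [Module.finrank_matrix]
    simp [pow_two]
  rw [hfr]
  apply Finset.dvd_sum
  intro i _
  haveI := hd i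
  apply pow_dvd_pow_of_dvd
  set E : Π j : Fin l, Matrix (Fin (d j)) (Fin (d j)) F :=
    Pi.single i (Matrix.single 0 0 (1 : F)) with hE
  have hEidem : IsIdempotentElem E := by
    show E * E = E
    rw [hE, ← Pi.single_mul, Matrix.single_mul_single_same, mul_one]
  have hidem : IsIdempotentElem (Ψ.symm E) := by
    show Ψ.symm E * Ψ.symm E = Ψ.symm E
    rw [← map_mul, hEidem.eq]
  have h1 := hq _ hidem
  have h2 : (LinearMap.range (LinearMap.mulRight F (Ψ.symm E))).map
      (Ψ.toLinearEquiv : B →ₗ[F] _) = LinearMap.range (LinearMap.mulRight F E) := by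
    apply le_antisymm
    · rintro _ ⟨_, ⟨x, rfl⟩, rfl⟩
      refine ⟨Ψ x, ?_⟩
      simp
    · rintro _ ⟨y, rfl⟩
      refine ⟨Ψ.symm y * Ψ.symm E, ⟨Ψ.symm y, rfl⟩, ?_⟩
      simp
  have h3 := LinearEquiv.finrank_map_eq Ψ.toLinearEquiv
    (LinearMap.range (LinearMap.mulRight F (Ψ.symm E)))
  rw [h2, finrank_range_mulRight_single d i] at h3
  rw [h3]
  exact h1

end Cfsg.Agent.Lib.Helper24.SymAlg
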