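import Mathlib
import Cfsg.Agent.Lib.Helper24.SymAlgDual
import Cfsg.Agent.Lib.Helper24.MatrixUnitsLift
import Cfsg.Agent.Lib.Helper24.MatrixUnitsCons
import Cfsg.Agent.Lib.Helper24.LocalCorner
import Cfsg.Agent.Lib.Helper24.SemisimpleSplit

/-!
# Symmetric algebras with a centre of dimension at most two (helper24 library)

`sq_dvd_two_mul_finrank`: let `B` be a finite dimensional symmetric algebra over an algebraically
closed field whose centre has dimension at most `2`.  If `q` divides `dim B e` for every idempotent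
`e`, then `q ^ 2` divides `2 · dim B`.  (Brandt / Külshammer: blocks with two characters.)
-/

set_option autoImplicit false

namespace Cfsg.Agent.Lib.Helper24.SymAlg

open Module Matrix

variable {F B : Type*} [Field F] [Ring B] [Algebra F B]

theorem arith_final (q n c N : ℕ) (hc : c ≤ 2) (hN : N = n * (n * c)) (hq : q ∣ n * c) :
    q ^ 2 ∣ 2 * N := by
  subst hN
  interval_cases c
  · simp
  · rw [mul_one] at hq ⊢
    obtain ⟨k, rfl⟩ := hq
    exact ⟨2 * k ^ 2, by ring⟩
  · obtain ⟨k, hk⟩ := hq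
    refine ⟨k ^ 2, ?_⟩
    have : 2 * (n * (n * 2)) = (n * 2) ^ 2 := by ring
    rw [this, hk]
    ring

/-- the local case -/
theorem sq_dvd_of_local [FiniteDimensional F B] {lam : B →ₗ[F] F} (h : IsSymmForm lam)
    (hZ : finrank F (Subalgebra.center F B) ≤ 2) {n : ℕ} [NeZero n]
    (π : B →ₐ[F] Matrix (Fin n) (Fin n) F) (hsurj : Function.Surjective π)
    (J : Ideal B) [J.IsTwoSided] (hJ : ∀ x : B, π x = 0 ↔ x ∈ J) (K : ℕ) (hK : J ^ (K + 1) = ⊥)
    (q : ℕ) (hq : ∀ e : B, IsIdempotentElem e →
      q ∣ finrank F (LinearMap.range (LinearMap.mulRight F e))) :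
    q ^ 2 ∣ 2 * finrank F B := by
  classical
  have hnil : ∀ x : B, π x = 0 → IsNilpotent x := by
    intro x hx
    refine ⟨K + 1, ?_⟩
    have := Ideal.pow_mem_pow ((hJ x).mp hx) (K + 1)
    rwa [hK, Ideal.mem_bot] at this
  obtain ⟨e, u, v, hidem, hπe, hvu, hsum, hue, hev, hve, hv0e, heu0, hu0v0⟩ :=
    exists_matrix_units π hsurj hnil
  have hMU : IsMatUnits e u v := ⟨hidem, hvu, hsum, hue, hev, hve, hv0e, heu0, hu0v0⟩
  set A := cornerSub F e with hA
  set J' : Submodule F B := J.restrictScalars F with hJ'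
  set N : Submodule F B := A ⊓ J' with hN
  have heA : e ∈ A := (mem_cornerSub_iff hidem e).mpr ⟨hidem.eq, hidem.eq⟩
  have hAN : A ≤ Submodule.span F {e} ⊔ N := by
    intro a ha
    obtain ⟨hea, hae⟩ := (mem_cornerSub_iff hidem a).mp ha
    have h1 : π a = Matrix.single 0 0 ((π a) 0 0) := by
      calc π a = π (e * a * e) := by rw [hea, hae]
        _ = Matrix.single 0 0 1 * π a * Matrix.single 0 0 1 := by rw [map_mul, map_mul, hπe]
        _ = Matrix.single 0 0 ((π a) 0 0) := by
          rw [Matrix.single_mul_mul_single, one_mul, mul_one]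
    have h2 : π (a - ((π a) 0 0) • e) = 0 := by
      rw [map_sub, map_smul, hπe, Matrix.smul_single, smul_eq_mul, mul_one]
      exact sub_eq_zero.mpr h1
    have h3 : a - ((π a) 0 0) • e ∈ N :=
      ⟨A.sub_mem ha (A.smul_mem _ heA), (hJ _).mp h2⟩
    rw [Submodule.mem_sup]
    refine ⟨((π a) 0 0) • e, Submodule.smul_mem _ _ (Submodule.mem_span_singleton_self e),
      a - ((π a) 0 0) • e, h3, ?_⟩
    abel
  have hmul : N * N ≤ N := by
    rw [Submodule.mul_le]
    rintro x ⟨hxA, hxJ⟩ y ⟨hyA, hyJ⟩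
    obtain ⟨h1, _⟩ := (mem_cornerSub_iff hidem x).mp hxA
    obtain ⟨_, h4⟩ := (mem_cornerSub_iff hidem y).mp hyA
    refine ⟨(mem_cornerSub_iff hidem _).mpr ⟨by rw [← mul_assoc, h1], by rw [mul_assoc, h4]⟩, ?_⟩
    exact J.mul_mem_left x hyJ
  have hpow : ∀ k : ℕ, N ^ k ≤ (J ^ k).restrictScalars F := by
    intro k
    induction k with
    | zero =>
      rw [Submodule.pow_zero (M := J), Ideal.one_eq_top]
      intro x _
      exact Submodule.mem_top
    | succ k ih =>
      rw [pow_succ, Submodule.pow_succ (M := J), Submodule.mul_le]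
      intro y hy z hz
      exact Ideal.mul_mem_mul (ih hy) hz.2
  have hKN : N ^ (K + 1) = ⊥ := by
    rw [eq_bot_iff]
    intro x hx
    have := hpow (K + 1) hx
    rw [hK] at this
    exact this
  have hcorner : finrank F A ≤ finrank F (cornerComm F e) + 2 := by
    apply hMU.finrank_corner_le 2
    have := finrank_le_commSpan_add_center h
    omega
  have hA2 : finrank F A ≤ 2 :=
    finrank_corner_le_two e hidem N inf_le_left hAN hmul K hKN hcorner
  have d1 := hMU.finrank_leftIdeal (F := F) ⊤ (fun _ _ _ => Submodule.mem_top)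
  rw [Submodule.map_top, finrank_top] at d1
  have d2 := hMU.finrank_leftIdeal (F := F) (LinearMap.range (LinearMap.mulRight F e)) (by
    rintro b _ ⟨x, rfl⟩
    exact ⟨b * x, by simp [mul_assoc]⟩)
  have d2' : (LinearMap.range (LinearMap.mulRight F e)).map (LinearMap.mulLeft F e) = A := by
    rw [hA, cornerSub, LinearMap.range_comp]
  rw [d2'] at d2
  have d3 := finrank_range_mulLeft_eq h e hidem
  have hqe := hq e hidem
  apply arith_final q n (finrank F A) _ hA2 _ (by rw [← d2]; exact hqe)
  rw [d1, d3, d2]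

/-- **Symmetric algebras with at most two-dimensional centre.** -/
theorem sq_dvd_two_mul_finrank [IsAlgClosed F] [FiniteDimensional F B] {lam : B →ₗ[F] F}
    (h : IsSymmForm lam) (hZ : finrank F (Subalgebra.center F B) ≤ 2) (q : ℕ)
    (hq : ∀ e : B, IsIdempotentElem e →
      q ∣ finrank F (LinearMap.range (LinearMap.mulRight F e))) :
    q ^ 2 ∣ 2 * finrank F B := by
  classical
  haveI : IsArtinianRing B := IsArtinianRing.of_finite F B
  set J : Ideal B := Ring.jacobson B with hJdef
  obtain ⟨K0, hK0⟩ := (IsSemiprimaryRing.isNilpotent : IsNilpotent (Ring.jacobson B))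
  have hK : J ^ (K0 + 1) = ⊥ := by
    rw [Submodule.pow_succ, hJdef, hK0, Ideal.zero_eq_bot, Submodule.bot_mul]
  haveI : FiniteDimensional F (B ⧸ J) :=
    Module.Finite.of_surjective (Ideal.Quotient.mkₐ F J).toLinearMap
      (Ideal.Quotient.mkₐ_surjective F J)
  obtain ⟨l, d, hd, ⟨Φ⟩⟩ := IsSemisimpleRing.exists_algEquiv_pi_matrix_of_isAlgClosed F (B ⧸ J)
  set π : B →ₐ[F] (Π i : Fin l, Matrix (Fin (d i)) (Fin (d i)) F) :=
    (Φ : (B ⧸ J) →ₐ[F] _).comp (Ideal.Quotient.mkₐ F J) with hπ
  have hπsurj : Function.Surjective π := by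
    intro y
    obtain ⟨x, hx⟩ := Ideal.Quotient.mkₐ_surjective F J (Φ.symm y)
    refine ⟨x, ?_⟩
    show Φ (Ideal.Quotient.mkₐ F J x) = y
    rw [hx, AlgEquiv.apply_symm_apply]
  have hπker : ∀ x : B, π x = 0 ↔ x ∈ J := by
    intro x
    show Φ (Ideal.Quotient.mkₐ F J x) = 0 ↔ x ∈ J
    rw [map_eq_zero_iff Φ Φ.injective, Ideal.Quotient.mkₐ_eq_mk, Ideal.Quotient.eq_zero_iff_mem]
  -- trace functionals
  let τ : Fin l → Module.Dual F B := fun i =>
    (Matrix.traceLinearMap (Fin (d i)) F F) ∘ₗ
      ((LinearMap.proj i : (Π i : Fin l, Matrix (Fin (d i)) (Fin (d i)) F) →ₗ[F] _) ∘ₗ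
        π.toLinearMap)
  have hτapp : ∀ i x, τ i x = Matrix.trace (π x i) := fun i x => rfl
  have hτcomm : ∀ i, ∀ x y : B, τ i (x * y - y * x) = 0 := by
    intro i x y
    rw [hτapp, map_sub, map_mul, map_mul, Pi.sub_apply, Pi.mul_apply, Pi.mul_apply,
      Matrix.trace_sub, Matrix.trace_mul_comm, sub_self]
  have hτli : LinearIndependent F τ := by
    rw [Fintype.linearIndependent_iff]
    intro c hc j
    haveI := hd j
    obtain ⟨b, hb⟩ := hπsurj (Pi.single j (Matrix.single 0 0 (1 : F)))
    have := LinearMap.congr_fun hc b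
    rw [LinearMap.sum_apply, LinearMap.zero_apply] at this
    rw [Finset.sum_eq_single j] at this
    · rw [LinearMap.smul_apply, hτapp, hb, Pi.single_eq_same, Matrix.trace_single_eq_same,
        smul_eq_mul, mul_one] at this
      exact this
    · intro i _ hij
      rw [LinearMap.smul_apply, hτapp, hb, Pi.single_eq_of_ne hij, Matrix.trace_zero, smul_zero]
    · intro hj
      exact absurd (Finset.mem_univ j) hj
  have hl : l ≤ 2 := by
    have := card_le_of_linearIndependent h τ hτcomm hτli
    rw [Fintype.card_fin] at this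
    omega
  -- the three cases
  by_cases hJ0 : J = ⊥
  · -- semisimple
    have hinj : Function.Injective π := by
      rw [injective_iff_map_eq_zero]
      intro x hx
      have := (hπker x).mp hx
      rwa [hJ0, Ideal.mem_bot] at this
    let Ψ : B ≃ₐ[F] (Π i : Fin l, Matrix (Fin (d i)) (Fin (d i)) F) :=
      AlgEquiv.ofBijective π ⟨hinj, hπsurj⟩
    exact Dvd.dvd.mul_left (sq_dvd_finrank_of_equiv_pi d hd Ψ q hq) 2
  · -- not semisimple
    have hl1 : l = 1 := by
      interval_cases l
      · -- `l = 0`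
        exfalso
        have h1 : π 1 = 0 := Subsingleton.elim _ _
        have h2 := (hπker 1).mp h1
        apply hJ0
        rw [eq_bot_iff]
        intro x _
        have h3 := Ideal.pow_mem_pow h2 (K0 + 1)
        rw [hK, Ideal.mem_bot, one_pow] at h3
        rw [Ideal.mem_bot, ← mul_one x, h3, mul_zero]
      · rfl
      · -- `l = 2`
        exfalso
        apply hJ0
        rw [eq_bot_iff]
        intro j hj
        rw [Ideal.mem_bot]
        apply eq_zero_of_forall_vanish h τ hτcomm hτli (by rw [Fintype.card_fin]; exact hZ) j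
        intro i y
        have : π (j * y) = 0 := (hπker _).mpr (J.mul_mem_right y hj)
        rw [hτapp, this, Pi.zero_apply, Matrix.trace_zero]
    subst hl1
    haveI := hd 0
    set π₀ : B →ₐ[F] Matrix (Fin (d 0)) (Fin (d 0)) F :=
      (Pi.evalAlgHom F (fun i : Fin 1 => Matrix (Fin (d i)) (Fin (d i)) F) 0).comp π with hπ₀
    have hπ₀app : ∀ x, π₀ x = π x 0 := fun x => rfl
    have hπ₀surj : Function.Surjective π₀ := by
      intro y
      obtain ⟨x, hx⟩ := hπsurj (Pi.single 0 y)
      refine ⟨x, ?_⟩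
      rw [hπ₀app, hx, Pi.single_eq_same]
    have hπ₀ker : ∀ x : B, π₀ x = 0 ↔ x ∈ J := by
      intro x
      rw [← hπker x, hπ₀app]
      constructor
      · intro hx
        funext i
        rw [Subsingleton.elim i 0, hx]
        rfl
      · intro hx
        rw [hx]
        rfl
    exact sq_dvd_of_local h hZ π₀ hπ₀surj J hπ₀ker K0 hK q hq

end Cfsg.Agent.Lib.Helper24.SymAlg
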