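import Mathlib
import Cfsg.Agent.Lib.Helper24.SymAlgCore

/-!
# The corner of a symmetric algebra at a central idempotent (helper24 library)

For a central idempotent `ε` of a symmetric `F`-algebra `B`, the corner `ε B ε` is again a
symmetric algebra; the theorem on symmetric algebras with centre of dimension at most two is
transported to it.
-/

set_option autoImplicit false

namespace Cfsg.Agent.Lib.Helper24.SymAlg

open Module

section Corner

variable {F B : Type*} [Field F] [Ring B] [Algebra F B] {ε : B}

theorem corner_smul_mem (c : F) {x : B} (hx : x ∈ Subsemigroup.corner ε) :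
    c • x ∈ Subsemigroup.corner ε := by
  obtain ⟨r, hr⟩ := hx
  refine ⟨c • r, ?_⟩
  show ε * (c • r) * ε = c • x
  rw [← hr]
  show ε * (c • r) * ε = c • (ε * r * ε)
  rw [mul_smul_comm, smul_mul_assoc]

/-- the module structure on the corner (used only to build the algebra structure) -/
@[reducible] noncomputable def cornerModule (hε : IsIdempotentElem ε) : Module F hε.Corner where
  smul c x := ⟨c • x.1, corner_smul_mem c x.2⟩
  one_smul x := Subtype.ext (one_smul F x.1)
  mul_smul a b x := Subtype.ext (mul_smul a b x.1)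
  smul_zero a := Subtype.ext (smul_zero a)
  smul_add a x y := Subtype.ext (smul_add a x.1 y.1)
  add_smul a b x := Subtype.ext (add_smul a b x.1)
  zero_smul x := Subtype.ext (zero_smul F x.1)

noncomputable instance cornerAlgebra (hε : IsIdempotentElem ε) : Algebra F hε.Corner :=
  letI := cornerModule (F := F) hε
  Algebra.ofModule (fun r x y => Subtype.ext (smul_mul_assoc r x.1 y.1))
    (fun r x y => Subtype.ext (mul_smul_comm r x.1 y.1))

/-- the inclusion of the corner -/
noncomputable def cornerVal (hε : IsIdempotentElem ε) : hε.Corner →ₗ[F] B where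
  toFun x := x.1
  map_add' _ _ := rfl
  map_smul' _ _ := rfl

theorem cornerVal_apply (hε : IsIdempotentElem ε) (x : hε.Corner) : cornerVal (F := F) hε x = x.1 :=
  rfl

theorem cornerVal_injective (hε : IsIdempotentElem ε) :
    Function.Injective (cornerVal (F := F) hε) := fun _ _ h => Subtype.ext h

theorem corner_val_mul (hε : IsIdempotentElem ε) (x y : hε.Corner) : (x * y).1 = x.1 * y.1 := rfl

theorem corner_val_one (hε : IsIdempotentElem ε) : (1 : hε.Corner).1 = ε := rfl

theorem corner_left (hε : IsIdempotentElem ε) (x : hε.Corner) : ε * x.1 = x.1 :=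
  ((Subsemigroup.mem_corner_iff hε).mp x.2).1

theorem corner_right (hε : IsIdempotentElem ε) (x : hε.Corner) : x.1 * ε = x.1 :=
  ((Subsemigroup.mem_corner_iff hε).mp x.2).2

instance cornerFinite [FiniteDimensional F B] (hε : IsIdempotentElem ε) :
    FiniteDimensional F hε.Corner :=
  FiniteDimensional.of_injective (cornerVal (F := F) hε) (cornerVal_injective hε)

/-- the symmetrizing form on the corner -/
noncomputable def cornerLam (hε : IsIdempotentElem ε) (lam : B →ₗ[F] F) : hε.Corner →ₗ[F] F :=
  lam ∘ₗ cornerVal hε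

theorem cornerLam_isSymmForm (hε : IsIdempotentElem ε) {lam : B →ₗ[F] F} (h : IsSymmForm lam) :
    IsSymmForm (cornerLam hε lam) := by
  constructor
  · intro x y
    show lam ((x * y).1) = lam ((y * x).1)
    rw [corner_val_mul, corner_val_mul, h.symm]
  · intro x hx
    apply Subtype.ext
    show x.1 = (0 : B)
    apply h.nondeg
    intro b
    have h1 := hx ⟨ε * b * ε, b, rfl⟩
    have h2 : lam (x.1 * (ε * b * ε)) = 0 := h1
    have h3 : x.1 * (ε * b * ε) = (x.1 * b) * ε := by
      rw [← mul_assoc, ← mul_assoc, corner_right hε x]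
    rw [h3, h.symm, ← mul_assoc, corner_left hε x] at h2
    exact h2

/-- the part of the centre of `B` below `ε` -/
def centerCut (F : Type*) {B : Type*} [Field F] [Ring B] [Algebra F B] (ε : B) : Submodule F B where
  carrier := {z | (∀ b, z * b = b * z) ∧ ε * z = z}
  add_mem' := by
    rintro a b ⟨ha, ha'⟩ ⟨hb, hb'⟩
    refine ⟨fun c => ?_, ?_⟩
    · rw [add_mul, mul_add, ha c, hb c]
    · rw [mul_add, ha', hb']
  zero_mem' := ⟨fun c => by rw [zero_mul, mul_zero], mul_zero ε⟩
  smul_mem' := by
    rintro c a ⟨ha, ha'⟩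
    refine ⟨fun b => ?_, ?_⟩
    · rw [smul_mul_assoc, mul_smul_comm, ha b]
    · rw [mul_smul_comm, ha']

theorem mem_centerCut_iff (ε z : B) :
    z ∈ centerCut F ε ↔ (∀ b, z * b = b * z) ∧ ε * z = z := Iff.rfl

theorem finrank_center_corner_le [FiniteDimensional F B] (hε : IsIdempotentElem ε)
    (hc : ∀ x, ε * x = x * ε) :
    finrank F (Subalgebra.center F hε.Corner) ≤ finrank F (centerCut F ε) := by
  obtain ⟨f, hf⟩ : ∃ f : (Subalgebra.center F hε.Corner) →ₗ[F] B,
      ∀ z, f z = (z : hε.Corner).1 :=
    ⟨cornerVal hε ∘ₗ (Subalgebra.center F hε.Corner).val.toLinearMap, fun _ => rfl⟩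
  have hinj : Function.Injective f := by
    intro a b hab
    rw [hf, hf] at hab
    exact Subtype.ext (Subtype.ext hab)
  rw [← LinearMap.finrank_range_of_inj hinj]
  apply Submodule.finrank_mono
  rintro _ ⟨z, rfl⟩
  rw [hf, mem_centerCut_iff]
  have hz : ∀ y : hε.Corner, y * (z : hε.Corner) = (z : hε.Corner) * y := fun y =>
    (Subalgebra.mem_center_iff.mp z.2 y)
  obtain ⟨zz, hzz⟩ : ∃ zz : B, zz = (z : hε.Corner).1 := ⟨_, rfl⟩
  have hl : ε * zz = zz := by rw [hzz]; exact corner_left hε _
  have hr : zz * ε = zz := by rw [hzz]; exact corner_right hε _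
  rw [← hzz]
  refine ⟨fun b => ?_, hl⟩
  have h1 : (ε * b * ε) * zz = zz * (ε * b * ε) := by
    rw [hzz]
    exact congrArg Subtype.val (hz ⟨ε * b * ε, b, rfl⟩)
  have h2 : (ε * b * ε) * zz = b * zz := by
    rw [mul_assoc (ε * b), hl, hc b, mul_assoc, hl]
  have h3 : zz * (ε * b * ε) = zz * b := by
    rw [← mul_assoc, ← mul_assoc, hr, mul_assoc, ← hc b, ← mul_assoc, hr]
  rw [h2, h3] at h1
  exact h1.symm

theorem finrank_corner_eq [FiniteDimensional F B] (hε : IsIdempotentElem ε)
    (hc : ∀ x, ε * x = x * ε) :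
    finrank F hε.Corner = finrank F (LinearMap.range (LinearMap.mulRight F ε)) := by
  rw [← LinearMap.finrank_range_of_inj (cornerVal_injective (F := F) hε)]
  have h1 : LinearMap.range (cornerVal (F := F) hε) = LinearMap.range (LinearMap.mulRight F ε) := by
    ext x
    constructor
    · rintro ⟨y, rfl⟩
      exact ⟨y.1, corner_right hε y⟩
    · rintro ⟨b, rfl⟩
      refine ⟨⟨ε * b * ε, b, rfl⟩, ?_⟩
      show ε * b * ε = b * ε
      rw [hc b, mul_assoc, hε.eq]
  rw [h1]

theorem finrank_range_mulRight_corner [FiniteDimensional F B] (hε : IsIdempotentElem ε)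
    (hc : ∀ x, ε * x = x * ε) (e : hε.Corner) :
    finrank F (LinearMap.range (LinearMap.mulRight F e))
      = finrank F (LinearMap.range (LinearMap.mulRight F e.1)) := by
  have h1 : LinearMap.range (LinearMap.mulRight F e.1)
      = (LinearMap.range (LinearMap.mulRight F e)).map (cornerVal hε) := by
    ext x
    constructor
    · rintro ⟨b, rfl⟩
      refine ⟨⟨ε * b * ε, b, rfl⟩ * e, ⟨_, rfl⟩, ?_⟩
      show (ε * b * ε) * e.1 = b * e.1
      rw [mul_assoc, corner_left hε e, hc b, mul_assoc, corner_left hε e]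
    · rintro ⟨_, ⟨y, rfl⟩, rfl⟩
      exact ⟨y.1, rfl⟩
  rw [h1]
  exact (Submodule.equivMapOfInjective (cornerVal hε) (cornerVal_injective hε) _).finrank_eq

/-- **Symmetric algebras: blocks with centre of dimension at most two.** -/
theorem sq_dvd_two_mul_finrank_central [IsAlgClosed F] [FiniteDimensional F B]
    {lam : B →ₗ[F] F} (h : IsSymmForm lam) (hε : IsIdempotentElem ε)
    (hc : ∀ x, ε * x = x * ε) (hZ : finrank F (centerCut F ε) ≤ 2) (q : ℕ)
    (hq : ∀ e : B, IsIdempotentElem e →
      q ∣ finrank F (LinearMap.range (LinearMap.mulRight F e))) :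
    q ^ 2 ∣ 2 * finrank F (LinearMap.range (LinearMap.mulRight F ε)) := by
  rw [← finrank_corner_eq hε hc]
  apply sq_dvd_two_mul_finrank (cornerLam_isSymmForm hε h)
    (le_trans (finrank_center_corner_le hε hc) hZ) q
  intro e he
  rw [finrank_range_mulRight_corner hε hc e]
  apply hq
  have := congrArg Subtype.val he.eq
  rw [corner_val_mul] at this
  exact this

end Corner

end Cfsg.Agent.Lib.Helper24.SymAlg
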