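import Mathlib
import Cfsg.Prelude.Def_KGroupFacts
import Cfsg.Agent.Lib.Helper28.BSGSPerm

/-!
# Stem extensions from permutation-group certificates: abstract part
-/

set_option autoImplicit false

namespace Cfsg.Agent.Lib.Helper24.Cov

open Cfsg.Agent.Lib.Helper28.BSGS

/-- a central cyclic kernel inside the commutator subgroup, with the right order, gives a stem
extension with cyclic kernel -/
theorem stem_of_central_cyclic {Γ : Type*} {G : Type*} [Group Γ] [Group G] [Finite Γ] [Finite G]
    (σ : Γ →* G) (z : Γ) (m : ℕ)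
    (hker : σ.ker = Subgroup.zpowers z) (hord : orderOf z = m)
    (hcard : Nat.card Γ = m * Nat.card G)
    (hcent : z ∈ Subgroup.center Γ) (hcomm : z ∈ commutator Γ) :
    Cfsg.IsStemExtension σ ∧ Nonempty (σ.ker ≃* Multiplicative (ZMod m)) := by
  have hcz : Nat.card (Subgroup.zpowers z) = m := by rw [Nat.card_zpowers, hord]
  have hkc : Nat.card σ.ker = m := by rw [hker, hcz]
  have hm : 0 < m := by rw [← hord]; exact orderOf_pos z
  refine ⟨⟨?_, ?_, ?_⟩, ?_⟩
  · rw [← MonoidHom.range_eq_top]
    apply Subgroup.eq_top_of_card_eq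
    have h1 : Nat.card Γ = Nat.card (Γ ⧸ σ.ker) * Nat.card σ.ker :=
      Subgroup.card_eq_card_quotient_mul_card_subgroup σ.ker
    have h2 : Nat.card (Γ ⧸ σ.ker) = Nat.card σ.range :=
      Nat.card_congr (QuotientGroup.quotientKerEquivRange σ).toEquiv
    rw [h2, hkc, hcard, mul_comm] at h1
    exact (Nat.eq_of_mul_eq_mul_right hm h1).symm
  · rw [hker, Subgroup.zpowers_le]; exact hcent
  · rw [hker, Subgroup.zpowers_le]; exact hcomm
  · have e2 : Multiplicative (ZMod (Nat.card (Subgroup.zpowers z))) ≃* Subgroup.zpowers z :=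
      zmodCyclicMulEquiv inferInstance
    rw [hcz] at e2
    exact ⟨(MulEquiv.subgroupCongr hker).trans e2.symm⟩

end Cfsg.Agent.Lib.Helper24.Cov
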