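import Cfsg.Agent.Lib.Helper24.CovCore

/-!
# Stem extensions from permutation-group certificates: permutation part

`Γ = genGroup N w gens` is a permutation group on `Fin N` given by packed tables (helper28's verified
Schreier–Sims).  We collect: the stabilizer of a base point, the pointwise stabilizer of the first `k`
points, membership/centrality/commutator certificates.
-/

set_option autoImplicit false

namespace Cfsg.Agent.Lib.Helper24.Cov

open Cfsg.Agent.Lib.Helper28.BSGS

variable (n w : ℕ) [NeZero n]

/-- the stabilizer of the first base point is generated by the generators fixing it -/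
theorem perm_stab (gens : List (ℕ × ℕ)) (b : ℕ) (tr : List Entry) (rest : List CLevel)
    (hg : gensOK n w gens = true) (hc : checkChain n w gens ((b, tr) :: rest) = true) :
    ∀ h ∈ genGroup n w gens, h (pt n b) = pt n b → h ∈ genGroup n w (nextGens w gens b) := by
  have hgood := checkChain_sound n w _ gens (gensOK_spec n w hg) hc
  intro h hh hb
  exact chain_stab (semLevel n w (nextGens w gens b) (b, tr))
    (semLevels n w (nextGens w gens b) rest) (semGens n w gens) hgood h hh hb

/-- generators of the pointwise stabilizer of the base points below `k` (at the start of the base) -/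
def kerGens (k : ℕ) : List (ℕ × ℕ) → List CLevel → List (ℕ × ℕ)
  | gens, [] => gens
  | gens, lv :: rest => if lv.1 < k then kerGens k (nextGens w gens lv.1) rest else gens

theorem mem_kerGens (k : ℕ) : ∀ (levels : List CLevel) (gens : List (ℕ × ℕ)),
    gensOK n w gens = true → checkChain n w gens levels = true →
    ∀ h ∈ genGroup n w gens, (∀ a, a < k → h (pt n a) = pt n a) →
      h ∈ genGroup n w (kerGens w k gens levels) := by
  intro levels
  induction levels with
  | nil => intro gens _ _ h hh _; exact hh
  | cons lv rest ih =>
    intro gens hg hc h hh hfix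
    unfold kerGens
    by_cases hlt : lv.1 < k
    · rw [if_pos hlt]
      obtain ⟨b, tr⟩ := lv
      apply ih _ (gensOK_next n w hg b) (checkChain_tail n w b tr rest hc) h _ hfix
      exact perm_stab n w gens b tr rest hg hc h hh (hfix b hlt)
    · rw [if_neg hlt]; exact hh

/-- the permutation of a valid pair of tables acts through its table -/
theorem actsByW_permOf {tu tv : ℕ} (h : pairOK n w tu tv = true) :
    ActsByW n w (permOf n w tu tv) [tu] := actsByW_single (permOf_apply h)

/-- the inverse acts through the inverse table -/
theorem actsByW_permOf_inv {tu tv : ℕ} (h : pairOK n w tu tv = true) :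
    ActsByW n w (permOf n w tu tv)⁻¹ [tv] := actsByW_single (permOf_inv_apply h)

theorem actsByW_append {g h : Equiv.Perm (Fin n)} {ws ws' : List ℕ}
    (hg : ActsByW n w g ws) (hh : ActsByW n w h ws') : ActsByW n w (g * h) (ws ++ ws') := by
  intro a
  show (g (h a)).val = evalW w (ws ++ ws') a.val
  rw [hg, hh]
  unfold evalW
  rw [List.foldr_append]

/-- converse of `eq_one_of_wordId` -/
theorem wordId_of_eq_one {g : Equiv.Perm (Fin n)} {ws : List ℕ} (hg : ActsByW n w g ws)
    (h : g = 1) : wordId n w ws = true := by
  unfold wordId
  rw [List.all_eq_true]
  intro a ha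
  have ha' : a < n := List.mem_range.mp ha
  have := hg ⟨a, ha'⟩
  rw [h] at this
  rw [beq_iff_eq]
  exact this.symm

end Cfsg.Agent.Lib.Helper24.Cov
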