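import Cfsg.Agent.Lib.Helper24.CovAlt
import Cfsg.Agent.Lib.Helper3.CardSL

/-!
# Stem extensions of `SL(2, 9)` from permutation-group certificates

The field with nine elements is modelled as `R9 = (ZMod 3)[i]`.  The first `80` points of the permutation
domain are labelled by the nonzero vectors of `R9 × R9`; a generator acts on them through a matrix.
-/

set_option autoImplicit false

namespace Cfsg.Agent.Lib.Helper24.Cov

open Cfsg.Agent.Lib.Helper28.BSGS Matrix

instance factR9 : Fact (∀ r : ZMod 3, r ^ 2 ≠ (-1 : ZMod 3) + 0 * r) := ⟨by decide⟩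

/-- the field with nine elements -/
abbrev R9 : Type := QuadraticAlgebra (ZMod 3) (-1) 0

instance fintypeR9 : Fintype R9 :=
  Fintype.ofEquiv (ZMod 3 × ZMod 3) (QuadraticAlgebra.equivProd (-1 : ZMod 3) 0).symm

theorem card_R9 : Fintype.card R9 = 9 := by
  rw [Fintype.card_congr (QuadraticAlgebra.equivProd (-1 : ZMod 3) 0), Fintype.card_prod, ZMod.card]

/-- decoding of an element of `R9` from a code below `9` -/
def dec9 (c : ℕ) : R9 := ⟨((c % 3 : ℕ) : ZMod 3), ((c / 3 : ℕ) : ZMod 3)⟩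

/-- label of a point below `80` -/
def lab (a : ℕ) : R9 × R9 := (dec9 ((a + 1) / 9), dec9 ((a + 1) % 9))

/-- coded matrix acting on a pair -/
def act9 (M : ℕ × ℕ × ℕ × ℕ) (v : R9 × R9) : R9 × R9 :=
  (dec9 M.1 * v.1 + dec9 M.2.1 * v.2, dec9 M.2.2.1 * v.1 + dec9 M.2.2.2 * v.2)

/-- coded determinant -/
def det9 (M : ℕ × ℕ × ℕ × ℕ) : R9 := dec9 M.1 * dec9 M.2.2.2 - dec9 M.2.1 * dec9 M.2.2.1

/-- the label as a vector -/
def labV (a : ℕ) : Fin 2 → R9 := ![(lab a).1, (lab a).2]

/-- the coded matrix as a matrix -/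
def matOf (M : ℕ × ℕ × ℕ × ℕ) : Matrix (Fin 2) (Fin 2) R9 :=
  !![dec9 M.1, dec9 M.2.1; dec9 M.2.2.1, dec9 M.2.2.2]

theorem matOf_mulVec (M : ℕ × ℕ × ℕ × ℕ) (a : ℕ) :
    matOf M *ᵥ labV a = ![(act9 M (lab a)).1, (act9 M (lab a)).2] := by
  funext i
  fin_cases i <;> simp [matOf, labV, act9, Matrix.mulVec, dotProduct, Fin.sum_univ_two]

theorem det_matOf (M : ℕ × ℕ × ℕ × ℕ) : (matOf M).det = det9 M := by
  unfold matOf det9
  rw [Matrix.det_fin_two_of]

/-- Boolean certificate: the generators act on the labelled points through the coded matrices -/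
def linCert (w : ℕ) (gm : List ((ℕ × ℕ) × (ℕ × ℕ × ℕ × ℕ))) : Bool :=
  gm.all fun gM => (det9 gM.2 == 1) &&
    (List.range 80).all fun a => decide (look w gM.1.1 a < 80) &&
      (lab (look w gM.1.1 a) == act9 gM.2 (lab a))

/-- labels are injective -/
def labInj : Bool :=
  (List.range 80).all fun a => (List.range 80).all fun b => (a == b) || !(lab a == lab b)

variable (N w : ℕ) [NeZero N]

/-- `g` acts on the labelled points through the matrix `M` -/
def IsLin (g : Equiv.Perm (Fin N)) (M : Matrix (Fin 2) (Fin 2) R9) : Prop :=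
  ∀ a, a < 80 → (g (pt N a)).val < 80 ∧ labV (g (pt N a)).val = M *ᵥ labV a

theorem isLin_one (hN : 80 ≤ N) : IsLin N (1 : Equiv.Perm (Fin N)) 1 := by
  intro a ha
  have haN : a < N := lt_of_lt_of_le ha hN
  refine ⟨?_, ?_⟩
  · show (pt N a).val < 80
    rw [pt_val N haN]; exact ha
  · show labV (pt N a).val = 1 *ᵥ labV a
    rw [pt_val N haN, Matrix.one_mulVec]

theorem isLin_mul {g h : Equiv.Perm (Fin N)} {M M' : Matrix (Fin 2) (Fin 2) R9}
    (hg : IsLin N g M) (hh : IsLin N h M') : IsLin N (g * h) (M * M') := by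
  intro a ha
  obtain ⟨h1, h2⟩ := hh a ha
  obtain ⟨h3, h4⟩ := hg _ h1
  rw [pt_of_val] at h3 h4
  refine ⟨h3, ?_⟩
  show labV (g (h (pt N a))).val = (M * M') *ᵥ labV a
  rw [h4, h2, Matrix.mulVec_mulVec]

theorem lab_e1 : labV 8 = ![1, 0] := by
  unfold labV lab dec9
  decide

theorem lab_e2 : labV 0 = ![0, 1] := by
  unfold labV lab dec9
  decide

theorem isLin_unique {g : Equiv.Perm (Fin N)} {M M' : Matrix (Fin 2) (Fin 2) R9}
    (h : IsLin N g M) (h' : IsLin N g M') : M = M' := by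
  have h1 := (h 8 (by norm_num)).2
  have h2 := (h' 8 (by norm_num)).2
  have h3 := (h 0 (by norm_num)).2
  have h4 := (h' 0 (by norm_num)).2
  rw [h1, lab_e1] at h2
  rw [h3, lab_e2] at h4
  apply Matrix.ext
  intro i j
  fin_cases j
  · have := congrFun h2 i
    simpa [Matrix.mulVec, dotProduct, Fin.sum_univ_two] using this
  · have := congrFun h4 i
    simpa [Matrix.mulVec, dotProduct, Fin.sum_univ_two] using this

theorem card_SL2_R9 : Nat.card (SpecialLinearGroup (Fin 2) R9) = 720 := by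
  rw [Cfsg.Agent.Lib.Helper3.CardSL.card_SL2, card_R9]
  norm_num

theorem isLin_gen (hN : 80 ≤ N) (gm : List ((ℕ × ℕ) × (ℕ × ℕ × ℕ × ℕ)))
    (hg : gensOK N w (gm.map Prod.fst) = true) (h : linCert w gm = true) :
    ∀ s ∈ semGens N w (gm.map Prod.fst), ∃ M : SpecialLinearGroup (Fin 2) R9, IsLin N s M.1 := by
  intro s hs
  unfold semGens at hs
  rw [List.mem_map] at hs
  obtain ⟨g0, hg0, rfl⟩ := hs
  have hp0 := gensOK_spec N w hg g0 hg0
  rw [List.mem_map] at hg0
  obtain ⟨gM, hgM, rfl⟩ := hg0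
  unfold linCert at h
  rw [List.all_eq_true] at h
  have h1 := h gM hgM
  rw [Bool.and_eq_true, List.all_eq_true] at h1
  obtain ⟨hdet, hact⟩ := h1
  refine ⟨⟨matOf gM.2, ?_⟩, ?_⟩
  · rw [det_matOf]; exact beq_iff_eq.mp hdet
  · intro a ha
    have haN : a < N := lt_of_lt_of_le ha hN
    have h2 := hact a (List.mem_range.mpr ha)
    rw [Bool.and_eq_true, decide_eq_true_eq, beq_iff_eq] at h2
    obtain ⟨h3, h4⟩ := h2
    have h5 : (permOf N w gM.1.1 gM.1.2 (pt N a)).val = look w gM.1.1 a := by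
      rw [permOf_apply hp0, pt_val N haN]
    rw [h5]
    refine ⟨h3, ?_⟩
    show labV (look w gM.1.1 a) = matOf gM.2 *ᵥ labV a
    rw [matOf_mulVec, ← h4]
    rfl

theorem isLin_exists (hN : 80 ≤ N) (gm : List ((ℕ × ℕ) × (ℕ × ℕ × ℕ × ℕ)))
    (hg : gensOK N w (gm.map Prod.fst) = true) (h : linCert w gm = true) :
    ∀ g ∈ genGroup N w (gm.map Prod.fst),
      ∃ M : SpecialLinearGroup (Fin 2) R9, IsLin N g M.1 := by
  intro g hgm
  unfold genGroup at hgm
  refine closure_induction_finite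
    (p := fun g => ∃ M : SpecialLinearGroup (Fin 2) R9, IsLin N g M.1) ?_ ?_ ?_ hgm
  · intro s hs
    exact isLin_gen N w hN gm hg h s hs
  · exact ⟨1, isLin_one N hN⟩
  · rintro a b ⟨M, hM⟩ ⟨M', hM'⟩
    exact ⟨M * M', isLin_mul N hM hM'⟩

theorem lab_eq_of_labV_eq {a b : ℕ} (h : labV a = labV b) : lab a = lab b := by
  have h0 := congrFun h 0
  have h1 := congrFun h 1
  unfold labV at h0 h1
  simp only [Matrix.cons_val_zero, Matrix.cons_val_one] at h0 h1
  exact Prod.ext h0 h1

theorem eq_of_lab_eq (hinj : labInj = true) {a b : ℕ} (ha : a < 80) (hb : b < 80)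
    (h : lab a = lab b) : a = b := by
  unfold labInj at hinj
  rw [List.all_eq_true] at hinj
  have h1 := hinj a (List.mem_range.mpr ha)
  rw [List.all_eq_true] at h1
  have h2 := h1 b (List.mem_range.mpr hb)
  rw [Bool.or_eq_true] at h2
  rcases h2 with h2 | h2
  · exact beq_iff_eq.mp h2
  · rw [Bool.not_eq_true', beq_eq_false_iff_ne] at h2
    exact absurd h h2

theorem cover_sl (m : ℕ) (hm : 0 < m) (hN : 80 ≤ N) (gm : List ((ℕ × ℕ) × (ℕ × ℕ × ℕ × ℕ)))
    (levels : List CLevel) (tz tzi ta tai tb tbi tc tci td tdi : ℕ)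
    (h : dataCert N w 80 m (gm.map Prod.fst) levels tz tzi ta tai tb tbi tc tci td tdi = true)
    (h' : linCert w gm = true) (hinj : labInj = true)
    (hsize : codeSize levels = m * 720) :
    ∃ (Γ : Type) (_ : Group Γ) (_ : Finite Γ) (σ : Γ →* SpecialLinearGroup (Fin 2) R9),
      Cfsg.IsStemExtension σ ∧ Nonempty (σ.ker ≃* Multiplicative (ZMod m)) := by
  obtain ⟨hcard, hz, hcent, hcomm, hord, hzfix, hkerz⟩ :=
    dataCert_sound N w 80 m hm hN (gm.map Prod.fst) levels tz tzi ta tai tb tbi tc tci td tdi h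
  have hg : gensOK N w (gm.map Prod.fst) = true := by
    unfold dataCert at h
    simp only [Bool.and_eq_true] at h
    exact h.1.1.1.1.1.1.1.1.1.1.1.1.1.1.1.1.1
  have hex : ∀ g : genGroup N w (gm.map Prod.fst),
      ∃ M : SpecialLinearGroup (Fin 2) R9, IsLin N g.1 M.1 :=
    fun g => isLin_exists N w hN gm hg h' g.1 g.2
  let σ : genGroup N w (gm.map Prod.fst) →* SpecialLinearGroup (Fin 2) R9 :=
    MonoidHom.mk' (fun g => (hex g).choose) (by
      intro a b
      apply Subtype.ext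
      apply isLin_unique N (hex (a * b)).choose_spec
      exact isLin_mul N (hex a).choose_spec (hex b).choose_spec)
  have hσ : ∀ g, IsLin N g.1 (σ g).1 := fun g => (hex g).choose_spec
  have hker : σ.ker = Subgroup.zpowers
      (⟨permOf N w tz tzi, hz⟩ : genGroup N w (gm.map Prod.fst)) := by
    apply le_antisymm
    · intro g hgk
      rw [MonoidHom.mem_ker] at hgk
      apply hkerz g
      intro a ha
      have haN : a < N := lt_of_lt_of_le ha hN
      have h1 := hσ g a ha
      rw [hgk] at h1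
      obtain ⟨h2, h3⟩ := h1
      have h4 : labV (g.1 (pt N a)).val = labV a := by
        rw [h3]
        show (1 : Matrix (Fin 2) (Fin 2) R9) *ᵥ labV a = labV a
        rw [Matrix.one_mulVec]
      have h5 := eq_of_lab_eq hinj h2 ha (lab_eq_of_labV_eq h4)
      apply Fin.ext
      rw [h5, pt_val N haN]
    · rw [Subgroup.zpowers_le, MonoidHom.mem_ker]
      apply Subtype.ext
      apply isLin_unique N (hσ _)
      intro a ha
      have haN : a < N := lt_of_lt_of_le ha hN
      show ((permOf N w tz tzi) (pt N a)).val < 80 ∧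
        labV ((permOf N w tz tzi) (pt N a)).val = (1 : Matrix (Fin 2) (Fin 2) R9) *ᵥ labV a
      rw [hzfix a ha, pt_val N haN, Matrix.one_mulVec]
      exact ⟨ha, rfl⟩
  have hcardG : Nat.card (genGroup N w (gm.map Prod.fst)) =
      m * Nat.card (SpecialLinearGroup (Fin 2) R9) := by
    rw [hcard, hsize, card_SL2_R9]
  exact ⟨genGroup N w (gm.map Prod.fst), inferInstance, inferInstance, σ,
    stem_of_central_cyclic σ _ m hker hord hcardG hcent hcomm⟩

end Cfsg.Agent.Lib.Helper24.Cov
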