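import Cfsg.Agent.Lib.Helper24.Cov9

/-!
# Transport of stem extensions along isomorphisms and universe lifts; the triple cover of `SL(2, F)`,
`|F| = 9`
-/

set_option autoImplicit false

namespace Cfsg.Agent.Lib.Helper24.Cov

universe u

/-- transport of a stem extension along an isomorphism of the base, into any universe -/
theorem stem_transport {Γ G : Type} [Group Γ] [Finite Γ] [Group G] {G' : Type u} [Group G']
    {A : Type*} [Group A] (σ : Γ →* G) (hσ : Cfsg.IsStemExtension σ) (hk : Nonempty (σ.ker ≃* A))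
    (e : G ≃* G') :
    ∃ (Γ' : Type u) (_ : Group Γ') (_ : Finite Γ') (σ' : Γ' →* G'),
      Cfsg.IsStemExtension σ' ∧ Nonempty (σ'.ker ≃* A) := by
  obtain ⟨hsurj, hcen, hcom⟩ := hσ
  let f : ULift.{u} Γ ≃* Γ := MulEquiv.ulift
  let σ' : ULift.{u} Γ →* G' := e.toMonoidHom.comp (σ.comp f.toMonoidHom)
  have hkeq : σ'.ker = σ.ker.comap f.toMonoidHom := by
    ext x
    rw [MonoidHom.mem_ker, Subgroup.mem_comap, MonoidHom.mem_ker]
    show e (σ (f x)) = 1 ↔ σ (f x) = 1
    constructor
    · intro h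
      have : e (σ (f x)) = e 1 := by rw [h, map_one]
      exact e.injective this
    · intro h; rw [h, map_one]
  refine ⟨ULift.{u} Γ, inferInstance, inferInstance, σ', ⟨?_, ?_, ?_⟩, ?_⟩
  · intro y
    obtain ⟨x, hx⟩ := hsurj (e.symm y)
    refine ⟨f.symm x, ?_⟩
    show e (σ (f (f.symm x))) = y
    rw [MulEquiv.apply_symm_apply, hx, MulEquiv.apply_symm_apply]
  · intro x hx
    rw [hkeq, Subgroup.mem_comap] at hx
    have h1 := hcen hx
    rw [Subgroup.mem_center_iff] at h1 ⊢
    intro y
    apply f.injective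
    rw [map_mul, map_mul]
    exact h1 (f y)
  · intro x hx
    rw [hkeq, Subgroup.mem_comap] at hx
    have h1 := hcom hx
    have h2 : (commutator Γ).map f.symm.toMonoidHom = commutator (ULift.{u} Γ) := by
      rw [commutator_def, commutator_def, Subgroup.map_commutator,
        Subgroup.map_top_of_surjective _ f.symm.surjective]
    rw [← h2]
    refine ⟨f x, h1, ?_⟩
    show f.symm (f x) = x
    exact MulEquiv.symm_apply_apply f x
  · obtain ⟨ek⟩ := hk
    have hkeq2 : σ'.ker = σ.ker.map (f.symm : Γ →* ULift.{u} Γ) := by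
      rw [hkeq]
      ext x
      rw [Subgroup.mem_comap, Subgroup.mem_map]
      constructor
      · intro hx
        exact ⟨f x, hx, MulEquiv.symm_apply_apply f x⟩
      · rintro ⟨y, hy, rfl⟩
        show f (f.symm y) ∈ σ.ker
        rw [MulEquiv.apply_symm_apply]; exact hy
    have e1 : σ'.ker ≃* (σ.ker.map (f.symm : Γ →* ULift.{u} Γ) : Subgroup (ULift.{u} Γ)) :=
      MulEquiv.subgroupCongr hkeq2
    have e2 : σ.ker ≃* (σ.ker.map (f.symm : Γ →* ULift.{u} Γ) : Subgroup (ULift.{u} Γ)) :=
      MulEquiv.subgroupMap f.symm σ.ker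
    exact ⟨(e1.trans e2.symm).trans ek⟩

/-- a ring isomorphism induces an isomorphism of special linear groups -/
noncomputable def slMapEquiv {R S : Type*} [CommRing R] [CommRing S] (e : R ≃+* S) (n : Type*)
    [DecidableEq n] [Fintype n] :
    Matrix.SpecialLinearGroup n R ≃* Matrix.SpecialLinearGroup n S :=
  MonoidHom.toMulEquiv (Matrix.SpecialLinearGroup.map e.toRingHom)
    (Matrix.SpecialLinearGroup.map e.symm.toRingHom)
    (by
      ext A i j
      simp)
    (by
      ext A i j
      simp)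

end Cfsg.Agent.Lib.Helper24.Cov

namespace Cfsg.Agent.Lib.Helper24.Cov9

open Cfsg.Agent.Lib.Helper24.Cov

universe u

/-- a finite stem extension of `SL(2, F)`, `|F| = 9`, with cyclic kernel of order 3 -/
theorem exists_cover {F : Type u} [Field F] [Fintype F] (hF : Fintype.card F = 9) :
    ∃ (Γ : Type u) (_ : Group Γ) (_ : Finite Γ) (σ : Γ →* Matrix.SpecialLinearGroup (Fin 2) F),
      Cfsg.IsStemExtension σ ∧ Nonempty (σ.ker ≃* Multiplicative (ZMod 3)) := by
  obtain ⟨Γ, hG, hfin, σ, hσ, hk⟩ := exists_cover_R9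
  have e : R9 ≃+* F := FiniteField.ringEquivOfCardEq (card_R9.trans hF.symm)
  exact stem_transport σ hσ hk (slMapEquiv e (Fin 2))

end Cfsg.Agent.Lib.Helper24.Cov9
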