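import Mathlib
import Cfsg.Agent.Lib.Helper24.BrauerFeit
import Cfsg.Agent.Lib.Helper24.BlockOrtho
import Cfsg.Agent.Lib.Helper7.CentralHom
import Cfsg.Agent.Lib.Helper7.SectionOrtho
import Cfsg.Agent.Lib.Helper7.BrauerCount2
import Cfsg.Agent.S4717

/-!
# 2-blocks of defect one
-/

open scoped ComplexConjugate
open Cfsg.Agent.Lib.Helper2

namespace Cfsg.Agent.Lib.Helper24

section DefectTwo

variable {G : Type*} [Group G] [Fintype G] {M : Ideal Cfsg.AlgInt}

/-- two distinct characters in a `2`-block of defect at most one: they are the whole block, agree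
on the elements of odd order and are opposite on the `2`-singular elements -/
theorem pair_of_defect_one (hM : Cfsg.IsPModular 2 M) (B : Set (Cfsg.IrrCharacter G))
    (hB : Cfsg.IsPBlock M B) (hd : Cfsg.blockDefect 2 B ≤ 1) (χ₁ χ₂ : Cfsg.IrrCharacter G)
    (h₁ : χ₁ ∈ B) (h₂ : χ₂ ∈ B) (hne : χ₁ ≠ χ₂) :
    (∀ ξ ∈ B, ξ = χ₁ ∨ ξ = χ₂) ∧
    (∀ g : G, ¬ 2 ∣ orderOf g → (χ₁ : G → ℂ) g = (χ₂ : G → ℂ) g) ∧
    (∀ g : G, 2 ∣ orderOf g → (χ₁ : G → ℂ) g = -(χ₂ : G → ℂ) g) := by
  classical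
  haveI : Fact (Nat.Prime 2) := ⟨Nat.prime_two⟩
  haveI : Fintype (Cfsg.IrrCharacter G) := Fintype.ofFinite _
  obtain ⟨T, hT⟩ : ∃ T : Finset (Cfsg.IrrCharacter G), ∀ ξ, ξ ∈ T ↔ ξ ∈ B :=
    ⟨(Set.toFinite B).toFinset, fun ξ => Set.Finite.mem_toFinset _⟩
  have hw := brauer_feit_weighted hM B hB T hT
  have hq : 2 ^ (2 * Cfsg.blockDefect 2 B) ≤ 4 := by
    calc 2 ^ (2 * Cfsg.blockDefect 2 B) ≤ 2 ^ 2 :=
          Nat.pow_le_pow_right (by norm_num) (by omega)
      _ = 4 := by norm_num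
  have hsum2 : ∑ ξ ∈ T, 2 ^ (2 * Cfsg.blockHeight 2 B (ξ : G → ℂ)) ≤ 2 := by omega
  have hpos : ∀ ξ : Cfsg.IrrCharacter G, 1 ≤ 2 ^ (2 * Cfsg.blockHeight 2 B (ξ : G → ℂ)) :=
    fun ξ => Nat.one_le_two_pow
  have h₁T : χ₁ ∈ T := (hT χ₁).mpr h₁
  have h₂T : χ₂ ∈ T := (hT χ₂).mpr h₂
  -- the block consists of `χ₁` and `χ₂`
  have hall : ∀ ξ ∈ B, ξ = χ₁ ∨ ξ = χ₂ := by
    intro ξ hξ
    by_contra hcon
    push Not at hcon
    have hsub : ({χ₁, χ₂, ξ} : Finset (Cfsg.IrrCharacter G)) ⊆ T := by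
      intro η hη
      simp only [Finset.mem_insert, Finset.mem_singleton] at hη
      rcases hη with rfl | rfl | rfl
      · exact h₁T
      · exact h₂T
      · exact (hT _).mpr hξ
    have h3 := Finset.sum_le_sum_of_subset (f := fun ξ : Cfsg.IrrCharacter G =>
      2 ^ (2 * Cfsg.blockHeight 2 B (ξ : G → ℂ))) hsub
    rw [Finset.sum_insert (by
      simp only [Finset.mem_insert, Finset.mem_singleton]
      rintro (h | h)
      · exact hne h
      · exact hcon.1 h.symm), Finset.sum_pair (fun h => hcon.2 h.symm)] at h3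
    have := hpos χ₁
    have := hpos χ₂
    have := hpos ξ
    omega
  have hsubpair : ({χ₁, χ₂} : Finset (Cfsg.IrrCharacter G)) ⊆ T := by
    intro η hη
    simp only [Finset.mem_insert, Finset.mem_singleton] at hη
    rcases hη with rfl | rfl
    · exact h₁T
    · exact h₂T
  have hpair := Finset.sum_le_sum_of_subset (f := fun ξ : Cfsg.IrrCharacter G =>
      2 ^ (2 * Cfsg.blockHeight 2 B (ξ : G → ℂ))) hsubpair
  rw [Finset.sum_pair hne] at hpair
  have hht1 : Cfsg.blockHeight 2 B (χ₁ : G → ℂ) = 0 := by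
    by_contra h
    have h4 : 2 ^ 2 ≤ 2 ^ (2 * Cfsg.blockHeight 2 B (χ₁ : G → ℂ)) :=
      Nat.pow_le_pow_right (by norm_num) (by omega)
    have := hpos χ₂
    omega
  refine ⟨hall, ?_⟩
  -- the contributions of `χ₁`
  obtain ⟨n, hn, hout, -, hsum⟩ := exists_contribution_int hM B hB χ₁ h₁
  have hn0 : ∀ ξ ∈ B, n ξ ≠ 0 := by
    intro ξ hξ h
    have h1 := hn ξ
    rw [h, Int.cast_zero] at h1
    have hq0 : ((2 : ℕ) : ℂ) ^ Cfsg.blockDefect 2 B ≠ 0 := pow_ne_zero _ (by norm_num)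
    rcases mul_eq_zero.mp h1 with h' | h'
    · exact hq0 h'
    · exact classInner_pRegularPart_ne_zero_of_height_zero hM B hB χ₁ h₁ hht1 ξ hξ h'
  have hsum' : n χ₁ ^ 2 + n χ₂ ^ 2 = ((2 : ℕ) : ℤ) ^ Cfsg.blockDefect 2 B * n χ₁ := by
    rw [← hsum, ← Finset.sum_pair (f := fun ξ => n ξ ^ 2) hne]
    apply Finset.sum_subset (Finset.subset_univ _)
    intro ξ _ hξ
    have : ξ ∉ B := by
      intro hξB
      apply hξ
      rcases hall ξ hξB with rfl | rfl
      · exact Finset.mem_insert_self _ _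
      · exact Finset.mem_insert_of_mem (Finset.mem_singleton_self _)
    rw [hout ξ this]
    ring
  have hn1 := hn0 χ₁ h₁
  have hn2 := hn0 χ₂ h₂
  have hd1 : Cfsg.blockDefect 2 B = 1 := by
    by_contra h
    have h0 : Cfsg.blockDefect 2 B = 0 := by omega
    rw [h0, pow_zero, one_mul] at hsum'
    have h5 : 1 ≤ n χ₂ ^ 2 := by
      have := sq_nonneg (n χ₂)
      have : n χ₂ ^ 2 ≠ 0 := pow_ne_zero 2 hn2
      omega
    nlinarith [sq_nonneg (n χ₁ - 1), sq_nonneg (n χ₁)]
  rw [hd1, pow_one] at hsum'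
  push_cast at hsum'
  have h5 : 1 ≤ n χ₂ ^ 2 := by
    have := sq_nonneg (n χ₂)
    have : n χ₂ ^ 2 ≠ 0 := pow_ne_zero 2 hn2
    omega
  have hn1eq : n χ₁ = 1 := by
    have hle : n χ₁ ^ 2 ≤ 2 * n χ₁ - 1 := by linarith
    have h6 : (n χ₁ - 1) ^ 2 ≤ 0 := by nlinarith
    have h7 : (n χ₁ - 1) ^ 2 = 0 := le_antisymm h6 (sq_nonneg _)
    have h8 : n χ₁ - 1 = 0 := by
      rcases pow_eq_zero_iff (two_ne_zero) |>.mp h7 with h
      exact h
    omega
  have hn2sq : n χ₂ ^ 2 = 1 := by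
    rw [hn1eq] at hsum'
    linarith
  -- the expansion of `χ₁°`
  have hcf : Cfsg.IsClassFunction G (Cfsg.pRegularPart 2 (χ₁ : G → ℂ)) :=
    pRegularPart_isClassFunction _ (IrrCharacter.isClassFunction χ₁)
  have hexp := classFunction_expansion (Cfsg.pRegularPart 2 (χ₁ : G → ℂ)) hcf
  have hcoef : ∀ ξ : Cfsg.IrrCharacter G,
      Cfsg.classInner (Cfsg.pRegularPart 2 (χ₁ : G → ℂ)) (ξ : G → ℂ) = (n ξ : ℂ) / 2 := by
    intro ξ
    have h1 := hn ξ
    rw [hd1, pow_one] at h1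
    rw [← h1]
    push_cast
    ring
  have hexp2 : ∀ g : G, Cfsg.pRegularPart 2 (χ₁ : G → ℂ) g
      = (1 / 2 : ℂ) * (χ₁ : G → ℂ) g + ((n χ₂ : ℂ) / 2) * (χ₂ : G → ℂ) g := by
    intro g
    have h1 := congrFun hexp g
    rw [Finset.sum_apply] at h1
    rw [h1, ← Finset.sum_subset (Finset.subset_univ ({χ₁, χ₂} : Finset (Cfsg.IrrCharacter G)))]
    · rw [Finset.sum_pair hne, Pi.smul_apply, Pi.smul_apply, hcoef, hcoef, hn1eq, smul_eq_mul,
        smul_eq_mul]
      push_cast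
      ring
    · intro ξ _ hξ
      have : ξ ∉ B := by
        intro hξB
        apply hξ
        rcases hall ξ hξB with rfl | rfl
        · exact Finset.mem_insert_self _ _
        · exact Finset.mem_insert_of_mem (Finset.mem_singleton_self _)
      rw [Pi.smul_apply, hcoef, hout ξ this]
      simp
  -- the sign
  have hn2eq : n χ₂ = 1 := by
    have h9 : n χ₂ = 1 ∨ n χ₂ = -1 := by
      have : (n χ₂ - 1) * (n χ₂ + 1) = 0 := by linarith [hn2sq]
      rcases mul_eq_zero.mp this with h | h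
      · left; omega
      · right; omega
    rcases h9 with h | h
    · exact h
    · exfalso
      have h10 := hexp2 1
      rw [pRegularPart_of_regular _ (by rw [orderOf_one]; norm_num), h, apply_one_eq_charDegree,
        apply_one_eq_charDegree] at h10
      push_cast at h10
      have h11 : (Cfsg.charDegree (χ₁ : G → ℂ) : ℂ) = -(Cfsg.charDegree (χ₂ : G → ℂ) : ℂ) := by
        linear_combination 2 * h10
      have h12 : ((Cfsg.charDegree (χ₁ : G → ℂ) + Cfsg.charDegree (χ₂ : G → ℂ) : ℕ) : ℂ) = 0 := by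
        push_cast
        rw [h11]
        ring
      have h13 : Cfsg.charDegree (χ₁ : G → ℂ) + Cfsg.charDegree (χ₂ : G → ℂ) = 0 := by
        exact_mod_cast h12
      have := charDegree_ne_zero χ₁
      omega
  rw [hn2eq] at hexp2
  constructor
  · intro g hg
    have h10 := hexp2 g
    rw [pRegularPart_of_regular _ hg] at h10
    push_cast at h10
    linear_combination 2 * h10
  · intro g hg
    have h10 := hexp2 g
    rw [pRegularPart_of_singular _ hg] at h10
    push_cast at h10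
    linear_combination (-2 : ℂ) * h10


/-- an irreducible character takes the value `± χ(1)` at a central involution -/
theorem apply_central_involution (χ : Cfsg.IrrCharacter G) {x : G} (hx : x ∈ Subgroup.center G)
    (hx2 : x * x = 1) :
    (χ : G → ℂ) x = (χ : G → ℂ) 1 ∨ (χ : G → ℂ) x = -(χ : G → ℂ) 1 := by
  have h := Cfsg.Agent.Lib.Helper7.irr_mul_of_mem_center χ hx x
  rw [hx2] at h
  have : ((χ : G → ℂ) x - (χ : G → ℂ) 1) * ((χ : G → ℂ) x + (χ : G → ℂ) 1) = 0 := by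
    linear_combination -h
  rcases mul_eq_zero.mp this with h' | h'
  · left
    linear_combination h'
  · right
    linear_combination h'

/-- a `2`-block of defect at most one of a group with a central involution `x`, containing a
character with `x` in its kernel: it has exactly one other character -/
theorem block_of_central_involution (hM : Cfsg.IsPModular 2 M) (b : Set (Cfsg.IrrCharacter G))
    (hb : Cfsg.IsPBlock M b) (hd : Cfsg.blockDefect 2 b ≤ 1) {x : G}
    (hx2 : orderOf x = 2) (θ : Cfsg.IrrCharacter G) (hθ : θ ∈ b)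
    (hθx : (θ : G → ℂ) x = (θ : G → ℂ) 1) :
    ∃ θ' ∈ b, θ' ≠ θ ∧ (∀ ξ ∈ b, ξ = θ ∨ ξ = θ') ∧
      (∀ g : G, ¬ 2 ∣ orderOf g → (θ : G → ℂ) g = (θ' : G → ℂ) g) ∧
      (∀ g : G, 2 ∣ orderOf g → (θ : G → ℂ) g = -(θ' : G → ℂ) g) := by
  classical
  have hxs : 2 ∣ orderOf x := by rw [hx2]
  have h1r : ¬ 2 ∣ orderOf (1 : G) := by rw [orderOf_one]; norm_num
  have hw := weak_block_orthogonality hM b hb 1 x h1r hxs
  have hex : ∃ θ' ∈ b, θ' ≠ θ := by
    by_contra hcon
    push Not at hcon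
    have hbs : b = {θ} := by
      ext ξ
      constructor
      · intro hξ
        exact hcon ξ hξ
      · intro hξ
        rw [Set.mem_singleton_iff.mp hξ]
        exact hθ
    rw [hbs, finsum_mem_singleton, hθx] at hw
    have h1 : (θ : G → ℂ) 1 ≠ 0 := IsIrrCharacter.apply_one_ne_zero θ.2
    rcases mul_eq_zero.mp hw with h | h
    · exact h1 h
    · exact h1 ((map_eq_zero _).mp h)
  obtain ⟨θ', hθ', hne⟩ := hex
  obtain ⟨hall, hreg, hsing⟩ := pair_of_defect_one hM b hb hd θ θ' hθ hθ' (Ne.symm hne)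
  exact ⟨θ', hθ', hne, hall, hreg, hsing⟩


theorem sum_ite_mul_conj_eq_zero {κ : Type*} [Fintype κ] (P : κ → Prop) [DecidablePred P]
    (z : κ → ℂ) (h : ∑ j, (if P j then z j * conj (z j) else 0) = 0) : ∀ j, P j → z j = 0 := by
  have h1 := Cfsg.Agent.Lib.Helper7.forall_eq_zero_of_sum_mul_conj
    (fun j => if P j then z j else 0) (by
      refine Eq.trans ?_ h
      apply Finset.sum_congr rfl
      intro j _
      by_cases hj : P j
      · simp only [if_pos hj]
      · simp only [if_neg hj, zero_mul])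
  intro j hj
  have := h1 j
  simpa only [if_pos hj] using this

/-- **2-blocks with a defect group of order two** -/
theorem defect_two_main (hM : Cfsg.IsPModular 2 M) (x : G) (hx : orderOf x = 2)
    (B : Set (Cfsg.IrrCharacter G)) (hB : Cfsg.IsPBlock M B)
    (hBD : Cfsg.IsDefectGroup 2 M B (Subgroup.zpowers x))
    (b : Set (Cfsg.IrrCharacter ↥(Subgroup.centralizer ({x} : Set G))))
    (hb : Cfsg.IsInducedBlock M (Subgroup.centralizer ({x} : Set G)) b B)
    (θ : Cfsg.IrrCharacter ↥(Subgroup.centralizer ({x} : Set G))) (hθ : θ ∈ b)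
    (hθx : ∀ z : ↥(Subgroup.centralizer ({x} : Set G)), (z : G) = x →
      (θ : ↥(Subgroup.centralizer ({x} : Set G)) → ℂ) z
        = (θ : ↥(Subgroup.centralizer ({x} : Set G)) → ℂ) 1) :
    ∃ χ₁ ∈ B, ∃ χ₂ ∈ B, χ₁ ≠ χ₂ ∧ (∀ ξ ∈ B, ξ = χ₁ ∨ ξ = χ₂) ∧
      (∀ g : G, ¬ 2 ∣ orderOf g → (χ₁ : G → ℂ) g = (χ₂ : G → ℂ) g) ∧
      ∃ ε : ℤ, (ε = 1 ∨ ε = -1) ∧ ∀ y : ↥(Subgroup.centralizer ({x} : Set G)),
        ¬ 2 ∣ orderOf y →
        (χ₁ : G → ℂ) (x * y) = (ε : ℂ) * (θ : ↥(Subgroup.centralizer ({x} : Set G)) → ℂ) y ∧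
        (χ₂ : G → ℂ) (x * y)
          = ((-ε : ℤ) : ℂ) * (θ : ↥(Subgroup.centralizer ({x} : Set G)) → ℂ) y := by
  classical
  haveI : Fact (Nat.Prime 2) := ⟨Nat.prime_two⟩
  haveI : Fintype (Cfsg.IrrCharacter G) := Fintype.ofFinite _
  letI : Fintype ↥(Subgroup.centralizer ({x} : Set G)) := Fintype.ofFinite _
  haveI : Fintype (Cfsg.IrrCharacter ↥(Subgroup.centralizer ({x} : Set G))) := Fintype.ofFinite _
  have hxpow : ∃ k : ℕ, orderOf x = 2 ^ k := ⟨1, by rw [hx, pow_one]⟩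
  have hdB : Cfsg.blockDefect 2 B = 1 := by
    have h1 := Cfsg.Agent.Lib.Helper7.card_of_isDefectGroup hM B hB _ hBD
    rw [Nat.card_zpowers, hx] at h1
    have h2 : 2 ^ 1 = 2 ^ Cfsg.blockDefect 2 B := by rw [pow_one]; exact h1
    exact (Nat.pow_right_injective (le_refl 2) h2).symm
  have hdb : Cfsg.blockDefect 2 b ≤ 1 := by
    rw [← hdB]
    exact Cfsg.Agent.S4717.blockDefect_le_of_isInducedBlock hM _ b B hb
  obtain ⟨xC, hxC⟩ : ∃ xC : ↥(Subgroup.centralizer ({x} : Set G)), (xC : G) = x :=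
    ⟨⟨x, Subgroup.mem_centralizer_singleton_iff.mpr rfl⟩, rfl⟩
  have hxC2 : orderOf xC = 2 := by
    rw [← Subgroup.orderOf_coe, hxC, hx]
  obtain ⟨θ', hθ', hneθ, hallb, hregb, hsingb⟩ :=
    block_of_central_involution hM b hb.1 hdb hxC2 θ hθ (hθx xC hxC)
  have h1C : ¬ 2 ∣ orderOf (1 : ↥(Subgroup.centralizer ({x} : Set G))) := by
    rw [orderOf_one]; norm_num
  have h1G : ¬ 2 ∣ orderOf (1 : G) := by
    rw [orderOf_one]; norm_num
  have hθ1 : (θ : ↥(Subgroup.centralizer ({x} : Set G)) → ℂ) 1 ≠ 0 :=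
    IsIrrCharacter.apply_one_ne_zero θ.2
  -- members of `b` induce `B`
  have hSb : ∀ ψ ∈ b, Cfsg.IsInducedBlock M (Subgroup.centralizer ({x} : Set G))
      (Cfsg.blockOf M (ψ : ↥(Subgroup.centralizer ({x} : Set G)) → ℂ)) B := by
    intro ψ hψ
    rw [← eq_blockOf_of_mem hM hb.1 hψ]
    exact hb
  -- section orthogonality at `1`
  have hso := Cfsg.Agent.Lib.Helper7.section_block_orthogonality hM x hxpow B hB
    (1 : ↥(Subgroup.centralizer ({x} : Set G))) 1 h1C h1C
  simp only [Subgroup.coe_one, mul_one] at hso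
  -- Osima
  have hos := weak_block_orthogonality hM B hB 1 x h1G (by rw [hx])
  -- two characters
  have hex : ∃ χ₁ ∈ B, ∃ χ₂ ∈ B, χ₁ ≠ χ₂ := by
    by_contra hcon
    push Not at hcon
    obtain ⟨χ, hχ⟩ := isPBlock_nonempty hM hB
    have hBs : B = {χ} := by
      ext ξ
      constructor
      · intro hξ
        exact (hcon χ hχ ξ hξ).symm
      · intro hξ
        rw [Set.mem_singleton_iff.mp hξ]
        exact hχ
    rw [hBs, finsum_mem_singleton] at hos
    have hχx : (χ : G → ℂ) x = 0 := by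
      rcases mul_eq_zero.mp hos with h | h
      · exact absurd h (IsIrrCharacter.apply_one_ne_zero χ.2)
      · exact (map_eq_zero _).mp h
    have hL : ∑ ζ : Cfsg.IrrCharacter G, (if ζ ∈ B then
        (ζ : G → ℂ) x * conj ((ζ : G → ℂ) x) else 0) = 0 := by
      apply Finset.sum_eq_zero
      intro ζ _
      by_cases hζ : ζ ∈ B
      · rw [if_pos hζ]
        rw [hBs] at hζ
        rw [Set.mem_singleton_iff.mp hζ, hχx, zero_mul]
      · rw [if_neg hζ]
    rw [hL] at hso
    exact hθ1 (sum_ite_mul_conj_eq_zero _ _ hso.symm θ (hSb θ hθ))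
  obtain ⟨χ₁, h₁, χ₂, h₂, hne⟩ := hex
  obtain ⟨hall, hreg, hsing⟩ := pair_of_defect_one hM B hB (le_of_eq hdB) χ₁ χ₂ h₁ h₂ hne
  refine ⟨χ₁, h₁, χ₂, h₂, hne, hall, hreg, ?_⟩
  -- `x y` is `2`-singular for `y` in the centralizer
  have hxy : ∀ y : ↥(Subgroup.centralizer ({x} : Set G)), ¬ 2 ∣ orderOf y →
      2 ∣ orderOf (x * (y : G)) := by
    intro y hy
    have hy' : ¬ 2 ∣ orderOf (y : G) := by rwa [Subgroup.orderOf_coe]
    have hc : Commute x (y : G) := (Subgroup.mem_centralizer_singleton_iff.mp y.2).symm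
    have hcop : Nat.Coprime (orderOf x) (orderOf (y : G)) := by
      rw [hx]
      exact (Nat.Prime.coprime_iff_not_dvd Nat.prime_two).mpr hy'
    rw [hc.orderOf_mul_eq_mul_orderOf_of_coprime hcop, hx]
    exact dvd_mul_right 2 _
  -- the spans
  have hspan := Cfsg.Agent.Lib.Helper7.span_regShift_eq hM B hB x hxpow
  have hshift2 : Cfsg.Agent.Lib.Helper7.regShift 2 x (χ₂ : G → ℂ)
      = -Cfsg.Agent.Lib.Helper7.regShift 2 x (χ₁ : G → ℂ) := by
    funext y
    rw [Pi.neg_apply, Cfsg.Agent.Lib.Helper7.regShift_apply,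
      Cfsg.Agent.Lib.Helper7.regShift_apply]
    by_cases hy : ¬ 2 ∣ orderOf y
    · rw [if_pos hy, if_pos hy, hsing _ (hxy y hy), neg_neg]
    · rw [if_neg hy, if_neg hy, neg_zero]
  have hle : Submodule.span ℂ ((fun ζ : Cfsg.IrrCharacter G =>
      Cfsg.Agent.Lib.Helper7.regShift 2 x (ζ : G → ℂ)) '' B)
      ≤ Submodule.span ℂ {Cfsg.Agent.Lib.Helper7.regShift 2 x (χ₁ : G → ℂ)} := by
    rw [Submodule.span_le]
    rintro _ ⟨ζ, hζ, rfl⟩
    rcases hall ζ hζ with rfl | rfl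
    · exact Submodule.subset_span rfl
    · show Cfsg.Agent.Lib.Helper7.regShift 2 x (ζ : G → ℂ) ∈ _
      rw [hshift2]
      exact Submodule.neg_mem _ (Submodule.subset_span rfl)
  have hmem : ∀ ψ : Cfsg.IrrCharacter ↥(Subgroup.centralizer ({x} : Set G)),
      Cfsg.IsInducedBlock M (Subgroup.centralizer ({x} : Set G))
        (Cfsg.blockOf M (ψ : ↥(Subgroup.centralizer ({x} : Set G)) → ℂ)) B →
      ∃ c : ℂ, Cfsg.pRegularPart 2 (ψ : ↥(Subgroup.centralizer ({x} : Set G)) → ℂ)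
        = c • Cfsg.Agent.Lib.Helper7.regShift 2 x (χ₁ : G → ℂ) := by
    intro ψ hψ
    have h1 : Cfsg.pRegularPart 2 (ψ : ↥(Subgroup.centralizer ({x} : Set G)) → ℂ)
        ∈ Submodule.span ℂ {Cfsg.Agent.Lib.Helper7.regShift 2 x (χ₁ : G → ℂ)} := by
      apply hle
      rw [hspan]
      exact Submodule.subset_span ⟨ψ, hψ, rfl⟩
    obtain ⟨c, hc⟩ := Submodule.mem_span_singleton.mp h1
    exact ⟨c, hc.symm⟩
  obtain ⟨c₀, hc₀⟩ := hmem θ (hSb θ hθ)
  have hc₀ne : c₀ ≠ 0 := by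
    rintro rfl
    rw [zero_smul] at hc₀
    have := congrFun hc₀ 1
    rw [pRegularPart_of_regular _ h1C] at this
    exact hθ1 this
  -- the value of `χ₁` on the section of `x`
  have hval : ∀ y : ↥(Subgroup.centralizer ({x} : Set G)), ¬ 2 ∣ orderOf y →
      (χ₁ : G → ℂ) (x * y) = c₀⁻¹ * (θ : ↥(Subgroup.centralizer ({x} : Set G)) → ℂ) y := by
    intro y hy
    have h1 := congrFun hc₀ y
    rw [pRegularPart_of_regular _ hy, Pi.smul_apply, Cfsg.Agent.Lib.Helper7.regShift_apply,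
      if_pos hy, smul_eq_mul] at h1
    rw [h1]
    field_simp
  -- the characters inducing `B` lie in `b`
  have hSsub : ∀ ψ : Cfsg.IrrCharacter ↥(Subgroup.centralizer ({x} : Set G)),
      Cfsg.IsInducedBlock M (Subgroup.centralizer ({x} : Set G))
        (Cfsg.blockOf M (ψ : ↥(Subgroup.centralizer ({x} : Set G)) → ℂ)) B → ψ ∈ b := by
    intro ψ hψ
    by_contra hψb
    obtain ⟨c, hc⟩ := hmem ψ hψ
    have h0 := classInner_pRegularPart_eq_zero hM b hb.1 θ ψ hθ hψb
    rw [classInner_def] at h0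
    have hC0 : (Nat.card ↥(Subgroup.centralizer ({x} : Set G)) : ℂ) ≠ 0 :=
      Nat.cast_ne_zero.mpr Nat.card_pos.ne'
    have h1 : ∑ g : ↥(Subgroup.centralizer ({x} : Set G)),
        Cfsg.pRegularPart 2 (θ : ↥(Subgroup.centralizer ({x} : Set G)) → ℂ) g
          * conj ((ψ : ↥(Subgroup.centralizer ({x} : Set G)) → ℂ) g) = 0 := by
      rcases mul_eq_zero.mp h0 with h | h
      · exact absurd (inv_eq_zero.mp h) hC0
      · exact h
    have h2 : ∀ g : ↥(Subgroup.centralizer ({x} : Set G)),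
        Cfsg.pRegularPart 2 (θ : ↥(Subgroup.centralizer ({x} : Set G)) → ℂ) g
          * conj ((ψ : ↥(Subgroup.centralizer ({x} : Set G)) → ℂ) g)
        = conj (c * c₀⁻¹)
          * (Cfsg.pRegularPart 2 (θ : ↥(Subgroup.centralizer ({x} : Set G)) → ℂ) g
            * conj (Cfsg.pRegularPart 2 (θ : ↥(Subgroup.centralizer ({x} : Set G)) → ℂ) g)) := by
      intro g
      by_cases hg : 2 ∣ orderOf g
      · rw [pRegularPart_of_singular _ hg, zero_mul, zero_mul, mul_zero]
      · have e1 := congrFun hc g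
        have e2 := congrFun hc₀ g
        rw [pRegularPart_of_regular _ hg, Pi.smul_apply, smul_eq_mul] at e1
        rw [Pi.smul_apply, smul_eq_mul] at e2
        rw [e1, e2, map_mul, map_mul, map_mul, map_inv₀]
        have hcc : conj c₀ ≠ 0 := (map_ne_zero _).mpr hc₀ne
        field_simp
    rw [Finset.sum_congr rfl (fun g _ => h2 g), ← Finset.mul_sum] at h1
    rcases mul_eq_zero.mp h1 with h | h
    · have hc0 : c = 0 := by
        have := (map_eq_zero _).mp h
        rcases mul_eq_zero.mp this with h' | h'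
        · exact h'
        · exact absurd (inv_eq_zero.mp h') hc₀ne
      rw [hc0, zero_smul] at hc
      have := congrFun hc 1
      rw [pRegularPart_of_regular _ h1C] at this
      exact IsIrrCharacter.apply_one_ne_zero ψ.2 this
    · have := Cfsg.Agent.Lib.Helper7.forall_eq_zero_of_sum_mul_conj _ h 1
      rw [pRegularPart_of_regular _ h1C] at this
      exact hθ1 this
  -- the two sides of section orthogonality
  have hL : ∑ ζ : Cfsg.IrrCharacter G, (if ζ ∈ B then
      (ζ : G → ℂ) x * conj ((ζ : G → ℂ) x) else 0)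
      = 2 * ((χ₁ : G → ℂ) x * conj ((χ₁ : G → ℂ) x)) := by
    rw [← Finset.sum_subset (Finset.subset_univ ({χ₁, χ₂} : Finset (Cfsg.IrrCharacter G)))]
    · rw [Finset.sum_pair hne, if_pos h₁, if_pos h₂]
      have h3 : (χ₂ : G → ℂ) x = -(χ₁ : G → ℂ) x := by
        rw [hsing x (by rw [hx]), neg_neg]
      rw [h3, map_neg]
      ring
    · intro ξ _ hξ
      have : ξ ∉ B := by
        intro hξB
        apply hξ
        rcases hall ξ hξB with rfl | rfl
        · exact Finset.mem_insert_self _ _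
        · exact Finset.mem_insert_of_mem (Finset.mem_singleton_self _)
      rw [if_neg this]
  have hR : ∑ ψ : Cfsg.IrrCharacter ↥(Subgroup.centralizer ({x} : Set G)),
      (if Cfsg.IsInducedBlock M (Subgroup.centralizer ({x} : Set G))
          (Cfsg.blockOf M (ψ : ↥(Subgroup.centralizer ({x} : Set G)) → ℂ)) B
        then (ψ : ↥(Subgroup.centralizer ({x} : Set G)) → ℂ) 1
          * conj ((ψ : ↥(Subgroup.centralizer ({x} : Set G)) → ℂ) 1) else 0)
      = 2 * ((θ : ↥(Subgroup.centralizer ({x} : Set G)) → ℂ) 1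
        * conj ((θ : ↥(Subgroup.centralizer ({x} : Set G)) → ℂ) 1)) := by
    rw [← Finset.sum_subset (Finset.subset_univ
      ({θ, θ'} : Finset (Cfsg.IrrCharacter ↥(Subgroup.centralizer ({x} : Set G)))))]
    · rw [Finset.sum_pair (Ne.symm hneθ), if_pos (hSb θ hθ), if_pos (hSb θ' hθ'),
        ← hregb 1 h1C]
      ring
    · intro ξ _ hξ
      have : ¬ Cfsg.IsInducedBlock M (Subgroup.centralizer ({x} : Set G))
          (Cfsg.blockOf M (ξ : ↥(Subgroup.centralizer ({x} : Set G)) → ℂ)) B := by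
        intro hξS
        apply hξ
        rcases hallb ξ (hSsub ξ hξS) with rfl | rfl
        · exact Finset.mem_insert_self _ _
        · exact Finset.mem_insert_of_mem (Finset.mem_singleton_self _)
      rw [if_neg this]
  rw [hL, hR] at hso
  -- `χ₁(x) = ± θ(1)`
  have hχreal : conj ((χ₁ : G → ℂ) x) = (χ₁ : G → ℂ) x := by
    rw [← IrrCharacter.apply_inv]
    have : x⁻¹ = x := by
      have h2 : x ^ 2 = 1 := by rw [← hx]; exact pow_orderOf_eq_one x
      rw [pow_two] at h2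
      exact inv_eq_of_mul_eq_one_left h2
    rw [this]
  have hθreal : conj ((θ : ↥(Subgroup.centralizer ({x} : Set G)) → ℂ) 1)
      = (θ : ↥(Subgroup.centralizer ({x} : Set G)) → ℂ) 1 := by
    rw [apply_one_eq_charDegree]
    exact Complex.conj_natCast _
  rw [hχreal, hθreal] at hso
  have hsq : ((χ₁ : G → ℂ) x - (θ : ↥(Subgroup.centralizer ({x} : Set G)) → ℂ) 1)
      * ((χ₁ : G → ℂ) x + (θ : ↥(Subgroup.centralizer ({x} : Set G)) → ℂ) 1) = 0 := by
    have h2 : (2 : ℂ) ≠ 0 := two_ne_zero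
    have := mul_left_cancel₀ h2 hso
    linear_combination this
  have hx1 : (χ₁ : G → ℂ) x = c₀⁻¹ * (θ : ↥(Subgroup.centralizer ({x} : Set G)) → ℂ) 1 := by
    have := hval 1 h1C
    rwa [Subgroup.coe_one, mul_one] at this
  have hcinv : c₀⁻¹ = 1 ∨ c₀⁻¹ = -1 := by
    rcases mul_eq_zero.mp hsq with h | h
    · left
      rw [hx1] at h
      have : (c₀⁻¹ - 1) * (θ : ↥(Subgroup.centralizer ({x} : Set G)) → ℂ) 1 = 0 := by
        linear_combination h
      rcases mul_eq_zero.mp this with h' | h'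
      · linear_combination h'
      · exact absurd h' hθ1
    · right
      rw [hx1] at h
      have : (c₀⁻¹ + 1) * (θ : ↥(Subgroup.centralizer ({x} : Set G)) → ℂ) 1 = 0 := by
        linear_combination h
      rcases mul_eq_zero.mp this with h' | h'
      · linear_combination h'
      · exact absurd h' hθ1
  rcases hcinv with hc | hc
  · refine ⟨1, Or.inl rfl, fun y hy => ⟨?_, ?_⟩⟩
    · rw [hval y hy, hc]
      push_cast
      ring
    · rw [← neg_neg ((χ₂ : G → ℂ) (x * (y : G))), ← hsing _ (hxy y hy), hval y hy, hc]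
      push_cast
      ring
  · refine ⟨-1, Or.inr rfl, fun y hy => ⟨?_, ?_⟩⟩
    · rw [hval y hy, hc]
      push_cast
      ring
    · rw [← neg_neg ((χ₂ : G → ℂ) (x * (y : G))), ← hsing _ (hxy y hy), hval y hy, hc]
      push_cast
      ring

end DefectTwo

end Cfsg.Agent.Lib.Helper24
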