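import Mathlib
import Cfsg.Prelude.Def_Characters
import Cfsg.Agent.Lib.Helper2.Orthogonality
import Cfsg.Agent.Lib.Helper2.PermLemma
import Cfsg.Agent.Lib.Helper2.Expansion
import Cfsg.Agent.Lib.Helper25.GenOrtho

/-!
# Fully ramified characters (helper24 library)

`χ ∈ Irr(H)` is fully ramified over `Z ⊴ H`: `χ_Z = e θ`, `e² = |H : Z|`.

* `fr_vanish`: `χ` vanishes off `Z`;
* `fr_sum_commutator`: `∑_h χ(g h g⁻¹ h⁻¹) = 0` for `g ∉ Z`;
* `fr_gen_orth`: generalized orthogonality on `Z` in terms of `χ`;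
* `fr_no_self_centralizing_cyclic`: `H/Z` has no self-centralizing cyclic subgroup when `Z ≠ H`.
-/

set_option autoImplicit false

namespace Cfsg.Agent.Lib.Helper24

open Cfsg.Agent.Lib.Helper2
open scoped ComplexConjugate

section FullyRamified

variable {H : Type*} [Group H] [Fintype H] (Z : Subgroup H) [hZn : Z.Normal] [Fintype Z]
  (χ : Cfsg.IrrCharacter H) (θ : Cfsg.IrrCharacter Z) (e : ℕ)

omit hZn in
/-- `∑_{z ∈ Z} |χ(z)|² = |H|` -/
theorem fr_sum_sq (he : e ^ 2 = Z.index)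
    (hχ : ∀ z : Z, (χ : H → ℂ) z = (e : ℂ) * (θ : Z → ℂ) z) :
    ∑ z : Z, (χ : H → ℂ) z * conj ((χ : H → ℂ) z) = (Nat.card H : ℂ) := by
  have h1 := classInner_irrCharacter_self θ
  rw [classInner_def] at h1
  have hZne : (Nat.card Z : ℂ) ≠ 0 := Nat.cast_ne_zero.mpr (Nat.card_pos (α := Z)).ne'
  have h2 : ∑ z : Z, (θ : Z → ℂ) z * conj ((θ : Z → ℂ) z) = (Nat.card Z : ℂ) := by
    rw [inv_mul_eq_iff_eq_mul₀ hZne] at h1
    rw [h1, mul_one]
  have h3 : ∀ z : Z, (χ : H → ℂ) z * conj ((χ : H → ℂ) z)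
      = (e : ℂ) ^ 2 * ((θ : Z → ℂ) z * conj ((θ : Z → ℂ) z)) := by
    intro z
    rw [hχ z, map_mul, Complex.conj_natCast]
    ring
  rw [Finset.sum_congr rfl (fun z _ => h3 z), ← Finset.mul_sum, h2, ← Nat.cast_pow, he,
    ← Nat.cast_mul, mul_comm, Subgroup.card_mul_index]

omit hZn in
/-- a fully ramified character vanishes off `Z` -/
theorem fr_vanish (he : e ^ 2 = Z.index)
    (hχ : ∀ z : Z, (χ : H → ℂ) z = (e : ℂ) * (θ : Z → ℂ) z) (h : H) (hh : h ∉ Z) :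
    (χ : H → ℂ) h = 0 := by
  classical
  have h1 := classInner_irrCharacter_self χ
  rw [classInner_def] at h1
  have hHne : (Nat.card H : ℂ) ≠ 0 := Nat.cast_ne_zero.mpr (Nat.card_pos (α := H)).ne'
  have h2 : ∑ x : H, (χ : H → ℂ) x * conj ((χ : H → ℂ) x) = (Nat.card H : ℂ) := by
    rw [inv_mul_eq_iff_eq_mul₀ hHne] at h1
    rw [h1, mul_one]
  have h3 := fr_sum_sq Z χ θ e he hχ
  have h4 : ∑ x : H, (χ : H → ℂ) x * conj ((χ : H → ℂ) x)
      = ∑ x ∈ Finset.univ.filter (fun x : H => x ∈ Z), (χ : H → ℂ) x * conj ((χ : H → ℂ) x)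
        + ∑ x ∈ Finset.univ.filter (fun x : H => ¬ x ∈ Z),
            (χ : H → ℂ) x * conj ((χ : H → ℂ) x) :=
    (Finset.sum_filter_add_sum_filter_not _ _ _).symm
  have h5 : ∑ x ∈ Finset.univ.filter (fun x : H => x ∈ Z),
      (χ : H → ℂ) x * conj ((χ : H → ℂ) x)
      = ∑ z : Z, (χ : H → ℂ) z * conj ((χ : H → ℂ) z) :=
    Finset.sum_subtype _ (fun x => by simp) _
  have h6 : ∑ x ∈ Finset.univ.filter (fun x : H => ¬ x ∈ Z),
      (χ : H → ℂ) x * conj ((χ : H → ℂ) x) = 0 := by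
    rw [h4, h5, h3] at h2
    exact add_eq_left.mp h2
  have h7 : ∀ x : H, (χ : H → ℂ) x * conj ((χ : H → ℂ) x)
      = ((Complex.normSq ((χ : H → ℂ) x) : ℝ) : ℂ) := fun x => Complex.mul_conj _
  rw [Finset.sum_congr rfl (fun x _ => h7 x), ← Complex.ofReal_sum, Complex.ofReal_eq_zero] at h6
  have h8 := (Finset.sum_eq_zero_iff_of_nonneg (fun x _ => Complex.normSq_nonneg _)).mp h6 h
    (by simp [hh])
  exact Complex.normSq_eq_zero.mp h8

omit hZn in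
/-- `∑_h χ(g h g⁻¹ h⁻¹) = 0` for `g ∉ Z` -/
theorem fr_sum_commutator (he : e ^ 2 = Z.index)
    (hχ : ∀ z : Z, (χ : H → ℂ) z = (e : ℂ) * (θ : Z → ℂ) z) (g : H) (hg : g ∉ Z) :
    ∑ h : H, (χ : H → ℂ) (g * (h * g⁻¹ * h⁻¹)) = 0 := by
  rw [Cfsg.Agent.Lib.Helper25.sum_char_mul_conj χ.2 g g⁻¹, fr_vanish Z χ θ e he hχ g hg]
  simp

omit hZn in
/-- generalized orthogonality on `Z`, in terms of `χ` -/
theorem fr_gen_orth (he : e ^ 2 = Z.index)
    (hχ : ∀ z : Z, (χ : H → ℂ) z = (e : ℂ) * (θ : Z → ℂ) z) (a b : Z) :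
    ∑ z : Z, (χ : H → ℂ) ((a : H) * ((z : H) * (b : H) * (z : H)⁻¹))
      = (Nat.card Z : ℂ) * (χ : H → ℂ) a * (χ : H → ℂ) b / (χ : H → ℂ) 1 := by
  have he0 : (e : ℂ) ≠ 0 := by
    intro h0
    have : e = 0 := Nat.cast_eq_zero.mp h0
    rw [this] at he
    exact Subgroup.index_ne_zero_of_finite (by simpa using he.symm)
  have hθ1 : (θ : Z → ℂ) 1 ≠ 0 := IsIrrCharacter.apply_one_ne_zero θ.2
  have h1 : ∀ z : Z, (χ : H → ℂ) ((a : H) * ((z : H) * (b : H) * (z : H)⁻¹))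
      = (e : ℂ) * (θ : Z → ℂ) (a * (z * b * z⁻¹)) := by
    intro z
    rw [← hχ]
    rfl
  rw [Finset.sum_congr rfl (fun z _ => h1 z), ← Finset.mul_sum,
    Cfsg.Agent.Lib.Helper25.sum_char_mul_conj θ.2 a b, hχ a, hχ b]
  have h2 : (χ : H → ℂ) 1 = (e : ℂ) * (θ : Z → ℂ) 1 := hχ 1
  rw [h2]
  field_simp

/-- if `⟨ḡ⟩` is self-centralizing in `H/Z` and `g ∉ Z`, then `∑_{z ∈ Z} χ(g z g⁻¹ z⁻¹) = 0` -/
theorem fr_sum_Z_commutator (he : e ^ 2 = Z.index)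
    (hχ : ∀ z : Z, (χ : H → ℂ) z = (e : ℂ) * (θ : Z → ℂ) z)
    (C : Subgroup (H ⧸ Z)) (hcent : Subgroup.centralizer (C : Set (H ⧸ Z)) = C)
    (g : H) (hg : g ∉ Z)
    (hgen : ∀ q ∈ C, q ∈ Subgroup.zpowers (QuotientGroup.mk g : H ⧸ Z))
    (hgC : (QuotientGroup.mk g : H ⧸ Z) ∈ C) :
    ∑ z : Z, (χ : H → ℂ) (g * ((z : H) * g⁻¹ * (z : H)⁻¹)) = 0 := by
  classical
  obtain ⟨n, hn⟩ : ∃ n : ℕ, n = orderOf (QuotientGroup.mk g : H ⧸ Z) := ⟨_, rfl⟩
  have hnpos : 0 < n := hn ▸ orderOf_pos _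
  obtain ⟨F, hF⟩ : ∃ F : H → ℂ, F = fun h => (χ : H → ℂ) (g * (h * g⁻¹ * h⁻¹)) := ⟨_, rfl⟩
  have hcl := IrrCharacter.isClassFunction χ
  -- `F` vanishes outside the preimage of `C`
  have hF0 : ∀ h : H, (QuotientGroup.mk h : H ⧸ Z) ∉ C → F h = 0 := by
    intro h hh
    rw [hF]
    apply fr_vanish Z χ θ e he hχ
    intro hmem
    apply hh
    rw [← hcent, Subgroup.mem_centralizer_iff]
    intro q hq
    obtain ⟨i, rfl⟩ := Subgroup.mem_zpowers_iff.mp (hgen q hq)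
    have h1 : (QuotientGroup.mk g : H ⧸ Z) * QuotientGroup.mk h
        = QuotientGroup.mk h * QuotientGroup.mk g := by
      have h2 : (QuotientGroup.mk (g * (h * g⁻¹ * h⁻¹)) : H ⧸ Z) = 1 :=
        (QuotientGroup.eq_one_iff _).mpr hmem
      simp only [QuotientGroup.mk_mul, QuotientGroup.mk_inv] at h2
      calc (QuotientGroup.mk g : H ⧸ Z) * QuotientGroup.mk h
          = (QuotientGroup.mk g * (QuotientGroup.mk h * (QuotientGroup.mk g)⁻¹
              * (QuotientGroup.mk h)⁻¹)) * (QuotientGroup.mk h * QuotientGroup.mk g) := by group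
        _ = QuotientGroup.mk h * QuotientGroup.mk g := by rw [h2, one_mul]
    exact (Commute.zpow_left (show Commute (QuotientGroup.mk g : H ⧸ Z) (QuotientGroup.mk h)
      from h1) i).eq
  -- invariance
  have hFinv : ∀ (i : ℕ) (z : Z), F (g ^ i * (z : H)) = F (z : H) := by
    intro i z
    rw [hF]
    simp only
    have e1 : g * (g ^ i * (z : H) * g⁻¹ * (g ^ i * (z : H))⁻¹)
        = g ^ i * (g * ((z : H) * g⁻¹ * (z : H)⁻¹)) * (g ^ i)⁻¹ := by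
      have hc : g * g ^ i = g ^ i * g := by rw [← pow_succ', pow_succ]
      rw [mul_inv_rev]
      calc g * (g ^ i * (z : H) * g⁻¹ * ((z : H)⁻¹ * (g ^ i)⁻¹))
          = (g * g ^ i) * ((z : H) * g⁻¹ * (z : H)⁻¹) * (g ^ i)⁻¹ := by group
        _ = g ^ i * (g * ((z : H) * g⁻¹ * (z : H)⁻¹)) * (g ^ i)⁻¹ := by rw [hc]; group
    rw [e1, hcl]
  -- the parametrization
  obtain ⟨φ, hφ⟩ : ∃ φ : Fin n × Z → H, φ = fun x => g ^ (x.1 : ℕ) * (x.2 : H) := ⟨_, rfl⟩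
  have hinj : Function.Injective φ := by
    rintro ⟨i, z⟩ ⟨j, w⟩ hxy
    rw [hφ] at hxy
    simp only at hxy
    have h1 : (QuotientGroup.mk g : H ⧸ Z) ^ (i : ℕ) = (QuotientGroup.mk g : H ⧸ Z) ^ (j : ℕ) := by
      have h2 := congrArg (QuotientGroup.mk : H → H ⧸ Z) hxy
      simp only [QuotientGroup.mk_mul, QuotientGroup.mk_pow] at h2
      rw [(QuotientGroup.eq_one_iff (z : H)).mpr z.2, (QuotientGroup.eq_one_iff (w : H)).mpr w.2,
        mul_one, mul_one] at h2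
      exact h2
    have h3 : (i : ℕ) = (j : ℕ) := by
      apply pow_injOn_Iio_orderOf (x := (QuotientGroup.mk g : H ⧸ Z))
      · rw [Set.mem_Iio, ← hn]; exact i.2
      · rw [Set.mem_Iio, ← hn]; exact j.2
      · exact h1
    have h4 : i = j := Fin.ext h3
    subst h4
    have h5 : (z : H) = (w : H) := mul_left_cancel hxy
    rw [Subtype.ext h5]
  have himage : ∀ h : H, (QuotientGroup.mk h : H ⧸ Z) ∈ C → h ∈ Finset.univ.image φ := by
    intro h hh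
    obtain ⟨k, hk⟩ := Subgroup.mem_zpowers_iff.mp (hgen _ hh)
    have hn0 : (n : ℤ) ≠ 0 := by exact_mod_cast hnpos.ne'
    have hk0 : 0 ≤ k % (n : ℤ) := Int.emod_nonneg k hn0
    have hk1 : k % (n : ℤ) < n := Int.emod_lt_of_pos k (by exact_mod_cast hnpos)
    obtain ⟨i, hi⟩ : ∃ i : ℕ, (i : ℤ) = k % (n : ℤ) := ⟨(k % (n : ℤ)).toNat, Int.toNat_of_nonneg hk0⟩
    have hin : i < n := by
      have : (i : ℤ) < n := by rw [hi]; exact hk1
      exact_mod_cast this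
    have hpow : (QuotientGroup.mk g : H ⧸ Z) ^ i = QuotientGroup.mk h := by
      rw [← hk, ← zpow_natCast, hi, hn, zpow_mod_orderOf]
    have hz : (g ^ i)⁻¹ * h ∈ Z := by
      rw [← QuotientGroup.eq_one_iff, QuotientGroup.mk_mul, QuotientGroup.mk_inv,
        QuotientGroup.mk_pow, hpow, inv_mul_cancel]
    rw [Finset.mem_image]
    refine ⟨(⟨i, hin⟩, ⟨(g ^ i)⁻¹ * h, hz⟩), Finset.mem_univ _, ?_⟩
    rw [hφ]
    simp only
    group
  have h0 := fr_sum_commutator Z χ θ e he hχ g hg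
  have h1 : ∑ h : H, F h = 0 := by
    rw [hF]
    exact h0
  have h2 : ∑ h : H, F h = ∑ h ∈ Finset.univ.image φ, F h :=
    (Finset.sum_subset (Finset.subset_univ _)
      (fun h _ hh => hF0 h (fun hC => hh (himage h hC)))).symm
  have h3 : ∑ h ∈ Finset.univ.image φ, F h = ∑ x : Fin n × Z, F (φ x) :=
    Finset.sum_image (fun x _ y _ hxy => hinj hxy)
  have h4 : ∑ x : Fin n × Z, F (φ x) = (n : ℂ) * ∑ z : Z, F (z : H) := by
    rw [Fintype.sum_prod_type]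
    have h5 : ∀ i : Fin n, ∑ z : Z, F (φ (i, z)) = ∑ z : Z, F (z : H) := by
      intro i
      apply Finset.sum_congr rfl
      intro z _
      rw [hφ]
      exact hFinv i z
    rw [Finset.sum_congr rfl (fun i _ => h5 i), Finset.sum_const, Finset.card_univ,
      Fintype.card_fin, nsmul_eq_mul]
  rw [h2, h3, h4] at h1
  have hn0 : (n : ℂ) ≠ 0 := Nat.cast_ne_zero.mpr hnpos.ne'
  have h6 := (mul_eq_zero.mp h1).resolve_left hn0
  rw [hF] at h6
  exact h6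

/-- **no self-centralizing cyclic subgroups**: if `χ ∈ Irr(H)` is fully ramified over `Z ≠ H`,
then no cyclic subgroup of `H/Z` is its own centralizer -/
theorem fr_no_self_centralizing_cyclic (he : e ^ 2 = Z.index)
    (hχ : ∀ z : Z, (χ : H → ℂ) z = (e : ℂ) * (θ : Z → ℂ) z) (hZ : Z ≠ ⊤)
    (C : Subgroup (H ⧸ Z)) (hC : IsCyclic C) :
    Subgroup.centralizer (C : Set (H ⧸ Z)) ≠ C := by
  classical
  intro hcent
  obtain ⟨c, hc⟩ := hC.exists_generator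
  obtain ⟨g, hg⟩ := QuotientGroup.mk_surjective (c : H ⧸ Z)
  have hgen : ∀ q ∈ C, q ∈ Subgroup.zpowers (QuotientGroup.mk g : H ⧸ Z) := by
    intro q hq
    obtain ⟨i, hi⟩ := Subgroup.mem_zpowers_iff.mp (hc ⟨q, hq⟩)
    rw [Subgroup.mem_zpowers_iff]
    refine ⟨i, ?_⟩
    rw [hg]
    have := congrArg Subtype.val hi
    simpa using this
  have hgC : (QuotientGroup.mk g : H ⧸ Z) ∈ C := by
    rw [hg]
    exact c.2
  have hcl := IrrCharacter.isClassFunction χ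
  by_cases hgZ : g ∈ Z
  · -- then `C` is trivial and `Z = H`
    apply hZ
    rw [eq_top_iff]
    intro h _
    have h1 : (QuotientGroup.mk g : H ⧸ Z) = 1 := (QuotientGroup.eq_one_iff g).mpr hgZ
    have hC1 : ∀ q ∈ C, q = 1 := by
      intro q hq
      have := hgen q hq
      rw [h1, Subgroup.zpowers_one_eq_bot, Subgroup.mem_bot] at this
      exact this
    have h2 : (QuotientGroup.mk h : H ⧸ Z) ∈ Subgroup.centralizer (C : Set (H ⧸ Z)) := by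
      rw [Subgroup.mem_centralizer_iff]
      intro q hq
      rw [hC1 q hq, one_mul, mul_one]
    rw [hcent] at h2
    exact (QuotientGroup.eq_one_iff h).mp (hC1 _ h2)
  · have hkey : ∀ z₀ : Z, ∑ z : Z, (χ : H → ℂ)
        ((g * (z₀ : H)) * ((z : H) * (g * (z₀ : H))⁻¹ * (z : H)⁻¹)) = 0 := by
      intro z₀
      have hmk : (QuotientGroup.mk (g * (z₀ : H)) : H ⧸ Z) = QuotientGroup.mk g := by
        rw [QuotientGroup.mk_mul, (QuotientGroup.eq_one_iff (z₀ : H)).mpr z₀.2, mul_one]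
      apply fr_sum_Z_commutator Z χ θ e he hχ C hcent (g * (z₀ : H))
      · intro hmem
        apply hgZ
        have := Z.mul_mem hmem (Z.inv_mem z₀.2)
        rwa [mul_inv_cancel_right] at this
      · rw [hmk]; exact hgen
      · rw [hmk]; exact hgC
    have hsum0 : ∑ z : Z, ∑ z₀ : Z, (χ : H → ℂ)
        ((g * (z₀ : H)) * ((z : H) * (g * (z₀ : H))⁻¹ * (z : H)⁻¹)) = 0 := by
      rw [Finset.sum_comm]
      exact Finset.sum_eq_zero (fun z₀ _ => hkey z₀)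
    have hconjmem : ∀ z : Z, g⁻¹ * (z : H)⁻¹ * g ∈ Z := by
      intro z
      have := hZn.conj_mem _ (Z.inv_mem z.2) g⁻¹
      rwa [inv_inv] at this
    have hterm : ∀ z z₀ : Z, (χ : H → ℂ)
        ((g * (z₀ : H)) * ((z : H) * (g * (z₀ : H))⁻¹ * (z : H)⁻¹))
        = (χ : H → ℂ) (((⟨g⁻¹ * (z : H)⁻¹ * g, hconjmem z⟩ : Z) : H)
          * ((z₀ : H) * (z : H) * (z₀ : H)⁻¹)) := by
      intro z z₀
      have e1 : (g * (z₀ : H)) * ((z : H) * (g * (z₀ : H))⁻¹ * (z : H)⁻¹)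
          = g * (((z₀ : H) * (z : H) * (z₀ : H)⁻¹) * (g⁻¹ * (z : H)⁻¹ * g)) * g⁻¹ := by group
      rw [e1, hcl]
      have e2 : (g⁻¹ * (z : H)⁻¹ * g) * ((z₀ : H) * (z : H) * (z₀ : H)⁻¹)
          = (g⁻¹ * (z : H)⁻¹ * g) * (((z₀ : H) * (z : H) * (z₀ : H)⁻¹) * (g⁻¹ * (z : H)⁻¹ * g))
            * (g⁻¹ * (z : H)⁻¹ * g)⁻¹ := by group
      show _ = (χ : H → ℂ) ((g⁻¹ * (z : H)⁻¹ * g) * ((z₀ : H) * (z : H) * (z₀ : H)⁻¹))
      rw [e2, hcl]
    have hinner : ∀ z : Z, ∑ z₀ : Z, (χ : H → ℂ)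
        ((g * (z₀ : H)) * ((z : H) * (g * (z₀ : H))⁻¹ * (z : H)⁻¹))
        = (Nat.card Z : ℂ) / (χ : H → ℂ) 1
          * ((χ : H → ℂ) z * conj ((χ : H → ℂ) z)) := by
      intro z
      rw [Finset.sum_congr rfl (fun z₀ _ => hterm z z₀),
        fr_gen_orth Z χ θ e he hχ ⟨g⁻¹ * (z : H)⁻¹ * g, hconjmem z⟩ z]
      have e3 : (χ : H → ℂ) ((⟨g⁻¹ * (z : H)⁻¹ * g, hconjmem z⟩ : Z) : H)
          = conj ((χ : H → ℂ) z) := by
        show (χ : H → ℂ) (g⁻¹ * (z : H)⁻¹ * g) = _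
        have e4 : g⁻¹ * (z : H)⁻¹ * g = g⁻¹ * (z : H)⁻¹ * g⁻¹⁻¹ := by rw [inv_inv]
        rw [e4, hcl, IrrCharacter.apply_inv]
      rw [e3]
      ring
    rw [Finset.sum_congr rfl (fun z _ => hinner z), ← Finset.mul_sum,
      fr_sum_sq Z χ θ e he hχ] at hsum0
    have hχ1 : (χ : H → ℂ) 1 ≠ 0 := IsIrrCharacter.apply_one_ne_zero χ.2
    have hZne : (Nat.card Z : ℂ) ≠ 0 := Nat.cast_ne_zero.mpr (Nat.card_pos (α := Z)).ne'
    have hHne : (Nat.card H : ℂ) ≠ 0 := Nat.cast_ne_zero.mpr (Nat.card_pos (α := H)).ne'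
    rcases mul_eq_zero.mp hsum0 with h | h
    · rcases div_eq_zero_iff.mp h with h' | h'
      · exact hZne h'
      · exact hχ1 h'
    · exact hHne h

end FullyRamified

end Cfsg.Agent.Lib.Helper24
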