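import Mathlib
import Cfsg.Agent.Lib.Helper24.FullyRamified
import Cfsg.Agent.Lib.Helper24.CliffordGeneral
import Cfsg.Agent.Lib.Helper25.Constituent
import Cfsg.Agent.Lib.Helper2.QuasiPrim

/-!
# Fully ramified characters: multiplicities in restrictions (helper24 library)

`χ ∈ Irr(H)` fully ramified over `Z`: `χ_Z = e θ`, `e² = |H : Z|`.  For `Z ≤ U ≤ H` and a character
`ν` of `U`: `[χ_U, ν] |U| = e |Z| [θ, ν_Z]` (`mult_eq`), and the arithmetic consequences.
-/

set_option autoImplicit false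

namespace Cfsg.Agent.Lib.Helper24.FRC

open Cfsg Cfsg.Agent.Lib.Helper2 Cfsg.Agent.Lib.Helper24
open scoped ComplexConjugate

section NatInner

variable {G : Type*} [Group G] [Fintype G]

/-- the inner product of two characters, as a natural number -/
noncomputable def natInner (a b : G → ℂ) : ℕ := Nat.floor (Cfsg.classInner a b).re

theorem natInner_cast {a b : G → ℂ} (ha : Cfsg.IsCharacter G a) (hb : Cfsg.IsCharacter G b) :
    (natInner a b : ℂ) = Cfsg.classInner a b := by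
  obtain ⟨n, hn⟩ := classInner_isCharacter_nat ha hb
  unfold natInner
  rw [hn]
  simp

theorem natInner_symm {a b : G → ℂ} (ha : Cfsg.IsCharacter G a) (hb : Cfsg.IsCharacter G b) :
    natInner a b = natInner b a := by
  have h1 := natInner_cast ha hb
  have h2 := natInner_cast hb ha
  rw [← classInner_conj_symm, ← h1, Complex.conj_natCast] at h2
  exact_mod_cast h2.symm

end NatInner

section Mult

variable {H : Type*} [Group H] [Fintype H] (Z : Subgroup H) [Fintype Z]
  (χ : Cfsg.IrrCharacter H) (θ : Cfsg.IrrCharacter Z) (e : ℕ)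

theorem e_pos (he : e ^ 2 = Z.index) : 0 < e := by
  rcases Nat.eq_zero_or_pos e with h | h
  · exfalso
    rw [h] at he
    exact Subgroup.index_ne_zero_of_finite (by simpa using he.symm)
  · exact h

/-- `[χ_U, ν] |U| = e |Z| [θ, ν_Z]` -/
theorem mult_eq (he : e ^ 2 = Z.index)
    (hχ : ∀ z : Z, (χ : H → ℂ) z = (e : ℂ) * (θ : Z → ℂ) z)
    (U : Subgroup H) [Fintype U] (hZU : Z ≤ U) (ν : U → ℂ) :
    Cfsg.classInner (fun u : U => (χ : H → ℂ) u) ν * (Nat.card U : ℂ)
      = (e : ℂ) * (Nat.card Z : ℂ) * Cfsg.classInner (θ : Z → ℂ) (resTo Z U hZU ν) := by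
  rw [classInner_def, classInner_def]
  have hU : (Nat.card U : ℂ) ≠ 0 := by exact_mod_cast Nat.card_pos.ne'
  have hZ : (Nat.card Z : ℂ) ≠ 0 := by exact_mod_cast Nat.card_pos.ne'
  have h1 : ∑ u : U, (χ : H → ℂ) u * conj (ν u)
      = ∑ z : Z, (χ : H → ℂ) (Subgroup.inclusion hZU z) * conj (ν (Subgroup.inclusion hZU z)) := by
    symm
    apply Fintype.sum_of_injective (Subgroup.inclusion hZU) (Subgroup.inclusion_injective hZU)
    · intro u hu
      have : (u : H) ∉ Z := by
        intro h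
        apply hu
        exact ⟨⟨(u : H), h⟩, rfl⟩
      rw [fr_vanish Z χ θ e he hχ _ this, zero_mul]
    · intro z
      rfl
  rw [h1]
  have h2 : ∀ z : Z, (χ : H → ℂ) (Subgroup.inclusion hZU z) * conj (ν (Subgroup.inclusion hZU z))
      = (e : ℂ) * ((θ : Z → ℂ) z * conj (resTo Z U hZU ν z)) := by
    intro z
    have : ((Subgroup.inclusion hZU z : U) : H) = (z : H) := rfl
    rw [this, hχ z, mul_assoc]
    rfl
  rw [Finset.sum_congr rfl (fun z _ => h2 z), ← Finset.mul_sum]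
  field_simp

/-- the natural-number form of `mult_eq` -/
theorem mult_nat (he : e ^ 2 = Z.index)
    (hχ : ∀ z : Z, (χ : H → ℂ) z = (e : ℂ) * (θ : Z → ℂ) z)
    (U : Subgroup H) [Fintype U] (hZU : Z ≤ U) {ν : U → ℂ} (hν : Cfsg.IsCharacter U ν) :
    natInner (fun u : U => (χ : H → ℂ) u) ν * Z.relIndex U
      = e * natInner (resTo Z U hZU ν) (θ : Z → ℂ) := by
  have hχU : Cfsg.IsCharacter U (fun u : U => (χ : H → ℂ) u) :=
    IsCharacter.restrict (IsIrrCharacter.isCharacter χ.2) U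
  have hνZ : Cfsg.IsCharacter Z (resTo Z U hZU ν) := resTo_isCharacter Z U hZU hν
  have hθ : Cfsg.IsCharacter Z (θ : Z → ℂ) := IsIrrCharacter.isCharacter θ.2
  have h1 := mult_eq Z χ θ e he hχ U hZU ν
  rw [← natInner_cast hχU hν, ← natInner_cast hθ hνZ, natInner_symm hθ hνZ,
    Cfsg.Agent.Lib.Helper2.QuasiPrim.card_eq_relIndex_mul hZU] at h1
  have hZ : (Nat.card Z : ℂ) ≠ 0 := by exact_mod_cast Nat.card_pos.ne'
  have h2 : ((natInner (fun u : U => (χ : H → ℂ) u) ν * Z.relIndex U : ℕ) : ℂ) * (Nat.card Z : ℂ)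
      = ((e * natInner (resTo Z U hZU ν) (θ : Z → ℂ) : ℕ) : ℂ) * (Nat.card Z : ℂ) := by
    push_cast at h1 ⊢
    linear_combination h1
  have h3 := mul_right_cancel₀ hZ h2
  exact_mod_cast h3

/-- `|U : Z|` divides `|S : U| f²` when `|U : Z|` is coprime to `|H : S|` -/
theorem relIndex_dvd (he : e ^ 2 = Z.index)
    (hχ : ∀ z : Z, (χ : H → ℂ) z = (e : ℂ) * (θ : Z → ℂ) z)
    (U S : Subgroup H) [Fintype U] (hZU : Z ≤ U) (hUS : U ≤ S)
    (hcop : Nat.Coprime (Z.relIndex U) S.index)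
    {ν : U → ℂ} (hν : Cfsg.IsCharacter U ν) :
    Z.relIndex U ∣ U.relIndex S * natInner (resTo Z U hZU ν) (θ : Z → ℂ) ^ 2 := by
  have h1 := mult_nat Z χ θ e he hχ U hZU hν
  have hidx : Z.index = Z.relIndex U * (U.relIndex S * S.index) := by
    rw [Subgroup.relIndex_mul_index hUS, Subgroup.relIndex_mul_index hZU]
  have hu : 0 < Z.relIndex U := by
    rcases Nat.eq_zero_or_pos (Z.relIndex U) with h | h
    · exfalso
      rw [h, zero_mul] at hidx
      exact Subgroup.index_ne_zero_of_finite hidx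
    · exact h
  have h2 : (natInner (fun u : U => (χ : H → ℂ) u) ν) ^ 2 * Z.relIndex U * Z.relIndex U
      = Z.relIndex U * (S.index * (U.relIndex S * natInner (resTo Z U hZU ν) (θ : Z → ℂ) ^ 2)) := by
    have : (natInner (fun u : U => (χ : H → ℂ) u) ν * Z.relIndex U) ^ 2
        = (e * natInner (resTo Z U hZU ν) (θ : Z → ℂ)) ^ 2 := by rw [h1]
    rw [mul_pow, mul_pow, he, hidx] at this
    nlinarith [this]
  have h3 : (natInner (fun u : U => (χ : H → ℂ) u) ν) ^ 2 * Z.relIndex U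
      = S.index * (U.relIndex S * natInner (resTo Z U hZU ν) (θ : Z → ℂ) ^ 2) := by
    apply Nat.eq_of_mul_eq_mul_left hu
    rw [← h2]
    ring
  have h4 : Z.relIndex U ∣ S.index * (U.relIndex S * natInner (resTo Z U hZU ν) (θ : Z → ℂ) ^ 2) :=
    ⟨natInner (fun u : U => (χ : H → ℂ) u) ν ^ 2, by rw [← h3]; ring⟩
  exact hcop.dvd_of_dvd_mul_left h4

end Mult

end Cfsg.Agent.Lib.Helper24.FRC
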