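import Mathlib
import Cfsg.Agent.Lib.Helper24.FRMult
import Cfsg.Agent.Lib.Helper24.ConjIrr

/-!
# Fully ramified characters: the action of a normalizer on the characters of a subgroup
(helper24 library)
-/

set_option autoImplicit false

namespace Cfsg.Agent.Lib.Helper24.FRC

open Cfsg Cfsg.Agent.Lib.Helper2 Cfsg.Agent.Lib.Helper24
open scoped ComplexConjugate

section Degree

variable {G : Type*} [Group G] [Fintype G]

/-- the degree of a character is the sum of the degrees of its constituents -/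
theorem degree_expansion [Fintype (Cfsg.IrrCharacter G)] {Φ : G → ℂ} (hΦ : Cfsg.IsCharacter G Φ) :
    Cfsg.charDegree Φ
      = ∑ ν : Cfsg.IrrCharacter G, natInner Φ (ν : G → ℂ) * Cfsg.charDegree (ν : G → ℂ) := by
  have h1 := congrFun (classFunction_expansion Φ (IsCharacter.isClassFunction hΦ)) 1
  rw [Finset.sum_apply] at h1
  have h2 : ∀ ν : Cfsg.IrrCharacter G,
      (Cfsg.classInner Φ (ν : G → ℂ) • (ν : G → ℂ)) 1
        = ((natInner Φ (ν : G → ℂ) * Cfsg.charDegree (ν : G → ℂ) : ℕ) : ℂ) := by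
    intro ν
    rw [Pi.smul_apply, smul_eq_mul, ← natInner_cast hΦ (IsIrrCharacter.isCharacter ν.2),
      Cfsg.Agent.Lib.Helper25.char_one_eq_charDegree (IsIrrCharacter.isCharacter ν.2)]
    push_cast
    rfl
  rw [Finset.sum_congr rfl (fun ν _ => h2 ν),
    Cfsg.Agent.Lib.Helper25.char_one_eq_charDegree hΦ, ← Nat.cast_sum] at h1
  exact_mod_cast h1

theorem sum_le_degree [Fintype (Cfsg.IrrCharacter G)] {Φ : G → ℂ} (hΦ : Cfsg.IsCharacter G Φ)
    (O : Finset (Cfsg.IrrCharacter G)) :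
    ∑ ν ∈ O, natInner Φ (ν : G → ℂ) * Cfsg.charDegree (ν : G → ℂ) ≤ Cfsg.charDegree Φ := by
  rw [degree_expansion hΦ]
  exact Finset.sum_le_sum_of_subset (Finset.subset_univ O)

theorem natInner_eq_zero_of_sum_eq [Fintype (Cfsg.IrrCharacter G)] {Φ : G → ℂ}
    (hΦ : Cfsg.IsCharacter G Φ) (O : Finset (Cfsg.IrrCharacter G))
    (h : ∑ ν ∈ O, natInner Φ (ν : G → ℂ) * Cfsg.charDegree (ν : G → ℂ) = Cfsg.charDegree Φ)
    (ν : Cfsg.IrrCharacter G) (hν : ν ∉ O) : natInner Φ (ν : G → ℂ) = 0 := by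
  classical
  rw [degree_expansion hΦ, ← Finset.sum_sdiff (Finset.subset_univ O)] at h
  have h1 : ∑ ν ∈ Finset.univ \ O,
      natInner Φ (ν : G → ℂ) * Cfsg.charDegree (ν : G → ℂ) = 0 := by omega
  have h2 := (Finset.sum_eq_zero_iff.1 h1) ν (Finset.mem_sdiff.2 ⟨Finset.mem_univ _, hν⟩)
  rcases Nat.mul_eq_zero.1 h2 with h3 | h3
  · exact h3
  · exact absurd h3 (Cfsg.Agent.Lib.Helper25.irr_degree_pos ν.2).ne'

end Degree

section Action

variable {H : Type*} [Group H] [Fintype H] (T : Subgroup H) [Fintype T]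

/-- the action of a subgroup of the normalizer of `T` on the irreducible characters of `T` -/
@[reducible] noncomputable def subAction (S : Subgroup H)
    (hSN : S ≤ Subgroup.normalizer (T : Set H)) : MulAction S (Cfsg.IrrCharacter T) where
  smul s ν := conjIrr T ⟨(s : H), hSN s.2⟩ ν
  one_smul ν := conjIrr_one T ν
  mul_smul a b ν := conjIrr_mul T ⟨(a : H), hSN a.2⟩ ⟨(b : H), hSN b.2⟩ ν

theorem charDegree_conjIrr (n : Subgroup.normalizer (T : Set H)) (ν : Cfsg.IrrCharacter T) :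
    Cfsg.charDegree ((conjIrr T n ν : Cfsg.IrrCharacter T) : T → ℂ)
      = Cfsg.charDegree (ν : T → ℂ) := by
  have h1 : ((conjIrr T n ν : Cfsg.IrrCharacter T) : T → ℂ) 1 = (ν : T → ℂ) 1 := by
    show (conjIrr T n ν).1 1 = ν.1 1
    rw [conjIrr_apply, map_one]
  have h2 := Cfsg.Agent.Lib.Helper25.char_one_eq_charDegree
    (IsIrrCharacter.isCharacter (conjIrr T n ν).2)
  have h3 := Cfsg.Agent.Lib.Helper25.char_one_eq_charDegree (IsIrrCharacter.isCharacter ν.2)
  rw [h2, h3] at h1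
  exact_mod_cast h1

/-- the multiplicity in a class function of `H` is invariant under conjugation -/
theorem classInner_conjIrr {F : H → ℂ} (hF : Cfsg.IsClassFunction H F)
    (n : Subgroup.normalizer (T : Set H)) (ν : Cfsg.IrrCharacter T) :
    Cfsg.classInner (fun t : T => F t) ((conjIrr T n ν : Cfsg.IrrCharacter T) : T → ℂ)
      = Cfsg.classInner (fun t : T => F t) (ν : T → ℂ) := by
  rw [classInner_def, classInner_def]
  congr 1
  apply Fintype.sum_equiv (T.normalizerMonoidHom n⁻¹).toEquiv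
  intro t
  have h1 : ((conjIrr T n ν : Cfsg.IrrCharacter T) : T → ℂ) t
      = (ν : T → ℂ) ((T.normalizerMonoidHom n⁻¹).toEquiv t) := rfl
  rw [h1]
  congr 1
  have h2 : (((T.normalizerMonoidHom n⁻¹).toEquiv t : T) : H) = (n : H)⁻¹ * t * n :=
    normalizerMonoidHom_inv_coe T n t
  rw [h2]
  have h3 := hF (t : H) ((n : H)⁻¹)
  rw [inv_inv] at h3
  exact h3.symm

theorem natInner_conjIrr {F : H → ℂ} (hF : Cfsg.IsClassFunction H F)
    (n : Subgroup.normalizer (T : Set H)) (ν : Cfsg.IrrCharacter T) :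
    natInner (fun t : T => F t) ((conjIrr T n ν : Cfsg.IrrCharacter T) : T → ℂ)
      = natInner (fun t : T => F t) (ν : T → ℂ) := by
  unfold natInner
  rw [classInner_conjIrr T hF n ν]

end Action

section Orbit

variable {H : Type*} [Group H] [Fintype H] (Z : Subgroup H) [Fintype Z]
  (χ : Cfsg.IrrCharacter H) (θ : Cfsg.IrrCharacter Z) (e : ℕ)
  (T : Subgroup H) [Fintype T] (hZT : Z ≤ T)

/-- the multiplicity of `ν` in `χ_T` -/
noncomputable def mOf (ν : Cfsg.IrrCharacter T) : ℕ :=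
  natInner (fun t : T => (χ : H → ℂ) t) (ν : T → ℂ)

/-- the multiplicity of `θ` in `ν_Z` -/
noncomputable def fOf (ν : Cfsg.IrrCharacter T) : ℕ :=
  natInner (resTo Z T hZT (ν : T → ℂ)) (θ : Z → ℂ)

theorem mOf_mul (he : e ^ 2 = Z.index)
    (hχ : ∀ z : Z, (χ : H → ℂ) z = (e : ℂ) * (θ : Z → ℂ) z) (ν : Cfsg.IrrCharacter T) :
    mOf χ T ν * Z.relIndex T = e * fOf Z θ T hZT ν :=
  mult_nat Z χ θ e he hχ T hZT (IsIrrCharacter.isCharacter ν.2)

theorem mOf_conjIrr (n : Subgroup.normalizer (T : Set H)) (ν : Cfsg.IrrCharacter T) :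
    mOf χ T (conjIrr T n ν) = mOf χ T ν :=
  natInner_conjIrr T (IrrCharacter.isClassFunction χ) n ν

theorem fOf_conjIrr (he : e ^ 2 = Z.index)
    (hχ : ∀ z : Z, (χ : H → ℂ) z = (e : ℂ) * (θ : Z → ℂ) z)
    (n : Subgroup.normalizer (T : Set H)) (ν : Cfsg.IrrCharacter T) :
    fOf Z θ T hZT (conjIrr T n ν) = fOf Z θ T hZT ν := by
  have h1 := mOf_mul Z χ θ e T hZT he hχ ν
  have h2 := mOf_mul Z χ θ e T hZT he hχ (conjIrr T n ν)
  rw [mOf_conjIrr, h1] at h2
  exact (Nat.eq_of_mul_eq_mul_left (e_pos Z e he) h2).symm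

theorem charDegree_chi (hχ : ∀ z : Z, (χ : H → ℂ) z = (e : ℂ) * (θ : Z → ℂ) z) :
    Cfsg.charDegree (χ : H → ℂ) = e * Cfsg.charDegree (θ : Z → ℂ) := by
  have h1 := hχ 1
  rw [Subgroup.coe_one,
    Cfsg.Agent.Lib.Helper25.char_one_eq_charDegree (IsIrrCharacter.isCharacter χ.2),
    Cfsg.Agent.Lib.Helper25.char_one_eq_charDegree (IsIrrCharacter.isCharacter θ.2)] at h1
  exact_mod_cast h1

theorem fOf_mul_le (ν : Cfsg.IrrCharacter T) :
    fOf Z θ T hZT ν * Cfsg.charDegree (θ : Z → ℂ) ≤ Cfsg.charDegree (ν : T → ℂ) := by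
  have hνZ : Cfsg.IsCharacter Z (resTo Z T hZT (ν : T → ℂ)) :=
    resTo_isCharacter Z T hZT (IsIrrCharacter.isCharacter ν.2)
  apply Cfsg.Agent.Lib.Helper25.mult_mul_degree_le θ hνZ
  · exact (natInner_cast hνZ (IsIrrCharacter.isCharacter θ.2)).symm
  · exact Cfsg.Agent.Lib.Helper25.char_one_eq_charDegree (IsIrrCharacter.isCharacter θ.2)
  · show (ν : T → ℂ) ⟨((1 : Z) : H), _⟩ = _
    rw [← Cfsg.Agent.Lib.Helper25.char_one_eq_charDegree (IsIrrCharacter.isCharacter ν.2)]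
    congr 1

theorem charDegree_restrict :
    Cfsg.charDegree (fun t : T => (χ : H → ℂ) t) = Cfsg.charDegree (χ : H → ℂ) := by
  have h1 := Cfsg.Agent.Lib.Helper25.char_one_eq_charDegree
    (IsCharacter.restrict (IsIrrCharacter.isCharacter χ.2) T)
  have h2 := Cfsg.Agent.Lib.Helper25.char_one_eq_charDegree (IsIrrCharacter.isCharacter χ.2)
  have h3 : (χ : H → ℂ) ((1 : T) : H) = (χ : H → ℂ) 1 := rfl
  rw [h3, h2] at h1
  exact_mod_cast h1.symm

variable (S : Subgroup H) (hSN : S ≤ Subgroup.normalizer (T : Set H))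

/-- the orbit inequality: `|orbit| f² ≤ |T : Z|` -/
theorem orbit_le (he : e ^ 2 = Z.index)
    (hχ : ∀ z : Z, (χ : H → ℂ) z = (e : ℂ) * (θ : Z → ℂ) z) (ν : Cfsg.IrrCharacter T) :
    letI := subAction T S hSN
    (MulAction.orbit S ν).ncard * fOf Z θ T hZT ν ^ 2 ≤ Z.relIndex T := by
  classical
  letI := subAction T S hSN
  haveI : Fintype (Cfsg.IrrCharacter T) := Fintype.ofFinite _
  have hχT : Cfsg.IsCharacter T (fun t : T => (χ : H → ℂ) t) :=
    IsCharacter.restrict (IsIrrCharacter.isCharacter χ.2) T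
  have h1 := sum_le_degree hχT (Finset.univ.filter (fun ν' => ν' ∈ MulAction.orbit S ν))
  have h2 : ∀ ν' ∈ Finset.univ.filter (fun ν' => ν' ∈ MulAction.orbit S ν),
      natInner (fun t : T => (χ : H → ℂ) t) (ν' : T → ℂ) * Cfsg.charDegree (ν' : T → ℂ)
        = mOf χ T ν * Cfsg.charDegree (ν : T → ℂ) := by
    intro ν' hν'
    obtain ⟨s, rfl⟩ := (Finset.mem_filter.1 hν').2
    show mOf χ T (conjIrr T ⟨(s : H), hSN s.2⟩ ν)
      * Cfsg.charDegree ((conjIrr T ⟨(s : H), hSN s.2⟩ ν : Cfsg.IrrCharacter T) : T → ℂ) = _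
    rw [mOf_conjIrr, charDegree_conjIrr]
  rw [Finset.sum_congr rfl h2, Finset.sum_const, smul_eq_mul, charDegree_restrict,
    charDegree_chi Z χ θ e hχ] at h1
  have hcard : (Finset.univ.filter (fun ν' => ν' ∈ MulAction.orbit S ν)).card
      = (MulAction.orbit S ν).ncard := by
    rw [← Set.ncard_coe_finset]
    congr 1
    ext x
    simp
  rw [hcard] at h1
  have h3 := fOf_mul_le Z θ T hZT ν
  have h4 := mOf_mul Z χ θ e T hZT he hχ ν
  have hd : 0 < Cfsg.charDegree (θ : Z → ℂ) := Cfsg.Agent.Lib.Helper25.irr_degree_pos θ.2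
  have he0 := e_pos Z e he
  -- |O| m f ≤ e
  have h5 : (MulAction.orbit S ν).ncard * (mOf χ T ν * fOf Z θ T hZT ν) ≤ e := by
    apply Nat.le_of_mul_le_mul_right _ hd
    calc (MulAction.orbit S ν).ncard * (mOf χ T ν * fOf Z θ T hZT ν) * Cfsg.charDegree (θ : Z → ℂ)
        = (MulAction.orbit S ν).ncard
          * (mOf χ T ν * (fOf Z θ T hZT ν * Cfsg.charDegree (θ : Z → ℂ))) := by ring
      _ ≤ (MulAction.orbit S ν).ncard * (mOf χ T ν * Cfsg.charDegree (ν : T → ℂ)) :=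
          Nat.mul_le_mul_left _ (Nat.mul_le_mul_left _ h3)
      _ ≤ e * Cfsg.charDegree (θ : Z → ℂ) := h1
  apply Nat.le_of_mul_le_mul_left _ he0
  calc e * ((MulAction.orbit S ν).ncard * fOf Z θ T hZT ν ^ 2)
      = (MulAction.orbit S ν).ncard * ((e * fOf Z θ T hZT ν) * fOf Z θ T hZT ν) := by ring
    _ = (MulAction.orbit S ν).ncard * (mOf χ T ν * fOf Z θ T hZT ν) * Z.relIndex T := by
        rw [← h4]; ring
    _ ≤ e * Z.relIndex T := Nat.mul_le_mul_right _ h5

/-- in case of equality, the orbit is all of `Irr(T | θ)` -/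
theorem mem_orbit_of_eq (he : e ^ 2 = Z.index)
    (hχ : ∀ z : Z, (χ : H → ℂ) z = (e : ℂ) * (θ : Z → ℂ) z) (ν : Cfsg.IrrCharacter T)
    (heq : letI := subAction T S hSN
      (MulAction.orbit S ν).ncard * fOf Z θ T hZT ν ^ 2 = Z.relIndex T)
    (ν'' : Cfsg.IrrCharacter T) (hν'' : fOf Z θ T hZT ν'' ≠ 0) :
    letI := subAction T S hSN
    ν'' ∈ MulAction.orbit S ν := by
  classical
  letI := subAction T S hSN
  haveI : Fintype (Cfsg.IrrCharacter T) := Fintype.ofFinite _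
  have hχT : Cfsg.IsCharacter T (fun t : T => (χ : H → ℂ) t) :=
    IsCharacter.restrict (IsIrrCharacter.isCharacter χ.2) T
  have h1 := sum_le_degree hχT (Finset.univ.filter (fun ν' => ν' ∈ MulAction.orbit S ν))
  have h2 : ∀ ν' ∈ Finset.univ.filter (fun ν' => ν' ∈ MulAction.orbit S ν),
      natInner (fun t : T => (χ : H → ℂ) t) (ν' : T → ℂ) * Cfsg.charDegree (ν' : T → ℂ)
        = mOf χ T ν * Cfsg.charDegree (ν : T → ℂ) := by
    intro ν' hν'
    obtain ⟨s, rfl⟩ := (Finset.mem_filter.1 hν').2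
    show mOf χ T (conjIrr T ⟨(s : H), hSN s.2⟩ ν)
      * Cfsg.charDegree ((conjIrr T ⟨(s : H), hSN s.2⟩ ν : Cfsg.IrrCharacter T) : T → ℂ) = _
    rw [mOf_conjIrr, charDegree_conjIrr]
  have hcard : (Finset.univ.filter (fun ν' => ν' ∈ MulAction.orbit S ν)).card
      = (MulAction.orbit S ν).ncard := by
    rw [← Set.ncard_coe_finset]
    congr 1
    ext x
    simp
  have h3 := fOf_mul_le Z θ T hZT ν
  have h4 := mOf_mul Z χ θ e T hZT he hχ ν
  have hd : 0 < Cfsg.charDegree (θ : Z → ℂ) := Cfsg.Agent.Lib.Helper25.irr_degree_pos θ.2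
  have he0 := e_pos Z e he
  have hR : 0 < Z.relIndex T := by
    rcases Nat.eq_zero_or_pos (Z.relIndex T) with h | h
    · exfalso
      have := Subgroup.relIndex_mul_index hZT
      rw [h, zero_mul] at this
      exact Subgroup.index_ne_zero_of_finite this.symm
    · exact h
  -- |O| m f = e
  have h5 : (MulAction.orbit S ν).ncard * (mOf χ T ν * fOf Z θ T hZT ν) = e := by
    apply Nat.eq_of_mul_eq_mul_right hR
    calc (MulAction.orbit S ν).ncard * (mOf χ T ν * fOf Z θ T hZT ν) * Z.relIndex T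
        = (MulAction.orbit S ν).ncard * ((mOf χ T ν * Z.relIndex T) * fOf Z θ T hZT ν) := by ring
      _ = e * ((MulAction.orbit S ν).ncard * fOf Z θ T hZT ν ^ 2) := by rw [h4]; ring
      _ = e * Z.relIndex T := by rw [heq]
  by_contra hnot
  have hsum : ∑ ν' ∈ Finset.univ.filter (fun ν' => ν' ∈ MulAction.orbit S ν),
      natInner (fun t : T => (χ : H → ℂ) t) (ν' : T → ℂ) * Cfsg.charDegree (ν' : T → ℂ)
        = Cfsg.charDegree (fun t : T => (χ : H → ℂ) t) := by
    apply le_antisymm h1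
    rw [Finset.sum_congr rfl h2, Finset.sum_const, smul_eq_mul, charDegree_restrict,
      charDegree_chi Z χ θ e hχ, hcard]
    calc e * Cfsg.charDegree (θ : Z → ℂ)
        = (MulAction.orbit S ν).ncard
          * (mOf χ T ν * (fOf Z θ T hZT ν * Cfsg.charDegree (θ : Z → ℂ))) := by
          rw [← h5]; ring
      _ ≤ (MulAction.orbit S ν).ncard * (mOf χ T ν * Cfsg.charDegree (ν : T → ℂ)) :=
          Nat.mul_le_mul_left _ (Nat.mul_le_mul_left _ h3)
  have h6 := natInner_eq_zero_of_sum_eq hχT _ hsum ν''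
    (fun h => hnot (Finset.mem_filter.1 h).2)
  have h7 := mOf_mul Z χ θ e T hZT he hχ ν''
  unfold mOf at h7
  rw [h6, zero_mul] at h7
  rcases Nat.mul_eq_zero.1 h7.symm with h8 | h8
  · exact he0.ne' h8
  · exact hν'' h8

end Orbit

end Cfsg.Agent.Lib.Helper24.FRC
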