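import Mathlib
import Cfsg.Agent.Lib.Helper9.Wielandt2
import Cfsg.Agent.Lib.Helper1.Hall
import Cfsg.Agent.Lib.Helper2.QuasiPrim

/-!
# Group-theoretic lemmas for complements in sections of fully ramified groups (helper24 library)
-/

set_option autoImplicit false

namespace Cfsg.Agent.Lib.Helper24.FRC

open scoped Pointwise

section Count

variable {H : Type*} [Group H] [Finite H]

/-- if `N = S I`, `S ∩ I ≤ K` and `p ∤ |H : S|` then the image of `I` in `H / K` is a `p'`-group -/
theorem coprime_card_map (K : Subgroup H) [K.Normal] (p : ℕ) [hp : Fact p.Prime]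
    (S N I : Subgroup H) (hSN : S ≤ N)
    (hprod : (N : Set H) = (S : Set H) * (I : Set H)) (hSI : S ⊓ I ≤ K) (hidx : ¬ p ∣ S.index) :
    Nat.Coprime (Nat.card (I.map (QuotientGroup.mk' K))) p := by
  have h1 := Cfsg.Agent.Lib.Helper9.Wielandt.card_mul_card_inf_of_coe_eq_mul hprod
  have h2 := Cfsg.Agent.Lib.Helper1.card_map_mul_card_inf_ker (QuotientGroup.mk' K) I
  rw [QuotientGroup.ker_mk'] at h2
  have h3 := Cfsg.Agent.Lib.Helper2.QuasiPrim.card_eq_relIndex_mul hSN
  have hSpos : 0 < Nat.card S := Nat.card_pos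
  have h4 : S.relIndex N * Nat.card ↥(S ⊓ I) = Nat.card I := by
    apply Nat.eq_of_mul_eq_mul_left hSpos
    rw [← h1, h3]
    ring
  have h5 : S ⊓ I ≤ I ⊓ K := le_inf inf_le_right hSI
  obtain ⟨r, hr⟩ := Subgroup.card_dvd_of_le h5
  have h6 : S.relIndex N = Nat.card (I.map (QuotientGroup.mk' K)) * r := by
    have hpos : 0 < Nat.card ↥(S ⊓ I) := Nat.card_pos
    apply Nat.eq_of_mul_eq_mul_right hpos
    rw [h4, ← h2, hr]
    ring
  have h7 : Nat.card (I.map (QuotientGroup.mk' K)) ∣ S.index :=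
    (Dvd.intro _ h6.symm).trans (Subgroup.relIndex_dvd_index_of_le hSN)
  apply Nat.Coprime.symm
  rw [Nat.Prime.coprime_iff_not_dvd hp.out]
  intro h
  exact hidx (h.trans h7)

/-- a `p'`-subgroup `C` with `G = A C` for a `p`-subgroup `A` has the order of a `p`-complement -/
theorem card_mul_card_sylow {G : Type*} [Group G] [Finite G] {p : ℕ} [hp : Fact p.Prime]
    (A C : Subgroup G) (hA : IsPGroup p A) (hC : (Nat.card C).Coprime p)
    (hprod : ∀ g : G, ∃ a ∈ A, ∃ c ∈ C, g = a * c) (P : Sylow p G) :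
    Nat.card C * Nat.card P = Nat.card G := by
  have h1 : Nat.card G ≤ Nat.card A * Nat.card C := by
    rw [← Nat.card_prod]
    apply Nat.card_le_card_of_surjective (fun x : A × C => (x.1 : G) * (x.2 : G))
    intro g
    obtain ⟨a, ha, c, hc, rfl⟩ := hprod g
    exact ⟨(⟨a, ha⟩, ⟨c, hc⟩), rfl⟩
  have hPcard := P.card_eq_multiplicity
  have h2 : Nat.card A ≤ Nat.card P := by
    obtain ⟨a, ha⟩ := IsPGroup.iff_card.1 hA
    have h3 : p ^ a ∣ Nat.card G := ha ▸ Subgroup.card_subgroup_dvd_card A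
    have h4 := (hp.out.pow_dvd_iff_le_factorization Nat.card_pos.ne').1 h3
    rw [ha, hPcard]
    exact Nat.pow_le_pow_right hp.out.pos h4
  have h5 : Nat.card C ∣ P.index := by
    have h6 : Nat.card C ∣ Nat.card P * P.index := by
      rw [Subgroup.card_mul_index]
      exact Subgroup.card_subgroup_dvd_card C
    have h7 : (Nat.card C).Coprime (Nat.card P) := by
      rw [hPcard]
      exact Nat.Coprime.pow_right _ hC
    exact h7.dvd_of_dvd_mul_left h6
  have h8 : Nat.card C ≤ P.index := Nat.le_of_dvd (Nat.pos_of_ne_zero Subgroup.index_ne_zero_of_finite) h5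
  have h9 := Subgroup.card_mul_index (P : Subgroup G)
  have hPpos : 0 < Nat.card P := Nat.card_pos
  have h10 : Nat.card C = P.index := by
    apply le_antisymm h8
    by_contra hlt
    push Not at hlt
    have : Nat.card A * Nat.card C < Nat.card P * P.index :=
      lt_of_le_of_lt (Nat.mul_le_mul_right _ h2) (Nat.mul_lt_mul_of_pos_left hlt hPpos)
    omega
  rw [h10, mul_comm]
  exact h9

end Count

section Setup

variable {H : Type*} [Group H] [Finite H]

theorem le_normalizer_inf (S K : Subgroup H) [hK : K.Normal] :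
    S ≤ Subgroup.normalizer ((S ⊓ K : Subgroup H) : Set H) := by
  have key : ∀ s ∈ S, ∀ h ∈ S ⊓ K, s * h * s⁻¹ ∈ S ⊓ K := by
    intro s hs h hh
    exact ⟨S.mul_mem (S.mul_mem hs hh.1) (S.inv_mem hs), hK.conj_mem h hh.2 s⟩
  intro s hs
  rw [Subgroup.mem_normalizer_iff]
  intro h
  constructor
  · exact key s hs h
  · intro hh
    have := key s⁻¹ (S.inv_mem hs) _ hh
    rw [inv_inv] at this
    have e : s⁻¹ * (s * h * s⁻¹) * s = h := by group
    rwa [e] at this

/-- the subgroup `S = Z P₀` with `S / Z` a Sylow `p`-subgroup of `H / Z`, and Frattini's argument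
for `S ∩ K` -/
theorem exists_S (Z K : Subgroup H) [hZ : Z.Normal] [hK : K.Normal] (hZK : Z ≤ K)
    (p : ℕ) [hp : Fact p.Prime] :
    ∃ S : Subgroup H, Z ≤ S ∧ ¬ p ∣ S.index ∧ (∃ k : ℕ, Z.relIndex S = p ^ k) ∧
      ∀ h : H, ∃ n ∈ Subgroup.normalizer ((S ⊓ K : Subgroup H) : Set H), ∃ k ∈ K, h = n * k := by
  obtain ⟨Q⟩ : Nonempty (Sylow p K) := inferInstance
  have hQ'p : IsPGroup p ((Q : Subgroup K).map K.subtype) := Q.2.map K.subtype
  obtain ⟨P₀, hP₀⟩ := hQ'p.exists_le_sylow
  have hQ'K : (Q : Subgroup K).map K.subtype ≤ K := Subgroup.map_subtype_le _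
  refine ⟨Z ⊔ (P₀ : Subgroup H), le_sup_left, ?_, ?_, ?_⟩
  · intro h
    exact P₀.not_dvd_index (h.trans (Subgroup.index_dvd_of_le le_sup_right))
  · rw [Subgroup.relIndex_sup_left]
    obtain ⟨n, hn⟩ := IsPGroup.iff_card.1 P₀.2
    have h1 : Z.relIndex (P₀ : Subgroup H) ∣ p ^ n := hn ▸ Subgroup.relIndex_dvd_card Z _
    obtain ⟨k, -, hk⟩ := (Nat.dvd_prime_pow hp.out).1 h1
    exact ⟨k, hk⟩
  · -- T = Z ⊔ Q'
    have hpow : ∃ k : ℕ, Z.relIndex (Z ⊔ (P₀ : Subgroup H)) = p ^ k := by
      rw [Subgroup.relIndex_sup_left]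
      obtain ⟨n, hn⟩ := IsPGroup.iff_card.1 P₀.2
      have h1 : Z.relIndex (P₀ : Subgroup H) ∣ p ^ n := hn ▸ Subgroup.relIndex_dvd_card Z _
      obtain ⟨k, -, hk⟩ := (Nat.dvd_prime_pow hp.out).1 h1
      exact ⟨k, hk⟩
    have hle : Z ⊔ (Q : Subgroup K).map K.subtype ≤ (Z ⊔ (P₀ : Subgroup H)) ⊓ K :=
      le_inf (sup_le_sup_left hP₀ Z) (sup_le hZK hQ'K)
    have hZT : Z ≤ (Z ⊔ (P₀ : Subgroup H)) ⊓ K := le_inf le_sup_left hZK
    have hT : (Z ⊔ (P₀ : Subgroup H)) ⊓ K = Z ⊔ (Q : Subgroup K).map K.subtype := by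
      apply le_antisymm _ hle
      rw [← Subgroup.relIndex_eq_one]
      -- the relative index divides a power of p
      obtain ⟨k, hk⟩ := hpow
      have h1 : (Z ⊔ (Q : Subgroup K).map K.subtype).relIndex ((Z ⊔ (P₀ : Subgroup H)) ⊓ K)
          ∣ p ^ k := by
        rw [← hk]
        exact (Subgroup.relIndex_dvd_of_le_left _ le_sup_left).trans
          (Dvd.intro _ (Subgroup.relIndex_mul_relIndex _ _ _ hZT inf_le_left))
      -- and a number prime to p
      have h2 : (Z ⊔ (Q : Subgroup K).map K.subtype).relIndex ((Z ⊔ (P₀ : Subgroup H)) ⊓ K)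
          ∣ (Q : Subgroup K).index := by
        have h3 : ((Q : Subgroup K).map K.subtype).relIndex K = (Q : Subgroup K).index := by
          unfold Subgroup.relIndex
          congr 1
          exact Subgroup.comap_map_eq_self_of_injective K.subtype_injective _
        rw [← h3]
        exact (Subgroup.relIndex_dvd_of_le_left _ le_sup_right).trans
          (Dvd.intro _ (Subgroup.relIndex_mul_relIndex _ _ _ (le_sup_right.trans hle) inf_le_right))
      obtain ⟨j, -, hj⟩ := (Nat.dvd_prime_pow hp.out).1 h1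
      rcases Nat.eq_zero_or_pos j with hj0 | hj0
      · rw [hj, hj0, pow_zero]
      · exfalso
        apply Q.not_dvd_index
        refine Dvd.dvd.trans ?_ h2
        rw [hj]
        exact dvd_pow_self p hj0.ne'
    -- the normalizer of Q' normalizes T
    have hNN : Subgroup.normalizer (((Q : Subgroup K).map K.subtype : Subgroup H) : Set H)
        ≤ Subgroup.normalizer (((Z ⊔ (P₀ : Subgroup H)) ⊓ K : Subgroup H) : Set H) := by
      have key : ∀ n ∈ Subgroup.normalizer (((Q : Subgroup K).map K.subtype : Subgroup H) : Set H),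
          ∀ h ∈ (Z ⊔ (P₀ : Subgroup H)) ⊓ K, n * h * n⁻¹ ∈ (Z ⊔ (P₀ : Subgroup H)) ⊓ K := by
        intro n hn h hh
        rw [hT] at hh ⊢
        rw [Subgroup.mem_sup_of_normal_left] at hh ⊢
        obtain ⟨z, hz, q, hq, rfl⟩ := hh
        refine ⟨n * z * n⁻¹, hZ.conj_mem z hz n, n * q * n⁻¹, ?_, by group⟩
        exact (Subgroup.mem_normalizer_iff.1 hn q).1 hq
      intro n hn
      rw [Subgroup.mem_normalizer_iff]
      intro h
      constructor
      · exact key n hn h
      · intro hh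
        have := key n⁻¹ (Subgroup.inv_mem _ hn) _ hh
        rw [inv_inv] at this
        have e : n⁻¹ * (n * h * n⁻¹) * n = h := by group
        rwa [e] at this
    intro h
    have h1 : h ∈ Subgroup.normalizer (((Q : Subgroup K).map K.subtype : Subgroup H) : Set H) ⊔ K := by
      rw [Sylow.normalizer_sup_eq_top Q]
      exact Subgroup.mem_top h
    rw [Subgroup.mem_sup_of_normal_right] at h1
    obtain ⟨n, hn, k, hk, rfl⟩ := h1
    exact ⟨n, hNN hn, k, hk, rfl⟩

end Setup

end Cfsg.Agent.Lib.Helper24.FRC
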