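import Mathlib
import Cfsg.Agent.Lib.Helper24.FRAction
import Cfsg.Agent.Lib.Helper24.FRGroup

/-!
# Complements in sections of fully ramified groups (helper24 library)

`χ ∈ Irr(H)` fully ramified over `Z`, `Z ≤ K ⊴ H`, `S / Z` a Sylow `p`-subgroup of `H / Z`: if some
`ν ∈ Irr(S ∩ K | θ)` has stabilizer `S ∩ K` in `S`, then `H / K` has a `p`-complement.
-/

set_option autoImplicit false

namespace Cfsg.Agent.Lib.Helper24.FRC

open Cfsg Cfsg.Agent.Lib.Helper2 Cfsg.Agent.Lib.Helper24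
open scoped ComplexConjugate Pointwise

section Inner

variable {H : Type*} [Group H] (T : Subgroup H) [Finite T]

/-- elements of `T` act trivially on `Irr(T)` -/
theorem conjIrr_of_mem (t : H) (ht : t ∈ T) (hn : t ∈ Subgroup.normalizer (T : Set H))
    (ν : Cfsg.IrrCharacter T) : conjIrr T ⟨t, hn⟩ ν = ν := by
  apply Subtype.ext
  funext k
  rw [conjIrr_apply]
  have h1 : T.normalizerMonoidHom (⟨t, hn⟩ : Subgroup.normalizer (T : Set H))⁻¹ k
      = (⟨t, ht⟩ : T)⁻¹ * k * (⟨t, ht⟩ : T)⁻¹⁻¹ := by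
    apply Subtype.ext
    rw [normalizerMonoidHom_inv_coe]
    simp
  rw [h1]
  exact IrrCharacter.isClassFunction ν k _

end Inner

section Main

variable {H : Type*} [Group H] [Fintype H] (Z : Subgroup H) [hZn : Z.Normal] [Fintype Z]
  (χ : Cfsg.IrrCharacter H) (θ : Cfsg.IrrCharacter Z) (e : ℕ)

omit hZn in
theorem exists_complement_of_regular (he : e ^ 2 = Z.index)
    (hχ : ∀ z : Z, (χ : H → ℂ) z = (e : ℂ) * (θ : Z → ℂ) z)
    (K : Subgroup H) [hK : K.Normal] (hZK : Z ≤ K) (p : ℕ) [hp : Fact p.Prime]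
    (S : Subgroup H) (hZS : Z ≤ S) (hidx : ¬ p ∣ S.index) (hpow : ∃ k : ℕ, Z.relIndex S = p ^ k)
    (hfrat : ∀ h : H, ∃ n ∈ Subgroup.normalizer ((S ⊓ K : Subgroup H) : Set H), ∃ k ∈ K,
      h = n * k)
    [Fintype ↥(S ⊓ K)]
    (ν : Cfsg.IrrCharacter ↥(S ⊓ K)) (hν : fOf Z θ (S ⊓ K) (le_inf hZS hZK) ν ≠ 0)
    (hreg : ∀ (s : H) (hs : s ∈ S),
      conjIrr (S ⊓ K) ⟨s, le_normalizer_inf S K hs⟩ ν = ν → s ∈ K) :
    ∃ C : Subgroup (H ⧸ K), (Nat.card C).Coprime p ∧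
      ∀ P : Sylow p (H ⧸ K), Nat.card C * Nat.card P = Nat.card (H ⧸ K) := by
  classical
  have hZT : Z ≤ S ⊓ K := le_inf hZS hZK
  have hSN := le_normalizer_inf S K
  obtain ⟨k, hk⟩ := hpow
  -- the orbit of ν under S
  have horb : letI := subAction (S ⊓ K) S hSN
      (MulAction.orbit S ν).ncard = (S ⊓ K).relIndex S := by
    letI := subAction (S ⊓ K) S hSN
    rw [← MulAction.index_stabilizer]
    unfold Subgroup.relIndex
    congr 1
    ext s
    rw [MulAction.mem_stabilizer_iff, Subgroup.mem_subgroupOf]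
    constructor
    · intro h
      exact ⟨s.2, hreg s s.2 h⟩
    · intro h
      exact conjIrr_of_mem (S ⊓ K) s h (hSN s.2) ν
  have hrel : Z.relIndex (S ⊓ K) * (S ⊓ K).relIndex S = Z.relIndex S :=
    Subgroup.relIndex_mul_relIndex _ _ _ hZT inf_le_left
  have hcop : Nat.Coprime (Z.relIndex (S ⊓ K)) S.index := by
    have h1 : Z.relIndex (S ⊓ K) ∣ p ^ k := hk ▸ Dvd.intro _ hrel
    obtain ⟨j, -, hj⟩ := (Nat.dvd_prime_pow hp.out).1 h1
    rw [hj]
    exact Nat.Coprime.pow_left _ ((Nat.Prime.coprime_iff_not_dvd hp.out).2 hidx)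
  have hdvd := relIndex_dvd Z χ θ e he hχ (S ⊓ K) S hZT inf_le_left hcop
    (IsIrrCharacter.isCharacter ν.2)
  have hle := orbit_le Z χ θ e (S ⊓ K) hZT S hSN he hχ ν
  rw [horb] at hle
  have hTSpos : 0 < (S ⊓ K).relIndex S := by
    rcases Nat.eq_zero_or_pos ((S ⊓ K).relIndex S) with h | h
    · exfalso
      rw [h, mul_zero] at hrel
      have h2 : (0 : ℕ) = p ^ k := hrel.trans hk
      exact (pow_pos hp.out.pos k).ne h2
    · exact h
  have heq : (S ⊓ K).relIndex S * fOf Z θ (S ⊓ K) hZT ν ^ 2 = Z.relIndex (S ⊓ K) := by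
    apply le_antisymm hle
    apply Nat.le_of_dvd _ hdvd
    exact Nat.mul_pos hTSpos (pow_pos (Nat.pos_of_ne_zero hν) 2)
  have htrans : ∀ ν'' : Cfsg.IrrCharacter ↥(S ⊓ K), fOf Z θ (S ⊓ K) hZT ν'' ≠ 0 →
      ∃ (s : H) (hs : s ∈ S), ν'' = conjIrr (S ⊓ K) ⟨s, hSN hs⟩ ν := by
    intro ν'' hν''
    have h1 := mem_orbit_of_eq Z χ θ e (S ⊓ K) hZT S hSN he hχ ν (by rw [horb]; exact heq) ν'' hν''
    obtain ⟨s, hs⟩ := h1
    exact ⟨s, s.2, hs.symm⟩
  -- the stabilizer of ν in the normalizer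
  letI actN := subAction (S ⊓ K) (Subgroup.normalizer ((S ⊓ K : Subgroup H) : Set H)) le_rfl
  have hIN : (MulAction.stabilizer (Subgroup.normalizer ((S ⊓ K : Subgroup H) : Set H)) ν).map
      (Subgroup.normalizer ((S ⊓ K : Subgroup H) : Set H)).subtype
        ≤ Subgroup.normalizer ((S ⊓ K : Subgroup H) : Set H) := Subgroup.map_subtype_le _
  have hmemI : ∀ x : H, x ∈ (MulAction.stabilizer
      (Subgroup.normalizer ((S ⊓ K : Subgroup H) : Set H)) ν).map
      (Subgroup.normalizer ((S ⊓ K : Subgroup H) : Set H)).subtype ↔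
      ∃ hx : x ∈ Subgroup.normalizer ((S ⊓ K : Subgroup H) : Set H),
        conjIrr (S ⊓ K) ⟨x, hx⟩ ν = ν := by
    intro x
    rw [Subgroup.mem_map]
    constructor
    · rintro ⟨n, hn, rfl⟩
      exact ⟨n.2, hn⟩
    · rintro ⟨hx, h⟩
      exact ⟨⟨x, hx⟩, h, rfl⟩
  have hprod : ((Subgroup.normalizer ((S ⊓ K : Subgroup H) : Set H) : Subgroup H) : Set H)
      = (S : Set H) * (((MulAction.stabilizer
        (Subgroup.normalizer ((S ⊓ K : Subgroup H) : Set H)) ν).map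
        (Subgroup.normalizer ((S ⊓ K : Subgroup H) : Set H)).subtype : Subgroup H) : Set H) := by
    ext n
    constructor
    · intro hn
      have hn' : n ∈ Subgroup.normalizer ((S ⊓ K : Subgroup H) : Set H) := hn
      have hf : fOf Z θ (S ⊓ K) hZT (conjIrr (S ⊓ K) ⟨n, hn'⟩ ν) ≠ 0 := by
        rw [fOf_conjIrr Z χ θ e (S ⊓ K) hZT he hχ]
        exact hν
      obtain ⟨s, hs, hsn⟩ := htrans _ hf
      refine ⟨s, hs, s⁻¹ * n, ?_, by group⟩
      rw [SetLike.mem_coe, hmemI]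
      have hsN : s⁻¹ * n ∈ Subgroup.normalizer ((S ⊓ K : Subgroup H) : Set H) :=
        Subgroup.mul_mem _ (Subgroup.inv_mem _ (hSN hs)) hn'
      refine ⟨hsN, ?_⟩
      have e1 : (⟨s⁻¹ * n, hsN⟩ : Subgroup.normalizer ((S ⊓ K : Subgroup H) : Set H))
          = (⟨s, hSN hs⟩ : Subgroup.normalizer ((S ⊓ K : Subgroup H) : Set H))⁻¹ * ⟨n, hn'⟩ := rfl
      rw [e1, conjIrr_mul, hsn, conjIrr_inv_conjIrr]
    · rintro ⟨s, hs, i, hi, rfl⟩
      exact Subgroup.mul_mem _ (hSN hs) (hIN hi)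
  have hSI : S ⊓ (MulAction.stabilizer
      (Subgroup.normalizer ((S ⊓ K : Subgroup H) : Set H)) ν).map
      (Subgroup.normalizer ((S ⊓ K : Subgroup H) : Set H)).subtype ≤ K := by
    intro x hx
    obtain ⟨hxS, hxI⟩ := hx
    obtain ⟨hxN, h⟩ := (hmemI x).1 hxI
    exact hreg x hxS h
  have hC := coprime_card_map K p S (Subgroup.normalizer ((S ⊓ K : Subgroup H) : Set H)) _ hSN
    hprod hSI hidx
  refine ⟨_, hC, ?_⟩
  intro P
  apply card_mul_card_sylow (S.map (QuotientGroup.mk' K)) _ _ hC _ P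
  · -- the image of S is a p-group
    have h1 := Cfsg.Agent.Lib.Helper1.card_map_mul_card_inf_ker (QuotientGroup.mk' K) S
    rw [QuotientGroup.ker_mk'] at h1
    have h2 := Cfsg.Agent.Lib.Helper2.QuasiPrim.card_eq_relIndex_mul
      (inf_le_left : S ⊓ K ≤ S)
    have hTpos : 0 < Nat.card ↥(S ⊓ K) := Nat.card_pos
    have h3 : Nat.card (S.map (QuotientGroup.mk' K)) = (S ⊓ K).relIndex S := by
      apply Nat.eq_of_mul_eq_mul_right hTpos
      rw [h1, h2]
    have h4 : (S ⊓ K).relIndex S ∣ p ^ k := hk ▸ Dvd.intro_left _ hrel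
    obtain ⟨j, -, hj⟩ := (Nat.dvd_prime_pow hp.out).1 h4
    exact IsPGroup.of_card (h3.trans hj)
  · intro g
    induction g using QuotientGroup.induction_on with
    | H h =>
      obtain ⟨n, hn, k', hk', rfl⟩ := hfrat h
      have hn' : n ∈ ((Subgroup.normalizer ((S ⊓ K : Subgroup H) : Set H) : Subgroup H) : Set H) :=
        hn
      rw [hprod] at hn'
      obtain ⟨s, hs, i, hi, rfl⟩ := hn'
      refine ⟨(s : H ⧸ K), Subgroup.mem_map_of_mem _ hs, (i : H ⧸ K),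
        Subgroup.mem_map_of_mem _ hi, ?_⟩
      rw [QuotientGroup.mk_mul, QuotientGroup.mk_mul, (QuotientGroup.eq_one_iff k').2 hk', mul_one]

end Main

end Cfsg.Agent.Lib.Helper24.FRC
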