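import Mathlib
import Cfsg.Agent.Lib.Helper24.FRAction

/-!
# Fully ramified characters: existence of characters over `θ` (helper24 library)
-/

set_option autoImplicit false

namespace Cfsg.Agent.Lib.Helper24.FRC

open Cfsg Cfsg.Agent.Lib.Helper2 Cfsg.Agent.Lib.Helper24

variable {H : Type*} [Group H] [Fintype H] (Z : Subgroup H) [Fintype Z]
  (χ : Cfsg.IrrCharacter H) (θ : Cfsg.IrrCharacter Z) (e : ℕ)

theorem relIndex_pos' {A B : Subgroup H} (h : A ≤ B) : 0 < A.relIndex B := by
  rcases Nat.eq_zero_or_pos (A.relIndex B) with h0 | h0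
  · exfalso
    have := Subgroup.relIndex_mul_index h
    rw [h0, zero_mul] at this
    exact Subgroup.index_ne_zero_of_finite this.symm
  · exact h0

/-- some irreducible character of `T` lies over `θ` -/
theorem exists_over (he : e ^ 2 = Z.index)
    (hχ : ∀ z : Z, (χ : H → ℂ) z = (e : ℂ) * (θ : Z → ℂ) z)
    (T : Subgroup H) [Fintype T] (hZT : Z ≤ T) :
    ∃ ν : Cfsg.IrrCharacter T, fOf Z θ T hZT ν ≠ 0 := by
  classical
  haveI : Fintype (Cfsg.IrrCharacter T) := Fintype.ofFinite _
  have hχT : Cfsg.IsCharacter T (fun t : T => (χ : H → ℂ) t) :=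
    IsCharacter.restrict (IsIrrCharacter.isCharacter χ.2) T
  have h1 := degree_expansion hχT
  rw [charDegree_restrict] at h1
  have hpos : 0 < Cfsg.charDegree (χ : H → ℂ) := Cfsg.Agent.Lib.Helper25.irr_degree_pos χ.2
  by_contra hcon
  push Not at hcon
  have h2 : ∀ ν : Cfsg.IrrCharacter T, natInner (fun t : T => (χ : H → ℂ) t) (ν : T → ℂ) = 0 := by
    intro ν
    have h3 := mOf_mul Z χ θ e T hZT he hχ ν
    rw [hcon ν, mul_zero] at h3
    rcases Nat.mul_eq_zero.1 h3 with h | h
    · exact h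
    · exact absurd h (relIndex_pos' hZT).ne'
  rw [h1] at hpos
  simp only [h2, zero_mul, Finset.sum_const_zero, lt_self_iff_false] at hpos

end Cfsg.Agent.Lib.Helper24.FRC
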