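import Mathlib
import Cfsg.Agent.Lib.Helper24.FRComplement
import Cfsg.Agent.Lib.Helper24.FROver
import Cfsg.Agent.Lib.Helper11.Clifford
import Cfsg.Agent.Lib.Helper17.SylowNormal

/-!
# Fully ramified characters induced from a normal subgroup (helper24 library)

If `χ ∈ Irr(H)` is fully ramified over `Z` and induced from `φ` on `K ⊴ H`, `Z ≤ K`, then for every
prime `p` some `ν ∈ Irr(S ∩ K | θ)` has stabilizer `S ∩ K` in `S` (`S / Z` a Sylow `p`-subgroup of
`H / Z`).
-/

set_option autoImplicit false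

namespace Cfsg.Agent.Lib.Helper24.FRC

open Cfsg Cfsg.Agent.Lib.Helper2 Cfsg.Agent.Lib.Helper24 Cfsg.Agent.Lib.Helper11
open scoped ComplexConjugate

section Sum

/-- the sum of a function invariant under right multiplication by a subgroup -/
theorem card_dvd_sum_of_right_invariant {G : Type*} [Group G] [Fintype G] (C : Subgroup G)
    (g : G → ℕ) (hg : ∀ x, ∀ c ∈ C, g (x * c) = g x) : Nat.card C ∣ ∑ x, g x := by
  classical
  haveI : Fintype (G ⧸ C) := Fintype.ofFinite _
  haveI : Fintype C := Fintype.ofFinite _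
  rw [← Finset.sum_fiberwise Finset.univ (fun x : G => (x : G ⧸ C)) g]
  apply Finset.dvd_sum
  intro q _
  induction q using QuotientGroup.induction_on with
  | H r =>
    have h1 : ∀ x ∈ Finset.univ.filter (fun x : G => (x : G ⧸ C) = (r : G ⧸ C)), g x = g r := by
      intro x hx
      have hx' := (Finset.mem_filter.1 hx).2
      rw [eq_comm, QuotientGroup.eq] at hx'
      have := hg r _ hx'
      rw [mul_inv_cancel_left] at this
      exact this
    rw [Finset.sum_congr rfl h1, Finset.sum_const, smul_eq_mul]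
    have h2 : (Finset.univ.filter (fun x : G => (x : G ⧸ C) = (r : G ⧸ C))).card = Nat.card C := by
      rw [Nat.card_eq_fintype_card, ← Finset.card_univ]
      symm
      apply Finset.card_bij (fun (c : C) _ => r * (c : G))
      · intro c _
        rw [Finset.mem_filter]
        refine ⟨Finset.mem_univ _, ?_⟩
        rw [eq_comm, QuotientGroup.eq, inv_mul_cancel_left]
        exact c.2
      · intro a _ b _ hab
        exact Subtype.ext (mul_left_cancel hab)
      · intro x hx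
        have hx' := (Finset.mem_filter.1 hx).2
        rw [eq_comm, QuotientGroup.eq] at hx'
        exact ⟨⟨r⁻¹ * x, hx'⟩, Finset.mem_univ _, mul_inv_cancel_left r x⟩
    rw [h2]
    exact Dvd.intro _ rfl

theorem classInner_sum_left' {G : Type*} [Group G] [Fintype G] {ι : Type*} (s : Finset ι)
    (v : ι → G → ℂ) (ψ : G → ℂ) :
    Cfsg.classInner (∑ i ∈ s, v i) ψ = ∑ i ∈ s, Cfsg.classInner (v i) ψ := by
  simp only [classInner_def, Finset.sum_apply, Finset.sum_mul, Finset.mul_sum]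
  rw [Finset.sum_comm]

end Sum

section Induced

variable {H : Type*} [Group H] [Fintype H] (Z : Subgroup H) [Fintype Z]
  (χ : Cfsg.IrrCharacter H) (θ : Cfsg.IrrCharacter Z) (e : ℕ)
  (K : Subgroup H) [hK : K.Normal] [Fintype K]

/-- `[χ_K, φ] = 1` when `χ = φ^H` -/
theorem natInner_restrict_of_induced {φ : K → ℂ} (hφ : Cfsg.IsCharacter K φ)
    (hind : Cfsg.indFun K φ = (χ : H → ℂ)) :
    natInner (fun k : K => (χ : H → ℂ) k) φ = 1 := by
  have hχK : Cfsg.IsCharacter K (fun k : K => (χ : H → ℂ) k) :=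
    IsCharacter.restrict (IsIrrCharacter.isCharacter χ.2) K
  have h1 := frobenius_reciprocity K φ (χ : H → ℂ) (IrrCharacter.isClassFunction χ)
  rw [hind, classInner_irrCharacter_self] at h1
  rw [natInner_symm hχK hφ]
  have h2 := natInner_cast hφ hχK
  rw [← h1] at h2
  exact_mod_cast h2

/-- the order of a fixing element modulo `K` divides the multiplicity -/
theorem orderOf_dvd_mOf {φ : K → ℂ} (hφ : Cfsg.IsCharacter K φ)
    (hind : Cfsg.indFun K φ = (χ : H → ℂ))
    (T : Subgroup H) [Fintype T] (hTK : T ≤ K) (ν : Cfsg.IrrCharacter T)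
    (s : H) (hsN : s ∈ Subgroup.normalizer (T : Set H))
    (hfix : conjIrr T ⟨s, hsN⟩ ν = ν) :
    orderOf ((s : H) : H ⧸ K) ∣ mOf χ T ν := by
  classical
  have hνc : Cfsg.IsCharacter T (ν : T → ℂ) := IsIrrCharacter.isCharacter ν.2
  have hgc : ∀ h : H, Cfsg.IsCharacter T (resTo T K hTK (conjFn K h φ)) :=
    fun h => resTo_isCharacter T K hTK (conjFn_isCharacter K h hφ)
  -- the sum formula
  have hsum : Nat.card K * mOf χ T ν
      = ∑ h : H, natInner (resTo T K hTK (conjFn K h φ)) (ν : T → ℂ) := by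
    have hχT : Cfsg.IsCharacter T (fun t : T => (χ : H → ℂ) t) :=
      IsCharacter.restrict (IsIrrCharacter.isCharacter χ.2) T
    have h1 : (fun t : T => (χ : H → ℂ) t)
        = (Nat.card K : ℂ)⁻¹ • ∑ h : H, resTo T K hTK (conjFn K h φ) := by
      have h2 := indFun_restrict_eq K φ
      rw [hind] at h2
      funext t
      have h3 := congrFun h2 ⟨(t : H), hTK t.2⟩
      simp only [Pi.smul_apply, Finset.sum_apply, smul_eq_mul] at h3 ⊢
      rw [h3]
      rfl
    have h4 : (mOf χ T ν : ℂ)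
        = (Nat.card K : ℂ)⁻¹ * ∑ h : H,
          (natInner (resTo T K hTK (conjFn K h φ)) (ν : T → ℂ) : ℂ) := by
      unfold mOf
      rw [natInner_cast hχT hνc, h1, classInner_smul_left, classInner_sum_left']
      congr 1
      apply Finset.sum_congr rfl
      intro h _
      rw [natInner_cast (hgc h) hνc]
    have hK0 : (Nat.card K : ℂ) ≠ 0 := by exact_mod_cast Nat.card_pos.ne'
    have h5 : ((Nat.card K * mOf χ T ν : ℕ) : ℂ)
        = ((∑ h : H, natInner (resTo T K hTK (conjFn K h φ)) (ν : T → ℂ) : ℕ) : ℂ) := by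
      push_cast
      rw [h4]
      field_simp
    exact_mod_cast h5
  -- invariance of the summand under right multiplication by `K` and by `s`
  have hgK : ∀ x : H, ∀ k ∈ K, natInner (resTo T K hTK (conjFn K (x * k) φ)) (ν : T → ℂ)
      = natInner (resTo T K hTK (conjFn K x φ)) (ν : T → ℂ) := by
    intro x k hk
    rw [conjFn_mul, conjFn_of_mem K (IsCharacter.isClassFunction (conjFn_isCharacter K x hφ)) hk]
  have hgs : ∀ x : H, natInner (resTo T K hTK (conjFn K (x * s) φ)) (ν : T → ℂ)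
      = natInner (resTo T K hTK (conjFn K x φ)) (ν : T → ℂ) := by
    intro x
    rw [conjFn_mul]
    unfold natInner
    congr 2
    rw [classInner_def, classInner_def]
    congr 1
    symm
    apply Fintype.sum_equiv
      (T.normalizerMonoidHom (⟨s, hsN⟩ : Subgroup.normalizer (T : Set H))⁻¹).toEquiv
    intro t'
    have h1 : (ν : T → ℂ)
        ((T.normalizerMonoidHom (⟨s, hsN⟩ : Subgroup.normalizer (T : Set H))⁻¹).toEquiv t')
        = (ν : T → ℂ) t' := by
      have := congrArg (fun μ : Cfsg.IrrCharacter T => (μ : T → ℂ) t') hfix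
      exact this
    rw [h1]
    congr 1
    show conjFn K x φ ⟨(t' : H), hTK t'.2⟩ = conjFn K s (conjFn K x φ)
      ⟨(((T.normalizerMonoidHom (⟨s, hsN⟩ : Subgroup.normalizer (T : Set H))⁻¹).toEquiv t' : T) : H),
        hTK (SetLike.coe_mem _)⟩
    rw [conjFn_apply K s]
    congr 1
    apply Subtype.ext
    show (t' : H) = s * (((T.normalizerMonoidHom
      (⟨s, hsN⟩ : Subgroup.normalizer (T : Set H))⁻¹).toEquiv t' : T) : H) * s⁻¹
    have h2 : (((T.normalizerMonoidHom
        (⟨s, hsN⟩ : Subgroup.normalizer (T : Set H))⁻¹).toEquiv t' : T) : H) = s⁻¹ * t' * s :=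
      normalizerMonoidHom_inv_coe T ⟨s, hsN⟩ t'
    rw [h2]
    group
  -- the invariance subgroup
  let C' : Subgroup H :=
    { carrier := {c | ∀ x : H, natInner (resTo T K hTK (conjFn K (x * c) φ)) (ν : T → ℂ)
        = natInner (resTo T K hTK (conjFn K x φ)) (ν : T → ℂ)}
      mul_mem' := by
        intro a b ha hb x
        rw [← mul_assoc, hb (x * a), ha x]
      one_mem' := by
        intro x
        rw [mul_one]
      inv_mem' := by
        intro a ha x
        have := ha (x * a⁻¹)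
        rw [inv_mul_cancel_right] at this
        exact this.symm }
  have hdvd := card_dvd_sum_of_right_invariant C'
    (fun h => natInner (resTo T K hTK (conjFn K h φ)) (ν : T → ℂ)) (fun x c hc => hc x)
  have hle : K ⊔ Subgroup.zpowers s ≤ C' := by
    apply sup_le
    · intro k hk x
      exact hgK x k hk
    · rw [Subgroup.zpowers_le]
      exact hgs
  have hcard : Nat.card ↥(K ⊔ Subgroup.zpowers s)
      = orderOf ((s : H) : H ⧸ K) * Nat.card K := by
    rw [Cfsg.Agent.Lib.Helper2.QuasiPrim.card_eq_relIndex_mul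
      (le_sup_left : K ≤ K ⊔ Subgroup.zpowers s), Subgroup.relIndex_sup_left]
    congr 1
    have h1 := Subgroup.relIndex_ker (Subgroup.zpowers s) (QuotientGroup.mk' K)
    rw [QuotientGroup.ker_mk'] at h1
    rw [h1, MonoidHom.map_zpowers, Nat.card_zpowers]
    rfl
  have h3 : orderOf ((s : H) : H ⧸ K) * Nat.card K ∣ Nat.card K * mOf χ T ν := by
    rw [← hcard, hsum]
    exact (Subgroup.card_dvd_of_le hle).trans hdvd
  have hKpos : 0 < Nat.card K := Nat.card_pos
  rw [mul_comm] at h3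
  exact Nat.dvd_of_mul_dvd_mul_left hKpos h3

/-- the image of `S` in `H / K` is a `p`-group -/
theorem isPGroup_map (hZK : Z ≤ K) (p : ℕ) [hp : Fact p.Prime] (S : Subgroup H) (hZS : Z ≤ S)
    (hpow : ∃ k : ℕ, Z.relIndex S = p ^ k) : IsPGroup p (S.map (QuotientGroup.mk' K)) := by
  obtain ⟨k, hk⟩ := hpow
  have h1 := Cfsg.Agent.Lib.Helper1.card_map_mul_card_inf_ker (QuotientGroup.mk' K) S
  rw [QuotientGroup.ker_mk'] at h1
  have h2 := Cfsg.Agent.Lib.Helper2.QuasiPrim.card_eq_relIndex_mul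
    (inf_le_left : S ⊓ K ≤ S)
  have hTpos : 0 < Nat.card ↥(S ⊓ K) := Nat.card_pos
  have h3 : Nat.card (S.map (QuotientGroup.mk' K)) = (S ⊓ K).relIndex S := by
    apply Nat.eq_of_mul_eq_mul_right hTpos
    rw [h1, h2]
  have hrel : Z.relIndex (S ⊓ K) * (S ⊓ K).relIndex S = Z.relIndex S :=
    Subgroup.relIndex_mul_relIndex _ _ _ (le_inf hZS hZK) inf_le_left
  have h4 : (S ⊓ K).relIndex S ∣ p ^ k := hk ▸ Dvd.intro_left _ hrel
  obtain ⟨j, -, hj⟩ := (Nat.dvd_prime_pow hp.out).1 h4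
  exact IsPGroup.of_card (h3.trans hj)

/-- when `χ` is induced from `K`, some `ν ∈ Irr(S ∩ K | θ)` has stabilizer `S ∩ K` in `S` -/
theorem exists_regular_of_induced (he : e ^ 2 = Z.index)
    (hχ : ∀ z : Z, (χ : H → ℂ) z = (e : ℂ) * (θ : Z → ℂ) z) (hZK : Z ≤ K)
    {φ : K → ℂ} (hφ : Cfsg.IsCharacter K φ) (hind : Cfsg.indFun K φ = (χ : H → ℂ))
    (p : ℕ) [hp : Fact p.Prime] (S : Subgroup H) (hZS : Z ≤ S) (hidx : ¬ p ∣ S.index)
    (hpow : ∃ k : ℕ, Z.relIndex S = p ^ k) [Fintype ↥(S ⊓ K)] :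
    ∃ ν : Cfsg.IrrCharacter ↥(S ⊓ K), fOf Z θ (S ⊓ K) (le_inf hZS hZK) ν ≠ 0 ∧
      ∀ (s : H) (hs : s ∈ S),
        conjIrr (S ⊓ K) ⟨s, le_normalizer_inf S K hs⟩ ν = ν → s ∈ K := by
  classical
  haveI : Fintype (Cfsg.IrrCharacter ↥(S ⊓ K)) := Fintype.ofFinite _
  have hZT : Z ≤ S ⊓ K := le_inf hZS hZK
  have hSN := le_normalizer_inf S K
  by_contra hcon
  push Not at hcon
  have hE3 : Z.relIndex K = e * natInner (resTo Z K hZK φ) (θ : Z → ℂ) := by
    have := mult_nat Z χ θ e he hχ K hZK hφ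
    rw [natInner_restrict_of_induced χ K hφ hind, one_mul] at this
    exact this
  have hfφ0 : natInner (resTo Z K hZK φ) (θ : Z → ℂ) ≠ 0 := by
    intro h
    rw [h, mul_zero] at hE3
    exact (relIndex_pos' hZK).ne' hE3
  have hE4 : Z.relIndex (S ⊓ K) * (S ⊓ K).relIndex K = Z.relIndex K :=
    Subgroup.relIndex_mul_relIndex _ _ _ hZT inf_le_right
  have hr : ¬ p ∣ (S ⊓ K).relIndex K := by
    rw [Subgroup.inf_relIndex_right]
    intro h
    exact hidx (h.trans (Cfsg.Agent.Lib.Helper17.relIndex_dvd_index_of_normal_right S K))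
  have hstar : ∀ ν : Cfsg.IrrCharacter ↥(S ⊓ K),
      mOf χ (S ⊓ K) ν * natInner (resTo Z K hZK φ) (θ : Z → ℂ)
        = fOf Z θ (S ⊓ K) hZT ν * (S ⊓ K).relIndex K := by
    intro ν
    have hE1 := mOf_mul Z χ θ e (S ⊓ K) hZT he hχ ν
    apply Nat.eq_of_mul_eq_mul_left (e_pos Z e he)
    calc e * (mOf χ (S ⊓ K) ν * natInner (resTo Z K hZK φ) (θ : Z → ℂ))
        = mOf χ (S ⊓ K) ν * (e * natInner (resTo Z K hZK φ) (θ : Z → ℂ)) := by ring
      _ = mOf χ (S ⊓ K) ν * (Z.relIndex (S ⊓ K) * (S ⊓ K).relIndex K) := by rw [← hE3, hE4]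
      _ = (mOf χ (S ⊓ K) ν * Z.relIndex (S ⊓ K)) * (S ⊓ K).relIndex K := by ring
      _ = e * fOf Z θ (S ⊓ K) hZT ν * (S ⊓ K).relIndex K := by rw [hE1]
      _ = e * (fOf Z θ (S ⊓ K) hZT ν * (S ⊓ K).relIndex K) := by ring
  have hSp := isPGroup_map Z K hZK p S hZS hpow
  have hdiv : ∀ ν : Cfsg.IrrCharacter ↥(S ⊓ K),
      p ^ ((natInner (resTo Z K hZK φ) (θ : Z → ℂ)).factorization p + 1)
        ∣ fOf Z θ (S ⊓ K) hZT ν := by
    intro ν
    by_cases hν : fOf Z θ (S ⊓ K) hZT ν = 0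
    · rw [hν]
      exact dvd_zero _
    · obtain ⟨s, hs, hfix, hsK⟩ := hcon ν hν
      have h1 := orderOf_dvd_mOf χ K hφ hind (S ⊓ K) inf_le_right ν s (hSN hs) hfix
      have h2 : p ∣ orderOf ((s : H) : H ⧸ K) := by
        have hmem : ((s : H) : H ⧸ K) ∈ S.map (QuotientGroup.mk' K) :=
          Subgroup.mem_map_of_mem _ hs
        obtain ⟨j, hj⟩ := hSp ⟨_, hmem⟩
        have h3 : orderOf ((s : H) : H ⧸ K) ∣ p ^ j := by
          apply orderOf_dvd_of_pow_eq_one
          have := congrArg Subtype.val hj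
          simpa using this
        obtain ⟨i, -, hi⟩ := (Nat.dvd_prime_pow hp.out).1 h3
        rcases Nat.eq_zero_or_pos i with h0 | h0
        · exfalso
          rw [h0, pow_zero, orderOf_eq_one_iff, QuotientGroup.eq_one_iff] at hi
          exact hsK hi
        · rw [hi]
          exact dvd_pow_self p h0.ne'
      have h4 : p ∣ mOf χ (S ⊓ K) ν := h2.trans h1
      have h5 : p ^ ((natInner (resTo Z K hZK φ) (θ : Z → ℂ)).factorization p + 1)
          ∣ mOf χ (S ⊓ K) ν * natInner (resTo Z K hZK φ) (θ : Z → ℂ) := by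
        rw [pow_succ, mul_comm]
        exact mul_dvd_mul h4 (Nat.ordProj_dvd _ p)
      rw [hstar ν] at h5
      exact (Nat.Coprime.pow_left _
        ((Nat.Prime.coprime_iff_not_dvd hp.out).2 hr)).dvd_of_dvd_mul_right h5
  have hexp : natInner (resTo Z K hZK φ) (θ : Z → ℂ)
      = ∑ ν : Cfsg.IrrCharacter ↥(S ⊓ K),
        natInner (resTo (S ⊓ K) K inf_le_right φ) (ν : ↥(S ⊓ K) → ℂ)
          * fOf Z θ (S ⊓ K) hZT ν := by
    have hφT : Cfsg.IsCharacter ↥(S ⊓ K) (resTo (S ⊓ K) K inf_le_right φ) :=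
      resTo_isCharacter (S ⊓ K) K inf_le_right hφ
    have h1 := classInner_resTo_expansion Z (S ⊓ K) hZT (resTo (S ⊓ K) K inf_le_right φ)
      (IsCharacter.isClassFunction hφT) (θ : Z → ℂ)
    have h2 : resTo Z (S ⊓ K) hZT (resTo (S ⊓ K) K inf_le_right φ) = resTo Z K hZK φ := by
      funext z
      rfl
    rw [h2, ← natInner_cast (resTo_isCharacter Z K hZK hφ) (IsIrrCharacter.isCharacter θ.2)] at h1
    have h3 : ∀ ν : Cfsg.IrrCharacter ↥(S ⊓ K),
        Cfsg.classInner (resTo (S ⊓ K) K inf_le_right φ) (ν : ↥(S ⊓ K) → ℂ)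
          * Cfsg.classInner (resTo Z (S ⊓ K) hZT (ν : ↥(S ⊓ K) → ℂ)) (θ : Z → ℂ)
        = ((natInner (resTo (S ⊓ K) K inf_le_right φ) (ν : ↥(S ⊓ K) → ℂ)
          * fOf Z θ (S ⊓ K) hZT ν : ℕ) : ℂ) := by
      intro ν
      unfold fOf
      rw [Nat.cast_mul, natInner_cast hφT (IsIrrCharacter.isCharacter ν.2),
        natInner_cast (resTo_isCharacter Z (S ⊓ K) hZT (IsIrrCharacter.isCharacter ν.2))
          (IsIrrCharacter.isCharacter θ.2)]
    rw [Finset.sum_congr rfl (fun ν _ => h3 ν), ← Nat.cast_sum] at h1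
    exact_mod_cast h1
  have hfinal : p ^ ((natInner (resTo Z K hZK φ) (θ : Z → ℂ)).factorization p + 1)
      ∣ natInner (resTo Z K hZK φ) (θ : Z → ℂ) := by
    conv_rhs => rw [hexp]
    exact Finset.dvd_sum (fun ν _ => Dvd.dvd.mul_left (hdiv ν) _)
  exact Nat.pow_succ_factorization_not_dvd hfφ0 hp.out hfinal

end Induced

end Cfsg.Agent.Lib.Helper24.FRC
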