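import Mathlib
import Cfsg.Agent.Lib.Helper24.StableCover
import Cfsg.Agent.Lib.Helper24.DefectCount
import Cfsg.Agent.Lib.Helper7.MinMax
import Cfsg.Agent.Lib.Helper7.DefectOrder

/-!
# Blocks covering a stable block of a normal subgroup (helper24 library)

* `stabilizesBlock_of_forall_conj`: character-wise invariance gives `StabilizesBlock`;
* `relIndex_dvd_relIndex_of_le_of_normal`, `card_inf_normal_of_card_eq`: Sylow bookkeeping;
* `exists_block_not_memLocalIdeal`: a unit coefficient of a union of blocks comes from one block;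
* `exists_good_class`: for a `G`-stable block `b` of `N ⊴ G` there is a defect class `y ∈ N` of `b`
  with `p ∤ [G : N C_G(y)]` on which every block covering `b` has unit central character;
* `isDefectClass_conjNormal`: defect classes of a stable block are permuted by `G`.
-/

set_option autoImplicit false

namespace Cfsg.Agent.Lib.Helper24

open Cfsg.Agent.Lib.Helper2 Cfsg.Agent.Lib.Helper7
open scoped ComplexConjugate

section GroupTheory2

theorem relIndex_dvd_relIndex_of_le_of_normal {G : Type*} [Group G] [Finite G] (N : Subgroup G)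
    [N.Normal] {P C : Subgroup G} (h : P ≤ C) : N.relIndex P ∣ N.relIndex C := by
  have e : (QuotientGroup.mk' N).ker = N := QuotientGroup.ker_mk' N
  have h1 := Subgroup.relIndex_ker (K := P) (QuotientGroup.mk' N)
  have h2 := Subgroup.relIndex_ker (K := C) (QuotientGroup.mk' N)
  rw [e] at h1 h2
  rw [h1, h2]
  exact Subgroup.card_dvd_of_le (Subgroup.map_mono h)

/-- a subgroup `P ≤ C` of Sylow order meets the normal subgroup `N` in a subgroup of Sylow order
of `C ⊓ N`, and its image modulo `N` has Sylow order in that of `C` -/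
theorem card_inf_normal_of_card_eq {G : Type*} [Group G] [Finite G] (p : ℕ) [Fact p.Prime]
    (N : Subgroup G) [N.Normal] (C P : Subgroup G) (hPC : P ≤ C)
    (hPcard : Nat.card P = p ^ (Nat.card C).factorization p) :
    Nat.card (P ⊓ N : Subgroup G) = p ^ (Nat.card (C ⊓ N : Subgroup G)).factorization p ∧
      N.relIndex P = p ^ (N.relIndex C).factorization p := by
  have hp : p.Prime := Fact.out
  have h1 : Nat.card (C ⊓ N : Subgroup G) * N.relIndex C = Nat.card C := by
    have := Subgroup.relIndex_mul_relIndex (⊥ : Subgroup G) (C ⊓ N) C bot_le inf_le_left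
    rw [Subgroup.relIndex_bot_left, Subgroup.relIndex_bot_left, Subgroup.inf_relIndex_left] at this
    exact this
  have h2 : Nat.card (P ⊓ N : Subgroup G) * N.relIndex P = Nat.card P := by
    have := Subgroup.relIndex_mul_relIndex (⊥ : Subgroup G) (P ⊓ N) P bot_le inf_le_left
    rw [Subgroup.relIndex_bot_left, Subgroup.relIndex_bot_left, Subgroup.inf_relIndex_left] at this
    exact this
  have h3 : N.relIndex P ∣ N.relIndex C := relIndex_dvd_relIndex_of_le_of_normal N hPC
  have h4 : Nat.card (P ⊓ N : Subgroup G) ∣ Nat.card P := Subgroup.card_dvd_of_le inf_le_left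
  rw [hPcard] at h4
  obtain ⟨i, _, hi⟩ := (Nat.dvd_prime_pow hp).mp h4
  have h4' : N.relIndex P ∣ Nat.card P := Subgroup.relIndex_dvd_card _ _
  rw [hPcard] at h4'
  obtain ⟨j, _, hj⟩ := (Nat.dvd_prime_pow hp).mp h4'
  have h5 : Nat.card (P ⊓ N : Subgroup G) ∣ Nat.card (C ⊓ N : Subgroup G) :=
    Subgroup.card_dvd_of_le (inf_le_inf_right N hPC)
  have hCN0 : Nat.card (C ⊓ N : Subgroup G) ≠ 0 := Nat.card_pos.ne'
  have hr0 : N.relIndex C ≠ 0 := by
    intro h0
    rw [h0, mul_zero] at h1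
    exact Nat.card_pos.ne' h1.symm
  have hiν : i ≤ (Nat.card (C ⊓ N : Subgroup G)).factorization p := by
    rw [hi] at h5
    exact (hp.pow_dvd_iff_le_factorization hCN0).mp h5
  have hjκ : j ≤ (N.relIndex C).factorization p := by
    rw [hj] at h3
    exact (hp.pow_dvd_iff_le_factorization hr0).mp h3
  have h6 : (Nat.card C).factorization p
      = (Nat.card (C ⊓ N : Subgroup G)).factorization p + (N.relIndex C).factorization p := by
    rw [← h1, Nat.factorization_mul hCN0 hr0, Finsupp.add_apply]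
  have h7 : p ^ (i + j) = p ^ ((Nat.card (C ⊓ N : Subgroup G)).factorization p
      + (N.relIndex C).factorization p) := by
    rw [pow_add, ← hi, ← hj, h2, hPcard, h6]
  have h8 := Nat.pow_right_injective hp.two_le h7
  have e1 : i = (Nat.card (C ⊓ N : Subgroup G)).factorization p := by omega
  have e2 : j = (N.relIndex C).factorization p := by omega
  exact ⟨by rw [hi, e1], by rw [hj, e2]⟩

end GroupTheory2

section Decomp

variable {G : Type*} [Group G] [Fintype G] {p : ℕ} {M : Ideal Cfsg.AlgInt}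

/-- if the idempotent coefficient of a union of blocks is a unit at `g`, so is that of one of the
blocks -/
theorem exists_block_not_memLocalIdeal (hM : Cfsg.IsPModular p M) (S : Set (Cfsg.IrrCharacter G))
    (hS : ∀ χ ∈ S, Cfsg.blockOf M (χ : G → ℂ) ⊆ S) (g : G)
    (h : ¬ Cfsg.MemLocalIdeal M (Cfsg.blockCoeff S g)) :
    ∃ χ ∈ S, ¬ Cfsg.MemLocalIdeal M (Cfsg.blockCoeff (Cfsg.blockOf M (χ : G → ℂ)) g) := by
  classical
  haveI : Fintype (Cfsg.IrrCharacter G) := Fintype.ofFinite _
  by_contra hcon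
  push Not at hcon
  apply h
  obtain ⟨T, hT⟩ : ∃ T : Finset (Cfsg.IrrCharacter G), T = Finset.univ.filter (· ∈ S) := ⟨_, rfl⟩
  obtain ⟨F, hF⟩ : ∃ F : Cfsg.IrrCharacter G → Set (Cfsg.IrrCharacter G),
      F = fun χ : Cfsg.IrrCharacter G => Cfsg.blockOf M (χ : G → ℂ) := ⟨_, rfl⟩
  have hmemT : ∀ χ, χ ∈ T ↔ χ ∈ S := by
    intro χ; rw [hT]; simp
  have key : Cfsg.blockCoeff S g = ∑ B' ∈ T.image F, Cfsg.blockCoeff B' g := by
    rw [blockCoeff_eq_sum]
    have h1 : ∀ B' ∈ T.image F, Cfsg.blockCoeff B' g = (Nat.card G : ℂ)⁻¹ *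
        ∑ χ : Cfsg.IrrCharacter G, if χ ∈ B' then (χ : G → ℂ) 1 * conj ((χ : G → ℂ) g) else 0 := by
      intro B' _
      rw [blockCoeff_eq_sum]
    rw [Finset.sum_congr rfl h1, ← Finset.mul_sum, Finset.sum_comm]
    congr 1
    apply Finset.sum_congr rfl
    intro χ _
    by_cases hχ : χ ∈ S
    · rw [if_pos hχ]
      rw [Finset.sum_eq_single (F χ)]
      · rw [if_pos]
        rw [hF]
        exact mem_blockOf_self hM χ
      · intro B' hB' hne
        rw [if_neg]
        intro hmem
        apply hne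
        obtain ⟨ψ, _, rfl⟩ := Finset.mem_image.mp hB'
        rw [hF] at hmem ⊢
        exact eq_blockOf_of_mem hM ⟨ψ, rfl⟩ hmem
      · intro hnot
        exfalso
        apply hnot
        exact Finset.mem_image.mpr ⟨χ, (hmemT χ).mpr hχ, rfl⟩
    · rw [if_neg hχ]
      symm
      apply Finset.sum_eq_zero
      intro B' hB'
      rw [if_neg]
      intro hmem
      apply hχ
      obtain ⟨ψ, hψ, rfl⟩ := Finset.mem_image.mp hB'
      rw [hF] at hmem
      exact hS ψ ((hmemT ψ).mp hψ) hmem
  rw [key]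
  apply (MlocC hM).sum_mem
  intro B' hB'
  obtain ⟨ψ, hψ, rfl⟩ := Finset.mem_image.mp hB'
  rw [hF]
  exact hcon ψ ((hmemT ψ).mp hψ)

end Decomp

section FongCover

variable {G : Type*} [Group G] [Fintype G] {p : ℕ} {M : Ideal Cfsg.AlgInt}
  (N : Subgroup G) [hN : N.Normal] [Fintype N]

/-- character-wise invariance of a set of characters of `N` gives `StabilizesBlock` -/
theorem stabilizesBlock_of_forall_conj (b : Set (Cfsg.IrrCharacter N))
    (hinv : ∀ g : G, ∀ θ ∈ b, ∀ θ' : Cfsg.IrrCharacter N,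
      (∀ n : N, (θ' : N → ℂ) n = (θ : N → ℂ) ⟨g * n * g⁻¹, hN.conj_mem n n.2 g⟩) → θ' ∈ b)
    (x : G) : Cfsg.StabilizesBlock N b x := by
  refine ⟨by rw [Subgroup.normalizer_eq_top]; trivial, ?_⟩
  intro χ hχ
  refine ⟨Cfsg.Agent.Lib.Helper7.conjIrr N x⁻¹ χ, hinv x⁻¹ χ hχ _ (fun n => rfl), ?_⟩
  intro k k' hk
  show conjFun N x⁻¹ (χ : N → ℂ) k' = _
  rw [conjFun_apply]
  apply congrArg
  apply Subtype.ext
  show x⁻¹ * (k' : G) * x⁻¹⁻¹ = (k : G)
  rw [hk]
  group

/-- defect classes of a stable block are permuted by `G` -/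
theorem isDefectClass_conjNormal (hM : Cfsg.IsPModular p M)
    (b : Set (Cfsg.IrrCharacter N)) (hb : Cfsg.IsPBlock M b)
    (hst : ∀ x : G, Cfsg.StabilizesBlock N b x) (y : N) (hy : Cfsg.IsDefectClass M b y) (x : G) :
    Cfsg.IsDefectClass M b (MulAut.conjNormal (H := N) x y) := by
  have hU := stable_iff_conjIrr N b hst
  have e : (MulAut.conjNormal (H := N) x y : N) = ⟨x * y * x⁻¹, hN.conj_mem _ y.2 x⟩ := by
    apply Subtype.ext
    rw [MulAut.conjNormal_apply]
  have hβ : Cfsg.blockCoeff b (MulAut.conjNormal (H := N) x y) = Cfsg.blockCoeff b y := by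
    rw [e]
    exact blockCoeff_conj_of_stable N b hU x y
  obtain ⟨h1, h2, h3⟩ := hy
  refine ⟨by rw [hβ]; exact h1, by rw [hβ]; exact h2, ?_⟩
  intro θ hθ hcon
  apply h3 θ hθ
  have h4 := centralChar_conj_sub_memLocalIdeal N hM b hb hst θ hθ x y
  have := memLocalIdeal_sub hM hcon h4
  rwa [sub_sub_cancel] at this

/-- **A good class for a stable block.**  For a `G`-stable block `b` of the normal subgroup `N`
there is a defect class `y ∈ N` of `b` such that the number `t` of `N`-classes in the `G`-class of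
`y` is prime to `p`, and such that every block of `G` covering `b` has unit central character
at `y`. -/
theorem exists_good_class [Fact p.Prime] (hM : Cfsg.IsPModular p M)
    (b : Set (Cfsg.IrrCharacter N)) (hb : Cfsg.IsPBlock M b)
    (hst : ∀ x : G, Cfsg.StabilizesBlock N b x) :
    ∃ y : N, Cfsg.IsDefectClass M b y ∧
      (∃ t : ℕ, t * N.relIndex (Subgroup.centralizer ({(y : G)} : Set G)) = N.index ∧ ¬ p ∣ t) ∧
      ∀ B : Set (Cfsg.IrrCharacter G), Cfsg.IsPBlock M B →
        (∃ χ ∈ B, ∃ θ ∈ b, Cfsg.classInner (fun n : N => (χ : G → ℂ) n) (θ : N → ℂ) ≠ 0) →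
        ∀ χ ∈ B, ¬ Cfsg.MemLocalIdeal M (Cfsg.centralChar (χ : G → ℂ) (y : G)) := by
  classical
  obtain ⟨θ₀, hθ₀⟩ := isPBlock_nonempty hM hb
  obtain ⟨χ₀, hcon₀⟩ := exists_irr_over N θ₀
  have hU := stable_iff_conjIrr N b hst
  have h1 : omega χ₀.1 (coverFn N b) = 1 := by
    rw [omega_coverFn N b hU χ₀ θ₀ hcon₀, if_pos hθ₀]
  have hex : ∃ g : G, ¬ Cfsg.MemLocalIdeal M
      (coverFn N b g * Cfsg.centralChar (χ₀ : G → ℂ) g) := by
    by_contra hall
    push Not at hall
    have hmem : Cfsg.MemLocalIdeal M (omega χ₀.1 (coverFn N b)) := by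
      rw [omega_eq_sum]
      apply sum_mul_inv_index_mem (MlocC hM)
      · intro g x
        simp only
        rw [coverFn_isClassFunction N b hU g x,
          centralChar_isClassFunction _ (IrrCharacter.isClassFunction χ₀) g x]
      · intro g
        exact hall g
    rw [h1] at hmem
    exact not_memLocalIdeal_one hM hmem
  obtain ⟨g, hg⟩ := hex
  have hgN : g ∈ N := by
    by_contra hgN
    apply hg
    unfold coverFn
    rw [extendByZero_of_not_mem N _ hgN, zero_mul]
    exact memLocalIdeal_zero hM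
  have hβ : coverFn N b g = Cfsg.blockCoeff b ⟨g, hgN⟩ := by
    unfold coverFn
    rw [extendByZero_of_mem N _ hgN]
  rw [hβ] at hg
  have hβR : Cfsg.MemLocalRing M (Cfsg.blockCoeff b ⟨g, hgN⟩) := blockCoeff_memLocalRing hM b hb _
  have hωR : Cfsg.MemLocalRing M (Cfsg.centralChar (χ₀ : G → ℂ) g) :=
    centralChar_memLocalRing hM χ₀ g
  have hβI : ¬ Cfsg.MemLocalIdeal M (Cfsg.blockCoeff b ⟨g, hgN⟩) :=
    fun h => hg (memLocalIdeal_mul_right hM h hωR)
  have hωI : ¬ Cfsg.MemLocalIdeal M (Cfsg.centralChar (χ₀ : G → ℂ) g) :=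
    fun h => hg (memLocalIdeal_mul_left hM hβR h)
  have hcc := centralChar_eq_inducedCentralChar_of_constituent N χ₀ θ₀ hcon₀ ⟨g, hgN⟩
  obtain ⟨t, ht, hcong⟩ := inducedCentralChar_sub_of_stable N hM b hb hst θ₀ hθ₀ ⟨g, hgN⟩
  simp only at hcc hcong ht
  rw [hcc] at hωI
  obtain ⟨w, hw⟩ : ∃ w, w = Cfsg.centralChar (θ₀ : N → ℂ) ⟨g, hgN⟩ := ⟨_, rfl⟩
  rw [← hw] at hcong
  have hwR : Cfsg.MemLocalRing M w := by rw [hw]; exact centralChar_memLocalRing hM θ₀ _
  have htw : ¬ Cfsg.MemLocalIdeal M ((t : ℂ) * w) := by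
    intro h
    apply hωI
    have := memLocalIdeal_add hM hcong h
    rwa [sub_add_cancel] at this
  have htp : ¬ p ∣ t := by
    intro h
    apply htw
    exact memLocalIdeal_mul_right hM ((memLocalIdeal_natCast_iff hM t).mpr h) hwR
  have hwI : ¬ Cfsg.MemLocalIdeal M w := by
    intro h
    apply htw
    exact memLocalIdeal_mul_left hM (memLocalRing_natCast hM t) h
  refine ⟨⟨g, hgN⟩, ⟨hβR, hβI, ?_⟩, ⟨t, ht, htp⟩, ?_⟩
  · intro θ' hθ' hcon
    apply hwI
    rw [hw]
    have h1 := sameBlock_of_mem_block hM hb hθ₀ hθ' ⟨g, hgN⟩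
    have := memLocalIdeal_add hM h1 hcon
    rwa [sub_add_cancel] at this
  · intro B hB hcov χ hχ hcon
    have h2 := covering_cong N hM B hB b hb hcov χ hχ θ₀ hθ₀ ⟨g, hgN⟩
    simp only at h2
    apply htw
    have h3 : Cfsg.MemLocalIdeal M (Cfsg.inducedCentralChar N (θ₀ : N → ℂ) g) := by
      have := memLocalIdeal_sub hM hcon h2
      rwa [sub_sub_cancel] at this
    have := memLocalIdeal_sub hM h3 hcong
    rwa [sub_sub_cancel] at this

/-- the members of the idempotent set of the cover function lie over `b` -/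
theorem covers_of_mem_idemSet (b : Set (Cfsg.IrrCharacter N))
    (hst : ∀ x : G, Cfsg.StabilizesBlock N b x) (χ : Cfsg.IrrCharacter G)
    (hχ : χ ∈ idemSet (coverFn N b)) :
    ∃ θ ∈ b, Cfsg.classInner (fun n : N => (χ : G → ℂ) n) (θ : N → ℂ) ≠ 0 := by
  classical
  have hU := stable_iff_conjIrr N b hst
  obtain ⟨θ, hθ⟩ := exists_constituent_restrict N χ
  refine ⟨θ, ?_, hθ⟩
  by_contra hcon
  have h1 : omega χ.1 (coverFn N b) = 1 := hχ
  rw [omega_coverFn N b hU χ θ hθ, if_neg hcon] at h1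
  exact zero_ne_one h1

/-- **A covering block of maximal defect.**  For a `G`-stable block `b` of `N` and a good class
`y`, some block `B'` of `G` covering `b` has `y` as a defect class. -/
theorem exists_cover_isDefectClass [Fact p.Prime] (hM : Cfsg.IsPModular p M)
    (b : Set (Cfsg.IrrCharacter N)) (hb : Cfsg.IsPBlock M b)
    (hst : ∀ x : G, Cfsg.StabilizesBlock N b x) (y : N) (hy : Cfsg.IsDefectClass M b y)
    (hyω : ∀ B : Set (Cfsg.IrrCharacter G), Cfsg.IsPBlock M B →
        (∃ χ ∈ B, ∃ θ ∈ b, Cfsg.classInner (fun n : N => (χ : G → ℂ) n) (θ : N → ℂ) ≠ 0) →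
        ∀ χ ∈ B, ¬ Cfsg.MemLocalIdeal M (Cfsg.centralChar (χ : G → ℂ) (y : G))) :
    ∃ B' : Set (Cfsg.IrrCharacter G), Cfsg.IsPBlock M B' ∧
      (∃ χ ∈ B', ∃ θ ∈ b, Cfsg.classInner (fun n : N => (χ : G → ℂ) n) (θ : N → ℂ) ≠ 0) ∧
      Cfsg.IsDefectClass M B' (y : G) := by
  classical
  have hU := stable_iff_conjIrr N b hst
  obtain ⟨a, ha⟩ : ∃ a : G → ℂ, a = coverFn N b := ⟨_, rfl⟩
  have hac : Cfsg.IsClassFunction G a := by rw [ha]; exact coverFn_isClassFunction N b hU
  have haR : ∀ g, Cfsg.MemLocalRing M (a g) := by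
    intro g
    rw [ha]
    unfold coverFn
    exact extZ_memLocalRing hM N _ (blockCoeff_memLocalRing hM b hb) g
  have hid : conv a a = a := by
    rw [ha]
    unfold coverFn
    rw [conv_extZ, conv_blockCoeff_self]
  have haS := eq_blockCoeff_idemSet a hac hid
  have hSun : ∀ χ ∈ idemSet a, Cfsg.blockOf M (χ : G → ℂ) ⊆ idemSet a := by
    intro χ hχ
    apply blockOf_subset_of_memLocalRing hM (idemSet a) _ χ hχ
    intro g
    rw [← haS]
    exact haR g
  have hay : a (y : G) = Cfsg.blockCoeff b y := by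
    rw [ha]
    unfold coverFn
    rw [extendByZero_of_mem N _ y.2]
  have hnot : ¬ Cfsg.MemLocalIdeal M (Cfsg.blockCoeff (idemSet a) (y : G)) := by
    rw [← haS, hay]
    exact hy.2.1
  obtain ⟨χ', hχ'S, hχ'⟩ := exists_block_not_memLocalIdeal hM (idemSet a) hSun (y : G) hnot
  have hB' : Cfsg.IsPBlock M (Cfsg.blockOf M (χ' : G → ℂ)) := ⟨χ', rfl⟩
  rw [ha] at hχ'S
  obtain ⟨θ', hθ', hcon'⟩ := covers_of_mem_idemSet N b hst χ' hχ'S
  have hcov' : ∃ χ ∈ Cfsg.blockOf M (χ' : G → ℂ), ∃ θ ∈ b,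
      Cfsg.classInner (fun n : N => (χ : G → ℂ) n) (θ : N → ℂ) ≠ 0 :=
    ⟨χ', mem_blockOf_self hM χ', θ', hθ', hcon'⟩
  refine ⟨_, hB', hcov', blockCoeff_memLocalRing hM _ hB' _, hχ', ?_⟩
  exact hyω _ hB' hcov'

/-- valuation bookkeeping for a good class -/
theorem factorization_card_centralizer_good [Fact p.Prime] (hM : Cfsg.IsPModular p M)
    (b : Set (Cfsg.IrrCharacter N)) (hb : Cfsg.IsPBlock M b) (y : N)
    (hy : Cfsg.IsDefectClass M b y) :
    (Nat.card (Subgroup.centralizer ({(y : G)} : Set G) ⊓ N : Subgroup G)).factorization p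
      = Cfsg.blockDefect p b := by
  rw [blockDefect_eq_of_isDefectClass hM b hb y hy, centralizer_subtype_eq N y,
    ← Subgroup.inf_subgroupOf_right]
  apply congrArg (fun n : ℕ => n.factorization p)
  exact (Nat.card_congr (Subgroup.subgroupOfEquivOfLe
      (inf_le_right : Subgroup.centralizer ({(y : G)} : Set G) ⊓ N ≤ N)).toEquiv).symm

theorem factorization_card_centralizer_good' [Fact p.Prime] (hM : Cfsg.IsPModular p M)
    (b : Set (Cfsg.IrrCharacter N)) (hb : Cfsg.IsPBlock M b) (y : N)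
    (hy : Cfsg.IsDefectClass M b y) (t : ℕ)
    (ht : t * N.relIndex (Subgroup.centralizer ({(y : G)} : Set G)) = N.index) (htp : ¬ p ∣ t) :
    (Nat.card (Subgroup.centralizer ({(y : G)} : Set G))).factorization p
      = Cfsg.blockDefect p b + N.index.factorization p := by
  have hp : p.Prime := Fact.out
  obtain ⟨C, hC⟩ : ∃ C : Subgroup G, C = Subgroup.centralizer ({(y : G)} : Set G) := ⟨_, rfl⟩
  rw [← hC] at ht ⊢
  have h1 : Nat.card (C ⊓ N : Subgroup G) * N.relIndex C = Nat.card C := by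
    have := Subgroup.relIndex_mul_relIndex (⊥ : Subgroup G) (C ⊓ N) C bot_le inf_le_left
    rw [Subgroup.relIndex_bot_left, Subgroup.relIndex_bot_left, Subgroup.inf_relIndex_left] at this
    exact this
  have hCN0 : Nat.card (C ⊓ N : Subgroup G) ≠ 0 := Nat.card_pos.ne'
  have hr0 : N.relIndex C ≠ 0 := by
    intro h0
    rw [h0, mul_zero] at h1
    exact Nat.card_pos.ne' h1.symm
  have ht0 : t ≠ 0 := by
    rintro rfl
    exact htp (dvd_zero p)
  have h2 : N.index.factorization p = (N.relIndex C).factorization p := by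
    rw [← ht, Nat.factorization_mul ht0 hr0, Finsupp.add_apply,
      Nat.factorization_eq_zero_of_not_dvd htp, zero_add]
  rw [← h1, Nat.factorization_mul hCN0 hr0, Finsupp.add_apply, h2, hC,
    factorization_card_centralizer_good N hM b hb y hy]

/-- **Fong's theorem on covering blocks of maximal defect.** -/
theorem fong_max_defect [Fact p.Prime] (hM : Cfsg.IsPModular p M)
    (b : Set (Cfsg.IrrCharacter N)) (hb : Cfsg.IsPBlock M b)
    (hst : ∀ x : G, Cfsg.StabilizesBlock N b x)
    (B : Set (Cfsg.IrrCharacter G)) (hB : Cfsg.IsPBlock M B)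
    (hcov : ∃ χ ∈ B, ∃ θ ∈ b, Cfsg.classInner (fun n : N => (χ : G → ℂ) n) (θ : N → ℂ) ≠ 0)
    (hmax : ∀ B' : Set (Cfsg.IrrCharacter G), Cfsg.IsPBlock M B' →
      (∃ χ ∈ B', ∃ θ ∈ b, Cfsg.classInner (fun n : N => (χ : G → ℂ) n) (θ : N → ℂ) ≠ 0) →
      Cfsg.blockDefect p B' ≤ Cfsg.blockDefect p B)
    (P : Subgroup G) (hP : Cfsg.IsDefectGroup p M B P) :
    ¬ p ∣ (P ⊔ N).index ∧ Cfsg.IsDefectGroup p M b ((P ⊓ N).subgroupOf N) ∧
      Cfsg.blockDefect p B = Cfsg.blockDefect p b + N.index.factorization p := by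
  classical
  have hp : p.Prime := Fact.out
  obtain ⟨y, hyb, ⟨t, ht, htp⟩, hyω⟩ := exists_good_class N hM b hb hst
  obtain ⟨B', hB', hcov', hyB'⟩ := exists_cover_isDefectClass N hM b hb hst y hyb hyω
  obtain ⟨χ, hχ⟩ := isPBlock_nonempty hM hB
  have hd1 : Cfsg.blockDefect p B' = (Nat.card (Subgroup.centralizer ({(y : G)} : Set G))).factorization p :=
    blockDefect_eq_of_isDefectClass hM B' hB' _ hyB'
  have hd2 : Cfsg.blockDefect p B ≤ (Nat.card (Subgroup.centralizer ({(y : G)} : Set G))).factorization p :=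
    blockDefect_le_factorization hM B hB χ hχ (y : G) (hyω B hB hcov χ hχ)
  have hd3 := hmax B' hB' hcov'
  have hdB : Cfsg.blockDefect p B = (Nat.card (Subgroup.centralizer ({(y : G)} : Set G))).factorization p := by
    omega
  have hdB' : Cfsg.blockDefect p B = Cfsg.blockDefect p b + N.index.factorization p := by
    rw [hdB]
    exact factorization_card_centralizer_good' N hM b hb y hyb t ht htp
  -- move `y` so that `P` centralizes it
  obtain ⟨g₀, hg₀, hPle, hPcard⟩ := exists_of_isDefectGroup hP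
  have hPp : IsPGroup p P := IsPGroup.of_card hPcard
  obtain ⟨Q⟩ : Nonempty (Sylow p (Subgroup.centralizer ({(y : G)} : Set G))) := inferInstance
  have hmm := minmax hM B hB (y : G) g₀ Q χ hχ (hyω B hB hcov χ hχ) hg₀.2.1
  obtain ⟨x, hx⟩ := hmm.exists_le P hPp hPle
  obtain ⟨y', hy'⟩ : ∃ y' : N, y' = MulAut.conjNormal (H := N) x y := ⟨_, rfl⟩
  have hy'G : (y' : G) = x * (y : G) * x⁻¹ := by
    rw [hy', MulAut.conjNormal_apply]
  have hy'b : Cfsg.IsDefectClass M b y' := by
    rw [hy']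
    exact isDefectClass_conjNormal N hM b hb hst y hyb x
  have hPC : P ≤ Subgroup.centralizer ({(y' : G)} : Set G) := by
    intro u hu
    obtain ⟨v, hv, rfl⟩ := hx hu
    obtain ⟨w, _, rfl⟩ := hv
    have hw := w.2
    rw [Subgroup.mem_centralizer_singleton_iff] at hw ⊢
    rw [hy'G]
    simp only [MulEquiv.coe_toMonoidHom, MulAut.conj_apply, Subgroup.coe_subtype]
    have hw' : (w : G) * (y : G) = (y : G) * (w : G) := hw
    calc x * (w : G) * x⁻¹ * (x * (y : G) * x⁻¹) = x * ((w : G) * (y : G)) * x⁻¹ := by group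
      _ = x * ((y : G) * (w : G)) * x⁻¹ := by rw [hw']
      _ = x * (y : G) * x⁻¹ * (x * (w : G) * x⁻¹) := by group
  have hcardC : Nat.card (Subgroup.centralizer ({(y' : G)} : Set G))
      = Nat.card (Subgroup.centralizer ({(y : G)} : Set G)) := by
    have h1 := index_centralizer_conj (y : G) x
    rw [← hy'G] at h1
    have h2 := Subgroup.index_mul_card (Subgroup.centralizer ({(y' : G)} : Set G))
    have h3 := Subgroup.index_mul_card (Subgroup.centralizer ({(y : G)} : Set G))
    rw [h1] at h2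
    have h0 : (Subgroup.centralizer ({(y : G)} : Set G)).index ≠ 0 :=
      Subgroup.index_ne_zero_of_finite
    exact Nat.eq_of_mul_eq_mul_left (Nat.pos_of_ne_zero h0) (h2.trans h3.symm)
  have hPcard' : Nat.card P
      = p ^ (Nat.card (Subgroup.centralizer ({(y' : G)} : Set G))).factorization p := by
    rw [card_of_isDefectGroup hM B hB P hP, hdB, hcardC]
  obtain ⟨hinf, hrel⟩ := card_inf_normal_of_card_eq p N
    (Subgroup.centralizer ({(y' : G)} : Set G)) P hPC hPcard'
  have hνinf := factorization_card_centralizer_good N hM b hb y' hy'b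
  rw [hνinf] at hinf
  -- the index of `N` in `P N`
  have h2 : Nat.card (P ⊓ N : Subgroup G) * N.relIndex P = Nat.card P := by
    have := Subgroup.relIndex_mul_relIndex (⊥ : Subgroup G) (P ⊓ N) P bot_le inf_le_left
    rw [Subgroup.relIndex_bot_left, Subgroup.relIndex_bot_left, Subgroup.inf_relIndex_left] at this
    exact this
  have hrelP : N.relIndex P = p ^ N.index.factorization p := by
    rw [hinf, card_of_isDefectGroup hM B hB P hP, hdB', pow_add] at h2
    exact Nat.eq_of_mul_eq_mul_left (pow_pos hp.pos _) h2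
  refine ⟨?_, ?_, hdB'⟩
  · intro hdvd
    have h9 := Subgroup.relIndex_mul_index (le_sup_right : N ≤ P ⊔ N)
    rw [Subgroup.relIndex_sup_right, hrelP] at h9
    have h10 : p ^ (N.index.factorization p + 1) ∣ N.index := by
      have h12 : p ^ N.index.factorization p * p ∣ p ^ N.index.factorization p * (P ⊔ N).index :=
        mul_dvd_mul_left _ hdvd
      rw [h9] at h12
      rw [pow_succ]
      exact h12
    have h11 := (hp.pow_dvd_iff_le_factorization Subgroup.index_ne_zero_of_finite).mp h10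
    omega
  · -- the defect group of `b`
    have hCNeq : Subgroup.centralizer ({y'} : Set N)
        = (Subgroup.centralizer ({(y' : G)} : Set G)).subgroupOf N := centralizer_subtype_eq N y'
    have hQCN : (P ⊓ N).subgroupOf N ≤ Subgroup.centralizer ({y'} : Set N) := by
      rw [hCNeq]
      intro n hn
      rw [Subgroup.mem_subgroupOf] at hn
      rw [Subgroup.mem_subgroupOf]
      exact hPC hn.1
    have hcardQ : Nat.card ((P ⊓ N).subgroupOf N) = Nat.card (P ⊓ N : Subgroup G) :=
      Nat.card_congr (Subgroup.subgroupOfEquivOfLe (inf_le_right : P ⊓ N ≤ N)).toEquiv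
    apply isDefectGroup_of_le_centralizer hy'b _ hQCN
    rw [hcardQ, hinf, blockDefect_eq_of_isDefectClass hM b hb y' hy'b]

end FongCover

end Cfsg.Agent.Lib.Helper24
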