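import Mathlib
import Cfsg.Prelude.Def_Blocks
import Cfsg.Prelude.Def_BlockLocal
import Cfsg.Agent.Lib.Helper24.Knorr2
import Cfsg.Agent.Lib.Helper24.SubTransport

/-!
# Stabilizers of covered blocks when the defect does not grow (helper24)

* `stab_le_of_defect_le`: `N ⊴ G` of `p`-power index, `B` covers `c` and `d(B) ≤ d(c)`: the
  stabilizer of `c` is `N`.
* `stab_inf_eq`: `N ≤ L` normal in `G`, `L/N` a `p`-group, `B` covers `c`, a defect group of `B`
  lies in `N`: the stabilizer of `c` meets `L` in `N`.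
-/

set_option autoImplicit false

namespace Cfsg.Agent.Lib.Helper24

open Cfsg.Agent.Lib.Helper2 Cfsg.Agent.Lib.Helper7
open scoped ComplexConjugate

section StabN

variable {G : Type*} [Group G] [Fintype G] (N : Subgroup G) [hN : N.Normal] [Finite N]

/-- the stabilizer in `G` of a set of irreducible characters of the normal subgroup `N` -/
noncomputable def stabN (c : Set (Cfsg.IrrCharacter N)) : Subgroup G where
  carrier := {x | cs N x c = c}
  one_mem' := cs_one N c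
  mul_mem' := by
    intro x y hx hy
    show cs N (x * y) c = c
    rw [cs_mul, show cs N y c = c from hy]
    exact hx
  inv_mem' := by
    intro x hx
    show cs N x⁻¹ c = c
    have h1 : cs N x⁻¹ (cs N x c) = c := by rw [← cs_mul, inv_mul_cancel, cs_one]
    rw [show cs N x c = c from hx] at h1
    exact h1

theorem mem_stabN_iff (c : Set (Cfsg.IrrCharacter N)) (x : G) :
    x ∈ stabN N c ↔ Cfsg.StabilizesBlock N c x := by
  rw [stabilizesBlock_iff_cs]
  rfl

theorem le_stabN (c : Set (Cfsg.IrrCharacter N)) : N ≤ stabN N c := by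
  intro n hn
  show cs N n c = c
  unfold cs
  have : ∀ χ : Cfsg.IrrCharacter N, conjIrr N (nrm N n) χ = χ :=
    fun χ => conjIrr_of_mem (nrm N n) hn χ
  rw [show conjIrr N (nrm N n) = id from funext this, Set.image_id]

theorem blockDefect_cs (p : ℕ) (x : G) (c : Set (Cfsg.IrrCharacter N)) :
    Cfsg.blockDefect p (cs N x c) = Cfsg.blockDefect p c := by
  unfold Cfsg.blockDefect cs
  rw [Set.image_image]
  congr 2
  apply Set.image_congr
  intro ψ _
  show (Cfsg.charDegree (conjIrr N (nrm N x) ψ).1).factorization p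
    = (Cfsg.charDegree ψ.1).factorization p
  unfold Cfsg.charDegree
  rw [conjIrr_apply, map_one]

end StabN

section StabLe

variable {G : Type*} [Group G] [Fintype G] (N : Subgroup G) [hN : N.Normal] [Fintype N]
variable {p : ℕ} {M : Ideal Cfsg.AlgInt}

theorem isBlockStab_stabN (c : Set (Cfsg.IrrCharacter N)) : IsBlockStab N (stabN N c) c := by
  intro g
  constructor
  · intro hg θ hθ θ' hθ'
    have hg' : cs N g⁻¹ c = c := (stabN N c).inv_mem hg
    have e : θ' = conjIrr N (nrm N g⁻¹) θ := by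
      rw [← conjIrr7_eq]
      exact Subtype.ext (funext hθ')
    rw [e, ← hg']
    exact ⟨θ, hθ, rfl⟩
  · intro h
    have hsub : conjIrr N (nrm N g⁻¹) '' c ⊆ c := by
      rintro _ ⟨θ, hθ, rfl⟩
      rw [← conjIrr7_eq]
      exact h θ hθ _ (fun n => rfl)
    have h1 : Cfsg.StabilizesBlock N c g⁻¹ :=
      (stabilizesBlock_iff N c g⁻¹).mpr ⟨(nrm N g⁻¹).2, hsub⟩
    have h2 := (mem_stabN_iff N c g⁻¹).mpr h1
    have := (stabN N c).inv_mem h2
    rwa [inv_inv] at this

/-- if the defect does not grow, the stabilizer of the covered block is `N` -/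
theorem stab_le_of_defect_le [Fact p.Prime] (hM : Cfsg.IsPModular p M)
    (hidx : ∃ k : ℕ, N.index = p ^ k)
    (B : Set (Cfsg.IrrCharacter G)) (hB : Cfsg.IsPBlock M B)
    (c : Set (Cfsg.IrrCharacter N)) (hc : Cfsg.IsPBlock M c)
    (hcov : ∃ χ ∈ B, ∃ θ ∈ c, Cfsg.classInner (fun n : N => (χ : G → ℂ) n) (θ : N → ℂ) ≠ 0)
    (hd : Cfsg.blockDefect p B ≤ Cfsg.blockDefect p c) (x : G)
    (hx : Cfsg.StabilizesBlock N c x) : x ∈ N := by
  classical
  have hp : p.Prime := Fact.out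
  haveI : Fintype (stabN N c) := Fintype.ofFinite _
  haveI : Fintype (N.subgroupOf (stabN N c)) := Fintype.ofFinite _
  have hNT : N ≤ stabN N c := le_stabN N c
  have hT := isBlockStab_stabN N c
  obtain ⟨B', hB', hcov', hind⟩ := hT.fongReynolds_surjective hM hc hNT B hB hcov
  have hdef := (hT.fongReynolds_defect_height hM hc hNT B' hB' hcov' B hind).1
  obtain ⟨D', hD'⟩ := exists_isDefectGroup hM B' hB'
  have hD'G := hdef D' hD'
  have hcard1 := card_of_isDefectGroup hM B' hB' D' hD'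
  have hcard2 := card_of_isDefectGroup hM B hB _ hD'G
  rw [Subgroup.card_map_of_injective (Subgroup.subtype_injective _), hcard1] at hcard2
  have hdB' : Cfsg.blockDefect p B' = Cfsg.blockDefect p B :=
    Nat.pow_right_injective hp.two_le hcard2
  -- the index of `N` in the stabilizer
  obtain ⟨k, hk⟩ := hidx
  have hrel : N.relIndex (stabN N c) ∣ p ^ k := by
    rw [← hk]
    exact Subgroup.relIndex_dvd_index_of_normal N (stabN N c)
  obtain ⟨j, _, hj⟩ := (Nat.dvd_prime_pow hp).mp hrel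
  have hidxT : (N.subgroupOf (stabN N c)).index = p ^ j := hj
  have hcT : Cfsg.IsPBlock M (toSub N (stabN N c) hNT c) := toSub_isPBlock N _ hNT hc
  have hstT : ∀ y : stabN N c,
      Cfsg.StabilizesBlock (N.subgroupOf (stabN N c)) (toSub N (stabN N c) hNT c) y := by
    intro y
    rw [stabilizesBlock_toSub_iff]
    exact (mem_stabN_iff N c y).mp y.2
  obtain ⟨B₀, hB₀, hB₀c⟩ := exists_block_of_stable (N.subgroupOf (stabN N c)) hM ⟨j, hidxT⟩ _
    hcT hstT
  have hcovT := (covers_toSub_iff N (stabN N c) hNT B' c).mpr hcov'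
  have hBeq := eq_of_covers_stable (N.subgroupOf (stabN N c)) hM _ hstT B₀ hB₀ hB₀c B' hB' hcovT
  have hdB₀ := blockDefect_of_stable (N.subgroupOf (stabN N c)) hM j hidxT _ hcT hstT B₀ hB₀ hB₀c
  rw [← hBeq, hdB', blockDefect_toSub] at hdB₀
  have hj0 : j = 0 := by omega
  rw [hj0, pow_zero] at hj
  have hle : stabN N c ≤ N := Subgroup.relIndex_eq_one.mp hj
  exact hle ((mem_stabN_iff N c x).mpr hx)

end StabLe

section StabInf

variable {G : Type*} [Group G] [Fintype G] (N L : Subgroup G) [hN : N.Normal] [hL : L.Normal]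
  [Fintype N]
variable {p : ℕ} {M : Ideal Cfsg.AlgInt}

/-- `N ≤ L` normal in `G` with `L/N` a `p`-group, `B` covers `c`, a defect group of `B` lies in
`N`: an element of `L` stabilizing `c` lies in `N` -/
theorem mem_of_stabilizes_of_mem [Fact p.Prime] (hM : Cfsg.IsPModular p M) (hNL : N ≤ L)
    (hLN : ∃ k : ℕ, (N.subgroupOf L).index = p ^ k)
    (B : Set (Cfsg.IrrCharacter G)) (hB : Cfsg.IsPBlock M B)
    (c : Set (Cfsg.IrrCharacter N)) (hc : Cfsg.IsPBlock M c)
    (hcov : ∃ χ ∈ B, ∃ θ ∈ c, Cfsg.classInner (fun n : N => (χ : G → ℂ) n) (θ : N → ℂ) ≠ 0)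
    (D : Subgroup G) (hD : Cfsg.IsDefectGroup p M B D) (hDN : D ≤ N)
    (g : G) (hgL : g ∈ L) (hg : Cfsg.StabilizesBlock N c g) : g ∈ N := by
  classical
  have hp : p.Prime := Fact.out
  haveI : Fintype L := Fintype.ofFinite _
  haveI : Fintype (N.subgroupOf L) := Fintype.ofFinite _
  have hcardD := card_of_isDefectGroup hM B hB D hD
  -- Knörr for `L`
  obtain ⟨C, hC, _, hcovC, hDC⟩ := knorr_exists_block L hM B hB D hD
  have hdC : Cfsg.blockDefect p C = Cfsg.blockDefect p B := by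
    have h1 := card_of_isDefectGroup hM C hC _ hDC
    have h2 : Nat.card ((D ⊓ L).subgroupOf L) = Nat.card D := by
      rw [Nat.card_congr (Subgroup.subgroupOfEquivOfLe (inf_le_right : D ⊓ L ≤ L)).toEquiv,
        inf_eq_left.mpr (hDN.trans hNL)]
    rw [h2, hcardD] at h1
    exact (Nat.pow_right_injective hp.two_le h1).symm
  -- Knörr for `N`
  obtain ⟨c₀, hc₀, _, hcovc₀, hDc₀⟩ := knorr_exists_block N hM B hB D hD
  have hdc₀ : Cfsg.blockDefect p c₀ = Cfsg.blockDefect p B := by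
    have h1 := card_of_isDefectGroup hM c₀ hc₀ _ hDc₀
    have h2 : Nat.card ((D ⊓ N).subgroupOf N) = Nat.card D := by
      rw [Nat.card_congr (Subgroup.subgroupOfEquivOfLe (inf_le_right : D ⊓ N ≤ N)).toEquiv,
        inf_eq_left.mpr hDN]
    rw [h2, hcardD] at h1
    exact (Nat.pow_right_injective hp.two_le h1).symm
  -- a block of `N` covered by `C`
  obtain ⟨χ, hχ, ψ, hψ, hχψ⟩ := hcovC
  have hψcf : Cfsg.IsClassFunction N (resTo N L hNL (ψ : L → ℂ)) := by
    intro n m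
    exact IrrCharacter.isClassFunction ψ ⟨n, hNL n.2⟩ ⟨m, hNL m.2⟩
  have hψ1 : resTo N L hNL (ψ : L → ℂ) 1 ≠ 0 := by
    have h0 : (ψ : L → ℂ) 1 ≠ 0 := IsIrrCharacter.apply_one_ne_zero ψ.2
    exact h0
  obtain ⟨θ', hθ'⟩ := exists_constituent_of_isClassFunction (resTo N L hNL (ψ : L → ℂ)) hψcf
    hψ1
  have hχθ' : Cfsg.classInner (fun n : N => (χ : G → ℂ) n) (θ' : N → ℂ) ≠ 0 :=
    liesOver_trans N L hNL χ ψ θ' hχψ hθ'
  have hc' : Cfsg.IsPBlock M (Cfsg.blockOf M (θ' : N → ℂ)) := ⟨θ', rfl⟩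
  have hθ'c' : θ' ∈ Cfsg.blockOf M (θ' : N → ℂ) := mem_blockOf_self hM θ'
  have hcovc' : ∃ χ ∈ B, ∃ θ ∈ Cfsg.blockOf M (θ' : N → ℂ),
      Cfsg.classInner (fun n : N => (χ : G → ℂ) n) (θ : N → ℂ) ≠ 0 := ⟨χ, hχ, θ', hθ'c', hχθ'⟩
  obtain ⟨z, hz⟩ := exists_cs_eq_of_covered N hM B hB _ c₀ hc' hc₀ hcovc' hcovc₀
  have hdc' : Cfsg.blockDefect p (Cfsg.blockOf M (θ' : N → ℂ)) = Cfsg.blockDefect p B := by
    rw [hz, blockDefect_cs, hdc₀]
  obtain ⟨w, hw⟩ := exists_cs_eq_of_covered N hM B hB c _ hc hc' hcov hcovc'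
  -- apply the index-`p`-power lemma inside `L`
  have hcovL : ∃ ψ ∈ C, ∃ θ ∈ toSub N L hNL (Cfsg.blockOf M (θ' : N → ℂ)),
      Cfsg.classInner (fun n : N.subgroupOf L => (ψ : L → ℂ) n)
        (θ : N.subgroupOf L → ℂ) ≠ 0 :=
    (covers_toSub_iff N L hNL C _).mpr ⟨ψ, hψ, θ', hθ'c', hθ'⟩
  have hkey := stab_le_of_defect_le (N.subgroupOf L) hM hLN C hC
    (toSub N L hNL (Cfsg.blockOf M (θ' : N → ℂ))) (toSub_isPBlock N L hNL hc') hcovL
    (by rw [blockDefect_toSub, hdC, hdc'])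
  -- `w⁻¹ g w` stabilizes `c'`
  have hgc : cs N g c = c := (stabilizesBlock_iff_cs N c g).mp hg
  have hst' : cs N (w⁻¹ * g * w) (Cfsg.blockOf M (θ' : N → ℂ)) = Cfsg.blockOf M (θ' : N → ℂ) := by
    rw [cs_mul, cs_mul, ← hw, hgc, hw, ← cs_mul, inv_mul_cancel, cs_one]
  have hmemL : w⁻¹ * g * w ∈ L := by
    have := hL.conj_mem g hgL w⁻¹
    simpa using this
  have h1 := hkey ⟨w⁻¹ * g * w, hmemL⟩ (by
    rw [stabilizesBlock_toSub_iff]
    exact (stabilizesBlock_iff_cs N _ _).mpr hst')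
  have h2 : w⁻¹ * g * w ∈ N := Subgroup.mem_subgroupOf.mp h1
  have := hN.conj_mem _ h2 w
  simpa [mul_assoc] using this

end StabInf

end Cfsg.Agent.Lib.Helper24
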