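import Mathlib
import Cfsg.Prelude.Def_Blocks
import Cfsg.Prelude.Def_BlockLocal
import Cfsg.Agent.Lib.Helper24.KnorrStab
import Cfsg.Agent.Lib.Helper24.FongCover
import Cfsg.Agent.Lib.Helper7.PPrimeNormal
import Cfsg.Agent.Lib.Helper25.Codegree

/-!
# Fong's theorem on blocks over an invariant character of `O_{p'}(G)` (helper24)

Generic form: `N ≤ L` normal in `G`, `N` a `p'`-group, `L/N` a `p`-group of order `p ^ k`, and
every subgroup `Q ≤ L` of order `p ^ k` satisfies `C_G(Q) ≤ L`.  For a `G`-invariant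
`θ ∈ Irr N`, the irreducible characters of `G` over `θ` form one block, of full defect.
-/

set_option autoImplicit false

namespace Cfsg.Agent.Lib.Helper24

open Cfsg.Agent.Lib.Helper2 Cfsg.Agent.Lib.Helper7
open scoped ComplexConjugate

section Regular

variable {G : Type*} [Group G] [Fintype G] (L : Subgroup G) [hL : L.Normal]
variable {p : ℕ} {M : Ideal Cfsg.AlgInt}

/-- a block with a defect group whose centralizer lies in the normal subgroup `L` is regular with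
respect to `L` -/
theorem centralChar_memLocalIdeal_of_centralizer_le [Fact p.Prime] (hM : Cfsg.IsPModular p M)
    (B : Set (Cfsg.IrrCharacter G)) (hB : Cfsg.IsPBlock M B) (P : Subgroup G)
    (hP : Cfsg.IsDefectGroup p M B P) (hCP : Subgroup.centralizer (P : Set G) ≤ L)
    (χ : Cfsg.IrrCharacter G) (hχ : χ ∈ B) (g : G) (hg : g ∉ L) :
    Cfsg.MemLocalIdeal M (Cfsg.centralChar (χ : G → ℂ) g) := by
  by_contra hunit
  obtain ⟨gP, hgP, hle, hcard⟩ := exists_of_isDefectGroup hP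
  obtain ⟨Qg⟩ : Nonempty (Sylow p (Subgroup.centralizer ({g} : Set G))) := inferInstance
  have hmm := minmax hM B hB g gP Qg χ hχ hunit hgP.2.1
  obtain ⟨x, hx⟩ := hmm.exists_le P (IsPGroup.of_card hcard) hle
  apply hg
  have h1 : x * g * x⁻¹ ∈ Subgroup.centralizer (P : Set G) := by
    rw [Subgroup.mem_centralizer_iff]
    intro u hu
    obtain ⟨q, hq, rfl⟩ := hx hu
    obtain ⟨q', _, rfl⟩ := hq
    have h2 := Subgroup.mem_centralizer_iff.mp q'.2 g (Set.mem_singleton g)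
    show x * (q' : G) * x⁻¹ * (x * g * x⁻¹) = x * g * x⁻¹ * (x * (q' : G) * x⁻¹)
    calc x * (q' : G) * x⁻¹ * (x * g * x⁻¹) = x * ((q' : G) * g) * x⁻¹ := by group
      _ = x * (g * (q' : G)) * x⁻¹ := by rw [h2]
      _ = x * g * x⁻¹ * (x * (q' : G) * x⁻¹) := by group
  have h3 := hL.conj_mem _ (hCP h1) x⁻¹
  simpa [mul_assoc] using h3

end Regular

section Fong

variable {G : Type*} [Group G] [Fintype G] (N L : Subgroup G) [hN : N.Normal] [hL : L.Normal]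
  [Fintype N]
variable {p : ℕ} {M : Ideal Cfsg.AlgInt}

theorem stabilizesBlock_singleton_of_invariant (θ : Cfsg.IrrCharacter N)
    (hinv : ∀ (g : G) (n : N), (θ : N → ℂ) ⟨g * n * g⁻¹, hN.conj_mem n n.2 g⟩ = (θ : N → ℂ) n)
    (x : G) : Cfsg.StabilizesBlock N ({θ} : Set (Cfsg.IrrCharacter N)) x := by
  apply stabilizesBlock_of_forall_conj N
  intro g θ₁ hθ₁ θ' hθ'
  rw [Set.mem_singleton_iff] at hθ₁ ⊢
  subst hθ₁
  apply Subtype.ext
  funext n
  rw [hθ' n, hinv]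

theorem blockDefect_singleton_of_not_dvd (hp' : ¬ p ∣ Nat.card N) (θ : Cfsg.IrrCharacter N) :
    Cfsg.blockDefect p ({θ} : Set (Cfsg.IrrCharacter N)) = 0 := by
  unfold Cfsg.blockDefect
  rw [Nat.factorization_eq_zero_of_not_dvd hp', Nat.zero_sub]

/-- **Fong**: characters over the invariant `θ` lie in one block -/
theorem fong_sameBlock [Fact p.Prime] (hM : Cfsg.IsPModular p M) (hNL : N ≤ L)
    (hp' : ¬ p ∣ Nat.card N) (k : ℕ) (hk : (N.subgroupOf L).index = p ^ k)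
    (hHH : ∀ Q : Subgroup G, Q ≤ L → Nat.card Q = p ^ k →
      Subgroup.centralizer (Q : Set G) ≤ L)
    (θ : Cfsg.IrrCharacter N)
    (hinv : ∀ (g : G) (n : N), (θ : N → ℂ) ⟨g * n * g⁻¹, hN.conj_mem n n.2 g⟩ = (θ : N → ℂ) n)
    (χ₁ χ₂ : Cfsg.IrrCharacter G)
    (h₁ : Cfsg.classInner (fun n : N => (χ₁ : G → ℂ) n) (θ : N → ℂ) ≠ 0)
    (h₂ : Cfsg.classInner (fun n : N => (χ₂ : G → ℂ) n) (θ : N → ℂ) ≠ 0) :
    Cfsg.SameBlock M (χ₁ : G → ℂ) (χ₂ : G → ℂ) := by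
  classical
  have hp : p.Prime := Fact.out
  haveI : Fintype L := Fintype.ofFinite _
  haveI : Fintype (N.subgroupOf L) := Fintype.ofFinite _
  have hb : Cfsg.IsPBlock M ({θ} : Set (Cfsg.IrrCharacter N)) :=
    ⟨θ, (blockOf_eq_singleton_of_not_dvd hM hp' θ).symm⟩
  have hstb := stabilizesBlock_singleton_of_invariant N θ hinv
  have hcL : Cfsg.IsPBlock M (toSub N L hNL {θ}) := toSub_isPBlock N L hNL hb
  have hstL : ∀ y : L, Cfsg.StabilizesBlock (N.subgroupOf L) (toSub N L hNL {θ}) y := by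
    intro y
    rw [stabilizesBlock_toSub_iff]
    exact hstb y
  obtain ⟨C₀, hC₀, hC₀c⟩ := exists_block_of_stable (N.subgroupOf L) hM ⟨k, hk⟩ _ hcL hstL
  have hdC₀ : Cfsg.blockDefect p C₀ = k := by
    rw [blockDefect_of_stable (N.subgroupOf L) hM k hk _ hcL hstL C₀ hC₀ hC₀c, blockDefect_toSub,
      blockDefect_singleton_of_not_dvd N hp' θ, zero_add]
  obtain ⟨R, hR⟩ := exists_isDefectGroup hM C₀ hC₀
  have hcardR : Nat.card R = p ^ k := by
    rw [card_of_isDefectGroup hM C₀ hC₀ R hR, hdC₀]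
  have hQL : R.map L.subtype ≤ L := Subgroup.map_subtype_le R
  have hcardQ : Nat.card (R.map L.subtype) = p ^ k := by
    rw [Subgroup.card_map_of_injective L.subtype_injective, hcardR]
  have hQsub : (R.map L.subtype).subgroupOf L = R :=
    Subgroup.comap_map_eq_self_of_injective L.subtype_injective R
  have hQ : Cfsg.IsDefectGroup p M C₀ ((R.map L.subtype).subgroupOf L) := by
    rw [hQsub]; exact hR
  have hCQ := hHH _ hQL hcardQ
  -- both blocks cover `C₀`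
  have key : ∀ χ : Cfsg.IrrCharacter G,
      Cfsg.classInner (fun n : N => (χ : G → ℂ) n) (θ : N → ℂ) ≠ 0 →
      ∃ ψ ∈ C₀, Cfsg.classInner (fun t : L => (χ : G → ℂ) t) (ψ : L → ℂ) ≠ 0 := by
    intro χ h
    obtain ⟨ψ, hχψ, hψθ⟩ := exists_liesOver_between N L hNL χ θ h
    refine ⟨ψ, ?_, hχψ⟩
    have hcovψ := (covers_toSub_iff N L hNL (Cfsg.blockOf M (ψ : L → ℂ)) {θ}).mpr
      ⟨ψ, mem_blockOf_self hM ψ, θ, rfl, hψθ⟩
    have := eq_of_covers_stable (N.subgroupOf L) hM _ hstL C₀ hC₀ hC₀c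
      (Cfsg.blockOf M (ψ : L → ℂ)) ⟨ψ, rfl⟩ hcovψ
    rw [← this]
    exact mem_blockOf_self hM ψ
  have key2 : ∀ χ : Cfsg.IrrCharacter G,
      Cfsg.classInner (fun n : N => (χ : G → ℂ) n) (θ : N → ℂ) ≠ 0 →
      ∀ g : G, g ∉ L → Cfsg.MemLocalIdeal M (Cfsg.centralChar (χ : G → ℂ) g) := by
    intro χ h g hg
    obtain ⟨ψ, hψ, hχψ⟩ := key χ h
    have hcov : ∃ χ' ∈ Cfsg.blockOf M (χ : G → ℂ), ∃ ψ' ∈ C₀,
        Cfsg.classInner (fun t : L => (χ' : G → ℂ) t) (ψ' : L → ℂ) ≠ 0 :=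
      ⟨χ, mem_blockOf_self hM χ, ψ, hψ, hχψ⟩
    obtain ⟨P, hP, hPL⟩ := knorr_exists_defectGroup L hM C₀ hC₀ _ hQL hQ
      (Cfsg.blockOf M (χ : G → ℂ)) ⟨χ, rfl⟩ hcov
    have hCP : Subgroup.centralizer (P : Set G) ≤ L := by
      refine le_trans ?_ hCQ
      apply Subgroup.centralizer_le
      rw [← hPL]
      exact fun u hu => hu.1
    exact centralChar_memLocalIdeal_of_centralizer_le L hM _ ⟨χ, rfl⟩ P hP hCP χ
      (mem_blockOf_self hM χ) g hg
  obtain ⟨ψ₁, hψ₁, hχψ₁⟩ := key χ₁ h₁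
  obtain ⟨ψ₂, hψ₂, hχψ₂⟩ := key χ₂ h₂
  intro g
  by_cases hg : g ∈ L
  · have e1 := covering_cong L hM (Cfsg.blockOf M (χ₁ : G → ℂ)) ⟨χ₁, rfl⟩ C₀ hC₀
      ⟨χ₁, mem_blockOf_self hM χ₁, ψ₁, hψ₁, hχψ₁⟩ χ₁ (mem_blockOf_self hM χ₁) ψ₁ hψ₁ ⟨g, hg⟩
    have e2 := covering_cong L hM (Cfsg.blockOf M (χ₂ : G → ℂ)) ⟨χ₂, rfl⟩ C₀ hC₀
      ⟨χ₂, mem_blockOf_self hM χ₂, ψ₂, hψ₂, hχψ₂⟩ χ₂ (mem_blockOf_self hM χ₂) ψ₁ hψ₁ ⟨g, hg⟩
    have e3 := memLocalIdeal_sub hM e1 e2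
    rw [sub_sub_sub_cancel_right] at e3
    exact e3
  · exact memLocalIdeal_sub hM (key2 χ₁ h₁ g hg) (key2 χ₂ h₂ g hg)

/-- **Fong**: the block over `θ` consists of the characters over `θ` and has full defect -/
theorem fong_block [Fact p.Prime] (hM : Cfsg.IsPModular p M) (hNL : N ≤ L)
    (hp' : ¬ p ∣ Nat.card N) (k : ℕ) (hk : (N.subgroupOf L).index = p ^ k)
    (hHH : ∀ Q : Subgroup G, Q ≤ L → Nat.card Q = p ^ k →
      Subgroup.centralizer (Q : Set G) ≤ L)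
    (θ : Cfsg.IrrCharacter N)
    (hinv : ∀ (g : G) (n : N), (θ : N → ℂ) ⟨g * n * g⁻¹, hN.conj_mem n n.2 g⟩ = (θ : N → ℂ) n) :
    ∃ B : Set (Cfsg.IrrCharacter G), Cfsg.IsPBlock M B ∧
      (∀ χ : Cfsg.IrrCharacter G, χ ∈ B ↔
        Cfsg.classInner (fun n : N => (χ : G → ℂ) n) (θ : N → ℂ) ≠ 0) ∧
      Cfsg.blockDefect p B = (Nat.card G).factorization p := by
  classical
  have hp : p.Prime := Fact.out
  obtain ⟨χ₀, hχ₀⟩ := exists_irr_over N θ
  have hB : Cfsg.IsPBlock M (Cfsg.blockOf M (χ₀ : G → ℂ)) := ⟨χ₀, rfl⟩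
  have hmem : ∀ χ : Cfsg.IrrCharacter G, χ ∈ Cfsg.blockOf M (χ₀ : G → ℂ) ↔
      Cfsg.classInner (fun n : N => (χ : G → ℂ) n) (θ : N → ℂ) ≠ 0 := by
    intro χ
    constructor
    · intro h
      exact constituent_of_sameBlock_of_not_dvd N hM hp' χ₀ χ h θ hχ₀
    · intro h
      exact fong_sameBlock N L hM hNL hp' k hk hHH θ hinv χ₀ χ hχ₀ h
  refine ⟨_, hB, hmem, ?_⟩
  -- the block idempotent is the idempotent of `θ`
  have hstb := stabilizesBlock_singleton_of_invariant N θ hinv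
  have hst' := stable_iff_conjIrr N {θ} hstb
  have hfB : Cfsg.blockCoeff (Cfsg.blockOf M (χ₀ : G → ℂ)) = coverFn N {θ} := by
    apply eq_of_omega_eq _ _ (blockCoeff_isClassFunction _) (coverFn_isClassFunction N _ hst')
    intro χ
    rw [omega_blockCoeff]
    by_cases hχ : χ ∈ Cfsg.blockOf M (χ₀ : G → ℂ)
    · rw [if_pos hχ, omega_coverFn N _ hst' χ θ ((hmem χ).mp hχ), if_pos (Set.mem_singleton θ)]
    · rw [if_neg hχ]
      obtain ⟨θ₁, hθ₁⟩ := exists_constituent_restrict N χ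
      rw [omega_coverFn N _ hst' χ θ₁ hθ₁, if_neg]
      intro h
      rw [Set.mem_singleton_iff] at h
      subst h
      exact hχ ((hmem χ).mpr hθ₁)
  have hne : ¬ Cfsg.MemLocalIdeal M (Cfsg.blockCoeff (Cfsg.blockOf M (χ₀ : G → ℂ)) 1) := by
    rw [hfB]
    unfold coverFn
    rw [extendByZero_apply_mem N _ (Subgroup.one_mem N)]
    have e1 : (⟨1, Subgroup.one_mem N⟩ : N) = 1 := rfl
    rw [e1]
    unfold Cfsg.blockCoeff
    rw [finsum_mem_singleton]
    have hd := Cfsg.Agent.Lib.Helper25.char_one_eq_charDegree (IsIrrCharacter.isCharacter θ.2)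
    rw [hd, Complex.conj_natCast]
    intro hmem'
    have h2 : Cfsg.MemLocalIdeal M ((Nat.card N : ℂ) * ((Nat.card N : ℂ)⁻¹ *
        ((Cfsg.charDegree (θ : N → ℂ) : ℂ) * (Cfsg.charDegree (θ : N → ℂ) : ℂ)))) :=
      memLocalIdeal_mul_left hM (memLocalRing_natCast hM _) hmem'
    have hNne : (Nat.card N : ℂ) ≠ 0 := by
      have : Nat.card N ≠ 0 := Nat.card_pos.ne'
      exact_mod_cast this
    rw [← mul_assoc, mul_inv_cancel₀ hNne, one_mul, ← Nat.cast_mul,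
      memLocalIdeal_natCast_iff hM] at h2
    have h3 : p ∣ Cfsg.charDegree (θ : N → ℂ) := (Nat.Prime.dvd_mul hp).mp h2 |>.elim id id
    exact hp' (h3.trans (Cfsg.Agent.Lib.Helper25.charDegree_dvd_card θ.2))
  have h4 := factorization_le_blockDefect hM _ hB 1 hne
  have hcent : Nat.card (Subgroup.centralizer ({(1 : G)} : Set G)) = Nat.card G := by
    have : Subgroup.centralizer ({(1 : G)} : Set G) = ⊤ := by
      rw [eq_top_iff]
      intro x _
      rw [Subgroup.mem_centralizer_iff]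
      intro y hy
      rw [Set.mem_singleton_iff] at hy
      subst hy
      simp
    rw [this, Subgroup.card_top]
  rw [hcent] at h4
  apply le_antisymm _ h4
  unfold Cfsg.blockDefect
  exact Nat.sub_le _ _

end Fong

end Cfsg.Agent.Lib.Helper24
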