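import Mathlib
import Cfsg.Agent.Lib.Helper24.FongBlock
import Cfsg.Agent.Lib.Helper24.ConjPairs
import Cfsg.Agent.Lib.Helper24.Knorr
import Cfsg.Agent.H5.Cores
import Cfsg.Agent.Lib.Helper10.PComponent

/-!
# Helper24 library: Fong's theorem for `p`-constrained groups

`G` with `K = O_{p'}(G)`, `L = O_{p',p}(G)`, `Q ∈ Syl_p(L)` and `C_G(Q) ≤ L`; `θ ∈ Irr(K)`
`G`-invariant.  Then `Irr(G | θ)` is a block of full defect whose idempotent is that of `θ`, and
every Sylow `p`-subgroup is a defect group.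
-/

set_option autoImplicit false

namespace Cfsg.Agent.Lib.Helper24.FongType

open Cfsg Cfsg.Agent.Lib.Helper2 Cfsg.Agent.Lib.Helper7 Cfsg.Agent.Lib.Helper24
open scoped ComplexConjugate

section Conj

variable {G : Type*} [Group G] [Finite G] {p : ℕ} [Fact p.Prime]

/-- subgroups of `L` of the full `p`-power order are conjugate in `L`, so the centralizer
condition passes between them -/
theorem centralizer_le_of_card (L Q Q' : Subgroup G) [hL : L.Normal] (k : ℕ) (hQL : Q ≤ L)
    (hQ'L : Q' ≤ L) (hcardQ : Nat.card Q = p ^ k) (hcardQ' : Nat.card Q' = p ^ k)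
    (hLk : (Nat.card L).factorization p = k)
    (hCQ : Subgroup.centralizer (Q : Set G) ≤ L) : Subgroup.centralizer (Q' : Set G) ≤ L := by
  have hc : Nat.card (Q.subgroupOf L) = p ^ (Nat.card L).factorization p := by
    rw [hLk, Nat.card_congr (Subgroup.subgroupOfEquivOfLe hQL).toEquiv, hcardQ]
  have hc' : Nat.card (Q'.subgroupOf L) = p ^ (Nat.card L).factorization p := by
    rw [hLk, Nat.card_congr (Subgroup.subgroupOfEquivOfLe hQ'L).toEquiv, hcardQ']
  obtain ⟨l, hl⟩ := MulAction.exists_smul_eq L (Sylow.ofCard (Q.subgroupOf L) hc)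
    (Sylow.ofCard (Q'.subgroupOf L) hc')
  have hl' : ∀ y : G, y ∈ Q' → (l : G)⁻¹ * y * (l : G) ∈ Q := by
    intro y hy
    have h1 : (⟨y, hQ'L hy⟩ : L) ∈ ((Sylow.ofCard (Q'.subgroupOf L) hc' : Sylow p L) :
        Subgroup L) := by
      rw [Sylow.coe_ofCard]; exact hy
    rw [← hl, Sylow.smul_def, Sylow.pointwise_smul_def, Subgroup.mem_pointwise_smul_iff_inv_smul_mem]
      at h1
    rw [Sylow.coe_ofCard, MulAut.smul_def, MulAut.conj_inv_apply, Subgroup.mem_subgroupOf] at h1
    simpa using h1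
  have hcardeq : ∀ z : G, z ∈ Q → ∃ y ∈ Q', (l : G)⁻¹ * y * (l : G) = z := by
    -- the injective map `Q' → Q` is surjective by cardinality
    have hfin : Finite Q := inferInstance
    let f : Q' → Q := fun y => ⟨(l : G)⁻¹ * y * (l : G), hl' y y.2⟩
    have hf : Function.Injective f := by
      intro a b hab
      have := congrArg Subtype.val hab
      simp only [f] at this
      apply Subtype.ext
      have h3 : (l : G)⁻¹ * (a : G) = (l : G)⁻¹ * (b : G) := mul_right_cancel this
      exact mul_left_cancel h3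
    have hbij : Function.Bijective f := by
      rw [Nat.bijective_iff_injective_and_card]
      exact ⟨hf, by rw [hcardQ, hcardQ']⟩
    intro z hz
    obtain ⟨y, hy⟩ := hbij.2 ⟨z, hz⟩
    exact ⟨y, y.2, congrArg Subtype.val hy⟩
  intro x hx
  have hx' : (l : G)⁻¹ * x * (l : G) ∈ Subgroup.centralizer (Q : Set G) := by
    rw [Subgroup.mem_centralizer_iff]
    intro z hz
    obtain ⟨y, hy, rfl⟩ := hcardeq z hz
    have := (Subgroup.mem_centralizer_iff.mp hx) y hy
    calc (l : G)⁻¹ * y * (l : G) * ((l : G)⁻¹ * x * (l : G))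
        = (l : G)⁻¹ * (y * x) * (l : G) := by group
      _ = (l : G)⁻¹ * (x * y) * (l : G) := by rw [this]
      _ = (l : G)⁻¹ * x * (l : G) * ((l : G)⁻¹ * y * (l : G)) := by group
  have h1 := hL.conj_mem _ (hCQ hx') (l : G)
  have h2 : (l : G) * ((l : G)⁻¹ * x * (l : G)) * (l : G)⁻¹ = x := by group
  rwa [h2] at h1

end Conj

section Fong

variable {G : Type*} [Group G] [Fintype G] {p : ℕ} {M : Ideal Cfsg.AlgInt}

/-- the idempotent of a block consisting of the characters over an invariant `θ` -/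
theorem blockCoeff_eq_coverFn (K : Subgroup G) [hKn : K.Normal] [Fintype K]
    (θ : Cfsg.IrrCharacter K)
    (hinv : ∀ (g : G) (n : K), (θ : K → ℂ) ⟨g * n * g⁻¹, hKn.conj_mem n n.2 g⟩ = (θ : K → ℂ) n)
    (B : Set (Cfsg.IrrCharacter G))
    (hmem : ∀ χ : Cfsg.IrrCharacter G, χ ∈ B ↔
      Cfsg.classInner (fun n : K => (χ : G → ℂ) n) (θ : K → ℂ) ≠ 0) :
    Cfsg.blockCoeff B = coverFn K {θ} := by
  classical
  have hstb := stabilizesBlock_singleton_of_invariant K θ hinv
  have hst' := stable_iff_conjIrr K {θ} hstb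
  apply eq_of_omega_eq _ _ (blockCoeff_isClassFunction _) (coverFn_isClassFunction K _ hst')
  intro χ
  rw [omega_blockCoeff]
  by_cases hχ : χ ∈ B
  · rw [if_pos hχ, omega_coverFn K _ hst' χ θ ((hmem χ).mp hχ), if_pos (Set.mem_singleton θ)]
  · rw [if_neg hχ]
    obtain ⟨θ₁, hθ₁⟩ := exists_constituent_restrict K χ
    rw [omega_coverFn K _ hst' χ θ₁ hθ₁, if_neg]
    intro h
    rw [Set.mem_singleton_iff] at h
    subst h
    exact hχ ((hmem χ).mpr hθ₁)

/-- **Fong's theorem for `p`-constrained groups** -/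
theorem fong_constrained [Fact p.Prime] (hM : Cfsg.IsPModular p M) (K : Subgroup G)
    [hKn : K.Normal] [Fintype K] (hK : K = Cfsg.pPrimeCore p G) (L : Subgroup G)
    (hL : L = Cfsg.pPrimePCore p G) (Q : Subgroup G) (hQL : Q ≤ L) (hQp : IsPGroup p Q)
    (hQS : ¬ p ∣ Q.relIndex L) (hCQ : Subgroup.centralizer (Q : Set G) ≤ L)
    (θ : Cfsg.IrrCharacter K)
    (hinv : ∀ (g : G) (n : K), (θ : K → ℂ) ⟨g * n * g⁻¹, hKn.conj_mem n n.2 g⟩ = (θ : K → ℂ) n) :
    ∃ B : Set (Cfsg.IrrCharacter G), Cfsg.IsPBlock M B ∧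
      (∀ χ : Cfsg.IrrCharacter G, χ ∈ B ↔
        Cfsg.classInner (fun n : K => (χ : G → ℂ) n) (θ : K → ℂ) ≠ 0) ∧
      Cfsg.blockDefect p B = (Nat.card G).factorization p := by
  classical
  have hp : p.Prime := Fact.out
  subst hK
  subst hL
  haveI hLn : (Cfsg.pPrimePCore p G).Normal := Cfsg.Agent.Lib.Helper10.pPrimePCore_normal p
  have hNL : Cfsg.pPrimeCore p G ≤ Cfsg.pPrimePCore p G :=
    Cfsg.Agent.Lib.Helper10.pPrimeCore_le_pPrimePCore p
  have hcop : (Nat.card (Cfsg.pPrimeCore p G)).Coprime p := Cfsg.H5.coprime_card_pPrimeCore p G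
  have hp' : ¬ p ∣ Nat.card (Cfsg.pPrimeCore p G) := by
    intro h
    have := Nat.Coprime.eq_one_of_dvd hcop.symm h
    exact hp.one_lt.ne' this
  have hker : (Cfsg.Agent.Lib.Helper10.pPrimePCoreHom p G).ker
      = (Cfsg.pPrimeCore p G).subgroupOf (Cfsg.pPrimePCore p G) := by
    ext x
    rw [MonoidHom.mem_ker, Subgroup.mem_subgroupOf]
    constructor
    · intro h
      have h1 := congrArg Subtype.val h
      rw [Cfsg.Agent.Lib.Helper10.pPrimePCoreHom_apply] at h1
      exact (QuotientGroup.eq_one_iff _).mp h1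
    · intro h
      apply Subtype.ext
      rw [Cfsg.Agent.Lib.Helper10.pPrimePCoreHom_apply]
      exact (QuotientGroup.eq_one_iff _).mpr h
  have hidx0 : ((Cfsg.pPrimeCore p G).subgroupOf (Cfsg.pPrimePCore p G)).index
      = Nat.card (Cfsg.pCore p (G ⧸ Cfsg.pPrimeCore p G)) := by
    rw [← hker, ← MonoidHom.comap_bot,
      Subgroup.index_comap_of_surjective _ (Cfsg.Agent.Lib.Helper10.pPrimePCoreHom_surjective p),
      Subgroup.index_bot]
  obtain ⟨k, hk0⟩ := (Cfsg.H5.pCore_isPGroup p (G ⧸ Cfsg.pPrimeCore p G)).exists_card_eq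
  have hk : ((Cfsg.pPrimeCore p G).subgroupOf (Cfsg.pPrimePCore p G)).index = p ^ k := by
    rw [hidx0, hk0]
  have hcardL' : Nat.card (Cfsg.pPrimePCore p G) = Nat.card (Cfsg.pPrimeCore p G) * p ^ k := by
    have h1 := Subgroup.card_mul_index
      ((Cfsg.pPrimeCore p G).subgroupOf (Cfsg.pPrimePCore p G))
    rw [hk, Nat.card_congr (Subgroup.subgroupOfEquivOfLe hNL).toEquiv] at h1
    exact h1.symm
  have hcardL : (Nat.card (Cfsg.pPrimePCore p G)).factorization p = k := by
    rw [hcardL', Nat.factorization_mul Nat.card_pos.ne' (pow_ne_zero _ hp.ne_zero),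
      Nat.Prime.factorization_pow hp, Finsupp.add_apply,
      Nat.factorization_eq_zero_of_not_dvd hp']
    simp
  -- the order of `Q`
  have hQcard : Nat.card Q = p ^ k := by
    obtain ⟨j, hj⟩ := hQp.exists_card_eq
    have h1 : Nat.card Q * Q.relIndex (Cfsg.pPrimePCore p G) = Nat.card (Cfsg.pPrimePCore p G) := by
      have := Subgroup.card_mul_index (Q.subgroupOf (Cfsg.pPrimePCore p G))
      rwa [Nat.card_congr (Subgroup.subgroupOfEquivOfLe hQL).toEquiv] at this
    have h2 : (Nat.card Q).factorization p = k := by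
      have h3 : (Nat.card Q * Q.relIndex (Cfsg.pPrimePCore p G)).factorization p
          = (Nat.card (Cfsg.pPrimePCore p G)).factorization p := by rw [h1]
      rw [Nat.factorization_mul Nat.card_pos.ne' (fun h0 => by simp [h0] at hQS),
        Finsupp.add_apply, Nat.factorization_eq_zero_of_not_dvd hQS, add_zero, hcardL] at h3
      exact h3
    rw [hj, Nat.Prime.factorization_pow hp] at h2
    have h4 : j = k := by simpa using h2
    rw [hj, h4]
  have hHH : ∀ Q' : Subgroup G, Q' ≤ Cfsg.pPrimePCore p G → Nat.card Q' = p ^ k →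
      Subgroup.centralizer (Q' : Set G) ≤ Cfsg.pPrimePCore p G := by
    intro Q' hQ'L hQ'card
    exact centralizer_le_of_card _ Q Q' k hQL hQ'L hQcard hQ'card hcardL hCQ
  exact fong_block (Cfsg.pPrimeCore p G) (Cfsg.pPrimePCore p G) hM hNL hp' k hk hHH θ hinv

/-- a block of full defect has the Sylow subgroups as defect groups -/
theorem isDefectGroup_sylow [Fact p.Prime] (hM : Cfsg.IsPModular p M)
    (B : Set (Cfsg.IrrCharacter G)) (hB : Cfsg.IsPBlock M B)
    (hdef : Cfsg.blockDefect p B = (Nat.card G).factorization p) (P : Sylow p G) :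
    Cfsg.IsDefectGroup p M B P := by
  obtain ⟨D₀, hD₀⟩ := exists_isDefectGroup hM B hB
  have hc0 : Nat.card D₀ = p ^ (Nat.card G).factorization p := by
    rw [Cfsg.Agent.Lib.Helper7.card_of_isDefectGroup hM B hB D₀ hD₀, hdef]
  obtain ⟨g, hg⟩ := MulAction.exists_smul_eq G (Sylow.ofCard D₀ hc0) P
  have h1 : (P : Subgroup G) = D₀.map (MulAut.conj g).toMonoidHom := by
    rw [← hg, Sylow.smul_def, Sylow.pointwise_smul_def, Subgroup.pointwise_smul_def]
    rfl
  rw [h1]
  exact isDefectGroup_map_conj hD₀ g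

end Fong

end Cfsg.Agent.Lib.Helper24.FongType
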