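import Mathlib
import Cfsg.Agent.Lib.Helper2.GlaubermanPGroup
import Cfsg.Agent.Lib.Helper2.RelChar
import Cfsg.Agent.Lib.Helper7.CliffordCentral
import Cfsg.Agent.Lib.Helper7.Covering
import Cfsg.Agent.Lib.Helper24.FongTypeA

/-!
# Helper24 library: the Brauer map of the idempotent of an invariant character of a normal
`p'`-subgroup, via the Glauberman correspondence for `p`-groups

* `sum_mul_eq_of_constituent`: central characters over a constituent, for invariant weights.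
* `exists_glauberman`: the distinguished constituent `β₀` of `θ` restricted to `C_K(R)`.
* `invUnder_glauberman`: `β₀` is invariant under `C_G(R)`.
* `cinn_ne_zero_of_brauerOmega`: a block of `C_G(R)` occurring in the Brauer-map image of the
  idempotent of `θ` lies over `β₀`.
-/

set_option autoImplicit false

namespace Cfsg.Agent.Lib.Helper24.FongType

open Cfsg Cfsg.Agent.Lib Cfsg.Agent.Lib.Helper2 Cfsg.Agent.Lib.Helper7 Cfsg.Agent.Lib.Helper24
open Cfsg.Agent.Lib.Helper2.GlPG Cfsg.Agent.Lib.Helper2.Rel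
open scoped ComplexConjugate

section Central

variable {H : Type*} [Group H] [Fintype H] (N : Subgroup H) [hN : N.Normal] [Fintype N]

/-- for an `H`-invariant weight `a` on the normal subgroup `N`, the central character of `ξ` at
`a` is that of any constituent `η` of `ξ_N` -/
theorem sum_mul_eq_of_constituent (ξ : Cfsg.IrrCharacter H) (η : Cfsg.IrrCharacter N)
    (hcon : Cfsg.classInner (fun n : N => (ξ : H → ℂ) n) (η : N → ℂ) ≠ 0) (a : N → ℂ)
    (ha : ∀ (x : H) (n : N), a ⟨x * n * x⁻¹, hN.conj_mem n n.2 x⟩ = a n) :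
    (∑ n : N, a n * (ξ : H → ℂ) n) * (η : N → ℂ) 1
      = (ξ : H → ℂ) 1 * ∑ n : N, a n * (η : N → ℂ) n := by
  have hcross := restrict_cross_of_constituent N ξ.2 η.2 hcon
  have hind : ∀ n : N, Cfsg.indFun N (η : N → ℂ) n
      = (Nat.card N : ℂ)⁻¹ * ∑ g : H, Helper11.conjFn N g (η : N → ℂ) n :=
    fun n => Helper11.indFun_apply_of_normal N _ n
  have hcardN : (Nat.card N : ℂ) ≠ 0 := by
    have : Nat.card N ≠ 0 := Nat.card_pos.ne'
    exact_mod_cast this
  have hcardH : (Nat.card H : ℂ) ≠ 0 := by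
    have : Nat.card H ≠ 0 := Nat.card_pos.ne'
    exact_mod_cast this
  -- the weighted sum of the induced function
  have hsumI : ∑ n : N, a n * Cfsg.indFun N (η : N → ℂ) n
      = (Nat.card N : ℂ)⁻¹ * ((Nat.card H : ℂ) * ∑ n : N, a n * (η : N → ℂ) n) := by
    have hg : ∀ g : H, ∑ n : N, (Nat.card N : ℂ)⁻¹ * (a n * Helper11.conjFn N g (η : N → ℂ) n)
        = (Nat.card N : ℂ)⁻¹ * ∑ n : N, a n * (η : N → ℂ) n := by
      intro g
      rw [Finset.mul_sum]
      rw [← Equiv.sum_comp (MulAut.conjNormal g : N ≃* N).toEquiv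
        (fun n => (Nat.card N : ℂ)⁻¹ * (a n * (η : N → ℂ) n))]
      apply Finset.sum_congr rfl
      intro n _
      have h1 : ((MulAut.conjNormal g : N ≃* N).toEquiv n) = ⟨g * n * g⁻¹, hN.conj_mem n n.2 g⟩ := by
        apply Subtype.ext
        simp [MulAut.conjNormal_apply]
      rw [h1, ha g n, Helper11.conjFn_apply]
    calc ∑ n : N, a n * Cfsg.indFun N (η : N → ℂ) n
        = ∑ n : N, ∑ g : H, (Nat.card N : ℂ)⁻¹ * (a n * Helper11.conjFn N g (η : N → ℂ) n) := by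
          apply Finset.sum_congr rfl
          intro n _
          rw [hind n, Finset.mul_sum, Finset.mul_sum]
          apply Finset.sum_congr rfl
          intro g _
          ring
      _ = ∑ g : H, ∑ n : N, (Nat.card N : ℂ)⁻¹ * (a n * Helper11.conjFn N g (η : N → ℂ) n) :=
          Finset.sum_comm
      _ = ∑ _g : H, (Nat.card N : ℂ)⁻¹ * ∑ n : N, a n * (η : N → ℂ) n := by
          apply Finset.sum_congr rfl
          intro g _
          exact hg g
      _ = _ := by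
          rw [Finset.sum_const, Finset.card_univ, nsmul_eq_mul, ← Nat.card_eq_fintype_card]
          ring
  have hI1 : Cfsg.indFun N (η : N → ℂ) 1
      = (Nat.card N : ℂ)⁻¹ * ((Nat.card H : ℂ) * (η : N → ℂ) 1) := by
    have := hind 1
    simp only [OneMemClass.coe_one] at this
    rw [this]
    have h2 : ∀ g : H, Helper11.conjFn N g (η : N → ℂ) 1 = (η : N → ℂ) 1 := by
      intro g
      rw [Helper11.conjFn_apply]
      have h0 : (⟨g * ((1 : N) : H) * g⁻¹, hN.conj_mem _ (1 : N).2 g⟩ : N) = 1 :=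
        Subtype.ext (by simp)
      rw [h0]
    rw [Finset.sum_congr rfl (fun g _ => h2 g), Finset.sum_const, Finset.card_univ,
      nsmul_eq_mul, ← Nat.card_eq_fintype_card]
  -- combine
  have h3 : (∑ n : N, a n * (ξ : H → ℂ) n) * Cfsg.indFun N (η : N → ℂ) 1
      = (ξ : H → ℂ) 1 * ∑ n : N, a n * Cfsg.indFun N (η : N → ℂ) n := by
    rw [Finset.sum_mul, Finset.mul_sum]
    apply Finset.sum_congr rfl
    intro n _
    rw [mul_assoc, hcross n]
    ring
  rw [hsumI, hI1] at h3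
  have h4 : (Nat.card N : ℂ)⁻¹ * (Nat.card H : ℂ) ≠ 0 :=
    mul_ne_zero (inv_ne_zero hcardN) hcardH
  apply mul_left_cancel₀ h4
  calc (Nat.card N : ℂ)⁻¹ * (Nat.card H : ℂ) * ((∑ n : N, a n * (ξ : H → ℂ) n) * (η : N → ℂ) 1)
      = (∑ n : N, a n * (ξ : H → ℂ) n) *
          ((Nat.card N : ℂ)⁻¹ * ((Nat.card H : ℂ) * (η : N → ℂ) 1)) := by ring
    _ = (ξ : H → ℂ) 1 * ((Nat.card N : ℂ)⁻¹ * ((Nat.card H : ℂ) * ∑ n : N, a n * (η : N → ℂ) n)) := h3
    _ = _ := by ring

end Central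

section Glauberman

open Classical

variable {G : Type*} [Group G] [Fintype G] {p : ℕ} {M : Ideal Cfsg.AlgInt}

/-- the Glauberman correspondent (for a `p`-group `R` acting on the normal `p'`-subgroup `K`) as
the unique constituent of multiplicity prime to `p` -/
theorem exists_glauberman [Fact p.Prime] (K R : Subgroup G) [hKn : K.Normal]
    (hp' : ¬ p ∣ Nat.card K) (hR : IsPGroup p R) (θ : Cfsg.IrrCharacter K)
    (hinv : ∀ x ∈ R, InvUnder K x (θ : K → ℂ)) :
    ∃ β₀ : Cfsg.IrrCharacter ↥(K ⊓ Subgroup.centralizer (R : Set G)),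
      (∃ m : ℕ, cinn (res (inf_le_left : K ⊓ Subgroup.centralizer (R : Set G) ≤ K) (θ : K → ℂ))
        (β₀ : ↥(K ⊓ Subgroup.centralizer (R : Set G)) → ℂ) = (m : ℂ) ∧ ¬ p ∣ m) ∧
      ∀ β : Cfsg.IrrCharacter ↥(K ⊓ Subgroup.centralizer (R : Set G)), β ≠ β₀ →
        ∃ m : ℕ, cinn (res (inf_le_left : K ⊓ Subgroup.centralizer (R : Set G) ≤ K) (θ : K → ℂ))
          (β : ↥(K ⊓ Subgroup.centralizer (R : Set G)) → ℂ) = (m : ℂ) ∧ p ∣ m := by
  have hp : p.Prime := Fact.out
  have hcop : (Nat.card K).Coprime (Nat.card R) := by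
    obtain ⟨j, hj⟩ := hR.exists_card_eq
    rw [hj]
    exact Nat.Coprime.pow_right j ((Nat.Prime.coprime_iff_not_dvd hp).mpr hp').symm
  have hnorm : R ≤ Subgroup.normalizer (K : Set G) := by
    rw [Subgroup.normalizer_eq_top]; exact le_top
  have hgl := glP_pgroup hp (Nat.card R) R rfl hR K hnorm hcop
    (K ⊓ Subgroup.centralizer (R : Set G)) rfl inf_le_left
  obtain ⟨β₀, ε, hε, hmult⟩ := hgl.ex θ hinv
  refine ⟨β₀, ?_, ?_⟩
  · obtain ⟨m, hm, hcong⟩ := hmult β₀
    refine ⟨m, hm, ?_⟩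
    rw [if_pos rfl] at hcong
    exact not_dvd_of_modEq_unit hp hε hcong
  · intro β hβ
    obtain ⟨m, hm, hcong⟩ := hmult β
    refine ⟨m, hm, ?_⟩
    rw [if_neg hβ] at hcong
    exact dvd_of_modEq_zero hcong

/-- the distinguished constituent is invariant under every element of `C_G(R)` fixing `θ` -/
theorem invUnder_glauberman [Fact p.Prime] (K R : Subgroup G) [hKn : K.Normal]
    (θ : Cfsg.IrrCharacter K)
    (β₀ : Cfsg.IrrCharacter ↥(K ⊓ Subgroup.centralizer (R : Set G)))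
    (h0 : ∃ m : ℕ, cinn (res (inf_le_left : K ⊓ Subgroup.centralizer (R : Set G) ≤ K) (θ : K → ℂ))
        (β₀ : ↥(K ⊓ Subgroup.centralizer (R : Set G)) → ℂ) = (m : ℂ) ∧ ¬ p ∣ m)
    (hrest : ∀ β : Cfsg.IrrCharacter ↥(K ⊓ Subgroup.centralizer (R : Set G)), β ≠ β₀ →
        ∃ m : ℕ, cinn (res (inf_le_left : K ⊓ Subgroup.centralizer (R : Set G) ≤ K) (θ : K → ℂ))
          (β : ↥(K ⊓ Subgroup.centralizer (R : Set G)) → ℂ) = (m : ℂ) ∧ p ∣ m)
    (c : G) (hc : c ∈ Subgroup.centralizer (R : Set G)) (hθc : InvUnder K c (θ : K → ℂ)) :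
    InvUnder (K ⊓ Subgroup.centralizer (R : Set G)) c
      (β₀ : ↥(K ⊓ Subgroup.centralizer (R : Set G)) → ℂ) := by
  have hcK : c ∈ Subgroup.normalizer (K : Set G) := by
    rw [Subgroup.normalizer_eq_top]; exact Subgroup.mem_top c
  have hcR : c ∈ Subgroup.normalizer (R : Set G) := Subgroup.centralizer_le_normalizer _ hc
  have hcn := mem_normalizer_inf_centralizer hcK hcR
  set β₁ : Cfsg.IrrCharacter ↥(K ⊓ Subgroup.centralizer (R : Set G)) :=
    ⟨cj _ c hcn (β₀ : ↥(K ⊓ Subgroup.centralizer (R : Set G)) → ℂ), cj_isIrr _ c hcn β₀.2⟩ with hβ₁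
  have hθ' : cj K c hcK (θ : K → ℂ) = (θ : K → ℂ) := (invUnder_iff_cj_eq K c hcK _).mp hθc
  have hres : cj _ c hcn (res (inf_le_left : K ⊓ Subgroup.centralizer (R : Set G) ≤ K) (θ : K → ℂ))
      = res inf_le_left (θ : K → ℂ) := by
    rw [← res_cj inf_le_left c hcK hcn, hθ']
  have hcinn : cinn (res (inf_le_left : K ⊓ Subgroup.centralizer (R : Set G) ≤ K) (θ : K → ℂ))
      (β₁ : ↥(K ⊓ Subgroup.centralizer (R : Set G)) → ℂ)
      = cinn (res inf_le_left (θ : K → ℂ)) (β₀ : ↥(K ⊓ Subgroup.centralizer (R : Set G)) → ℂ) := by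
    conv_lhs => rw [← hres]
    exact cinn_cj _ c hcn _ _
  have heq : β₁ = β₀ := by
    by_contra hne
    obtain ⟨m', hm', hpm'⟩ := hrest β₁ hne
    obtain ⟨m, hm, hpm⟩ := h0
    rw [hcinn, hm] at hm'
    have : m = m' := by exact_mod_cast hm'
    exact hpm (this ▸ hpm')
  rw [invUnder_iff_cj_eq _ c hcn]
  exact congrArg Subtype.val heq

end Glauberman

section Key

open Classical

variable {G : Type*} [Group G] [Fintype G] {p : ℕ} {M : Ideal Cfsg.AlgInt} (K R : Subgroup G)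

local notation "CR" => (Subgroup.centralizer ((R : Subgroup G) : Set G))
local notation "KCR" => (K ⊓ Subgroup.centralizer ((R : Subgroup G) : Set G))
local notation "NR" => (Subgroup.subgroupOf (K ⊓ Subgroup.centralizer ((R : Subgroup G) : Set G))
  (Subgroup.centralizer ((R : Subgroup G) : Set G)))

/-- **key step**: a character `ξ` of `C_G(R)` at which the Brauer-map image of the idempotent of
`θ` is a unit lies over the distinguished constituent `β₀` -/
theorem cinn_ne_zero_of_brauerOmega [Fact p.Prime] (hM : Cfsg.IsPModular p M)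
    [hKn : K.Normal] [Fintype K] (hp' : ¬ p ∣ Nat.card K) (θ : Cfsg.IrrCharacter K)
    (hinv : ∀ (g : G) (n : K), (θ : K → ℂ) ⟨g * n * g⁻¹, hKn.conj_mem n n.2 g⟩ = (θ : K → ℂ) n)
    (β₀ : Cfsg.IrrCharacter ↥KCR)
    (hrest : ∀ β : Cfsg.IrrCharacter ↥KCR, β ≠ β₀ →
        ∃ m : ℕ, cinn (res (inf_le_left : KCR ≤ K) (θ : K → ℂ)) (β : ↥KCR → ℂ) = (m : ℂ) ∧ p ∣ m)
    (ξ : Cfsg.IrrCharacter ↥CR)
    (hξ : Cfsg.MemLocalIdeal M (Cfsg.brauerOmega R (coverFn K {θ}) (ξ : ↥CR → ℂ) - 1)) :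
    cinn (res (inf_le_right : KCR ≤ CR) (ξ : ↥CR → ℂ)) (β₀ : ↥KCR → ℂ) ≠ 0 := by
  have hp : p.Prime := Fact.out
  haveI : Fintype CR := Fintype.ofFinite _
  haveI : Fintype NR := Fintype.ofFinite _
  haveI : Fintype ↥KCR := Fintype.ofFinite _
  haveI hN'n : (NR).Normal := by
    have h1 : NR = K.subgroupOf CR := Subgroup.inf_subgroupOf_right K CR
    rw [h1]; exact hKn.subgroupOf CR
  have hKCC : KCR ≤ CR := inf_le_right
  have hKCK : KCR ≤ K := inf_le_left
  obtain ⟨η₀, hη₀⟩ := exists_constituent_restrict NR ξ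
  let e : ↥NR ≃* ↥KCR := Subgroup.subgroupOfEquivOfLe hKCC
  set β : Cfsg.IrrCharacter ↥KCR :=
    ⟨(η₀ : NR → ℂ) ∘ e.symm, Helper11.isIrrCharacter_comp_equiv e.symm η₀.2⟩ with hβ
  have hpbβ : pb CR (β : ↥KCR → ℂ) = (η₀ : NR → ℂ) := by
    rw [pb_eq hKCC]
    funext n
    show (η₀ : NR → ℂ) (e.symm (e n)) = _
    rw [MulEquiv.symm_apply_apply]
  -- the weight
  set a : NR → ℂ := fun n => coverFn K {θ} ((n : CR) : G) with ha
  have hstb := stabilizesBlock_singleton_of_invariant K θ hinv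
  have hst' := stable_iff_conjIrr K {θ} hstb
  have hcf : Cfsg.IsClassFunction G (coverFn K {θ}) := coverFn_isClassFunction K _ hst'
  have hainv : ∀ (x : CR) (n : NR), a ⟨x * n * x⁻¹, hN'n.conj_mem n n.2 x⟩ = a n := by
    intro x n
    show coverFn K {θ} (((x * (n : CR) * x⁻¹ : CR)) : G) = coverFn K {θ} ((n : CR) : G)
    have : (((x * (n : CR) * x⁻¹ : CR)) : G) = (x : G) * ((n : CR) : G) * (x : G)⁻¹ := by simp
    rw [this]
    exact hcf _ _
  -- brauerOmega as a sum over `N'`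
  have hξ1 : (ξ : CR → ℂ) 1 ≠ 0 := IsIrrCharacter.apply_one_ne_zero ξ.2
  have hη1 : (η₀ : NR → ℂ) 1 ≠ 0 := IsIrrCharacter.apply_one_ne_zero η₀.2
  have hext : ∀ x : CR, coverFn K {θ} (x : G) = Cfsg.extendByZero NR a x := by
    intro x
    by_cases hx : x ∈ NR
    · rw [extendByZero_of_mem NR a hx]
    · rw [extendByZero_of_not_mem NR a hx]
      have hxK : (x : G) ∉ K := by
        intro h
        exact hx (Subgroup.mem_subgroupOf.mpr ⟨h, x.2⟩)
      unfold coverFn
      exact extendByZero_of_not_mem K _ hxK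
  have hbo : Cfsg.brauerOmega R (coverFn K {θ}) (ξ : CR → ℂ)
      = (∑ n : NR, a n * (ξ : CR → ℂ) n) / (ξ : CR → ℂ) 1 := by
    unfold Cfsg.brauerOmega
    rw [finsum_eq_sum_of_fintype, ← Finset.sum_div]
    congr 1
    rw [← sum_extendByZero_mul NR a (ξ : CR → ℂ)]
    apply Finset.sum_congr rfl
    intro x _
    rw [hext x]
  have hkey := sum_mul_eq_of_constituent NR ξ η₀ hη₀ a hainv
  have hbo2 : Cfsg.brauerOmega R (coverFn K {θ}) (ξ : CR → ℂ)
      = (∑ n : NR, a n * (η₀ : NR → ℂ) n) / (η₀ : NR → ℂ) 1 := by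
    rw [hbo, div_eq_div_iff hξ1 hη1, hkey]
    ring
  -- the values of the weight
  have haval : ∀ n : NR, a n = (Nat.card K : ℂ)⁻¹ * ((θ : K → ℂ) 1 *
      conj (pb CR (res hKCK (θ : K → ℂ)) n)) := by
    intro n
    have hnK : ((n : CR) : G) ∈ K := (Subgroup.mem_subgroupOf.mp n.2).1
    show coverFn K {θ} ((n : CR) : G) = _
    unfold coverFn
    rw [extendByZero_of_mem K _ hnK]
    unfold Cfsg.blockCoeff
    rw [finsum_mem_singleton]
    rfl
  have hsum : ∑ n : NR, a n * (η₀ : NR → ℂ) n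
      = (Nat.card K : ℂ)⁻¹ * (θ : K → ℂ) 1 * ((Nat.card NR : ℂ) *
        Cfsg.classInner (η₀ : NR → ℂ) (pb CR (res hKCK (θ : K → ℂ)))) := by
    rw [classInner_def]
    have hcardN' : (Nat.card NR : ℂ) ≠ 0 := by
      have : Nat.card NR ≠ 0 := Nat.card_pos.ne'
      exact_mod_cast this
    rw [← mul_assoc (Nat.card NR : ℂ), mul_inv_cancel₀ hcardN', one_mul, Finset.mul_sum]
    apply Finset.sum_congr rfl
    intro n _
    rw [haval n]
    ring
  -- the multiplicity
  have hmult : ∀ m : ℕ, cinn (res hKCK (θ : K → ℂ)) (β : ↥KCR → ℂ) = (m : ℂ) →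
      Cfsg.classInner (η₀ : NR → ℂ) (pb CR (res hKCK (θ : K → ℂ))) = (m : ℂ) := by
    intro m hm
    rw [← hpbβ, classInner_pb_cinn hKCC]
    have h1 : cinn (β : ↥KCR → ℂ) (res hKCK (θ : K → ℂ))
        = conj (cinn (res hKCK (θ : K → ℂ)) (β : ↥KCR → ℂ)) := by
      rw [cinn_eq, cinn_eq, classInner_conj_symm]
    rw [h1, hm, Complex.conj_natCast]
  -- degrees
  have hθd := Cfsg.Agent.Lib.Helper25.char_one_eq_charDegree (IsIrrCharacter.isCharacter θ.2)
  have hηd := Cfsg.Agent.Lib.Helper25.char_one_eq_charDegree (IsIrrCharacter.isCharacter η₀.2)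
  have hηdvd : ¬ p ∣ Cfsg.charDegree (η₀ : NR → ℂ) := by
    intro h
    apply hp'
    have h1 : Cfsg.charDegree (η₀ : NR → ℂ) ∣ Nat.card NR :=
      Cfsg.Agent.Lib.Helper25.charDegree_dvd_card η₀.2
    have h2 : Nat.card NR ∣ Nat.card K := by
      rw [Nat.card_congr e.toEquiv]
      exact Subgroup.card_dvd_of_le hKCK
    exact h.trans (h1.trans h2)
  -- conclusion
  by_cases hββ₀ : β = β₀
  · rw [← hββ₀]
    have h1 : cinn (res hKCC (ξ : CR → ℂ)) (β : ↥KCR → ℂ)
        = Cfsg.classInner (fun n : NR => (ξ : CR → ℂ) n) (η₀ : NR → ℂ) := by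
      rw [← hpbβ, ← classInner_pb_cinn hKCC]
      rfl
    rw [h1]
    exact hη₀
  · exfalso
    obtain ⟨m, hm, hpm⟩ := hrest β hββ₀
    have hcl := hmult m hm
    have hval : Cfsg.brauerOmega R (coverFn K {θ}) (ξ : CR → ℂ)
        = (m : ℂ) * ((Nat.card K : ℂ)⁻¹ * ((Cfsg.charDegree (θ : K → ℂ) : ℂ) *
          ((Nat.card NR : ℂ) * ((Cfsg.charDegree (η₀ : NR → ℂ) : ℕ) : ℂ)⁻¹))) := by
      rw [hbo2, hsum, hcl, hθd, hηd]
      field_simp
    have hloc : Cfsg.MemLocalIdeal M (Cfsg.brauerOmega R (coverFn K {θ}) (ξ : CR → ℂ)) := by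
      rw [hval]
      apply memLocalIdeal_mul_right hM ((memLocalIdeal_natCast_iff hM m).mpr hpm)
      apply memLocalRing_mul hM (memLocalRing_natCast_inv hM hp')
      apply memLocalRing_mul hM (memLocalRing_natCast hM _)
      exact memLocalRing_mul hM (memLocalRing_natCast hM _) (memLocalRing_natCast_inv hM hηdvd)
    have h1 : Cfsg.MemLocalIdeal M (1 : ℂ) := by
      have := memLocalIdeal_sub hM hloc hξ
      simpa using this
    exact not_memLocalIdeal_one hM h1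

end Key

end Cfsg.Agent.Lib.Helper24.FongType
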