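import Mathlib
import Cfsg.Agent.Lib.Helper24.FongTypeB
import Cfsg.Agent.Lib.Helper24.AbelianFree
import Cfsg.Agent.Lib.Helper24.PairTools
import Cfsg.Agent.S0631

/-!
# Helper24 library: blocks of `p`-constrained groups over invariant characters of `O_{p'}` are of
principal type

* `card_of_not_dvd_relIndex`, `isPConstrained_of_sylow`, `exists_sylow_of_isPConstrained`:
  passing between the statement's hypotheses and `IsPConstrained`.
* `pPrimeCore_centralizer`: `O_{p'}(C_G(R)) = O_{p'}(G) ∩ C_G(R)` for a `p`-subgroup `R` of a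
  `p`-constrained group.
* `exists_isInducedBlock`: existence of a block of `C_G(R)` inducing a block of full defect.
* `exists_forall_eq_of_isInducedBlock`: uniqueness.
-/

set_option autoImplicit false

namespace Cfsg.Agent.Lib.Helper24.FongType

open Cfsg Cfsg.Agent.Lib Cfsg.Agent.Lib.Helper2 Cfsg.Agent.Lib.Helper7 Cfsg.Agent.Lib.Helper24
open Cfsg.Agent.Lib.Helper2.GlPG Cfsg.Agent.Lib.Helper2.Rel
open scoped ComplexConjugate

section Constrained

variable {G : Type*} [Group G] [Finite G] {p : ℕ} [Fact p.Prime]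

/-- a `p`-subgroup of `L` of index prime to `p` has the full `p`-power order -/
theorem card_of_not_dvd_relIndex (L Q : Subgroup G) (hQL : Q ≤ L) (hQp : IsPGroup p Q)
    (hQS : ¬ p ∣ Q.relIndex L) : Nat.card Q = p ^ (Nat.card L).factorization p := by
  have hp : p.Prime := Fact.out
  obtain ⟨j, hj⟩ := hQp.exists_card_eq
  have h1 : Nat.card Q * Q.relIndex L = Nat.card L := by
    have := Subgroup.card_mul_index (Q.subgroupOf L)
    rwa [Nat.card_congr (Subgroup.subgroupOfEquivOfLe hQL).toEquiv] at this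
  have h3 : (Nat.card Q * Q.relIndex L).factorization p = (Nat.card L).factorization p := by
    rw [h1]
  rw [Nat.factorization_mul Nat.card_pos.ne' (fun h0 => by simp [h0] at hQS),
    Finsupp.add_apply, Nat.factorization_eq_zero_of_not_dvd hQS, add_zero, hj,
    Nat.Prime.factorization_pow hp] at h3
  have h4 : j = (Nat.card L).factorization p := by simpa using h3
  rw [hj, h4]

/-- the statement's hypotheses say that `G` is `p`-constrained -/
theorem isPConstrained_of_sylow (Q : Subgroup G) (hQL : Q ≤ Cfsg.pPrimePCore p G)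
    (hQp : IsPGroup p Q) (hQS : ¬ p ∣ Q.relIndex (Cfsg.pPrimePCore p G))
    (hCQ : Subgroup.centralizer (Q : Set G) ≤ Cfsg.pPrimePCore p G) :
    Cfsg.IsPConstrained p G := by
  haveI hLn : (Cfsg.pPrimePCore p G).Normal := Cfsg.Agent.Lib.Helper10.pPrimePCore_normal p
  intro P
  apply centralizer_le_of_card (Cfsg.pPrimePCore p G) Q _
    ((Nat.card (Cfsg.pPrimePCore p G)).factorization p) hQL (Subgroup.map_subtype_le _)
    (card_of_not_dvd_relIndex _ Q hQL hQp hQS) _ rfl hCQ
  rw [Subgroup.card_map_of_injective (Subgroup.subtype_injective _)]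
  exact P.card_eq_multiplicity

/-- conversely, a `p`-constrained group has a subgroup `Q` as in the statement -/
theorem exists_sylow_of_isPConstrained (hG : Cfsg.IsPConstrained p G) :
    ∃ Q : Subgroup G, Q ≤ Cfsg.pPrimePCore p G ∧ IsPGroup p Q ∧
      ¬ p ∣ Q.relIndex (Cfsg.pPrimePCore p G) ∧
      Subgroup.centralizer (Q : Set G) ≤ Cfsg.pPrimePCore p G := by
  obtain ⟨P⟩ : Nonempty (Sylow p ↥(Cfsg.pPrimePCore p G)) := inferInstance
  refine ⟨(P : Subgroup ↥(Cfsg.pPrimePCore p G)).map (Cfsg.pPrimePCore p G).subtype,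
    Subgroup.map_subtype_le _, P.2.map _, ?_, hG P⟩
  have h1 : ((P : Subgroup ↥(Cfsg.pPrimePCore p G)).map
      (Cfsg.pPrimePCore p G).subtype).subgroupOf (Cfsg.pPrimePCore p G)
      = (P : Subgroup ↥(Cfsg.pPrimePCore p G)) := by
    unfold Subgroup.subgroupOf
    exact Subgroup.comap_map_eq_self_of_injective (Subgroup.subtype_injective _) _
  unfold Subgroup.relIndex
  rw [h1]
  exact P.not_dvd_index

/-- the `p'`-core of the centralizer of a `p`-subgroup of a `p`-constrained group -/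
theorem pPrimeCore_centralizer (hG : Cfsg.IsPConstrained p G) (R : Subgroup G)
    (hR : IsPGroup p R) :
    (Cfsg.pPrimeCore p G ⊓ Subgroup.centralizer (R : Set G)).subgroupOf
        (Subgroup.centralizer (R : Set G))
      = Cfsg.pPrimeCore p ↥(Subgroup.centralizer (R : Set G)) := by
  have hc := (Cfsg.Agent.S0631.isPConstrained_iff p).mp hG
  have hRcop : (Nat.card (Cfsg.pPrimeCore p G)).Coprime p := Cfsg.H5.coprime_card_pPrimeCore p G
  have hM1 : ∀ x ∈ (Cfsg.pPrimeCore p ↥(Subgroup.centralizer (R : Set G))).map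
      (Subgroup.centralizer (R : Set G)).subtype, ∀ y ∈ R, x * y = y * x := by
    intro x hx y hy
    have hxC : x ∈ Subgroup.centralizer (R : Set G) := Subgroup.map_subtype_le _ hx
    exact (Subgroup.mem_centralizer_iff.mp hxC y hy).symm
  have hM2 := Cfsg.Agent.S0629.centralizer_map_mk_le R (Cfsg.pPrimeCore p G) hR hRcop
  have hle := Cfsg.Agent.S0631.map_pPrimeCore_le hc R (Subgroup.centralizer (R : Set G)) hR hM1 hM2
  have hge := Cfsg.Agent.S0631.inf_le_map_pPrimeCore p (Subgroup.centralizer (R : Set G)) (G := G)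
  have hcore : (Cfsg.pPrimeCore p ↥(Subgroup.centralizer (R : Set G))).map
      (Subgroup.centralizer (R : Set G)).subtype
      = Cfsg.pPrimeCore p G ⊓ Subgroup.centralizer (R : Set G) :=
    le_antisymm (le_inf hle (Subgroup.map_subtype_le _)) hge
  rw [← hcore]
  unfold Subgroup.subgroupOf
  exact Subgroup.comap_map_eq_self_of_injective (Subgroup.subtype_injective _) _

end Constrained

section Exists

variable {G : Type*} [Group G] [Fintype G] {p : ℕ} {M : Ideal Cfsg.AlgInt}

/-- a block all of whose Sylow subgroups are defect groups is induced from a block of the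
centralizer of any `p`-subgroup -/
theorem exists_isInducedBlock [Fact p.Prime] (hM : Cfsg.IsPModular p M)
    (B : Set (Cfsg.IrrCharacter G)) (hB : Cfsg.IsPBlock M B)
    (hD : ∀ S : Sylow p G, Cfsg.IsDefectGroup p M B S) (R : Subgroup G) (hR : IsPGroup p R) :
    ∃ f : Set (Cfsg.IrrCharacter (Subgroup.centralizer (R : Set G))),
      Cfsg.IsInducedBlock M (Subgroup.centralizer (R : Set G)) f B := by
  obtain ⟨S, hRS⟩ := hR.exists_le_sylow
  obtain ⟨g, hg, hle, _⟩ := exists_of_isDefectGroup (hD S)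
  have hgR : g ∈ Subgroup.centralizer (R : Set G) := by
    rw [Subgroup.mem_centralizer_iff]
    intro u hu
    have := hle (hRS hu)
    rw [Subgroup.mem_centralizer_singleton_iff] at this
    exact this
  obtain ⟨e, he⟩ := exists_isBrauerPairOf_of_unit hM B hB R hR g hgR hg.2.1
  exact ⟨e, (isInducedBlock_centralizer_iff hM R hR e B).mpr he⟩

end Exists

section Unique

open Classical

variable {G : Type*} [Group G] [Fintype G] {p : ℕ} {M : Ideal Cfsg.AlgInt} (K R : Subgroup G)

local notation "CR" => (Subgroup.centralizer ((R : Subgroup G) : Set G))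
local notation "KCR" => (K ⊓ Subgroup.centralizer ((R : Subgroup G) : Set G))
local notation "NR" => (Subgroup.subgroupOf (K ⊓ Subgroup.centralizer ((R : Subgroup G) : Set G))
  (Subgroup.centralizer ((R : Subgroup G) : Set G)))

/-- **principal type**: all blocks of `C_G(R)` inducing the block `Irr(G | θ)` coincide -/
theorem exists_forall_eq_of_isInducedBlock [Fact p.Prime] (hM : Cfsg.IsPModular p M)
    [hKn : K.Normal] [Fintype K] (hK : K = Cfsg.pPrimeCore p G)
    (hG : Cfsg.IsPConstrained p G) (θ : Cfsg.IrrCharacter K)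
    (hinv : ∀ (g : G) (n : K), (θ : K → ℂ) ⟨g * n * g⁻¹, hKn.conj_mem n n.2 g⟩ = (θ : K → ℂ) n)
    (B : Set (Cfsg.IrrCharacter G))
    (hmem : ∀ χ : Cfsg.IrrCharacter G, χ ∈ B ↔
      Cfsg.classInner (fun n : K => (χ : G → ℂ) n) (θ : K → ℂ) ≠ 0)
    (hR : IsPGroup p R) :
    ∃ B' : Set (Cfsg.IrrCharacter ↥CR), ∀ f : Set (Cfsg.IrrCharacter ↥CR),
      Cfsg.IsInducedBlock M CR f B → f = B' := by
  have hp : p.Prime := Fact.out
  haveI : Fintype ↥CR := Fintype.ofFinite _
  haveI : Fintype ↥NR := Fintype.ofFinite _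
  have hcop : (Nat.card K).Coprime p := by
    rw [hK]; exact Cfsg.H5.coprime_card_pPrimeCore p G
  have hp' : ¬ p ∣ Nat.card K := by
    intro h
    have := Nat.Coprime.eq_one_of_dvd hcop.symm h
    exact hp.one_lt.ne' this
  have hKCC : KCR ≤ CR := inf_le_right
  -- invariance in the `InvUnder` form
  have hinvU : ∀ x : G, InvUnder K x (θ : K → ℂ) := by
    intro x a a' haa'
    have : a' = ⟨x * a * x⁻¹, hKn.conj_mem a a.2 x⟩ := Subtype.ext haa'
    rw [this]
    exact hinv x a
  obtain ⟨β₀, h0, hrest⟩ := exists_glauberman K R hp' hR θ (fun x _ => hinvU x)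
  have hβinv : ∀ c ∈ CR, InvUnder KCR c (β₀ : ↥KCR → ℂ) :=
    fun c hc => invUnder_glauberman K R θ β₀ h0 hrest c hc (hinvU c)
  -- the core of the centralizer
  have hNR : NR = Cfsg.pPrimeCore p ↥CR := by
    rw [hK]
    exact pPrimeCore_centralizer hG R hR
  haveI hNRn : (NR).Normal := by
    rw [hNR]; exact Cfsg.H5.pPrimeCore_normal p _
  have hCcon : Cfsg.IsPConstrained p ↥CR := (Cfsg.Agent.S0631.result hG R hR).2
  obtain ⟨Q', hQ'L, hQ'p, hQ'S, hCQ'⟩ := exists_sylow_of_isPConstrained hCcon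
  -- the transported character
  set η₀ : Cfsg.IrrCharacter ↥NR := ⟨pb CR (β₀ : ↥KCR → ℂ), pb_irr hKCC β₀.2⟩ with hη₀
  have hηinv : ∀ (g : ↥CR) (n : ↥NR),
      (η₀ : ↥NR → ℂ) ⟨g * n * g⁻¹, hNRn.conj_mem n n.2 g⟩ = (η₀ : ↥NR → ℂ) n := by
    intro g n
    show (β₀ : ↥KCR → ℂ) ⟨(((g * (n : ↥CR) * g⁻¹ : ↥CR)) : G), _⟩
      = (β₀ : ↥KCR → ℂ) ⟨((n : ↥CR) : G), _⟩
    apply hβinv (g : G) g.2
    simp
  obtain ⟨B', hB', hmem', _⟩ := fong_constrained (G := ↥CR) hM NR hNR (Cfsg.pPrimePCore p ↥CR) rfl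
    Q' hQ'L hQ'p hQ'S hCQ' η₀ hηinv
  refine ⟨B', fun f hf => ?_⟩
  have hBP := (isInducedBlock_centralizer_iff hM R hR f B).mp hf
  have hfB : Cfsg.IsPBlock M f := hBP.1.2
  obtain ⟨ξ, hξ⟩ := isPBlock_nonempty hM hfB
  have h1 := hBP.2.2 ξ hξ
  rw [blockCoeff_eq_coverFn K θ hinv B hmem] at h1
  have h2 := cinn_ne_zero_of_brauerOmega K R hM hp' θ hinv β₀ hrest ξ h1
  have h3 : ξ ∈ B' := by
    rw [hmem']
    have h4 : Cfsg.classInner (fun n : ↥NR => (ξ : ↥CR → ℂ) n) (η₀ : ↥NR → ℂ)
        = cinn (res hKCC (ξ : ↥CR → ℂ)) (β₀ : ↥KCR → ℂ) := by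
      rw [← classInner_pb_cinn hKCC]
      rfl
    rw [h4]
    exact h2
  rw [eq_blockOf_of_mem hM hfB hξ, eq_blockOf_of_mem hM hB' h3]

end Unique

end Cfsg.Agent.Lib.Helper24.FongType
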