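import Mathlib
import Cfsg.Agent.Lib.Helper2.Column
import Cfsg.Agent.Lib.Helper2.Integrality
import Cfsg.Agent.Lib.Helper2.Induction
import Cfsg.Agent.Lib.Helper7.CentralHom
import Cfsg.Agent.Lib.Helper25.EvenDegree
import Cfsg.Agent.Lib.Helper24.BlockDegreeSum

/-!
# Frobenius congruences for character values and `p`-regular parts (helper24 library)

* `char_pow_sub_char_pow`: `χ(g)^(p^n) ≡ χ(g^(p^n))` modulo `p` in the ring of algebraic integers;
* `sum_central_mul_mem_algInt`: `(1/|P|) ∑_{w ∈ P} χ(z w)` is an algebraic integer for `z` central;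
* `isConj_of_forall_sub_eq`: `p`-regular elements whose character values are all congruent
  modulo `p` are conjugate.
-/

set_option autoImplicit false
set_option linter.unusedSectionVars false
set_option linter.style.haveILetI false

open scoped ComplexConjugate
open Cfsg.Agent.Lib.Helper2

namespace Cfsg.Agent.Lib.Helper24

section Frobenius

theorem natCast_mem_nonunits_algInt (p : ℕ) (hp : p.Prime) :
    (p : Cfsg.AlgInt) ∈ nonunits Cfsg.AlgInt := by
  obtain ⟨M, hM⟩ := Cfsg.Agent.Lib.Helper25.exists_isPModular p hp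
  intro hu
  exact hM.2.1.ne_top (Ideal.eq_top_of_isUnit_mem M hM.2.2 hu)

/-- the Frobenius congruence for sums of algebraic integers -/
theorem sum_pow_sub_sum_pow (p : ℕ) [Fact p.Prime] (n : ℕ) {ι : Type*} (s : Finset ι)
    (f : ι → Cfsg.AlgInt) :
    ∃ γ : Cfsg.AlgInt, (∑ i ∈ s, f i) ^ (p ^ n) - ∑ i ∈ s, f i ^ (p ^ n) = (p : Cfsg.AlgInt) * γ := by
  have hp : p.Prime := Fact.out
  haveI : CharP (Cfsg.AlgInt ⧸ (Ideal.span ({(p : Cfsg.AlgInt)} : Set Cfsg.AlgInt))) p :=
    CharP.quotient Cfsg.AlgInt p (natCast_mem_nonunits_algInt p hp)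
  have h0 : Ideal.Quotient.mk (Ideal.span ({(p : Cfsg.AlgInt)} : Set Cfsg.AlgInt))
      ((∑ i ∈ s, f i) ^ (p ^ n) - ∑ i ∈ s, f i ^ (p ^ n)) = 0 := by
    rw [map_sub, map_pow, map_sum, map_sum, sum_pow_char_pow, sub_eq_zero]
    apply Finset.sum_congr rfl
    intro i _
    rw [map_pow]
  rw [Ideal.Quotient.eq_zero_iff_mem, Ideal.mem_span_singleton'] at h0
  obtain ⟨a, ha⟩ := h0
  exact ⟨a, by rw [← ha, mul_comm]⟩

variable {G : Type*} [Group G] [Finite G]

/-- `χ(g)^(p^n) ≡ χ(g^(p^n))` modulo `p` -/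
theorem char_pow_sub_char_pow (p : ℕ) [Fact p.Prime] (n : ℕ) {χ : G → ℂ}
    (hχ : Cfsg.IsCharacter G χ) (g : G) :
    ∃ γ : Cfsg.AlgInt, χ g ^ (p ^ n) - χ (g ^ (p ^ n)) = (p : ℂ) * (γ : ℂ) := by
  obtain ⟨m, ρ, rfl⟩ := hχ
  obtain ⟨μ, hμ1, hμ2, _⟩ := exists_eigenvalues ρ g
  have hint : ∀ i, μ i ∈ Cfsg.AlgInt := by
    intro i
    exact IsIntegral.of_pow (orderOf_pos g) (by rw [hμ1 i]; exact isIntegral_one)
  obtain ⟨γ, hγ⟩ := sum_pow_sub_sum_pow p n Finset.univ (fun i => (⟨μ i, hint i⟩ : Cfsg.AlgInt))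
  refine ⟨γ, ?_⟩
  have h1 := hμ2 1
  rw [pow_one] at h1
  simp only [pow_one] at h1
  rw [h1, hμ2 (p ^ n)]
  have := congrArg (fun z : Cfsg.AlgInt => (z : ℂ)) hγ
  simpa using this

end Frobenius

section Central

variable {K : Type*} [Group K] [Fintype K]

/-- for an irreducible character, a central element `z` and a subgroup `P`:
`(1/|P|) ∑_{w ∈ P} ψ(z w)` is an algebraic integer -/
theorem irr_sum_central_mul_mem_algInt (ψ : Cfsg.IrrCharacter K) (z : K)
    (hz : z ∈ Subgroup.center K) (P : Subgroup K) [Fintype P] :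
    (Nat.card P : ℂ)⁻¹ * ∑ w : P, (ψ : K → ℂ) (z * (w : K)) ∈ Cfsg.AlgInt := by
  have hle : Subgroup.zpowers z ≤ Subgroup.center K := by
    rw [Subgroup.zpowers_le]; exact hz
  obtain ⟨φ, hφ⟩ := Cfsg.Agent.Lib.Helper7.exists_central_hom ψ (Subgroup.zpowers z) hle
  have h1 : ∀ w : P, (ψ : K → ℂ) (z * (w : K))
      = ((φ ⟨z, Subgroup.mem_zpowers z⟩ : ℂˣ) : ℂ) * (ψ : K → ℂ) (w : K) :=
    fun w => hφ ⟨z, Subgroup.mem_zpowers z⟩ (w : K)
  rw [Finset.sum_congr rfl (fun w _ => h1 w), ← Finset.mul_sum, mul_left_comm, ← trivMult_eq]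
  obtain ⟨N, hN⟩ := trivMult_nat P ψ
  rw [hN]
  have hpow : ((φ ⟨z, Subgroup.mem_zpowers z⟩ : ℂˣ) : ℂ) ^ orderOf z = 1 := by
    rw [← Units.val_pow_eq_pow_val, ← map_pow]
    have : (⟨z, Subgroup.mem_zpowers z⟩ : Subgroup.zpowers z) ^ orderOf z = 1 := by
      apply Subtype.ext
      push_cast
      exact pow_orderOf_eq_one z
    rw [this, map_one, Units.val_one]
  have hint : ((φ ⟨z, Subgroup.mem_zpowers z⟩ : ℂˣ) : ℂ) ∈ Cfsg.AlgInt :=
    IsIntegral.of_pow (orderOf_pos z) (by rw [hpow]; exact isIntegral_one)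
  exact mul_mem hint (Subalgebra.natCast_mem _ N)

/-- the same for arbitrary characters -/
theorem sum_central_mul_mem_algInt {χ : K → ℂ} (hχ : Cfsg.IsCharacter K χ) (z : K)
    (hz : z ∈ Subgroup.center K) (P : Subgroup K) [Fintype P] :
    (Nat.card P : ℂ)⁻¹ * ∑ w : P, χ (z * (w : K)) ∈ Cfsg.AlgInt := by
  classical
  haveI : Fintype (Cfsg.IrrCharacter K) := Fintype.ofFinite _
  have hexp := classFunction_expansion χ (IsCharacter.isClassFunction hχ)
  have hn : ∀ ψ : Cfsg.IrrCharacter K, ∃ n : ℕ, Cfsg.classInner χ (ψ : K → ℂ) = (n : ℂ) :=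
    fun ψ => classInner_isCharacter_nat hχ (IsIrrCharacter.isCharacter ψ.2)
  choose n hn using hn
  have hpt : ∀ g : K, χ g = ∑ ψ : Cfsg.IrrCharacter K, (n ψ : ℂ) * (ψ : K → ℂ) g := by
    intro g
    have := congrFun hexp g
    rw [Finset.sum_apply] at this
    rw [this]
    apply Finset.sum_congr rfl
    intro ψ _
    rw [Pi.smul_apply, smul_eq_mul, hn ψ]
  have e : (Nat.card P : ℂ)⁻¹ * ∑ w : P, χ (z * (w : K))
      = ∑ ψ : Cfsg.IrrCharacter K, (n ψ : ℂ)
        * ((Nat.card P : ℂ)⁻¹ * ∑ w : P, (ψ : K → ℂ) (z * (w : K))) := by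
    rw [Finset.sum_congr rfl (fun (w : P) _ => hpt (z * (w : K))), Finset.sum_comm, Finset.mul_sum]
    apply Finset.sum_congr rfl
    intro ψ _
    rw [← Finset.mul_sum]
    ring
  rw [e]
  apply sum_mem
  intro ψ _
  exact mul_mem (Subalgebra.natCast_mem _ (n ψ)) (irr_sum_central_mul_mem_algInt ψ z hz P)

end Central

section Separation

variable {G : Type*} [Group G] [Finite G]

theorem conj_mem_algInt {z : ℂ} (hz : z ∈ Cfsg.AlgInt) : conj z ∈ Cfsg.AlgInt :=
  (show IsIntegral ℤ z from hz).map (starRingEnd ℂ : ℂ →+* ℂ).toIntAlgHom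

/-- `p`-regular elements are separated by the irreducible characters modulo `p` -/
theorem isConj_of_forall_sub_eq (p : ℕ) [Fact p.Prime] (u v : G) (hu : ¬ p ∣ orderOf u)
    (hv : ¬ p ∣ orderOf v)
    (h : ∀ χ : Cfsg.IrrCharacter G, ∃ γ : Cfsg.AlgInt,
      (χ : G → ℂ) u - (χ : G → ℂ) v = (p : ℂ) * (γ : ℂ)) : IsConj u v := by
  classical
  have hp : p.Prime := Fact.out
  by_contra hne
  haveI : Fintype G := Fintype.ofFinite G
  haveI : Fintype (Cfsg.IrrCharacter G) := Fintype.ofFinite _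
  haveI : Fintype (Subgroup.centralizer ({u} : Set G)) := Fintype.ofFinite _
  obtain ⟨P⟩ : Nonempty (Sylow p (Subgroup.centralizer ({u} : Set G))) := inferInstance
  haveI : Fintype (P : Subgroup (Subgroup.centralizer ({u} : Set G))) := Fintype.ofFinite _
  have huK : u ∈ Subgroup.centralizer ({u} : Set G) := by
    rw [Subgroup.mem_centralizer_singleton_iff]
  have hz : (⟨u, huK⟩ : Subgroup.centralizer ({u} : Set G))
      ∈ Subgroup.center (Subgroup.centralizer ({u} : Set G)) := by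
    rw [Subgroup.mem_center_iff]
    intro g
    apply Subtype.ext
    have := Subgroup.mem_centralizer_singleton_iff.1 g.2
    rw [Subgroup.coe_mul, Subgroup.coe_mul]
    exact this
  choose γ hγ using h
  -- the algebraic integers `τ_χ`
  have hτ : ∀ χ : Cfsg.IrrCharacter G,
      (Nat.card (P : Subgroup (Subgroup.centralizer ({u} : Set G))) : ℂ)⁻¹
        * ∑ w : (P : Subgroup (Subgroup.centralizer ({u} : Set G))),
          (χ : G → ℂ) (u * ((w : Subgroup.centralizer ({u} : Set G)) : G)) ∈ Cfsg.AlgInt := by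
    intro χ
    have := sum_central_mul_mem_algInt
      (IsCharacter.restrict (IsIrrCharacter.isCharacter χ.2) (Subgroup.centralizer ({u} : Set G)))
      ⟨u, huK⟩ hz (P : Subgroup (Subgroup.centralizer ({u} : Set G)))
    exact this
  -- orthogonality
  have horth : ∀ w : (P : Subgroup (Subgroup.centralizer ({u} : Set G))),
      ∑ χ : Cfsg.IrrCharacter G, ((χ : G → ℂ) u - (χ : G → ℂ) v)
        * conj ((χ : G → ℂ) (u * ((w : Subgroup.centralizer ({u} : Set G)) : G)))
      = if w = 1 then (Nat.card (Subgroup.centralizer ({u} : Set G)) : ℂ) else 0 := by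
    intro w
    have e1 := column_orthogonality u (u * ((w : Subgroup.centralizer ({u} : Set G)) : G))
    have e2 := column_orthogonality v (u * ((w : Subgroup.centralizer ({u} : Set G)) : G))
    have hsplit : ∑ χ : Cfsg.IrrCharacter G, ((χ : G → ℂ) u - (χ : G → ℂ) v)
        * conj ((χ : G → ℂ) (u * ((w : Subgroup.centralizer ({u} : Set G)) : G)))
        = ∑ χ : Cfsg.IrrCharacter G, (χ : G → ℂ) u
          * conj ((χ : G → ℂ) (u * ((w : Subgroup.centralizer ({u} : Set G)) : G)))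
        - ∑ χ : Cfsg.IrrCharacter G, (χ : G → ℂ) v
          * conj ((χ : G → ℂ) (u * ((w : Subgroup.centralizer ({u} : Set G)) : G))) := by
      rw [← Finset.sum_sub_distrib]
      apply Finset.sum_congr rfl
      intro χ _
      ring
    rw [hsplit, e1, e2]
    by_cases hw : w = 1
    · rw [if_pos hw, hw]
      simp only [OneMemClass.coe_one, mul_one]
      rw [if_pos (IsConj.refl u), if_neg (fun h => hne h.symm), sub_zero]
    · rw [if_neg hw]
      -- `u w` is `p`-singular
      have hwG : ((w : Subgroup.centralizer ({u} : Set G)) : G) ≠ 1 := by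
        intro h1
        apply hw
        apply Subtype.ext
        apply Subtype.ext
        exact h1
      have hcomm : Commute u ((w : Subgroup.centralizer ({u} : Set G)) : G) :=
        (Subgroup.mem_centralizer_singleton_iff.1
          (w : Subgroup.centralizer ({u} : Set G)).2).symm
      obtain ⟨k, hk⟩ := (IsPGroup.iff_orderOf.1 P.isPGroup') w
      have hk' : orderOf ((w : Subgroup.centralizer ({u} : Set G)) : G) = p ^ k := by
        rw [Subgroup.orderOf_coe, Subgroup.orderOf_coe, hk]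
      have hk0 : k ≠ 0 := by
        rintro rfl
        rw [pow_zero, orderOf_eq_one_iff] at hk'
        exact hwG hk'
      have hcop : (orderOf u).Coprime (orderOf ((w : Subgroup.centralizer ({u} : Set G)) : G)) := by
        rw [hk']
        exact Nat.Coprime.pow_right _ ((Nat.Prime.coprime_iff_not_dvd hp).2 hu).symm
      have hord : p ∣ orderOf (u * ((w : Subgroup.centralizer ({u} : Set G)) : G)) := by
        rw [hcomm.orderOf_mul_eq_mul_orderOf_of_coprime hcop, hk']
        exact dvd_mul_of_dvd_right (dvd_pow_self p hk0) _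
      have hn1 : ¬ IsConj u (u * ((w : Subgroup.centralizer ({u} : Set G)) : G)) := by
        rintro ⟨c, hc⟩
        have := hc.orderOf_eq
        rw [this] at hu
        exact hu hord
      have hn2 : ¬ IsConj v (u * ((w : Subgroup.centralizer ({u} : Set G)) : G)) := by
        rintro ⟨c, hc⟩
        have := hc.orderOf_eq
        rw [this] at hv
        exact hv hord
      rw [if_neg hn1, if_neg hn2, sub_zero]
  -- the total
  have hPC0 : (Nat.card (P : Subgroup (Subgroup.centralizer ({u} : Set G))) : ℂ) ≠ 0 :=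
    Nat.cast_ne_zero.mpr Nat.card_pos.ne'
  have htotal : ∑ χ : Cfsg.IrrCharacter G, ((χ : G → ℂ) u - (χ : G → ℂ) v)
      * conj ((Nat.card (P : Subgroup (Subgroup.centralizer ({u} : Set G))) : ℂ)⁻¹
        * ∑ w : (P : Subgroup (Subgroup.centralizer ({u} : Set G))),
          (χ : G → ℂ) (u * ((w : Subgroup.centralizer ({u} : Set G)) : G)))
      = ((P : Subgroup (Subgroup.centralizer ({u} : Set G))).index : ℂ) := by
    have e1 : ∀ χ : Cfsg.IrrCharacter G, ((χ : G → ℂ) u - (χ : G → ℂ) v)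
        * conj ((Nat.card (P : Subgroup (Subgroup.centralizer ({u} : Set G))) : ℂ)⁻¹
          * ∑ w : (P : Subgroup (Subgroup.centralizer ({u} : Set G))),
            (χ : G → ℂ) (u * ((w : Subgroup.centralizer ({u} : Set G)) : G)))
        = (Nat.card (P : Subgroup (Subgroup.centralizer ({u} : Set G))) : ℂ)⁻¹
          * ∑ w : (P : Subgroup (Subgroup.centralizer ({u} : Set G))),
            ((χ : G → ℂ) u - (χ : G → ℂ) v)
              * conj ((χ : G → ℂ) (u * ((w : Subgroup.centralizer ({u} : Set G)) : G))) := by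
      intro χ
      rw [map_mul, map_inv₀, Complex.conj_natCast, map_sum, Finset.mul_sum, Finset.mul_sum,
        Finset.mul_sum]
      apply Finset.sum_congr rfl
      intro w _
      ring
    rw [Finset.sum_congr rfl (fun χ _ => e1 χ), ← Finset.mul_sum, Finset.sum_comm,
      Finset.sum_congr rfl (fun w _ => horth w), Finset.sum_ite_eq' Finset.univ
        (1 : (P : Subgroup (Subgroup.centralizer ({u} : Set G)))), if_pos (Finset.mem_univ _)]
    have hci := Subgroup.card_mul_index (P : Subgroup (Subgroup.centralizer ({u} : Set G)))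
    rw [← hci]
    push_cast
    field_simp
  -- divisibility
  have hmem : ((P : Subgroup (Subgroup.centralizer ({u} : Set G))).index : ℂ) / (p : ℂ)
      ∈ Cfsg.AlgInt := by
    have hp0 : (p : ℂ) ≠ 0 := Nat.cast_ne_zero.mpr hp.ne_zero
    rw [← htotal, Finset.sum_div]
    apply sum_mem
    intro χ _
    rw [hγ χ]
    have e : (p : ℂ) * (γ χ : ℂ) * conj ((Nat.card (P : Subgroup (Subgroup.centralizer ({u} : Set G))) : ℂ)⁻¹
        * ∑ w : (P : Subgroup (Subgroup.centralizer ({u} : Set G))),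
          (χ : G → ℂ) (u * ((w : Subgroup.centralizer ({u} : Set G)) : G))) / (p : ℂ)
        = (γ χ : ℂ) * conj ((Nat.card (P : Subgroup (Subgroup.centralizer ({u} : Set G))) : ℂ)⁻¹
        * ∑ w : (P : Subgroup (Subgroup.centralizer ({u} : Set G))),
          (χ : G → ℂ) (u * ((w : Subgroup.centralizer ({u} : Set G)) : G))) := by
      field_simp
    rw [e]
    exact mul_mem (γ χ).2 (conj_mem_algInt (hτ χ))
  obtain ⟨c, hc⟩ := exists_int_of_isIntegral_of_rat
    (((P : Subgroup (Subgroup.centralizer ({u} : Set G))).index : ℚ) / (p : ℚ))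
    (by push_cast; rfl) hmem
  have hp0 : (p : ℂ) ≠ 0 := Nat.cast_ne_zero.mpr hp.ne_zero
  have hdiv : ((P : Subgroup (Subgroup.centralizer ({u} : Set G))).index : ℤ) = (p : ℤ) * c := by
    have : (((P : Subgroup (Subgroup.centralizer ({u} : Set G))).index : ℤ) : ℂ)
        = (((p : ℤ) * c : ℤ) : ℂ) := by
      push_cast
      rw [← hc]
      field_simp
    exact_mod_cast this
  have : (p : ℤ) ∣ ((P : Subgroup (Subgroup.centralizer ({u} : Set G))).index : ℤ) := ⟨c, hdiv⟩
  exact P.not_dvd_index (Int.natCast_dvd_natCast.mp this)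

end Separation

section Main

variable {G : Type*} [Group G] [Finite G]

theorem isConj_pow {a b : G} (h : IsConj a b) (n : ℕ) : IsConj (a ^ n) (b ^ n) := by
  obtain ⟨c, hc⟩ := isConj_iff.1 h
  rw [isConj_iff]
  exact ⟨c, by rw [← hc, conj_pow]⟩

/-- the `p^a`-th power kills the `p`-part -/
theorem pow_eq_pow_pRegularPart (p : ℕ) [Fact p.Prime] (x x' : G)
    (hx : (∃ k : ℕ, orderOf (x * x'⁻¹) = p ^ k) ∧ Commute (x * x'⁻¹) x' ∧ ¬ p ∣ orderOf x') :
    x ^ (p ^ (Nat.card G).factorization p) = x' ^ (p ^ (Nat.card G).factorization p) := by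
  have hp : p.Prime := Fact.out
  obtain ⟨⟨k, hk⟩, hc, _⟩ := hx
  have h1 : x = x * x'⁻¹ * x' := by group
  have h2 : (x * x'⁻¹) ^ (p ^ (Nat.card G).factorization p) = 1 := by
    apply orderOf_dvd_iff_pow_eq_one.1
    rw [hk]
    apply pow_dvd_pow
    rw [← Nat.Prime.pow_dvd_iff_le_factorization hp Nat.card_pos.ne', ← hk]
    exact orderOf_dvd_natCard _
  conv_lhs => rw [h1]
  rw [hc.mul_pow, h2, one_mul]

/-- **S4604**: the `p`-regular parts of `x` and `y` are conjugate iff
`χ(x)^(p^a) ≡ χ(y)^(p^a)` modulo `p` for all irreducible characters -/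
theorem isConj_pRegularPart_iff (p : ℕ) [Fact p.Prime] (x y x' y' : G)
    (hx : (∃ k : ℕ, orderOf (x * x'⁻¹) = p ^ k) ∧ Commute (x * x'⁻¹) x' ∧ ¬ p ∣ orderOf x')
    (hy : (∃ k : ℕ, orderOf (y * y'⁻¹) = p ^ k) ∧ Commute (y * y'⁻¹) y' ∧ ¬ p ∣ orderOf y') :
    IsConj x' y' ↔ ∀ χ : Cfsg.IrrCharacter G, ∃ γ : Cfsg.AlgInt,
      (χ : G → ℂ) x ^ (p ^ (Nat.card G).factorization p)
        - (χ : G → ℂ) y ^ (p ^ (Nat.card G).factorization p) = (p : ℂ) * (γ : ℂ) := by
  have hp : p.Prime := Fact.out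
  obtain ⟨q, hq⟩ : ∃ q, q = p ^ (Nat.card G).factorization p := ⟨_, rfl⟩
  rw [← hq]
  have hxq : x ^ q = x' ^ q := by rw [hq]; exact pow_eq_pow_pRegularPart p x x' hx
  have hyq : y ^ q = y' ^ q := by rw [hq]; exact pow_eq_pow_pRegularPart p y y' hy
  have hfx : ∀ χ : Cfsg.IrrCharacter G, ∃ γ : Cfsg.AlgInt,
      (χ : G → ℂ) x ^ q - (χ : G → ℂ) (x' ^ q) = (p : ℂ) * (γ : ℂ) := by
    intro χ
    rw [← hxq, hq]
    exact char_pow_sub_char_pow p _ (IsIrrCharacter.isCharacter χ.2) x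
  have hfy : ∀ χ : Cfsg.IrrCharacter G, ∃ γ : Cfsg.AlgInt,
      (χ : G → ℂ) y ^ q - (χ : G → ℂ) (y' ^ q) = (p : ℂ) * (γ : ℂ) := by
    intro χ
    rw [← hyq, hq]
    exact char_pow_sub_char_pow p _ (IsIrrCharacter.isCharacter χ.2) y
  constructor
  · intro hconj χ
    obtain ⟨γ₁, h1⟩ := hfx χ
    obtain ⟨γ₂, h2⟩ := hfy χ
    have h3 : (χ : G → ℂ) (x' ^ q) = (χ : G → ℂ) (y' ^ q) :=
      IsClassFunction.eq_of_isConj (IrrCharacter.isClassFunction χ) (isConj_pow hconj q)
    refine ⟨γ₁ - γ₂, ?_⟩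
    push_cast
    rw [mul_sub, ← h1, ← h2, h3]
    ring
  · intro h
    have hcop : ∀ z : G, ¬ p ∣ orderOf z → ¬ p ∣ orderOf (z ^ q) := by
      intro z hz hd
      exact hz (dvd_trans hd (orderOf_pow_dvd q))
    have hconj : IsConj (x' ^ q) (y' ^ q) := by
      apply isConj_of_forall_sub_eq p _ _ (hcop x' hx.2.2) (hcop y' hy.2.2)
      intro χ
      obtain ⟨γ₁, h1⟩ := hfx χ
      obtain ⟨γ₂, h2⟩ := hfy χ
      obtain ⟨γ, h3⟩ := h χ
      refine ⟨γ - γ₁ + γ₂, ?_⟩
      push_cast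
      rw [mul_add, mul_sub, ← h1, ← h2, ← h3]
      ring
    -- take the inverse power
    obtain ⟨n, hn⟩ : ∃ n, n = orderOf x' * orderOf y' := ⟨_, rfl⟩
    have hnq : Nat.Coprime q n := by
      rw [hq, hn]
      apply Nat.Coprime.pow_left
      exact Nat.Coprime.mul_right ((Nat.Prime.coprime_iff_not_dvd hp).2 hx.2.2)
        ((Nat.Prime.coprime_iff_not_dvd hp).2 hy.2.2)
    have hn0 : n ≠ 0 := by
      rw [hn]
      exact mul_ne_zero (orderOf_pos x').ne' (orderOf_pos y').ne'
    obtain ⟨s, -, hs⟩ := Nat.exists_mul_mod_eq_of_coprime 1 hnq hn0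
    have hmod : q * s ≡ 1 [MOD n] := hs
    have hx' : (x' ^ q) ^ s = x' := by
      rw [← pow_mul]
      have : q * s ≡ 1 [MOD orderOf x'] := hmod.of_dvd (by rw [hn]; exact dvd_mul_right _ _)
      rw [(pow_eq_pow_iff_modEq).2 this, pow_one]
    have hy' : (y' ^ q) ^ s = y' := by
      rw [← pow_mul]
      have : q * s ≡ 1 [MOD orderOf y'] := hmod.of_dvd (by rw [hn]; exact dvd_mul_left _ _)
      rw [(pow_eq_pow_iff_modEq).2 this, pow_one]
    have := isConj_pow hconj s
    rw [hx', hy'] at this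
    exact this

end Main

end Cfsg.Agent.Lib.Helper24
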