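import Mathlib
import Cfsg.Agent.Lib.Helper24.FrobRep
import Cfsg.Agent.Lib.Helper24.FrobLift

/-!
# Helper24 library: fixed-point-free irreducible matrix representations in characteristic zero

From a proper norm ideal in some coprime characteristic we get, over any field `K` of
characteristic zero, a faithful irreducible matrix representation in which no nonidentity element
has eigenvalue `1` (`exists_fpf_irreducible_matrix_rep`).
-/

set_option autoImplicit false

namespace Cfsg.Agent.Lib.Helper24.FrobNorm

open MonoidAlgebra TensorProduct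

section Matrix

variable {K : Type*} [Field K] {G : Type*} [Group G]

/-- an irreducible fixed-point-free representation on a finite-dimensional space, in matrix form -/
theorem exists_matrix_rep {U : Type*} [AddCommGroup U] [Module K U] [Module.Finite K U]
    [Nontrivial U] (σ : Representation K G U)
    (hirr : ∀ U' : Submodule K U, (∀ g : G, ∀ u ∈ U', σ g u ∈ U') → U' = ⊥ ∨ U' = ⊤)
    (hfpf : ∀ g : G, g ≠ 1 → ∀ u : U, σ g u = u → u = 0) :
    ∃ (n : ℕ) (ρ : G →* GL (Fin n) K), 0 < n ∧ Function.Injective ρ ∧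
      (∀ W : Submodule K (Fin n → K),
        (∀ g : G, ∀ w ∈ W, ((ρ g : GL (Fin n) K) : Matrix (Fin n) (Fin n) K).mulVec w ∈ W) →
          W = ⊥ ∨ W = ⊤) ∧
      ∀ g : G, g ≠ 1 → ∀ v : Fin n → K,
        ((ρ g : GL (Fin n) K) : Matrix (Fin n) (Fin n) K).mulVec v = v → v = 0 := by
  classical
  let b := Module.finBasis K U
  let f : G →* Matrix (Fin (Module.finrank K U)) (Fin (Module.finrank K U)) K :=
    { toFun := fun g => LinearMap.toMatrix b b (σ g)
      map_one' := by rw [map_one]; exact LinearMap.toMatrix_one b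
      map_mul' := fun x y => by rw [map_mul]; exact LinearMap.toMatrix_mul b _ _ }
  have hcoe : ∀ g, ((f.toHomUnits g : GL (Fin (Module.finrank K U)) K) :
      Matrix (Fin (Module.finrank K U)) (Fin (Module.finrank K U)) K) =
      LinearMap.toMatrix b b (σ g) := fun g => rfl
  have key : ∀ (g : G) (u : U), (LinearMap.toMatrix b b (σ g)).mulVec (b.equivFun u) =
      b.equivFun (σ g u) := by
    intro g u
    rw [Module.Basis.equivFun_apply, Module.Basis.equivFun_apply]
    exact LinearMap.toMatrix_mulVec_repr b b (σ g) u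
  have hn : 0 < Module.finrank K U := Module.finrank_pos
  have hfpf' : ∀ g : G, g ≠ 1 → ∀ v : Fin (Module.finrank K U) → K,
      ((f.toHomUnits g : GL (Fin (Module.finrank K U)) K) :
        Matrix (Fin (Module.finrank K U)) (Fin (Module.finrank K U)) K).mulVec v = v → v = 0 := by
    intro g hg v hv
    rw [hcoe] at hv
    obtain ⟨u, rfl⟩ := b.equivFun.surjective v
    rw [key] at hv
    have h1 := hfpf g hg u (b.equivFun.injective hv)
    rw [h1, map_zero]
  refine ⟨Module.finrank K U, f.toHomUnits, hn, ?_, ?_, hfpf'⟩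
  · rw [injective_iff_map_eq_one]
    intro g hg
    by_contra hg1
    have h1 := hfpf' g hg1 (fun _ => 1) (by rw [hg]; simp)
    have h2 := congrFun h1 ⟨0, hn⟩
    simp at h2
  · intro W hW
    have hinv : ∀ g : G, ∀ u ∈ W.comap b.equivFun.toLinearMap,
        σ g u ∈ W.comap b.equivFun.toLinearMap := by
      intro g u hu
      rw [Submodule.mem_comap] at hu ⊢
      have := hW g _ hu
      rw [hcoe] at this
      change (LinearMap.toMatrix b b (σ g)).mulVec (b.equivFun u) ∈ W at this
      rw [key] at this
      exact this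
    have hmap : W = (W.comap b.equivFun.toLinearMap).map b.equivFun.toLinearMap :=
      (Submodule.map_comap_eq_of_surjective b.equivFun.surjective W).symm
    rcases hirr _ hinv with h | h
    · left
      rw [hmap, h, Submodule.map_bot]
    · right
      rw [hmap, h, Submodule.map_top]
      exact LinearMap.range_eq_top.mpr b.equivFun.surjective

end Matrix

section Minimal

variable {K : Type*} [Field K] {G : Type*} [Group G] {W : Type*} [AddCommGroup W] [Module K W]
  [Module.Finite K W] [Nontrivial W]

theorem exists_minimal_invariant (ρ : Representation K G W) :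
    ∃ U : Submodule K W, U ≠ ⊥ ∧ (∀ g : G, ∀ u ∈ U, ρ g u ∈ U) ∧
      ∀ U' : Submodule K W, U' ≤ U → (∀ g : G, ∀ u ∈ U', ρ g u ∈ U') → U' = ⊥ ∨ U' = U := by
  let S : Set (Submodule K W) := {U | U ≠ ⊥ ∧ ∀ g : G, ∀ u ∈ U, ρ g u ∈ U}
  have hS : S.Nonempty := ⟨⊤, top_ne_bot, fun _ _ _ => trivial⟩
  obtain ⟨U, hU, hmin⟩ := wellFounded_lt.has_min S hS
  refine ⟨U, hU.1, hU.2, ?_⟩
  intro U' hle hinv
  by_cases h : U' = ⊥
  · exact Or.inl h
  · right
    by_contra hne
    exact hmin U' ⟨h, hinv⟩ (lt_of_le_of_ne hle hne)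

end Minimal

section Main

/-- **Fixed-point-free representation in characteristic zero.** -/
theorem exists_fpf_irreducible_matrix_rep (K : Type*) [Field K] [CharZero K] {G : Type*} [Group G]
    [Finite G] (q : ℕ) [hq : Fact q.Prime] (hqG : ¬ q ∣ Nat.card G)
    (h1 : (1 : MonoidAlgebra (ZMod q) G) ∉ normIdeal (ZMod q) G) :
    ∃ (n : ℕ) (ρ : G →* GL (Fin n) K), 0 < n ∧ Function.Injective ρ ∧
      (∀ W : Submodule K (Fin n → K),
        (∀ g : G, ∀ w ∈ W, ((ρ g : GL (Fin n) K) : Matrix (Fin n) (Fin n) K).mulVec w ∈ W) →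
          W = ⊥ ∨ W = ⊤) ∧
      ∀ g : G, g ≠ 1 → ∀ v : Fin n → K,
        ((ρ g : GL (Fin n) K) : Matrix (Fin n) (Fin n) K).mulVec v = v → v = 0 := by
  have hQ := one_not_mem_normIdeal_rat q hqG h1
  have hnt := nontrivial_normQuot ℚ G hQ
  have hρ' : NormFree (baseChangeRep K (normRep ℚ G)) :=
    normFree_baseChangeRep K (normFree_normRep ℚ G)
  have hnt' : Nontrivial (K ⊗[ℚ] NormQuot ℚ G) := by
    rw [← Module.finrank_pos_iff (R := K), Module.finrank_baseChange]
    exact Module.finrank_pos_iff.mpr hnt
  obtain ⟨U, hU0, hUinv, hUmin⟩ := exists_minimal_invariant (baseChangeRep K (normRep ℚ G))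
  have hσ := normFree_subRep hρ' U hUinv
  have hntU : Nontrivial U := (Submodule.nontrivial_iff_ne_bot).mpr hU0
  apply exists_matrix_rep (U := ↥U) (subRep (baseChangeRep K (normRep ℚ G)) U hUinv)
  · intro U'' hinv
    have h2 := hUmin (U''.map U.subtype) (Submodule.map_subtype_le U U'') (by
      intro g u hu
      obtain ⟨u', hu', rfl⟩ := (Submodule.mem_map).mp hu
      exact (Submodule.mem_map).mpr ⟨_, hinv g u' hu', rfl⟩)
    have h3 := Submodule.comap_map_eq_of_injective U.injective_subtype U''
    rcases h2 with h | h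
    · left
      rw [← h3, h, Submodule.comap_bot, Submodule.ker_subtype]
    · right
      rw [← h3, h, Submodule.comap_subtype_self]
  · intro g hg u hu
    refine hσ.fpf ?_ hg hu
    intro p hp _ w hw
    rw [← Nat.cast_smul_eq_nsmul K] at hw
    exact (smul_eq_zero.mp hw).resolve_left (Nat.cast_ne_zero.mpr hp.ne_zero)

end Main

end Cfsg.Agent.Lib.Helper24.FrobNorm
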