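import Mathlib
import Cfsg.Prelude.Def_Characters
import Cfsg.Agent.Lib.Helper2.Orthogonality
import Cfsg.Agent.Lib.Helper2.Expansion
import Cfsg.Agent.Lib.Helper2.Induction
import Cfsg.Agent.Lib.Helper2.Linear
import Cfsg.Agent.Lib.Helper2.RelGallagher
import Cfsg.Agent.Lib.Helper2.CyclicQuotientExt
import Cfsg.Agent.Lib.Helper11.Frobenius
import Cfsg.Agent.Lib.Helper25.CosetNorm
import Cfsg.Agent.Lib.Helper25.DetGallagher
import Cfsg.Agent.Lib.Helper25.Kernel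
import Cfsg.Agent.Lib.Helper2.RelChar
import Cfsg.Agent.Lib.Helper2.NormalInduction
import Cfsg.Agent.Lib.Helper7.ElemProd

/-!
# Fully ramified characters and Frobenius actions (helper24 library)

Isaacs: if `Γ/N` is a Frobenius group with kernel `G/N` and cyclic complement, and the
`Γ`-invariant `ϑ ∈ Irr(N)` is fully ramified in `G` (`ϑ^G = e χ`), then `|Γ : G|` divides
`e - 1` or `e + 1`.
-/

set_option autoImplicit false

namespace Cfsg.Agent.Lib.Helper24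

open Cfsg.Agent.Lib.Helper2
open scoped ComplexConjugate

section Arith

/-- integers `m i ≥ 0` indexed by a set of size `n` with `∑ m = e` and
`n ∑ m² = e² + n - 1` force `n ∣ e ± 1` -/
theorem dvd_sub_one_or_add_one {ι : Type*} (s : Finset ι) (m : ι → ℕ) (n e : ℕ)
    (hn : s.card = n) (hn0 : 0 < n) (h1 : ∑ i ∈ s, m i = e)
    (h2 : n * ∑ i ∈ s, (m i) ^ 2 + 1 = e ^ 2 + n) :
    (n : ℤ) ∣ (e : ℤ) - 1 ∨ (n : ℤ) ∣ (e : ℤ) + 1 := by
  have hnZ' : (0 : ℤ) < n := by exact_mod_cast hn0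
  obtain ⟨q, hq⟩ : ∃ q : ℤ, q = (e : ℤ) / (n : ℤ) := ⟨_, rfl⟩
  obtain ⟨r, hr⟩ : ∃ r : ℤ, r = (e : ℤ) % (n : ℤ) := ⟨_, rfl⟩
  have her : (e : ℤ) = q * n + r := by
    rw [hq, hr]
    have := Int.mul_ediv_add_emod (e : ℤ) (n : ℤ)
    linarith
  have hr0 : 0 ≤ r := by rw [hr]; exact Int.emod_nonneg _ hnZ'.ne'
  have hrn : r < n := by
    rw [hr]
    exact Int.emod_lt_of_pos _ hnZ'
  have hnZ : (0 : ℤ) < n := by exact_mod_cast hn0
  -- shifted multiplicities
  have hsb : ∑ i ∈ s, ((m i : ℤ) - q) = r := by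
    rw [Finset.sum_sub_distrib, Finset.sum_const, hn, ← Nat.cast_sum, h1, her]
    simp
    ring
  have hsb2 : (n : ℤ) * ∑ i ∈ s, ((m i : ℤ) - q) ^ 2 = r ^ 2 + n - 1 := by
    have e1 : ∑ i ∈ s, ((m i : ℤ) - q) ^ 2
        = ∑ i ∈ s, ((m i : ℤ)) ^ 2 - 2 * q * ∑ i ∈ s, (m i : ℤ) + q ^ 2 * n := by
      have : ∀ i ∈ s, ((m i : ℤ) - q) ^ 2 = (m i : ℤ) ^ 2 - 2 * q * (m i : ℤ) + q ^ 2 := by
        intro i _; ring
      rw [Finset.sum_congr rfl this, Finset.sum_add_distrib, Finset.sum_sub_distrib,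
        ← Finset.mul_sum, Finset.sum_const, hn, nsmul_eq_mul]
      ring
    have h2' : (n : ℤ) * ∑ i ∈ s, ((m i : ℤ)) ^ 2 + 1 = (e : ℤ) ^ 2 + n := by
      exact_mod_cast h2
    have h1' : ∑ i ∈ s, (m i : ℤ) = (e : ℤ) := by
      rw [← Nat.cast_sum, h1]
    rw [e1, h1', her]
    rw [her] at h2'
    nlinarith
  have hge : ∑ i ∈ s, ((m i : ℤ) - q) ≤ ∑ i ∈ s, ((m i : ℤ) - q) ^ 2 := by
    apply Finset.sum_le_sum
    intro i _
    have : ∀ b : ℤ, b ≤ b ^ 2 := by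
      intro b
      rcases le_or_gt b 0 with hb | hb
      · nlinarith [sq_nonneg b]
      · nlinarith
    exact this _
  rw [hsb] at hge
  have hkey : (n : ℤ) * r ≤ r ^ 2 + n - 1 := by
    rw [← hsb2]
    exact mul_le_mul_of_nonneg_left hge hnZ.le
  -- `r ≤ 1` or `r ≥ n - 1`
  have hcases : r ≤ 1 ∨ (n : ℤ) - 1 ≤ r := by
    by_contra hcon
    push Not at hcon
    obtain ⟨h3, h4⟩ := hcon
    nlinarith
  rcases hcases with h3 | h3
  · rcases (show r = 0 ∨ r = 1 by omega) with h4 | h4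
    · -- `r = 0`
      rw [h4] at hsb2
      have h5 : (n : ℤ) ∣ (n : ℤ) - 1 := by
        refine ⟨∑ i ∈ s, ((m i : ℤ) - q) ^ 2, ?_⟩
        rw [hsb2]
        ring
      have h6 : (n : ℤ) ∣ 1 := by
        have := dvd_sub (dvd_refl (n : ℤ)) h5
        simpa using this
      left
      exact dvd_trans h6 (one_dvd _)
    · left
      refine ⟨q, ?_⟩
      rw [her, h4]
      ring
  · right
    have h4 : r = n - 1 := by omega
    refine ⟨q + 1, ?_⟩
    rw [her, h4]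
    ring

end Arith

section ExtArith

variable {U : Type*} [Group U] [Fintype U] (N : Subgroup U) [hN : N.Normal] [Fintype N]

/-- Let `U/N` be abelian, `η ∈ Irr(U)` with `η_N` irreducible and `Ψ` a character of `U` with
`Ψ_N = e η_N` whose squared absolute values sum to `|N|` on every coset of `N` other than `N`.
Then `|U : N|` divides `e - 1` or `e + 1`. -/
theorem ext_arith (hab : ∀ x y : U, x * y * x⁻¹ * y⁻¹ ∈ N)
    (η : Cfsg.IrrCharacter U) (hηN : Cfsg.IsIrrCharacter N (fun n : N => (η : U → ℂ) n))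
    (Ψ : U → ℂ) (hΨ : Cfsg.IsCharacter U Ψ) (e : ℕ)
    (h1 : ∀ x : N, Ψ x = (e : ℂ) * (η : U → ℂ) x)
    (h2 : ∀ u : U, u ∉ N → ∑ x : N, Ψ (u * x) * conj (Ψ (u * x)) = (Nat.card N : ℂ)) :
    ((N.index : ℕ) : ℤ) ∣ (e : ℤ) - 1 ∨ ((N.index : ℕ) : ℤ) ∣ (e : ℤ) + 1 := by
  classical
  haveI : Fintype (Cfsg.IrrCharacter U) := Fintype.ofFinite _
  haveI : Fintype (U ⧸ N) := Fintype.ofFinite _
  obtain ⟨θ, hθ⟩ : ∃ θ : Cfsg.IrrCharacter N, (θ : N → ℂ) = fun n : N => (η : U → ℂ) n :=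
    ⟨⟨_, hηN⟩, rfl⟩
  have hη1 : (η : U → ℂ) 1 ≠ 0 := IsIrrCharacter.apply_one_ne_zero η.2
  have hNne : (Nat.card N : ℂ) ≠ 0 := Nat.cast_ne_zero.mpr (Nat.card_pos (α := N)).ne'
  have hUne : (Nat.card U : ℂ) ≠ 0 := Nat.cast_ne_zero.mpr (Nat.card_pos (α := U)).ne'
  -- characters over `θ` restrict to `θ`
  have hover : ∀ β : Cfsg.IrrCharacter U,
      Cfsg.classInner (fun n : N => (β : U → ℂ) n) (θ : N → ℂ) ≠ 0 →
      ∀ x : N, (β : U → ℂ) x = (η : U → ℂ) x := by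
    intro β hβ
    obtain ⟨_, _, h3⟩ := Cfsg.Agent.Lib.Helper2.RelG.gallagher_type N η.2 hηN
    rw [hθ] at hβ
    obtain ⟨β', hβ', hker, hmul⟩ := h3 β β.2 hβ
    obtain ⟨ψ, hψ, hψβ⟩ := Cfsg.Agent.Lib.Helper25.exists_deflation N hβ' hker
    have habq : ∀ a b : U ⧸ N, a * b = b * a := by
      intro a b
      obtain ⟨x, rfl⟩ := QuotientGroup.mk_surjective a
      obtain ⟨y, rfl⟩ := QuotientGroup.mk_surjective b
      rw [← QuotientGroup.mk_mul, ← QuotientGroup.mk_mul, QuotientGroup.eq]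
      have h4 := hab y⁻¹ x⁻¹
      simp only [inv_inv] at h4
      have e1 : (x * y)⁻¹ * (y * x) = y⁻¹ * x⁻¹ * y * x := by group
      rw [e1]
      exact h4
    have hψ1 : ψ 1 = 1 := IsIrrCharacter.apply_one_of_comm habq hψ
    have hβ'1 : β' 1 = 1 := by
      rw [hψβ 1]
      exact hψ1
    intro x
    rw [← hmul, Pi.mul_apply, hker x x.2, hβ'1, one_mul]
  -- multiplicities
  have hcfΨ := IsCharacter.isClassFunction hΨ
  choose m hm using fun β : Cfsg.IrrCharacter U =>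
    classInner_isCharacter_nat hΨ (IsIrrCharacter.isCharacter β.2)
  have hexp : Ψ = ∑ β : Cfsg.IrrCharacter U, (m β : ℂ) • (β : U → ℂ) := by
    conv_lhs => rw [classFunction_expansion Ψ hcfΨ]
    simp only [hm]
  obtain ⟨𝓑, h𝓑⟩ : ∃ 𝓑 : Finset (Cfsg.IrrCharacter U), 𝓑 = Finset.univ.filter
      (fun β : Cfsg.IrrCharacter U => ∀ x : N, (β : U → ℂ) x = (η : U → ℂ) x) := ⟨_, rfl⟩
  have hmem : ∀ β : Cfsg.IrrCharacter U, β ∈ 𝓑 ↔ ∀ x : N, (β : U → ℂ) x = (η : U → ℂ) x := by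
    intro β
    rw [h𝓑, Finset.mem_filter]
    simp
  have hθθ : Cfsg.classInner (θ : N → ℂ) (θ : N → ℂ) = 1 := classInner_irrCharacter_self θ
  have hk : ∀ β : Cfsg.IrrCharacter U,
      Cfsg.classInner (fun n : N => (β : U → ℂ) n) (θ : N → ℂ) = if β ∈ 𝓑 then 1 else 0 := by
    intro β
    by_cases hβ : β ∈ 𝓑
    · rw [if_pos hβ]
      have : (fun n : N => (β : U → ℂ) n) = (θ : N → ℂ) := by
        rw [hθ]
        funext x
        exact (hmem β).mp hβ x
      rw [this, hθθ]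
    · rw [if_neg hβ]
      by_contra hne
      exact hβ ((hmem β).mpr (hover β hne))
  -- restriction of the expansion
  have hresexp : (fun n : N => Ψ n)
      = ∑ β : Cfsg.IrrCharacter U, (m β : ℂ) • (fun n : N => (β : U → ℂ) n) := by
    funext n
    rw [Finset.sum_apply]
    conv_lhs => rw [hexp]
    rw [Finset.sum_apply]
    rfl
  have hresΨ : (fun n : N => Ψ n) = (e : ℂ) • (θ : N → ℂ) := by
    funext n
    rw [Pi.smul_apply, smul_eq_mul, hθ]
    exact h1 n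
  -- `e = ∑_{𝓑} m`
  have hsum1 : ∑ β ∈ 𝓑, m β = e := by
    have h3 : Cfsg.classInner (fun n : N => Ψ n) (θ : N → ℂ) = (e : ℂ) := by
      rw [hresΨ, classInner_smul_left, hθθ, mul_one]
    rw [hresexp, classInner_sum_left] at h3
    have h4 : ∀ β : Cfsg.IrrCharacter U,
        Cfsg.classInner ((m β : ℂ) • fun n : N => (β : U → ℂ) n) (θ : N → ℂ)
        = if β ∈ 𝓑 then (m β : ℂ) else 0 := by
      intro β
      rw [classInner_smul_left, hk β]
      split_ifs <;> simp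
    rw [Finset.sum_congr rfl (fun β _ => h4 β), ← Finset.sum_filter] at h3
    have h5 : Finset.univ.filter (fun β : Cfsg.IrrCharacter U => β ∈ 𝓑) = 𝓑 := by
      ext β
      simp
    rw [h5] at h3
    exact_mod_cast h3
  -- degrees
  have hdeg : ∀ β : Cfsg.IrrCharacter U, (β : U → ℂ) 1 = (Cfsg.charDegree (β : U → ℂ) : ℂ) :=
    fun β => Cfsg.Agent.Lib.Helper25.char_one_eq_charDegree (IsIrrCharacter.isCharacter β.2)
  have hdeg𝓑 : ∀ β ∈ 𝓑, Cfsg.charDegree (β : U → ℂ) = Cfsg.charDegree (η : U → ℂ) := by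
    intro β hβ
    have h3 := (hmem β).mp hβ 1
    simp only [OneMemClass.coe_one] at h3
    rw [hdeg β, hdeg η] at h3
    exact_mod_cast h3
  have hzero : ∀ β : Cfsg.IrrCharacter U, β ∉ 𝓑 → m β = 0 := by
    have h3 : Ψ 1 = (e : ℂ) * (η : U → ℂ) 1 := by
      have := h1 1
      simpa using this
    have h4 : Ψ 1 = ∑ β : Cfsg.IrrCharacter U, (m β : ℂ) * (β : U → ℂ) 1 := by
      conv_lhs => rw [hexp]
      rw [Finset.sum_apply]
      rfl
    rw [h3, hdeg η] at h4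
    have h5 : e * Cfsg.charDegree (η : U → ℂ)
        = ∑ β : Cfsg.IrrCharacter U, m β * Cfsg.charDegree (β : U → ℂ) := by
      have : ((e * Cfsg.charDegree (η : U → ℂ) : ℕ) : ℂ)
          = ((∑ β : Cfsg.IrrCharacter U, m β * Cfsg.charDegree (β : U → ℂ) : ℕ) : ℂ) := by
        push_cast
        rw [h4]
        apply Finset.sum_congr rfl
        intro β _
        rw [hdeg β]
      exact_mod_cast this
    have h6 : ∑ β : Cfsg.IrrCharacter U, m β * Cfsg.charDegree (β : U → ℂ)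
        = ∑ β ∈ 𝓑, m β * Cfsg.charDegree (β : U → ℂ)
          + ∑ β ∈ Finset.univ.filter (fun β : Cfsg.IrrCharacter U => β ∉ 𝓑),
              m β * Cfsg.charDegree (β : U → ℂ) := by
      rw [← Finset.sum_filter_add_sum_filter_not Finset.univ
        (fun β : Cfsg.IrrCharacter U => β ∈ 𝓑)]
      congr 2
      ext β
      simp
    have h7 : ∑ β ∈ 𝓑, m β * Cfsg.charDegree (β : U → ℂ)
        = e * Cfsg.charDegree (η : U → ℂ) := by
      rw [Finset.sum_congr rfl (fun β hβ => by rw [hdeg𝓑 β hβ]), ← Finset.sum_mul, hsum1]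
    rw [h6, h7] at h5
    have h8 : ∑ β ∈ Finset.univ.filter (fun β : Cfsg.IrrCharacter U => β ∉ 𝓑),
        m β * Cfsg.charDegree (β : U → ℂ) = 0 := by omega
    intro β hβ
    have h9 := (Finset.sum_eq_zero_iff.mp h8) β (by simp [hβ])
    rcases Nat.mul_eq_zero.mp h9 with h | h
    · exact h
    · exact absurd h (Cfsg.Agent.Lib.Helper25.irr_degree_pos β.2).ne'
  -- the norm of `Ψ`
  have hnorm1 : Cfsg.classInner Ψ Ψ = ((∑ β ∈ 𝓑, (m β) ^ 2 : ℕ) : ℂ) := by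
    conv_lhs => rw [hexp]
    rw [classInner_sum_left]
    have h3 : ∀ β : Cfsg.IrrCharacter U,
        Cfsg.classInner ((m β : ℂ) • (β : U → ℂ))
          (∑ β : Cfsg.IrrCharacter U, (m β : ℂ) • (β : U → ℂ))
        = if β ∈ 𝓑 then ((m β) ^ 2 : ℂ) else 0 := by
      intro β
      rw [← hexp, classInner_smul_left, ← classInner_conj_symm, hm β, Complex.conj_natCast]
      by_cases hβ : β ∈ 𝓑
      · rw [if_pos hβ]; ring
      · rw [if_neg hβ, hzero β hβ]; simp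
    rw [Finset.sum_congr rfl (fun β _ => h3 β), ← Finset.sum_filter]
    have h5 : Finset.univ.filter (fun β : Cfsg.IrrCharacter U => β ∈ 𝓑) = 𝓑 := by
      ext β
      simp
    rw [h5]
    push_cast
    rfl
  -- the number of characters over `θ`
  have hcard : 𝓑.card = N.index := by
    have hΘ : Cfsg.IsCharacter U (Cfsg.indFun N (θ : N → ℂ)) :=
      indFun_isCharacter N _ (IsIrrCharacter.isCharacter θ.2)
    have hΘ1 : Cfsg.indFun N (θ : N → ℂ) 1 = (N.index : ℂ) * (η : U → ℂ) 1 := by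
      rw [indFun_apply_one, hθ]
      rfl
    have hΘexp := classFunction_expansion _ (IsCharacter.isClassFunction hΘ)
    have h3 : ∀ β : Cfsg.IrrCharacter U,
        Cfsg.classInner (Cfsg.indFun N (θ : N → ℂ)) (β : U → ℂ) = if β ∈ 𝓑 then 1 else 0 := by
      intro β
      rw [Cfsg.Agent.Lib.Helper11.classInner_indFun_left N _ _ (IrrCharacter.isClassFunction β),
        ← classInner_conj_symm, hk β]
      split_ifs <;> simp
    have h4 : Cfsg.indFun N (θ : N → ℂ) 1 = (𝓑.card : ℂ) * (η : U → ℂ) 1 := by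
      conv_lhs => rw [hΘexp]
      rw [Finset.sum_apply]
      have h5 : ∀ β : Cfsg.IrrCharacter U,
          (Cfsg.classInner (Cfsg.indFun N (θ : N → ℂ)) (β : U → ℂ) • (β : U → ℂ)) 1
          = if β ∈ 𝓑 then (η : U → ℂ) 1 else 0 := by
        intro β
        rw [Pi.smul_apply, smul_eq_mul, h3 β]
        by_cases hβ : β ∈ 𝓑
        · rw [if_pos hβ, if_pos hβ, one_mul]
          have := (hmem β).mp hβ 1
          simpa using this
        · rw [if_neg hβ, if_neg hβ, zero_mul]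
      rw [Finset.sum_congr rfl (fun β _ => h5 β), ← Finset.sum_filter]
      have h6 : Finset.univ.filter (fun β : Cfsg.IrrCharacter U => β ∈ 𝓑) = 𝓑 := by
        ext β
        simp
      rw [h6, Finset.sum_const, nsmul_eq_mul]
    rw [hΘ1] at h4
    have h7 := mul_right_cancel₀ hη1 h4
    exact_mod_cast h7.symm
  -- the norm of `Ψ` by cosets
  have hθsum : ∑ n : N, (θ : N → ℂ) n * conj ((θ : N → ℂ) n) = (Nat.card N : ℂ) := by
    have h3 := hθθ
    rw [classInner_def, inv_mul_eq_iff_eq_mul₀ hNne] at h3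
    rw [h3, mul_one]
  have hnorm2 : (N.index : ℂ) * Cfsg.classInner Ψ Ψ = (e : ℂ) ^ 2 + (N.index : ℂ) - 1 := by
    rw [classInner_def, Cfsg.Agent.Lib.Helper25.sum_eq_sum_cosets N
      (fun x => Ψ x * conj (Ψ x))]
    have h3 : ∀ q : U ⧸ N, ∑ n : N, Ψ (q.out * n) * conj (Ψ (q.out * n))
        = if q = 1 then (e : ℂ) ^ 2 * (Nat.card N : ℂ) else (Nat.card N : ℂ) := by
      intro q
      have hq : q.out ∈ N ↔ q = 1 := by
        rw [← QuotientGroup.eq_one_iff, QuotientGroup.out_eq']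
      by_cases hq1 : q = 1
      · rw [if_pos hq1]
        have hout : q.out ∈ N := hq.mpr hq1
        have h4 : ∑ n : N, Ψ (q.out * n) * conj (Ψ (q.out * n))
            = ∑ n : N, Ψ (n : U) * conj (Ψ (n : U)) := by
          apply Fintype.sum_equiv (Equiv.mulLeft (⟨q.out, hout⟩ : N))
          intro n
          rfl
        rw [h4]
        have h5 : ∀ n : N, Ψ (n : U) * conj (Ψ (n : U))
            = (e : ℂ) ^ 2 * ((θ : N → ℂ) n * conj ((θ : N → ℂ) n)) := by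
          intro n
          rw [h1 n, hθ, map_mul, Complex.conj_natCast]
          ring
        rw [Finset.sum_congr rfl (fun n _ => h5 n), ← Finset.mul_sum, hθsum]
      · rw [if_neg hq1]
        exact h2 q.out (fun h => hq1 (hq.mp h))
    rw [Finset.sum_congr rfl (fun q _ => h3 q), Finset.sum_ite, Finset.sum_const,
      Finset.sum_const, Finset.filter_eq', if_pos (Finset.mem_univ _), Finset.card_singleton,
      Finset.filter_ne', Finset.card_erase_of_mem (Finset.mem_univ _), Finset.card_univ,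
      ← Nat.card_eq_fintype_card, ← Subgroup.index_eq_card]
    have hidx : (Nat.card U : ℂ) = (N.index : ℂ) * (Nat.card N : ℂ) := by
      rw [← Nat.cast_mul, Subgroup.index_mul_card]
    have hidxpos : 1 ≤ N.index := Nat.one_le_iff_ne_zero.mpr Subgroup.index_ne_zero_of_finite
    rw [hidx, one_smul, nsmul_eq_mul, Nat.cast_sub hidxpos, Nat.cast_one]
    have hine : (N.index : ℂ) ≠ 0 := Nat.cast_ne_zero.mpr Subgroup.index_ne_zero_of_finite
    field_simp
    ring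
  rw [hnorm1] at hnorm2
  have hfinal : N.index * ∑ β ∈ 𝓑, (m β) ^ 2 + 1 = e ^ 2 + N.index := by
    have : ((N.index * ∑ β ∈ 𝓑, (m β) ^ 2 + 1 : ℕ) : ℂ) = ((e ^ 2 + N.index : ℕ) : ℂ) := by
      push_cast
      push_cast at hnorm2
      rw [hnorm2]
      ring
    exact_mod_cast this
  exact dvd_sub_one_or_add_one 𝓑 m N.index e hcard
    (Nat.pos_of_ne_zero Subgroup.index_ne_zero_of_finite) hsum1 hfinal

end ExtArith

section CosetB

variable {Γ : Type*} [Group Γ] [Fintype Γ] (G N : Subgroup Γ) [hG : G.Normal] [hN : N.Normal]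
  [Fintype N] [Fintype G]

/-- **coset norms under a Frobenius action**: if `ξ ∈ Irr(Γ)` restricts irreducibly to the normal
subgroup `G` with abelian quotient, and no element outside `G` fixes a nontrivial coset of
`N ≤ G` in `G`, then `∑_{x ∈ N} |ξ(v x)|² = |N|` for all `v ∉ G`. -/
theorem sum_coset_normSq_of_frobenius (hNG : N ≤ G)
    (habΓ : ∀ x y : Γ, x * y * x⁻¹ * y⁻¹ ∈ G)
    (hfrob : ∀ x : Γ, x ∉ G → ∀ g : Γ, g ∈ G → x * g * x⁻¹ * g⁻¹ ∈ N → g ∈ N)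
    (ξ : Γ → ℂ) (hξ : Cfsg.IsIrrCharacter Γ ξ)
    (hξG : Cfsg.IsIrrCharacter G (fun g : G => ξ g)) (v : Γ) (hv : v ∉ G) :
    ∑ x : N, ξ (v * x) * conj (ξ (v * x)) = (Nat.card N : ℂ) := by
  classical
  haveI : Fintype (N.subgroupOf G) := Fintype.ofFinite _
  haveI : Fintype (↥G ⧸ N.subgroupOf G) := Fintype.ofFinite _
  haveI : (N.subgroupOf G).Normal := Subgroup.normal_subgroupOf
  obtain ⟨F, hF⟩ : ∃ F : Γ → ℂ, F = fun y => ξ y * conj (ξ y) := ⟨_, rfl⟩
  have hξcf : Cfsg.IsClassFunction Γ ξ :=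
    IsCharacter.isClassFunction (IsIrrCharacter.isCharacter hξ)
  have hFcl : ∀ y x : Γ, F (x * y * x⁻¹) = F y := by
    intro y x
    rw [hF]
    simp only
    rw [hξcf y x]
  -- (B1)
  have hB1 : ∑ g : G, F (v * g) = (Nat.card G : ℂ) := by
    rw [hF]
    exact Cfsg.Agent.Lib.Helper25.sum_coset_normSq G habΓ hξ hξG v
  -- (B2)
  have hB2 := Cfsg.Agent.Lib.Helper25.sum_eq_sum_cosets (N.subgroupOf G)
    (fun g : G => F (v * g))
  -- the sum over the coset `vN`, indexed by `N.subgroupOf G`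
  obtain ⟨S, hS⟩ : ∃ S : ℂ, S = ∑ x : N.subgroupOf G, F (v * ((x : G) : Γ)) := ⟨_, rfl⟩
  have hSN : S = ∑ x : N, F (v * (x : Γ)) := by
    rw [hS]
    exact Fintype.sum_equiv (Subgroup.subgroupOfEquivOfLe hNG).toEquiv _ _ (fun x => rfl)
  -- the twisted commutator map
  have hcmem : ∀ g : G, v⁻¹ * (g : Γ) * v * (g : Γ)⁻¹ ∈ G := by
    intro g
    have h1 : v⁻¹ * (g : Γ) * v ∈ G := by
      have := hG.conj_mem _ g.2 v⁻¹
      rwa [inv_inv] at this
    exact G.mul_mem h1 (G.inv_mem g.2)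
  obtain ⟨c, hc⟩ : ∃ c : G → G, c = fun g => ⟨v⁻¹ * (g : Γ) * v * (g : Γ)⁻¹, hcmem g⟩ :=
    ⟨_, rfl⟩
  have hckey : ∀ g₁ g₂ : G, ((c g₁)⁻¹ * c g₂ : G) ∈ N.subgroupOf G
      ↔ (g₁⁻¹ * g₂ : G) ∈ N.subgroupOf G := by
    intro g₁ g₂
    rw [Subgroup.mem_subgroupOf, Subgroup.mem_subgroupOf, hc]
    simp only [Subgroup.coe_mul, Subgroup.coe_inv]
    have e1 : (v⁻¹ * (g₁ : Γ) * v * (g₁ : Γ)⁻¹)⁻¹ * (v⁻¹ * (g₂ : Γ) * v * (g₂ : Γ)⁻¹)
        = (g₁ : Γ) * (v⁻¹ * ((g₁ : Γ)⁻¹ * (g₂ : Γ)) * v⁻¹⁻¹ * ((g₁ : Γ)⁻¹ * (g₂ : Γ))⁻¹)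
          * (g₁ : Γ)⁻¹ := by group
    rw [e1]
    constructor
    · intro h
      have h2 := hN.conj_mem _ h (g₁ : Γ)⁻¹
      have e2 : (g₁ : Γ)⁻¹ * ((g₁ : Γ) * (v⁻¹ * ((g₁ : Γ)⁻¹ * (g₂ : Γ)) * v⁻¹⁻¹
          * ((g₁ : Γ)⁻¹ * (g₂ : Γ))⁻¹) * (g₁ : Γ)⁻¹) * (g₁ : Γ)⁻¹⁻¹
          = v⁻¹ * ((g₁ : Γ)⁻¹ * (g₂ : Γ)) * v⁻¹⁻¹ * ((g₁ : Γ)⁻¹ * (g₂ : Γ))⁻¹ := by group
      rw [e2] at h2
      have hv' : v⁻¹ ∉ G := fun h => hv (by simpa using G.inv_mem h)
      exact hfrob v⁻¹ hv' _ (G.mul_mem (G.inv_mem g₁.2) g₂.2) h2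
    · intro h
      apply hN.conj_mem
      apply N.mul_mem _ (N.inv_mem h)
      exact hN.conj_mem _ h v⁻¹
  obtain ⟨ψ, hψ⟩ : ∃ ψ : ↥G ⧸ N.subgroupOf G → ↥G ⧸ N.subgroupOf G,
      ∀ g : G, ψ (QuotientGroup.mk g) = QuotientGroup.mk (c g) := by
    refine ⟨Quotient.map' c ?_, fun g => rfl⟩
    intro g₁ g₂ h
    rw [QuotientGroup.leftRel_apply] at h ⊢
    exact (hckey g₁ g₂).mpr h
  have hψinj : Function.Injective ψ := by
    intro a b hab'
    obtain ⟨g₁, rfl⟩ := QuotientGroup.mk_surjective a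
    obtain ⟨g₂, rfl⟩ := QuotientGroup.mk_surjective b
    rw [hψ, hψ, QuotientGroup.eq] at hab'
    rw [QuotientGroup.eq]
    exact (hckey g₁ g₂).mp hab'
  have hψsurj : Function.Surjective ψ := Finite.injective_iff_surjective.mp hψinj
  -- (B3)
  have hB3 : ∀ t : ↥G ⧸ N.subgroupOf G,
      ∑ x : N.subgroupOf G, F (v * ((t.out * (x : G) : G) : Γ)) = S := by
    intro t
    obtain ⟨s, hs⟩ := hψsurj t
    obtain ⟨g, rfl⟩ := QuotientGroup.mk_surjective s
    rw [hψ] at hs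
    have hmem : ((c g)⁻¹ * t.out : G) ∈ N.subgroupOf G := by
      rw [← QuotientGroup.eq, hs, QuotientGroup.out_eq']
    obtain ⟨n₀, hn₀⟩ : ∃ n₀ : N.subgroupOf G, (n₀ : G) = (c g)⁻¹ * t.out := ⟨⟨_, hmem⟩, rfl⟩
    have hout : t.out = c g * (n₀ : G) := by
      rw [hn₀, mul_inv_cancel_left]
    have hterm : ∀ x : N.subgroupOf G, F (v * ((t.out * (x : G) : G) : Γ))
        = F (v * (((MulAut.conjNormal (g⁻¹ : G) : MulAut (N.subgroupOf G)) (n₀ * x) :
          N.subgroupOf G) : G)) := by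
      intro x
      have e1 : v * ((t.out * (x : G) : G) : Γ)
          = (g : Γ) * (v * ((g : Γ)⁻¹ * ((n₀ : G) : Γ) * ((x : G) : Γ) * (g : Γ))) * (g : Γ)⁻¹ := by
        rw [hout, hc]
        simp only [Subgroup.coe_mul]
        group
      rw [e1, hFcl]
      congr 2
      simp only [MulAut.conjNormal_apply, Subgroup.coe_mul, Subgroup.coe_inv, inv_inv]
      group
    rw [Finset.sum_congr rfl (fun x _ => hterm x), hS]
    exact Fintype.sum_equiv ((Equiv.mulLeft n₀).trans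
      (MulAut.conjNormal (g⁻¹ : G) : MulAut (N.subgroupOf G)).toEquiv) _ _ (fun x => rfl)
  -- (B4)
  rw [hB1, Finset.sum_congr rfl (fun t _ => hB3 t), Finset.sum_const, Finset.card_univ,
    nsmul_eq_mul, ← Nat.card_eq_fintype_card, ← Subgroup.index_eq_card] at hB2
  have hidx : (Nat.card G : ℂ) = ((N.subgroupOf G).index : ℂ) * (Nat.card N : ℂ) := by
    rw [← Nat.cast_mul, ← Nat.card_congr (Subgroup.subgroupOfEquivOfLe hNG).toEquiv,
      Subgroup.index_mul_card]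
  have hine : ((N.subgroupOf G).index : ℂ) ≠ 0 :=
    Nat.cast_ne_zero.mpr Subgroup.index_ne_zero_of_finite
  rw [hidx] at hB2
  have hSval : S = (Nat.card N : ℂ) := (mul_left_cancel₀ hine hB2).symm
  rw [← hSval, hSN, hF]

end CosetB

section MainFR

open Cfsg.Agent.Lib.Helper2.Rel

variable {Γ : Type*} [Group Γ] [Fintype Γ] (G N : Subgroup Γ) [hG : G.Normal] [hN : N.Normal]
  [Fintype G] [Fintype N]

/-- **Isaacs**: `N ≤ G ⊴ Γ` with `Γ/G` cyclic and `Γ/N` Frobenius with kernel `G/N`; a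
`Γ`-invariant `ϑ ∈ Irr(N)` fully ramified in `G` (`ϑ^G = e χ`) forces `|Γ : G| ∣ e ± 1`. -/
theorem frobenius_ramified (hNG : N ≤ G) (hGlt : G ≠ ⊤) (hcyc : IsCyclic (Γ ⧸ G))
    (hfrob : ∀ x : Γ, x ∉ G → ∀ g : Γ, g ∈ G → x * g * x⁻¹ * g⁻¹ ∈ N → g ∈ N)
    (θ : Cfsg.IrrCharacter N)
    (hinv : ∀ (x : Γ) (n : N), (θ : N → ℂ) ⟨x * n * x⁻¹, hN.conj_mem n n.2 x⟩ = (θ : N → ℂ) n)
    (χ : Cfsg.IrrCharacter G) (e : ℕ)
    (hram : Cfsg.indFun (N.subgroupOf G)
      (fun n : N.subgroupOf G => (θ : N → ℂ) ⟨(n : G), n.2⟩) = fun g => (e : ℂ) * (χ : G → ℂ) g) :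
    (G.index : ℤ) ∣ (e : ℤ) - 1 ∨ (G.index : ℤ) ∣ (e : ℤ) + 1 := by
  classical
  haveI : Fintype (N.subgroupOf G) := Fintype.ofFinite _
  haveI hNGn : (N.subgroupOf G).Normal := Subgroup.normal_subgroupOf
  obtain ⟨θ', hθ'⟩ : ∃ θ' : Cfsg.IrrCharacter (N.subgroupOf G),
      (θ' : N.subgroupOf G → ℂ) = fun n : N.subgroupOf G => (θ : N → ℂ) ⟨(n : G), n.2⟩ :=
    ⟨⟨_, pb_irr hNG θ.2⟩, rfl⟩
  rw [← hθ'] at hram
  have hθ'app : ∀ n : N.subgroupOf G, (θ' : N.subgroupOf G → ℂ) n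
      = (θ : N → ℂ) ⟨((n : G) : Γ), n.2⟩ := by
    intro n
    rw [hθ']
  -- invariance of `θ'`
  have hinv' : ∀ s : G, Cfsg.Agent.Lib.Helper2.conjFun (N.subgroupOf G) s (θ' : N.subgroupOf G → ℂ)
      = (θ' : N.subgroupOf G → ℂ) := by
    intro s
    funext n
    rw [conjFun_apply, hθ'app, hθ'app]
    exact hinv (s : Γ) ⟨((n : G) : Γ), n.2⟩
  have hidx0 : ((N.subgroupOf G).index : ℂ) ≠ 0 :=
    Nat.cast_ne_zero.mpr Subgroup.index_ne_zero_of_finite
  have hres : ∀ n : N.subgroupOf G, (e : ℂ) * (χ : G → ℂ) n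
      = ((N.subgroupOf G).index : ℂ) * (θ' : N.subgroupOf G → ℂ) n := by
    intro n
    have h1 := Cfsg.Agent.Lib.Helper7.indFun_of_invariant (N.subgroupOf G)
      (θ' : N.subgroupOf G → ℂ) hinv' n
    rw [hram] at h1
    exact h1
  have hθ'θ' : Cfsg.classInner (θ' : N.subgroupOf G → ℂ) (θ' : N.subgroupOf G → ℂ) = 1 :=
    classInner_irrCharacter_self θ'
  -- `e² = |G : N|`
  have hesq : (e : ℂ) ^ 2 = ((N.subgroupOf G).index : ℂ) := by
    have h1 : Cfsg.classInner (Cfsg.indFun (N.subgroupOf G) (θ' : N.subgroupOf G → ℂ))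
        (Cfsg.indFun (N.subgroupOf G) (θ' : N.subgroupOf G → ℂ))
        = ((N.subgroupOf G).index : ℂ) := by
      rw [Cfsg.Agent.Lib.Helper11.classInner_indFun_left _ _ _
        (indFun_isClassFunction _ _)]
      have h2 : (fun h : N.subgroupOf G =>
          Cfsg.indFun (N.subgroupOf G) (θ' : N.subgroupOf G → ℂ) (h : G))
          = ((N.subgroupOf G).index : ℂ) • (θ' : N.subgroupOf G → ℂ) := by
        funext n
        rw [Cfsg.Agent.Lib.Helper7.indFun_of_invariant (N.subgroupOf G) _ hinv' n]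
        rfl
      rw [h2, classInner_smul_right, hθ'θ', mul_one, Complex.conj_natCast]
    have h3 : (fun g : G => (e : ℂ) * (χ : G → ℂ) g) = (e : ℂ) • (χ : G → ℂ) := rfl
    rw [hram, h3, classInner_smul_left, classInner_smul_right, classInner_irrCharacter_self,
      mul_one, Complex.conj_natCast] at h1
    rw [← h1]
    ring
  have he0 : (e : ℂ) ≠ 0 := by
    intro h0
    rw [h0] at hesq
    apply hidx0
    rw [← hesq]
    ring
  have hχN : ∀ n : N.subgroupOf G, (χ : G → ℂ) n = (e : ℂ) * (θ' : N.subgroupOf G → ℂ) n := by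
    intro n
    have h1 := hres n
    rw [← hesq] at h1
    have h2 : (e : ℂ) * (χ : G → ℂ) n = (e : ℂ) * ((e : ℂ) * (θ' : N.subgroupOf G → ℂ) n) := by
      rw [h1]
      ring
    exact mul_left_cancel₀ he0 h2
  -- `χ` is `Γ`-invariant
  have hχinv : ∀ (x : Γ) (g : G),
      (χ : G → ℂ) ⟨x * g * x⁻¹, hG.conj_mem g g.2 x⟩ = (χ : G → ℂ) g := by
    intro x
    obtain ⟨χx, hχx⟩ : ∃ χx : Cfsg.IrrCharacter G,
        (χx : G → ℂ) = Cfsg.Agent.Lib.Helper2.conjFun G x (χ : G → ℂ) := ⟨⟨_, isIrrCharacter_conjFun G x χ.2⟩, rfl⟩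
    have h1 : (fun n : N.subgroupOf G => (χx : G → ℂ) n)
        = (e : ℂ) • (θ' : N.subgroupOf G → ℂ) := by
      funext n
      rw [hχx, conjFun_apply, Pi.smul_apply, smul_eq_mul]
      have hmem : (⟨x * ((n : G) : Γ) * x⁻¹, hG.conj_mem _ (n : G).2 x⟩ : G) ∈ N.subgroupOf G := by
        rw [Subgroup.mem_subgroupOf]
        exact hN.conj_mem _ n.2 x
      have h2 := hχN ⟨_, hmem⟩
      rw [hθ'app] at h2
      rw [hθ'app]
      have h3 := hinv x ⟨((n : G) : Γ), n.2⟩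
      rw [← h3]
      exact h2
    have h4 : Cfsg.classInner (Cfsg.indFun (N.subgroupOf G) (θ' : N.subgroupOf G → ℂ))
        (χx : G → ℂ) = (e : ℂ) := by
      rw [Cfsg.Agent.Lib.Helper11.classInner_indFun_left _ _ _ (IrrCharacter.isClassFunction χx),
        h1, classInner_smul_right, hθ'θ', mul_one, Complex.conj_natCast]
    have h3 : (fun g : G => (e : ℂ) * (χ : G → ℂ) g) = (e : ℂ) • (χ : G → ℂ) := rfl
    rw [hram, h3, classInner_smul_left] at h4
    have h5 : Cfsg.classInner (χ : G → ℂ) (χx : G → ℂ) ≠ 0 := by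
      intro h0
      rw [h0, mul_zero] at h4
      exact he0 h4.symm
    have h6 : χ = χx := by
      by_contra hne
      exact h5 (classInner_irrCharacter_ne hne)
    intro g
    have h7 : (χx : G → ℂ) g = (χ : G → ℂ) ⟨x * g * x⁻¹, hG.conj_mem g g.2 x⟩ := by
      rw [hχx, conjFun_apply]
    rw [← h7, ← h6]
  -- the extension of `χ`
  obtain ⟨ξ, hξ, hξG⟩ := CyclicExt.exists_irr_extension G hcyc (χ : G → ℂ) χ.2 hχinv
  have hξGirr : Cfsg.IsIrrCharacter G (fun g : G => ξ g) := by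
    have : (fun g : G => ξ g) = (χ : G → ℂ) := funext hξG
    rw [this]
    exact χ.2
  -- commutativity of `Γ/G`
  have habΓ : ∀ x y : Γ, x * y * x⁻¹ * y⁻¹ ∈ G := by
    intro x y
    rw [← QuotientGroup.eq_one_iff]
    simp only [QuotientGroup.mk_mul, QuotientGroup.mk_inv]
    obtain ⟨q, hq⟩ := hcyc.exists_generator
    obtain ⟨i, hi⟩ := Subgroup.mem_zpowers_iff.mp (hq (x : Γ ⧸ G))
    obtain ⟨j, hj⟩ := Subgroup.mem_zpowers_iff.mp (hq (y : Γ ⧸ G))
    rw [← hi, ← hj, ← zpow_add, ← zpow_neg, ← zpow_add, ← zpow_neg, ← zpow_add]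
    have : i + j + -i + -j = 0 := by ring
    rw [this, zpow_zero]
  -- the generator
  obtain ⟨q, hq⟩ := hcyc.exists_generator
  obtain ⟨u, rfl⟩ := QuotientGroup.mk_surjective q
  have hu : u ∉ G := by
    intro huG
    apply hGlt
    rw [eq_top_iff]
    intro γ _
    obtain ⟨k, hk⟩ := Subgroup.mem_zpowers_iff.mp (hq (γ : Γ ⧸ G))
    rw [(QuotientGroup.eq_one_iff u).mpr huG, one_zpow] at hk
    exact (QuotientGroup.eq_one_iff γ).mp hk.symm
  obtain ⟨U, hU⟩ : ∃ U : Subgroup Γ, U = Cfsg.Agent.Lib.Helper25.cycSub N u := ⟨_, rfl⟩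
  have hNU : N ≤ U := hU ▸ Cfsg.Agent.Lib.Helper25.le_cycSub N u
  have huU : u ∈ U := hU ▸ Cfsg.Agent.Lib.Helper25.self_mem_cycSub N u
  have hUmem : ∀ h ∈ U, ∃ k : ℤ, (u ^ k)⁻¹ * h ∈ N := by
    intro h hh
    rw [hU, Cfsg.Agent.Lib.Helper25.mem_cycSub_iff] at hh
    obtain ⟨k, hk⟩ := hh
    refine ⟨k, ?_⟩
    rw [← QuotientGroup.eq]
    rw [QuotientGroup.mk'_apply, QuotientGroup.mk'_apply, ← QuotientGroup.mk_zpow] at hk
    exact hk
  have hUG : ∀ h ∈ U, h ∈ G → h ∈ N := by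
    intro h hh hhG
    obtain ⟨k, hk⟩ := hUmem h hh
    have h1 : u ^ k ∈ G := by
      have h2 : u ^ k = h * ((u ^ k)⁻¹ * h)⁻¹ := by group
      rw [h2]
      exact G.mul_mem hhG (G.inv_mem (hNG hk))
    have h3 : u ^ k ∈ N := by
      apply hfrob u hu (u ^ k) h1
      have : u * u ^ k * u⁻¹ * (u ^ k)⁻¹ = 1 := by group
      rw [this]
      exact N.one_mem
    have h4 : h = u ^ k * ((u ^ k)⁻¹ * h) := by group
    rw [h4]
    exact N.mul_mem h3 hk
  have hUsup : U ⊔ G = ⊤ := by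
    rw [eq_top_iff]
    intro γ _
    obtain ⟨k, hk⟩ := Subgroup.mem_zpowers_iff.mp (hq (γ : Γ ⧸ G))
    rw [← QuotientGroup.mk_zpow, QuotientGroup.eq] at hk
    have h1 : γ = u ^ k * ((u ^ k)⁻¹ * γ) := by group
    rw [h1]
    exact Subgroup.mul_mem_sup (U.zpow_mem huU k) hk
  have hindex : (N.subgroupOf U).index = G.index := by
    have h1 : N = G ⊓ U := by
      apply le_antisymm (le_inf hNG hNU)
      intro h hh
      exact hUG h hh.2 hh.1
    show N.relIndex U = G.index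
    rw [h1, Subgroup.inf_relIndex_right, ← Subgroup.relIndex_sup_right U G, hUsup,
      Subgroup.relIndex_top_right]
  -- the extension of `θ` to `U`
  haveI : Fintype U := Fintype.ofFinite _
  haveI : Fintype (N.subgroupOf U) := Fintype.ofFinite _
  haveI hNUn : (N.subgroupOf U).Normal := Subgroup.normal_subgroupOf
  have hcycU : IsCyclic (↥U ⧸ N.subgroupOf U) := by
    refine ⟨⟨QuotientGroup.mk ⟨u, huU⟩, ?_⟩⟩
    intro t
    obtain ⟨w, rfl⟩ := QuotientGroup.mk_surjective t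
    obtain ⟨k, hk⟩ := hUmem w w.2
    refine ⟨k, ?_⟩
    show (QuotientGroup.mk (⟨u, huU⟩ : U) : ↥U ⧸ N.subgroupOf U) ^ k = QuotientGroup.mk w
    rw [← QuotientGroup.mk_zpow, QuotientGroup.eq, Subgroup.mem_subgroupOf]
    simpa using hk
  have hϑirr : Cfsg.IsIrrCharacter (N.subgroupOf U) (pb U (θ : N → ℂ)) := pb_irr hNU θ.2
  have hϑinv : ∀ (g : U) (n : N.subgroupOf U),
      pb U (θ : N → ℂ) ⟨g * n * g⁻¹, hNUn.conj_mem (n : U) n.2 g⟩ = pb U (θ : N → ℂ) n := by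
    intro g n
    exact hinv (g : Γ) ⟨((n : U) : Γ), n.2⟩
  obtain ⟨thetaHat, hthat, hthatN⟩ := CyclicExt.exists_irr_extension (N.subgroupOf U) hcycU
    (pb U (θ : N → ℂ)) hϑirr hϑinv
  -- apply the arithmetic lemma
  have hmain := ext_arith (N.subgroupOf U)
    (by
      intro x y
      rw [Subgroup.mem_subgroupOf]
      have hx : (x : Γ) ∈ Cfsg.Agent.Lib.Helper25.cycSub N u := by
        rw [← hU]
        exact x.2
      have hy : (y : Γ) ∈ Cfsg.Agent.Lib.Helper25.cycSub N u := by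
        rw [← hU]
        exact y.2
      have := Cfsg.Agent.Lib.Helper25.cycSub_comm_mem N u hx hy
      simpa using this)
    ⟨thetaHat, hthat⟩
    (by
      have : (fun n : N.subgroupOf U => thetaHat n) = pb U (θ : N → ℂ) := funext hthatN
      show Cfsg.IsIrrCharacter (N.subgroupOf U) (fun n : N.subgroupOf U => thetaHat n)
      rw [this]
      exact hϑirr)
    (fun w : U => ξ w) (IsCharacter.restrict (IsIrrCharacter.isCharacter hξ) U) e
    (by
      intro x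
      show ξ ((x : U) : Γ) = (e : ℂ) * thetaHat x
      rw [hthatN x]
      have hxG : ((x : U) : Γ) ∈ G := hNG x.2
      have h1 := hξG ⟨((x : U) : Γ), hxG⟩
      have hmem : (⟨((x : U) : Γ), hxG⟩ : G) ∈ N.subgroupOf G := by
        rw [Subgroup.mem_subgroupOf]
        exact x.2
      have h2 := hχN ⟨_, hmem⟩
      rw [hθ'app] at h2
      show ξ ((x : U) : Γ) = (e : ℂ) * (θ : N → ℂ) ⟨((x : U) : Γ), x.2⟩
      rw [← h2]
      exact h1)
    (by
      intro w hw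
      have hwG : (w : Γ) ∉ G := by
        intro h
        apply hw
        rw [Subgroup.mem_subgroupOf]
        exact hUG _ w.2 h
      have h1 := sum_coset_normSq_of_frobenius G N hNG habΓ hfrob ξ hξ hξGirr (w : Γ) hwG
      rw [Nat.card_congr (Subgroup.subgroupOfEquivOfLe hNU).toEquiv, ← h1]
      exact Fintype.sum_equiv (Subgroup.subgroupOfEquivOfLe hNU).toEquiv _ _ (fun x => rfl))
  rw [hindex] at hmain
  exact hmain

end MainFR

end Cfsg.Agent.Lib.Helper24
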