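import Mathlib
import Cfsg.Agent.Lib.Helper2.GlaubermanCyclic
import Cfsg.Agent.Lib.Helper2.CharBasic
import Cfsg.Agent.Lib.Helper11.GaloisTwist

/-!
# Galois twists of characters and the degree of the field of values (helper24 library)

For `u : (ZMod N)ˣ` and `ψ : H → ℂ`, the twist `h ↦ ψ (h ^ u.val)`; `galStab N ψ` is the set of
units fixing `ψ`.  For a character `χ` of `G` with `|G| ∣ N`:
`φ(N) ≤ |galStab N χ| · [ℚ(χ) : ℚ]`.
-/

set_option autoImplicit false
set_option linter.unusedSectionVars false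
set_option linter.style.haveILetI false
set_option linter.unusedVariables false

namespace Cfsg.Agent.Lib.Helper24.GalTwist

open Cfsg Cfsg.Agent.Lib

section Defs

variable {H : Type*} [Group H]

/-- the units of `ZMod N` fixing `ψ` under the power twists -/
noncomputable def galStab (N : ℕ) [NeZero N] (ψ : H → ℂ) : Finset (ZMod N)ˣ :=
  open Classical in
  Finset.univ.filter (fun u : (ZMod N)ˣ => ∀ h : H, ψ (h ^ (u : ZMod N).val) = ψ h)

theorem mem_galStab {N : ℕ} [NeZero N] {ψ : H → ℂ} {u : (ZMod N)ˣ} :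
    u ∈ galStab N ψ ↔ ∀ h : H, ψ (h ^ (u : ZMod N).val) = ψ h := by
  classical
  unfold galStab
  simp

/-- powers by products of units -/
theorem pow_val_mul {N : ℕ} [NeZero N] (u v : (ZMod N)ˣ) {h : H} (hh : h ^ N = 1) :
    h ^ ((u * v : (ZMod N)ˣ) : ZMod N).val = (h ^ (u : ZMod N).val) ^ (v : ZMod N).val := by
  rw [Units.val_mul, ZMod.val_mul, ← pow_eq_pow_mod _ hh, pow_mul]

theorem pow_val_one {N : ℕ} [NeZero N] {h : H} (hh : h ^ N = 1) :
    h ^ ((1 : (ZMod N)ˣ) : ZMod N).val = h := by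
  rw [Units.val_one]
  by_cases h1 : N = 1
  · subst h1
    rw [pow_one] at hh
    rw [hh, one_pow]
  · haveI : Fact (1 < N) := ⟨lt_of_le_of_ne (Nat.one_le_iff_ne_zero.2 (NeZero.ne N)) (Ne.symm h1)⟩
    rw [ZMod.val_one, pow_one]

theorem pow_val_mul_inv {N : ℕ} [NeZero N] (u : (ZMod N)ˣ) {h : H} (hh : h ^ N = 1) :
    (h ^ (u⁻¹ : (ZMod N)ˣ).val.val) ^ (u : ZMod N).val = h := by
  rw [← pow_val_mul _ _ hh, inv_mul_cancel, pow_val_one hh]

theorem pow_val_inv_mul {N : ℕ} [NeZero N] (u : (ZMod N)ˣ) {h : H} (hh : h ^ N = 1) :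
    (h ^ (u : ZMod N).val) ^ (u⁻¹ : (ZMod N)ˣ).val.val = h := by
  rw [← pow_val_mul _ _ hh, mul_inv_cancel, pow_val_one hh]

end Defs

section Bridge

variable {G : Type*} [Group G] [Finite G]

/-- the number of Galois conjugates of a character is at most the degree of its field of
values -/
theorem totient_le_card_galStab_mul_finrank (N : ℕ) [NeZero N] (hN : Nat.card G ∣ N)
    {χ : G → ℂ} (hχ : IsCharacter G χ) :
    N.totient ≤ (galStab N χ).card
      * Module.finrank ℚ (IntermediateField.adjoin ℚ (Set.range χ)) := by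
  classical
  obtain ⟨n, ρ, rfl⟩ := hχ
  have hpowN : ∀ g : G, g ^ N = 1 := by
    intro g
    obtain ⟨c, hc⟩ := hN
    rw [hc, pow_mul, pow_card_eq_one', one_pow]
  obtain ⟨E, hE⟩ : ∃ E : IntermediateField ℚ ℂ,
      E = IntermediateField.adjoin ℚ (Set.range ρ.character) := ⟨_, rfl⟩
  rw [← hE]
  have hint : ∀ x ∈ Set.range ρ.character, IsIntegral ℚ x := by
    rintro x ⟨g, rfl⟩
    exact (Helper2.char_isIntegral ρ g).tower_top
  haveI : Finite (Set.range ρ.character) := Set.finite_range _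
  haveI hfd : FiniteDimensional ℚ E := by
    rw [hE]
    exact IntermediateField.finiteDimensional_adjoin hint
  have hσex : ∀ u : (ZMod N)ˣ, ∃ σ : ℂ ≃+* ℂ, ∀ ζ : ℂ, ζ ^ N = 1 → σ ζ = ζ ^ (u : ZMod N).val :=
    fun u => Helper11.exists_ringEquiv_complex_pow N _ (ZMod.val_coe_unit_coprime u)
  choose σ hσ using hσex
  have hchar : ∀ (u : (ZMod N)ˣ) (g : G),
      σ u (ρ.character g) = ρ.character (g ^ (u : ZMod N).val) := by
    intro u g
    symm
    apply Helper2.GlCyc.char_pow_eq_sigma ρ _ (σ u)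
    intro ζ hζ
    apply hσ u
    obtain ⟨c, hc⟩ := hN
    rw [hc, pow_mul, hζ, one_pow]
  obtain ⟨F, hF⟩ : ∃ F : (ZMod N)ˣ → (E →ₐ[ℚ] ℂ),
      ∀ u (x : E), F u x = σ u (x : ℂ) :=
    ⟨fun u => ((σ u : ℂ →+* ℂ).toRatAlgHom).comp E.val, fun u x => rfl⟩
  have hFeq : ∀ u v : (ZMod N)ˣ, F u = F v →
      ∀ g : G, ρ.character (g ^ (u : ZMod N).val) = ρ.character (g ^ (v : ZMod N).val) := by
    intro u v huv g
    have hmem : ρ.character g ∈ E := by
      rw [hE]
      exact IntermediateField.subset_adjoin ℚ _ ⟨g, rfl⟩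
    have h1 := hF u ⟨_, hmem⟩
    have h2 := hF v ⟨_, hmem⟩
    rw [huv] at h1
    rw [← hchar, ← hchar]
    exact h1.symm.trans h2
  haveI : Fintype (E →ₐ[ℚ] ℂ) := Fintype.ofFinite _
  have hfib : ∀ a ∈ (Finset.univ : Finset (ZMod N)ˣ).image F,
      ((Finset.univ : Finset (ZMod N)ˣ).filter (fun x => F x = a)).card
        ≤ (galStab N ρ.character).card := by
    intro a ha
    obtain ⟨u₁, -, rfl⟩ := Finset.mem_image.1 ha
    apply Finset.card_le_card_of_injOn (fun u => u * u₁⁻¹)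
    · intro u hu
      have hu' : F u = F u₁ := (Finset.mem_filter.1 hu).2
      rw [Finset.mem_coe, mem_galStab]
      intro g
      rw [pow_val_mul u u₁⁻¹ (hpowN g)]
      have h1 := hFeq u u₁ hu' (g ^ (u₁⁻¹ : (ZMod N)ˣ).val.val)
      have e1 : (g ^ (u₁⁻¹ : (ZMod N)ˣ).val.val) ^ (u : ZMod N).val
          = (g ^ (u : ZMod N).val) ^ (u₁⁻¹ : (ZMod N)ˣ).val.val := by
        rw [← pow_mul, ← pow_mul, mul_comm]
      rw [← e1, h1, pow_val_mul_inv u₁ (hpowN g)]
    · intro u _ v _ huv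
      exact mul_right_cancel huv
  have h1 := Finset.card_le_mul_card_image (f := F) (Finset.univ : Finset (ZMod N)ˣ) _ hfib
  have h2 : ((Finset.univ : Finset (ZMod N)ˣ).image F).card ≤ Module.finrank ℚ E := by
    calc ((Finset.univ : Finset (ZMod N)ˣ).image F).card
        ≤ Fintype.card (E →ₐ[ℚ] ℂ) := Finset.card_le_univ _
      _ = Nat.card (E →ₐ[ℚ] ℂ) := Nat.card_eq_fintype_card.symm
      _ ≤ Module.finrank ℚ E := card_algHom_le_finrank ℚ E ℂ
  rw [Finset.card_univ, ZMod.card_units_eq_totient] at h1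
  exact h1.trans (Nat.mul_le_mul_left _ h2)

end Bridge

end Cfsg.Agent.Lib.Helper24.GalTwist
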