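import Mathlib
import Cfsg.Agent.Lib.Helper24.GaloisProd

/-!
# Galois averaging in cyclotomic fields (helper24 library)

`card_le_of_sum_mul_conj`: if `α i` are nonzero algebraic integers in the field generated by the
`m`-th roots of unity and `∑ i, α i * conj (α i) = r`, then the number of indices is at most `r`
(average over the Galois group and use AM–GM with `|N(α i)| ≥ 1`).
-/

set_option autoImplicit false

namespace Cfsg.Agent.Lib.Helper24

open Polynomial
open scoped ComplexConjugate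

/-- The subfield of `ℂ` generated by the `m`-th roots of unity. -/
noncomputable def cycloSub (m : ℕ) : Subfield ℂ := Subfield.closure {z : ℂ | z ^ m = 1}

theorem mem_cycloSub_of_pow_eq_one {m : ℕ} {z : ℂ} (hz : z ^ m = 1) : z ∈ cycloSub m :=
  Subfield.subset_closure hz

theorem mem_cycloSub_of_pow_eq_one_of_dvd {m n : ℕ} (hnm : n ∣ m) {z : ℂ} (hz : z ^ n = 1) :
    z ∈ cycloSub m := by
  obtain ⟨k, rfl⟩ := hnm
  apply mem_cycloSub_of_pow_eq_one
  rw [pow_mul, hz, one_pow]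

theorem conj_mem_cycloSub {m : ℕ} {z : ℂ} (hz : z ∈ cycloSub m) : conj z ∈ cycloSub m := by
  have h : cycloSub m ≤ (cycloSub m).comap (starRingEnd ℂ) := by
    apply Subfield.closure_le.mpr
    intro w hw
    show conj w ∈ cycloSub m
    apply mem_cycloSub_of_pow_eq_one
    have hw' : w ^ m = 1 := hw
    rw [← map_pow, hw', map_one]
  exact h hz

theorem card_le_of_sum_mul_conj (m : ℕ) [NeZero m] {ι : Type*} [Fintype ι] (α : ι → ℂ)
    (hK : ∀ i, α i ∈ cycloSub m) (hint : ∀ i, IsIntegral ℤ (α i)) (hne : ∀ i, α i ≠ 0)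
    (r : ℕ) (hsum : ∑ i, α i * conj (α i) = (r : ℂ)) : Fintype.card ι ≤ r := by
  classical
  haveI : IsCyclotomicExtension {m} ℚ (CyclotomicField m ℚ) :=
    CyclotomicField.isCyclotomicExtension m ℚ
  obtain ⟨K, hKdef⟩ : ∃ K : Type, K = CyclotomicField m ℚ := ⟨_, rfl⟩
  subst hKdef
  haveI : IsGalois ℚ (CyclotomicField m ℚ) := IsCyclotomicExtension.isGalois {m} ℚ _
  haveI : FiniteDimensional ℚ (CyclotomicField m ℚ) :=
    IsCyclotomicExtension.finiteDimensional {m} ℚ _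
  set ζ0 : CyclotomicField m ℚ := IsCyclotomicExtension.zeta m ℚ (CyclotomicField m ℚ) with hζ0def
  have hζ0 : IsPrimitiveRoot ζ0 m := IsCyclotomicExtension.zeta_spec m ℚ (CyclotomicField m ℚ)
  let emb : CyclotomicField m ℚ →ₐ[ℚ] ℂ := IsAlgClosed.lift
  have hinj : Function.Injective emb := emb.toRingHom.injective
  have hζ : IsPrimitiveRoot (emb ζ0) m := hζ0.map_of_injective hinj
  have hrange : cycloSub m ≤ emb.toRingHom.fieldRange := by
    apply Subfield.closure_le.mpr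
    intro z hz
    obtain ⟨k, _, hk⟩ := hζ.eq_pow_of_pow_eq_one hz
    exact ⟨ζ0 ^ k, by rw [← hk]; exact map_pow emb ζ0 k⟩
  choose β hβ using fun i => hrange (hK i)
  have hβ' : ∀ i, emb (β i) = α i := hβ
  have hirr : Irreducible (cyclotomic m ℚ) := cyclotomic.irreducible_rat (NeZero.pos m)
  let e : (CyclotomicField m ℚ ≃ₐ[ℚ] CyclotomicField m ℚ) ≃* (ZMod m)ˣ :=
    IsCyclotomicExtension.autEquivPow (CyclotomicField m ℚ) hirr
  have hσ : ∀ σ : CyclotomicField m ℚ ≃ₐ[ℚ] CyclotomicField m ℚ,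
      σ ζ0 = ζ0 ^ ((e σ : (ZMod m)ˣ) : ZMod m).val := by
    intro σ
    have h1 := IsPrimitiveRoot.autToPow_spec ℚ hζ0 σ
    rw [← h1]
    congr 2
  -- complex conjugation
  obtain ⟨τ, hτdef⟩ : ∃ τ : CyclotomicField m ℚ ≃ₐ[ℚ] CyclotomicField m ℚ, τ = e.symm (-1) :=
    ⟨_, rfl⟩
  have heτ : e τ = -1 := by rw [hτdef, MulEquiv.apply_symm_apply]
  have hτζ : τ ζ0 * ζ0 = 1 := by
    rw [hσ τ, heτ, ← pow_succ]
    apply (hζ0.pow_eq_one_iff_dvd _).mpr
    rw [← ZMod.natCast_eq_zero_iff]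
    push_cast
    rw [ZMod.natCast_zmod_val]
    simp
  have hconjζ : conj (emb ζ0) * emb ζ0 = 1 := by
    have h1 : ‖emb ζ0‖ = 1 := hζ.norm'_eq_one (NeZero.ne m)
    rw [mul_comm, Complex.mul_conj, Complex.normSq_eq_norm_sq, h1]
    simp
  have hembζ0 : emb ζ0 ≠ 0 := hζ.ne_zero (NeZero.ne m)
  have hτ : ∀ x : CyclotomicField m ℚ, emb (τ x) = conj (emb x) := by
    have h1 : emb.comp (τ : CyclotomicField m ℚ →ₐ[ℚ] CyclotomicField m ℚ)
        = ((Complex.conjAe : ℂ →ₐ[ℝ] ℂ).restrictScalars ℚ).comp emb := by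
      apply (hζ0.powerBasis ℚ).algHom_ext
      rw [IsPrimitiveRoot.powerBasis_gen]
      show emb (τ ζ0) = conj (emb ζ0)
      apply mul_right_cancel₀ hembζ0
      rw [hconjζ, ← map_mul, hτζ, map_one]
    intro x
    exact congrArg (fun f : CyclotomicField m ℚ →ₐ[ℚ] ℂ => f x) h1
  have hcomm : ∀ (σ : CyclotomicField m ℚ ≃ₐ[ℚ] CyclotomicField m ℚ) (x : CyclotomicField m ℚ),
      σ (τ x) = τ (σ x) := by
    intro σ x
    have h1 : σ * τ = τ * σ := by
      apply e.injective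
      rw [map_mul, map_mul, mul_comm]
    exact congrArg (fun f : CyclotomicField m ℚ ≃ₐ[ℚ] CyclotomicField m ℚ => f x) h1
  -- the identity in K
  have hsumK : ∑ i, β i * τ (β i) = (r : CyclotomicField m ℚ) := by
    apply hinj
    rw [map_sum, map_natCast, ← hsum]
    apply Finset.sum_congr rfl
    intro i _
    rw [map_mul, hτ, hβ']
  have hsumσ : ∀ σ : CyclotomicField m ℚ ≃ₐ[ℚ] CyclotomicField m ℚ,
      ∑ i, ‖emb (σ (β i))‖ ^ 2 = (r : ℝ) := by
    intro σ
    have h1 := congrArg (fun x => emb (σ x)) hsumK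
    simp only [map_sum, map_mul, map_natCast] at h1
    have h2 : ∑ i, ((‖emb (σ (β i))‖ ^ 2 : ℝ) : ℂ) = (r : ℂ) := by
      rw [← h1]
      apply Finset.sum_congr rfl
      intro i _
      rw [hcomm, hτ, Complex.mul_conj, Complex.normSq_eq_norm_sq]
    exact_mod_cast h2
  -- each orbit sum is at least |Gal|
  have hint' : ∀ i, IsIntegral ℤ (β i) := by
    intro i
    have h1 : IsIntegral ℤ (emb (β i)) := by rw [hβ']; exact hint i
    exact (isIntegral_algHom_iff (emb.restrictScalars ℤ) hinj).mp h1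
  have hβne : ∀ i, β i ≠ 0 := by
    intro i h0
    apply hne i
    rw [← hβ', h0, map_zero]
  have horbit : ∀ i, (Fintype.card (CyclotomicField m ℚ ≃ₐ[ℚ] CyclotomicField m ℚ) : ℝ)
      ≤ ∑ σ : CyclotomicField m ℚ ≃ₐ[ℚ] CyclotomicField m ℚ, ‖emb (σ (β i))‖ ^ 2 := by
    intro i
    apply card_le_sum_of_one_le_prod
    · intro σ; positivity
    · have hnorm := Algebra.norm_eq_prod_automorphisms ℚ (β i)
      have hNint : IsIntegral ℤ (Algebra.norm ℚ (β i)) := Algebra.isIntegral_norm ℚ (hint' i)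
      obtain ⟨z, hz⟩ := IsIntegrallyClosed.isIntegral_iff.mp hNint
      have hzne : z ≠ 0 := by
        intro hz0
        have : Algebra.norm ℚ (β i) = 0 := by rw [← hz, hz0]; simp
        rw [Algebra.norm_eq_zero_iff] at this
        exact hβne i this
      have h1 := congrArg emb hnorm
      rw [map_prod] at h1
      have h2 : emb (algebraMap ℚ (CyclotomicField m ℚ) (Algebra.norm ℚ (β i))) = (z : ℂ) := by
        rw [← hz]
        simp
      rw [h2] at h1
      rw [Finset.prod_pow, ← norm_prod, ← h1]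
      have h3 : (1 : ℝ) ≤ ‖(z : ℂ)‖ := by
        rw [Complex.norm_intCast]
        have : (1 : ℤ) ≤ |z| := Int.one_le_abs hzne
        exact_mod_cast this
      exact one_le_pow₀ h3
  -- combine
  have hGpos : (0 : ℝ) < (Fintype.card (CyclotomicField m ℚ ≃ₐ[ℚ] CyclotomicField m ℚ) : ℝ) := by
    have : 0 < Fintype.card (CyclotomicField m ℚ ≃ₐ[ℚ] CyclotomicField m ℚ) :=
      Fintype.card_pos_iff.mpr ⟨1⟩
    exact_mod_cast this
  have htotal : (Fintype.card ι : ℝ)
        * (Fintype.card (CyclotomicField m ℚ ≃ₐ[ℚ] CyclotomicField m ℚ) : ℝ)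
      ≤ (Fintype.card (CyclotomicField m ℚ ≃ₐ[ℚ] CyclotomicField m ℚ) : ℝ) * (r : ℝ) := by
    calc (Fintype.card ι : ℝ)
          * (Fintype.card (CyclotomicField m ℚ ≃ₐ[ℚ] CyclotomicField m ℚ) : ℝ)
        = ∑ _i : ι, (Fintype.card (CyclotomicField m ℚ ≃ₐ[ℚ] CyclotomicField m ℚ) : ℝ) := by
          rw [Finset.sum_const, Finset.card_univ, nsmul_eq_mul]
      _ ≤ ∑ i : ι, ∑ σ : CyclotomicField m ℚ ≃ₐ[ℚ] CyclotomicField m ℚ,
            ‖emb (σ (β i))‖ ^ 2 := Finset.sum_le_sum (fun i _ => horbit i)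
      _ = ∑ σ : CyclotomicField m ℚ ≃ₐ[ℚ] CyclotomicField m ℚ, ∑ i : ι,
            ‖emb (σ (β i))‖ ^ 2 := Finset.sum_comm
      _ = ∑ _σ : CyclotomicField m ℚ ≃ₐ[ℚ] CyclotomicField m ℚ, (r : ℝ) :=
          Finset.sum_congr rfl (fun σ _ => hsumσ σ)
      _ = (Fintype.card (CyclotomicField m ℚ ≃ₐ[ℚ] CyclotomicField m ℚ) : ℝ) * (r : ℝ) := by
          rw [Finset.sum_const, Finset.card_univ, nsmul_eq_mul]
  have hfin : (Fintype.card ι : ℝ) ≤ (r : ℝ) := by
    rw [mul_comm] at htotal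
    exact le_of_mul_le_mul_left htotal hGpos
  exact_mod_cast hfin

end Cfsg.Agent.Lib.Helper24
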