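import Mathlib
import Cfsg.Prelude.Def_Blocks
import Cfsg.Agent.Lib.Helper24.Loc
import Cfsg.Agent.Lib.Helper7.ResidueAlg

/-!
# The residue field of the local ring at a modular maximal ideal is algebraically closed
(helper24 library)

`ResF hM = Rloc hM ⧸ Mloc hM` (defined in `Helper7.ResidueAlg`) is an algebraically closed field
of characteristic `p`.
-/

set_option autoImplicit false

namespace Cfsg.Agent.Lib.Helper24

open Cfsg.Agent.Lib.Helper7

variable {p : ℕ} {M : Ideal Cfsg.AlgInt}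

/-- the residue map -/
noncomputable def resMap (hM : Cfsg.IsPModular p M) : Rloc hM →+* ResF hM :=
  Ideal.Quotient.mk (Mloc hM)

theorem resMap_surjective (hM : Cfsg.IsPModular p M) : Function.Surjective (resMap hM) :=
  Ideal.Quotient.mk_surjective

theorem resMap_eq_zero_iff (hM : Cfsg.IsPModular p M) (x : Rloc hM) :
    resMap hM x = 0 ↔ Cfsg.MemLocalIdeal M (x : ℂ) := by
  unfold resMap
  rw [Ideal.Quotient.eq_zero_iff_mem, mem_Mloc]

theorem resMap_eq_redC (hM : Cfsg.IsPModular p M) (x : Rloc hM) :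
    resMap hM x = redC hM (x : ℂ) := by
  rw [redC_of_mem hM x.2]
  rfl

/-- the inclusion of the algebraic integers into the local ring -/
def algIntToRloc (hM : Cfsg.IsPModular p M) : Cfsg.AlgInt →+* Rloc hM where
  toFun a := ⟨(a : ℂ), memLocalRing_algInt hM a⟩
  map_one' := rfl
  map_mul' _ _ := rfl
  map_zero' := rfl
  map_add' _ _ := rfl

theorem coe_algIntToRloc (hM : Cfsg.IsPModular p M) (a : Cfsg.AlgInt) :
    ((algIntToRloc hM a : Rloc hM) : ℂ) = (a : ℂ) := rfl

/-- reduction of algebraic integers is already surjective -/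
theorem resMap_comp_surjective (hM : Cfsg.IsPModular p M) :
    Function.Surjective ((resMap hM).comp (algIntToRloc hM)) := by
  intro y
  obtain ⟨x, rfl⟩ := resMap_surjective hM y
  obtain ⟨a, b, hb, hab⟩ := x.2
  obtain ⟨c, i, hi, hci⟩ := hM.2.1.exists_inv hb
  refine ⟨a * c, ?_⟩
  rw [RingHom.comp_apply, ← sub_eq_zero, ← map_sub, resMap_eq_zero_iff]
  have hb0 : (b : ℂ) ≠ 0 := coe_ne_zero_of_notMem hb
  refine ⟨a * (-i), b, M.mul_mem_left _ (M.neg_mem hi), hb, ?_⟩
  have hci' : (c : ℂ) * (b : ℂ) + (i : ℂ) = 1 := by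
    have := congrArg (fun z : Cfsg.AlgInt => (z : ℂ)) hci
    simpa using this
  show ((a * (-i) : Cfsg.AlgInt) : ℂ) / (b : ℂ) = ((algIntToRloc hM (a * c) - x : Rloc hM) : ℂ)
  have hsub : ((algIntToRloc hM (a * c) - x : Rloc hM) : ℂ)
      = ((a * c : Cfsg.AlgInt) : ℂ) - (x : ℂ) := rfl
  rw [hsub, ← hab]
  push_cast
  field_simp
  linear_combination (-(a : ℂ)) * hci'

instance instIsAlgClosedResF (hM : Cfsg.IsPModular p M) : IsAlgClosed (ResF hM) := by
  apply IsAlgClosed.of_exists_root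
  intro f hf hirr
  obtain ⟨σ, hσ⟩ : ∃ σ : Cfsg.AlgInt →+* ResF hM, σ = (resMap hM).comp (algIntToRloc hM) :=
    ⟨_, rfl⟩
  have hσs : Function.Surjective σ := hσ ▸ resMap_comp_surjective hM
  have hlift : f ∈ Polynomial.lifts σ := by
    rw [Polynomial.lifts_iff_coeff_lifts]
    intro n
    exact hσs _
  obtain ⟨q, hq, hqdeg, hqm⟩ := Polynomial.lifts_and_degree_eq_and_monic hlift hf
  have hdeg : (q.map (algebraMap Cfsg.AlgInt ℂ)).degree ≠ 0 := by
    rw [Polynomial.degree_map_eq_of_injective (FaithfulSMul.algebraMap_injective Cfsg.AlgInt ℂ),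
      hqdeg]
    exact (Polynomial.degree_pos_of_irreducible hirr).ne'
  obtain ⟨z, hz⟩ := IsAlgClosed.exists_root _ hdeg
  have hz2 : Polynomial.eval₂ (algebraMap Cfsg.AlgInt ℂ) z q = 0 := by
    rw [← Polynomial.eval_map]
    exact hz
  have hzint : IsIntegral Cfsg.AlgInt z := ⟨q, hqm, hz2⟩
  have hzint' : IsIntegral ℤ z := isIntegral_trans z hzint
  obtain ⟨z', hz'⟩ : ∃ z' : Cfsg.AlgInt, (z' : ℂ) = z := ⟨⟨z, hzint'⟩, rfl⟩
  have hqz : q.eval z' = 0 := by
    apply Subtype.ext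
    have h1 : ((q.eval z' : Cfsg.AlgInt) : ℂ) = Polynomial.eval₂ (algebraMap Cfsg.AlgInt ℂ) z q := by
      rw [← hz']
      have := Polynomial.hom_eval₂ q (RingHom.id Cfsg.AlgInt) (algebraMap Cfsg.AlgInt ℂ) z'
      simpa using this
    rw [h1, hz2]
    rfl
  refine ⟨σ z', ?_⟩
  rw [← hq, Polynomial.eval_map, Polynomial.eval₂_hom, hqz, map_zero]

end Cfsg.Agent.Lib.Helper24
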