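import Mathlib
import Cfsg.Agent.Lib.Helper24.ResidueField

/-!
# Lifting linear independence from the residue field (helper24 library)

If vectors with entries in a commutative ring `R` are linearly independent after reduction
along a surjection `ρ : R →+* F` onto a field, then they are linearly independent after the
embedding `j : R →+* K` into a field.  Specialization to the local ring of a modular ideal.
-/

set_option autoImplicit false

namespace Cfsg.Agent.Lib.Helper24.LiftIndep

section General

variable {R F K : Type*} [CommRing R] [Field F] [Field K]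
  {κ ι : Type*} [Fintype κ] [Fintype ι] [DecidableEq κ] [DecidableEq ι]

theorem linearIndependent_of_reduction (ρ : R →+* F) (hρ : Function.Surjective ρ)
    (j : R →+* K) (hj : Function.Injective j) (v : κ → ι → R)
    (h : LinearIndependent F (fun k => fun i => ρ (v k i))) :
    LinearIndependent K (fun k => fun i => j (v k i)) := by
  classical
  -- the matrix `A = V̄ᵀ`
  obtain ⟨A, hA⟩ : ∃ A : Matrix ι κ F, ∀ i k, A i k = ρ (v k i) := ⟨fun i k => ρ (v k i), fun _ _ => rfl⟩
  have hker : LinearMap.ker (Matrix.toLin' A) = ⊥ := by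
    rw [LinearMap.ker_eq_bot']
    intro c hc
    rw [Fintype.linearIndependent_iff] at h
    funext k
    apply h c
    funext i
    have := congrFun hc i
    rw [Matrix.toLin'_apply] at this
    simp only [Matrix.mulVec, dotProduct, Pi.zero_apply] at this
    rw [Finset.sum_apply]
    simp only [Pi.smul_apply, smul_eq_mul, Pi.zero_apply]
    rw [← this]
    apply Finset.sum_congr rfl
    intro k _
    rw [hA, mul_comm]
  obtain ⟨g, hg⟩ := LinearMap.exists_leftInverse_of_injective _ hker
  obtain ⟨Sb, hSb⟩ : ∃ Sb : Matrix κ ι F, Sb = LinearMap.toMatrix' g := ⟨_, rfl⟩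
  have hSA : Sb * A = 1 := by
    rw [hSb]
    have h1 : LinearMap.toMatrix' (g ∘ₗ Matrix.toLin' A) = LinearMap.toMatrix' g * A := by
      rw [LinearMap.toMatrix'_comp, LinearMap.toMatrix'_toLin']
    rw [← h1, hg, LinearMap.toMatrix'_id]
  -- lift `Sb`
  have hlift : ∀ k i, ∃ r : R, ρ r = Sb k i := fun k i => hρ _
  choose S hS using hlift
  obtain ⟨Q, hQ⟩ : ∃ Q : Matrix κ κ R, ∀ k l, Q k l = ∑ i, S k i * v l i :=
    ⟨fun k l => ∑ i, S k i * v l i, fun _ _ => rfl⟩
  have hQρ : ρ.mapMatrix Q = 1 := by
    rw [← hSA]
    ext k l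
    rw [RingHom.mapMatrix_apply, Matrix.map_apply, hQ, map_sum, Matrix.mul_apply]
    apply Finset.sum_congr rfl
    intro i _
    rw [map_mul, hS, hA]
  have hdet : Q.det ≠ 0 := by
    intro h0
    have h1 : ρ Q.det = 1 := by rw [RingHom.map_det, hQρ, Matrix.det_one]
    rw [h0, map_zero] at h1
    exact zero_ne_one h1
  have hdetK : (j.mapMatrix Q).det ≠ 0 := by
    rw [← RingHom.map_det]
    intro h0
    exact hdet (hj (by rw [h0, map_zero]))
  rw [Fintype.linearIndependent_iff]
  intro c hc
  have hc' : ∀ i, ∑ k, c k * j (v k i) = 0 := by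
    intro i
    have := congrFun hc i
    rw [Finset.sum_apply] at this
    simpa using this
  have hmul : Matrix.mulVec (j.mapMatrix Q) c = 0 := by
    funext k
    simp only [Matrix.mulVec, dotProduct, Pi.zero_apply, RingHom.mapMatrix_apply, Matrix.map_apply]
    have h2 : ∀ l, j (Q k l) * c l = ∑ i, j (S k i) * (c l * j (v l i)) := by
      intro l
      rw [hQ, map_sum, Finset.sum_mul]
      apply Finset.sum_congr rfl
      intro i _
      rw [map_mul]
      ring
    rw [Finset.sum_congr rfl (fun l _ => h2 l), Finset.sum_comm]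
    apply Finset.sum_eq_zero
    intro i _
    rw [← Finset.mul_sum, hc' i, mul_zero]
  have := Matrix.eq_zero_of_mulVec_eq_zero hdetK hmul
  intro k
  exact congrFun this k

theorem finrank_span_reduction_le (ρ : R →+* F) (hρ : Function.Surjective ρ)
    (j : R →+* K) (hj : Function.Injective j) (v : κ → ι → R) :
    Module.finrank F (Submodule.span F (Set.range (fun k => fun i => ρ (v k i))))
      ≤ Module.finrank K (Submodule.span K (Set.range (fun k => fun i => j (v k i)))) := by
  classical
  obtain ⟨κ', a, ha, hspan, hli⟩ :=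
    exists_linearIndependent' F (fun k : κ => fun i : ι => ρ (v k i))
  haveI : Finite κ' := Finite.of_injective a ha
  haveI : Fintype κ' := Fintype.ofFinite κ'
  have h1 : Module.finrank F (Submodule.span F (Set.range (fun k => fun i => ρ (v k i))))
      = Fintype.card κ' := by
    rw [← hspan]
    exact finrank_span_eq_card hli
  have hli' : LinearIndependent K (fun k' : κ' => fun i => j (v (a k') i)) :=
    linearIndependent_of_reduction ρ hρ j hj (fun k' => v (a k')) hli
  have h2 : Fintype.card κ'
      = Module.finrank K (Submodule.span K (Set.range (fun k' : κ' => fun i => j (v (a k') i)))) :=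
    (finrank_span_eq_card hli').symm
  rw [h1, h2]
  apply Submodule.finrank_mono
  apply Submodule.span_mono
  rintro _ ⟨k', rfl⟩
  exact ⟨a k', rfl⟩

end General

section Local

open Cfsg.Agent.Lib.Helper7

variable {p : ℕ} {M : Ideal Cfsg.AlgInt}
  {κ ι : Type*} [Fintype κ] [Fintype ι]

/-- vectors over the local ring whose reductions are linearly independent are linearly
independent over `ℂ` -/
theorem linearIndependent_of_redC (hM : Cfsg.IsPModular p M) (v : κ → ι → ℂ)
    (hv : ∀ k i, Cfsg.MemLocalRing M (v k i))
    (h : LinearIndependent (ResF hM) (fun k => fun i => redC hM (v k i))) :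
    LinearIndependent ℂ v := by
  classical
  obtain ⟨w, hw⟩ : ∃ w : κ → ι → Rloc hM, ∀ k i, ((w k i : Rloc hM) : ℂ) = v k i :=
    ⟨fun k i => ⟨v k i, hv k i⟩, fun _ _ => rfl⟩
  have h1 : (fun k => fun i => redC hM (v k i)) = fun k => fun i => resMap hM (w k i) := by
    funext k i
    rw [resMap_eq_redC, hw]
  rw [h1] at h
  have h2 := linearIndependent_of_reduction (resMap hM) (resMap_surjective hM)
    (Rloc hM).subtype Subtype.val_injective w h
  have h3 : (fun k => fun i => (Rloc hM).subtype (w k i)) = v := by
    funext k i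
    exact hw k i
  rw [h3] at h2
  exact h2

theorem finrank_span_redC_le (hM : Cfsg.IsPModular p M) (v : κ → ι → ℂ)
    (hv : ∀ k i, Cfsg.MemLocalRing M (v k i)) :
    Module.finrank (ResF hM) (Submodule.span (ResF hM)
        (Set.range (fun k => fun i => redC hM (v k i))))
      ≤ Module.finrank ℂ (Submodule.span ℂ (Set.range v)) := by
  classical
  obtain ⟨w, hw⟩ : ∃ w : κ → ι → Rloc hM, ∀ k i, ((w k i : Rloc hM) : ℂ) = v k i :=
    ⟨fun k i => ⟨v k i, hv k i⟩, fun _ _ => rfl⟩
  have h1 : (fun k => fun i => redC hM (v k i)) = fun k => fun i => resMap hM (w k i) := by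
    funext k i
    rw [resMap_eq_redC, hw]
  have h3 : (fun k => fun i => (Rloc hM).subtype (w k i)) = v := by
    funext k i
    exact hw k i
  rw [h1, ← h3]
  exact finrank_span_reduction_le (resMap hM) (resMap_surjective hM)
    (Rloc hM).subtype Subtype.val_injective w

end Local

end Cfsg.Agent.Lib.Helper24.LiftIndep
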