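import Mathlib
import Cfsg.Prelude.Def_Blocks
import Cfsg.Agent.Lib.Helper24.GroupAlgForm
import Cfsg.Agent.Lib.Helper24.CornerAlg
import Cfsg.Agent.Lib.Helper24.LiftIndep
import Cfsg.Agent.Lib.Helper24.IdemBlocks
import Cfsg.Agent.Lib.Helper24.Osima
import Cfsg.Agent.Lib.Helper24.Contribution
import Cfsg.Agent.Lib.Helper7.SecondMain
import Cfsg.Agent.Lib.Helper7.ResidueAlg

/-!
# The block algebra over the residue field (helper24 library)

`ε = redFn hM (blockCoeff B)` is a central idempotent of `F[G]`, `F = ResF hM`.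
* `finrank_range_mulRight_block`: `dim F[G] ε = ∑_{χ ∈ B} χ(1)²`.
* `finrank_centerCut_le`: `dim Z(F[G]) ε ≤ |B|`.
-/

set_option autoImplicit false

namespace Cfsg.Agent.Lib.Helper24.Bridge

open Module Cfsg.Agent.Lib.Helper2 Cfsg.Agent.Lib.Helper7 Cfsg.Agent.Lib.Helper24
open Cfsg.Agent.Lib.Helper24.GroupAlgForm Cfsg.Agent.Lib.Helper24.SymAlg
open scoped ComplexConjugate

section ComplexSide

variable {G : Type*} [Group G] [Fintype G]

/-- a complex function as an element of the complex group algebra -/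
noncomputable def cFn (f : G → ℂ) : MonoidAlgebra ℂ G :=
  ∑ g : G, MonoidAlgebra.single g (f g)

theorem coeff_cFn (f : G → ℂ) (g : G) : (cFn f).coeff g = f g := by
  classical
  unfold cFn
  rw [MonoidAlgebra.coeff_sum, Finsupp.finsetSum_apply]
  simp only [MonoidAlgebra.coeff_single, Finsupp.single_apply]
  rw [Finset.sum_ite_eq' Finset.univ g]
  simp

theorem cFn_conv (f g : G → ℂ) : cFn (conv f g) = cFn f * cFn g := by
  apply MonoidAlgebra.coeff_injective
  ext x
  rw [coeff_cFn, coeff_mul_eq_sum, conv_apply]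
  apply Finset.sum_congr rfl
  intro h _
  rw [coeff_cFn, coeff_cFn]

/-- the span of the translates of a convolution idempotent has dimension `|G| a(1)` -/
theorem finrank_span_translates (a : G → ℂ) (ha : conv a a = a) :
    (finrank ℂ (Submodule.span ℂ (Set.range (fun g : G => fun x : G => a (g⁻¹ * x)))) : ℂ)
      = (Nat.card G : ℂ) * a 1 := by
  have hid : IsIdempotentElem (cFn a) := by
    show cFn a * cFn a = cFn a
    rw [← cFn_conv, ha]
  have h1 := finrank_range_mulRight_complex (cFn a) hid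
  rw [finrank_range_mulRight_eq_span, coeff_cFn] at h1
  have h2 : (fun g : G => fun x : G => (cFn a).coeff (g⁻¹ * x))
      = fun g : G => fun x : G => a (g⁻¹ * x) := by
    funext g x
    rw [coeff_cFn]
  rw [h2] at h1
  exact h1

/-- the class functions absorbed by the idempotent of `S` -/
noncomputable def Wc (S : Set (Cfsg.IrrCharacter G)) : Submodule ℂ (G → ℂ) where
  carrier := {c | Cfsg.IsClassFunction G c ∧ conv (Cfsg.blockCoeff S) c = c}
  add_mem' := by
    rintro a b ⟨ha, ha'⟩ ⟨hb, hb'⟩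
    exact ⟨isClassFunction_add ha hb, by rw [conv_add_right, ha', hb']⟩
  zero_mem' := ⟨isClassFunction_zero, by
    ext g
    simp [conv_apply]⟩
  smul_mem' := by
    rintro c a ⟨ha, ha'⟩
    exact ⟨isClassFunction_smul c ha, by rw [conv_smul_right, ha']⟩

theorem mem_Wc_iff (S : Set (Cfsg.IrrCharacter G)) (c : G → ℂ) :
    c ∈ Wc S ↔ Cfsg.IsClassFunction G c ∧ conv (Cfsg.blockCoeff S) c = c := Iff.rfl

theorem finrank_Wc_le (S : Set (Cfsg.IrrCharacter G)) : finrank ℂ (Wc S) ≤ Nat.card S := by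
  classical
  haveI : Fintype S := Fintype.ofFinite S
  obtain ⟨f, hf⟩ : ∃ f : (Wc S) →ₗ[ℂ] (S → ℂ),
      ∀ c χ, f c χ = omega ((χ : Cfsg.IrrCharacter G) : G → ℂ) (c : G → ℂ) := by
    refine ⟨{ toFun := fun c χ => omega ((χ : Cfsg.IrrCharacter G) : G → ℂ) (c : G → ℂ)
              map_add' := ?_
              map_smul' := ?_ }, fun _ _ => rfl⟩
    · intro a b
      funext χ
      simp only [Submodule.coe_add, Pi.add_apply]
      exact omega_add _ _ _
    · intro k a
      funext χ
      simp only [Submodule.coe_smul, Pi.smul_apply, RingHom.id_apply, smul_eq_mul]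
      exact omega_smul _ _ _
  have hinj : Function.Injective f := by
    rw [← LinearMap.ker_eq_bot, LinearMap.ker_eq_bot']
    intro c hc
    apply Subtype.ext
    show (c : G → ℂ) = 0
    obtain ⟨hcl, habs⟩ := c.2
    apply eq_zero_of_omega_eq_zero _ hcl
    intro χ
    by_cases hχ : χ ∈ S
    · have := congrFun hc ⟨χ, hχ⟩
      rw [hf] at this
      exact this
    · have h1 := omega_conv χ _ _ (blockCoeff_isClassFunction S) hcl
      rw [habs, omega_blockCoeff, if_neg hχ, zero_mul] at h1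
      exact h1
  calc finrank ℂ (Wc S) ≤ finrank ℂ (S → ℂ) := LinearMap.finrank_le_finrank_of_injective hinj
    _ = Nat.card S := by
      rw [Module.finrank_fintype_fun_eq_card, Nat.card_eq_fintype_card]

theorem blockCoeff_compl (S : Set (Cfsg.IrrCharacter G)) :
    Cfsg.blockCoeff Sᶜ = deltaOne - Cfsg.blockCoeff S := by
  classical
  apply eq_of_omega_eq _ _ (blockCoeff_isClassFunction _)
    (isClassFunction_sub deltaOne_isClassFunction (blockCoeff_isClassFunction _))
  intro χ
  have hne : (χ : G → ℂ) 1 ≠ 0 := Cfsg.Agent.Lib.Helper25.irr_one_ne_zero χ.2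
  rw [omega_sub, omega_blockCoeff, omega_blockCoeff, omega_deltaOne _ hne]
  by_cases h : χ ∈ S
  · rw [if_pos h, if_neg (fun h' : χ ∈ Sᶜ => h' h), sub_self]
  · rw [if_neg h, if_pos (show χ ∈ Sᶜ from h), sub_zero]

theorem card_mul_blockCoeff_one [Fintype (Cfsg.IrrCharacter G)] (S : Set (Cfsg.IrrCharacter G))
    [DecidablePred (· ∈ S)] :
    (Nat.card G : ℂ) * Cfsg.blockCoeff S 1
      = ((∑ ξ : Cfsg.IrrCharacter G,
          if ξ ∈ S then Cfsg.charDegree (ξ : G → ℂ) ^ 2 else 0 : ℕ) : ℂ) := by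
  have hG0 : (Nat.card G : ℂ) ≠ 0 := Nat.cast_ne_zero.mpr Nat.card_pos.ne'
  rw [blockCoeff_eq_sum, ← mul_assoc, mul_inv_cancel₀ hG0, one_mul]
  push_cast
  apply Finset.sum_congr rfl
  intro ξ _
  by_cases h : ξ ∈ S
  · rw [if_pos h, if_pos h, apply_one_eq_charDegree, Complex.conj_natCast, sq]
  · rw [if_neg h, if_neg h]

end ComplexSide

section Local

variable {G : Type*} [Group G] [Fintype G] {p : ℕ} {M : Ideal Cfsg.AlgInt}

theorem finrank_range_mulRight_redFn_le (hM : Cfsg.IsPModular p M) (a : G → ℂ)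
    (haR : ∀ g, Cfsg.MemLocalRing M (a g)) (ha : conv a a = a) (n : ℕ)
    (hn : (Nat.card G : ℂ) * a 1 = (n : ℂ)) :
    finrank (ResF hM) (LinearMap.range (LinearMap.mulRight (ResF hM) (redFn hM a))) ≤ n := by
  rw [finrank_range_mulRight_eq_span]
  have h2 : (fun g : G => fun x : G => (redFn hM a).coeff (g⁻¹ * x))
      = fun g : G => fun x : G => redC hM (a (g⁻¹ * x)) := by
    funext g x
    rw [coeff_redFn]
  rw [h2]
  refine le_trans (LiftIndep.finrank_span_redC_le hM (fun g : G => fun x : G => a (g⁻¹ * x))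
    (fun g x => haR _)) ?_
  have h3 := finrank_span_translates a ha
  rw [hn] at h3
  exact le_of_eq (Nat.cast_injective h3)

theorem redFn_deltaOne (hM : Cfsg.IsPModular p M) :
    redFn hM (deltaOne : G → ℂ) = 1 := by
  classical
  apply MonoidAlgebra.coeff_injective
  ext g
  rw [coeff_redFn, MonoidAlgebra.one_def, MonoidAlgebra.coeff_single, Finsupp.single_apply]
  unfold deltaOne
  by_cases h : g = 1
  · rw [if_pos h, if_pos h.symm, redC_one]
  · rw [if_neg h, if_neg (fun h' => h h'.symm), redC_zero]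

theorem redFn_sub (hM : Cfsg.IsPModular p M) (a b : G → ℂ)
    (ha : ∀ g, Cfsg.MemLocalRing M (a g)) (hb : ∀ g, Cfsg.MemLocalRing M (b g)) :
    redFn hM (a - b) = redFn hM a - redFn hM b := by
  apply MonoidAlgebra.coeff_injective
  ext g
  rw [MonoidAlgebra.coeff_sub, Finsupp.sub_apply, coeff_redFn, coeff_redFn, coeff_redFn,
    eq_sub_iff_add_eq, Pi.sub_apply, ← redC_add hM (memLocalRing_sub hM (ha g) (hb g)) (hb g),
    sub_add_cancel]

theorem redFn_blockCoeff_idem (hM : Cfsg.IsPModular p M) (B : Set (Cfsg.IrrCharacter G))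
    (hB : Cfsg.IsPBlock M B) : IsIdempotentElem (redFn hM (Cfsg.blockCoeff B)) := by
  show redFn hM (Cfsg.blockCoeff B) * redFn hM (Cfsg.blockCoeff B) = redFn hM (Cfsg.blockCoeff B)
  rw [← redFn_conv hM _ _ (blockCoeff_memLocalRing hM B hB) (blockCoeff_memLocalRing hM B hB),
    conv_blockCoeff_blockCoeff, Set.inter_self]

/-- **the dimension of the block algebra** -/
theorem finrank_range_mulRight_block [Fintype (Cfsg.IrrCharacter G)] (hM : Cfsg.IsPModular p M)
    (B : Set (Cfsg.IrrCharacter G)) [DecidablePred (· ∈ B)] (hB : Cfsg.IsPBlock M B) :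
    finrank (ResF hM) (LinearMap.range
        (LinearMap.mulRight (ResF hM) (redFn hM (Cfsg.blockCoeff B))))
      = ∑ ξ : Cfsg.IrrCharacter G, if ξ ∈ B then Cfsg.charDegree (ξ : G → ℂ) ^ 2 else 0 := by
  classical
  have hR := blockCoeff_memLocalRing hM B hB
  have hRc : ∀ g, Cfsg.MemLocalRing M (Cfsg.blockCoeff Bᶜ g) := by
    intro g
    rw [blockCoeff_compl]
    exact memLocalRing_sub hM (Cfsg.Agent.Lib.Helper24.deltaOne_memLocalRing hM g) (hR g)
  have h1 := finrank_range_mulRight_redFn_le hM (Cfsg.blockCoeff B) hR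
    (by rw [conv_blockCoeff_blockCoeff, Set.inter_self]) _ (card_mul_blockCoeff_one B)
  have h2 := finrank_range_mulRight_redFn_le hM (Cfsg.blockCoeff Bᶜ) hRc
    (by rw [conv_blockCoeff_blockCoeff, Set.inter_self]) _ (card_mul_blockCoeff_one Bᶜ)
  have h3 : redFn hM (Cfsg.blockCoeff Bᶜ) = 1 - redFn hM (Cfsg.blockCoeff B) := by
    rw [blockCoeff_compl, redFn_sub hM _ _ (Cfsg.Agent.Lib.Helper24.deltaOne_memLocalRing hM) hR,
      redFn_deltaOne]
  rw [h3] at h2
  have h4 := finrank_range_add_compl _ (redFn_blockCoeff_idem hM B hB)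
  have h5 : (∑ ξ : Cfsg.IrrCharacter G,
        if ξ ∈ B then Cfsg.charDegree (ξ : G → ℂ) ^ 2 else 0)
      + (∑ ξ : Cfsg.IrrCharacter G,
        if ξ ∈ Bᶜ then Cfsg.charDegree (ξ : G → ℂ) ^ 2 else 0) = Nat.card G := by
    rw [← Finset.sum_add_distrib]
    have h6 : ∀ ξ : Cfsg.IrrCharacter G,
        ((if ξ ∈ B then Cfsg.charDegree (ξ : G → ℂ) ^ 2 else 0)
          + (if ξ ∈ Bᶜ then Cfsg.charDegree (ξ : G → ℂ) ^ 2 else 0))
        = Cfsg.charDegree (ξ : G → ℂ) ^ 2 := by
      intro ξ
      by_cases h : ξ ∈ B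
      · rw [if_pos h, if_neg (fun h' : ξ ∈ Bᶜ => h' h), add_zero]
      · rw [if_neg h, if_pos (show ξ ∈ Bᶜ from h), zero_add]
    rw [Finset.sum_congr rfl (fun ξ _ => h6 ξ)]
    have h7 := sum_irr_degree_sq (G := G)
    have h8 : ((∑ ξ : Cfsg.IrrCharacter G, Cfsg.charDegree (ξ : G → ℂ) ^ 2 : ℕ) : ℂ)
        = (Nat.card G : ℂ) := by
      rw [← h7]
      push_cast
      apply Finset.sum_congr rfl
      intro ξ _
      rw [apply_one_eq_charDegree]
    exact_mod_cast h8
  omega

/-- a central element of the group algebra has a class function as coefficient function -/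
theorem coeff_conj_of_central {K : Type*} [Field K] (z : MonoidAlgebra K G)
    (hz : ∀ b, z * b = b * z) (g h : G) : z.coeff (h * g * h⁻¹) = z.coeff g := by
  have h1 := congrArg (fun y => y.coeff (h * g)) (hz (MonoidAlgebra.single h 1))
  simp only [MonoidAlgebra.coeff_mul_single_apply, MonoidAlgebra.coeff_single_mul_apply, mul_one,
    one_mul] at h1
  rw [h1]
  congr 1
  group

/-- **the dimension of the centre of the block algebra** -/
theorem finrank_centerCut_le (hM : Cfsg.IsPModular p M)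
    (B : Set (Cfsg.IrrCharacter G)) (hB : Cfsg.IsPBlock M B) :
    finrank (ResF hM) (centerCut (ResF hM) (redFn hM (Cfsg.blockCoeff B))) ≤ Nat.card B := by
  classical
  have hR := blockCoeff_memLocalRing hM B hB
  obtain ⟨m, hm⟩ : ∃ m, m = finrank (ResF hM)
      (centerCut (ResF hM) (redFn hM (Cfsg.blockCoeff B))) := ⟨_, rfl⟩
  rw [← hm]
  obtain ⟨bas⟩ : Nonempty (Module.Basis (Fin m) (ResF hM)
      (centerCut (ResF hM) (redFn hM (Cfsg.blockCoeff B)))) := by
    rw [hm]
    exact ⟨Module.finBasis _ _⟩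
  -- a section of the reduction
  have hsec : ∀ y : ResF hM, ∃ s : ℂ, Cfsg.MemLocalRing M s ∧ redC hM s = y := by
    intro y
    obtain ⟨r, hr⟩ := resMap_surjective hM y
    exact ⟨(r : ℂ), r.2, by rw [← resMap_eq_redC, hr]⟩
  choose s hsR hsred using hsec
  obtain ⟨z, hz⟩ : ∃ z : Fin m → MonoidAlgebra (ResF hM) G, ∀ i, z i = (bas i : MonoidAlgebra (ResF hM) G) :=
    ⟨_, fun _ => rfl⟩
  have hzc : ∀ i, (∀ b, z i * b = b * z i) ∧ redFn hM (Cfsg.blockCoeff B) * z i = z i := by
    intro i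
    rw [hz]
    exact (bas i).2
  obtain ⟨c, hc⟩ : ∃ c : Fin m → G → ℂ, ∀ i x, c i x = s ((z i).coeff x) := ⟨_, fun _ _ => rfl⟩
  have hcR : ∀ i x, Cfsg.MemLocalRing M (c i x) := by
    intro i x
    rw [hc]
    exact hsR _
  have hccl : ∀ i, Cfsg.IsClassFunction G (c i) := by
    intro i g h
    rw [hc, hc, coeff_conj_of_central (z i) (hzc i).1]
  have hcred : ∀ i, redFn hM (c i) = z i := by
    intro i
    apply MonoidAlgebra.coeff_injective
    ext x
    rw [coeff_redFn, hc, hsred]
  obtain ⟨c', hc'⟩ : ∃ c' : Fin m → G → ℂ, ∀ i, c' i = conv (Cfsg.blockCoeff B) (c i) :=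
    ⟨_, fun _ => rfl⟩
  have hc'R : ∀ i x, Cfsg.MemLocalRing M (c' i x) := by
    intro i x
    rw [hc', conv_apply]
    exact memLocalRing_sum hM _ _ (fun h _ => memLocalRing_mul hM (hR h) (hcR i _))
  have hc'W : ∀ i, c' i ∈ Wc B := by
    intro i
    rw [mem_Wc_iff, hc']
    refine ⟨conv_isClassFunction _ _ (blockCoeff_isClassFunction B) (hccl i), ?_⟩
    rw [← conv_assoc, conv_blockCoeff_blockCoeff, Set.inter_self]
  have hc'red : ∀ i, redFn hM (c' i) = z i := by
    intro i
    rw [hc', redFn_conv hM _ _ hR (hcR i), hcred, (hzc i).2]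
  -- linear independence of the reductions
  have hli : LinearIndependent (ResF hM) (fun i : Fin m => fun x : G => redC hM (c' i x)) := by
    have h1 : (fun i : Fin m => fun x : G => redC hM (c' i x))
        = fun i : Fin m => toFn ((centerCut (ResF hM) (redFn hM (Cfsg.blockCoeff B))).subtype
            (bas i)) := by
      funext i x
      rw [toFn_apply, Submodule.subtype_apply, ← hz, ← hc'red, coeff_redFn]
    rw [h1]
    have h2 := bas.linearIndependent
    have h3 := h2.map' ((toFn (G := G) (K := ResF hM)) ∘ₗ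
      (centerCut (ResF hM) (redFn hM (Cfsg.blockCoeff B))).subtype) (by
        rw [LinearMap.ker_eq_bot]
        exact toFn_injective.comp (Submodule.subtype_injective _))
    exact h3
  have hliC : LinearIndependent ℂ c' := LiftIndep.linearIndependent_of_redC hM c' hc'R hli
  have h4 : m = finrank ℂ (Submodule.span ℂ (Set.range c')) := by
    rw [finrank_span_eq_card hliC, Fintype.card_fin]
  rw [h4]
  refine le_trans (Submodule.finrank_mono ?_) (finrank_Wc_le B)
  apply Submodule.span_le.mpr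
  rintro _ ⟨i, rfl⟩
  exact hc'W i

end Local

end Cfsg.Agent.Lib.Helper24.Bridge
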