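import Mathlib
import Cfsg.Agent.Lib.Helper7.AugIdeal

/-!
# Direct summands of a modular group algebra restricted to a `p`-subgroup (helper24 library)

`F` a field of characteristic `p`, `G` a finite group, `P` a `p`-subgroup, `e` an idempotent of
`F[G]`.  Then `|P|` divides `dim F[G]e` (the summand is free over `F[P]`).
-/

set_option autoImplicit false

namespace Cfsg.Agent.Lib.Helper24.GroupAlgProj

open Cfsg.Agent.Lib.Helper7

section Defs

variable {G : Type*} [Group G] (F : Type*) [Field F]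

/-- `I_P · M`: the span of the `(u - 1) m`, `u ∈ P`, `m ∈ M` -/
noncomputable def IP (P : Subgroup G) (M : Submodule F (MonoidAlgebra F G)) :
    Submodule F (MonoidAlgebra F G) :=
  Submodule.span F {x | ∃ u : P, ∃ m ∈ M, x = (MonoidAlgebra.of F G (u : G) - 1) * m}

/-- stability under left multiplication by `P` -/
def IsPStable (P : Subgroup G) (M : Submodule F (MonoidAlgebra F G)) : Prop :=
  ∀ u : P, ∀ m ∈ M, MonoidAlgebra.of F G (u : G) * m ∈ M

variable {F}

theorem IP_mono (P : Subgroup G) {M N : Submodule F (MonoidAlgebra F G)} (h : M ≤ N) :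
    IP F P M ≤ IP F P N := by
  apply Submodule.span_mono
  rintro x ⟨u, m, hm, rfl⟩
  exact ⟨u, m, h hm, rfl⟩

theorem IP_sup_le (P : Subgroup G) (A B : Submodule F (MonoidAlgebra F G)) :
    IP F P (A ⊔ B) ≤ IP F P A ⊔ IP F P B := by
  apply Submodule.span_le.mpr
  rintro x ⟨u, m, hm, rfl⟩
  obtain ⟨a, ha, b, hb, rfl⟩ := Submodule.mem_sup.mp hm
  rw [mul_add]
  exact Submodule.add_mem_sup (Submodule.subset_span ⟨u, a, ha, rfl⟩)
    (Submodule.subset_span ⟨u, b, hb, rfl⟩)

theorem IP_le_of_stable (P : Subgroup G) {M : Submodule F (MonoidAlgebra F G)}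
    (hM : IsPStable F P M) : IP F P M ≤ M := by
  apply Submodule.span_le.mpr
  rintro x ⟨u, m, hm, rfl⟩
  rw [sub_mul, one_mul]
  exact M.sub_mem (hM u m hm) hm

theorem iterate_IP_le (P : Subgroup G) (M : Submodule F (MonoidAlgebra F G)) (k : ℕ) :
    (IP F P)^[k] M ≤ Submodule.span F {x | ∃ l : List P, l.length = k ∧ ∃ m ∈ M,
      x = (l.map (fun u : P => MonoidAlgebra.of F G (u : G) - 1)).prod * m} := by
  induction k with
  | zero =>
    intro m hm
    apply Submodule.subset_span
    exact ⟨[], rfl, m, hm, by simp⟩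
  | succ k ih =>
    rw [Function.iterate_succ_apply']
    refine le_trans (IP_mono P ih) ?_
    apply Submodule.span_le.mpr
    rintro x ⟨u, y, hy, rfl⟩
    induction hy using Submodule.span_induction with
    | mem z hz =>
      obtain ⟨l, hl, m, hm, rfl⟩ := hz
      apply Submodule.subset_span
      refine ⟨u :: l, by simp [hl], m, hm, ?_⟩
      rw [List.map_cons, List.prod_cons, mul_assoc]
    | zero =>
      rw [mul_zero]
      exact Submodule.zero_mem _
    | add z w _ _ hz hw =>
      rw [mul_add]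
      exact Submodule.add_mem _ hz hw
    | smul a z _ hz =>
      rw [mul_smul_comm]
      exact Submodule.smul_mem _ a hz

end Defs

section Main

variable {p : ℕ} [Fact p.Prime] {G : Type*} [Group G] [Finite G]
  {F : Type*} [Field F] [CharP F p]

theorem iterate_IP_eq_bot (P : Subgroup G) (hP : IsPGroup p P)
    (M : Submodule F (MonoidAlgebra F G)) : (IP F P)^[Nat.card G] M = ⊥ := by
  rw [eq_bot_iff]
  refine le_trans (iterate_IP_le P M _) ?_
  apply Submodule.span_le.mpr
  rintro x ⟨l, hl, m, _, rfl⟩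
  rw [prod_of_sub_one_eq_zero_field (p := p) F P hP l (le_of_eq hl.symm), zero_mul]
  exact Submodule.zero_mem _

instance : FiniteDimensional F (MonoidAlgebra F G) := by
  classical
  haveI : Fintype G := Fintype.ofFinite G
  exact Module.Finite.of_basis (MonoidAlgebra.basis G F)

theorem finrank_monoidAlgebra : Module.finrank F (MonoidAlgebra F G) = Nat.card G :=
  Module.finrank_eq_nat_card_basis (MonoidAlgebra.basis G F)

/-- Nakayama counting: a `P`-stable subspace `M` is generated over `F[P]` by a complement of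
`I_P M`. -/
theorem finrank_le_of_stable (P : Subgroup G) (hP : IsPGroup p P)
    (M : Submodule F (MonoidAlgebra F G)) (hM : IsPStable F P M) :
    Module.finrank F M
      ≤ Nat.card P * (Module.finrank F M - Module.finrank F (IP F P M)) := by
  classical
  haveI : Fintype P := Fintype.ofFinite P
  have hIM : IP F P M ≤ M := IP_le_of_stable P hM
  obtain ⟨T', hT'⟩ := Submodule.exists_isCompl (IP F P M)
  obtain ⟨T, hT⟩ : ∃ T : Submodule F (MonoidAlgebra F G), T = T' ⊓ M := ⟨_, rfl⟩
  have hsup : IP F P M ⊔ T = M := by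
    rw [hT, ← sup_inf_assoc_of_le T' hIM, hT'.sup_eq_top, top_inf_eq]
  have hinf : IP F P M ⊓ T = ⊥ := by
    rw [hT, ← inf_assoc, hT'.inf_eq_bot, bot_inf_eq]
  have hdim : Module.finrank F M = Module.finrank F (IP F P M) + Module.finrank F T := by
    have := Submodule.finrank_sup_add_finrank_inf_eq (IP F P M) T
    rw [hsup, hinf, finrank_bot, add_zero] at this
    exact this
  -- the `F[P]`-span of `T`
  obtain ⟨PT, hPT⟩ : ∃ PT : Submodule F (MonoidAlgebra F G), PT = Submodule.span F
      {x | ∃ u : P, ∃ t ∈ T, x = MonoidAlgebra.of F G (u : G) * t} := ⟨_, rfl⟩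
  have hTPT : T ≤ PT := by
    intro t ht
    rw [hPT]
    apply Submodule.subset_span
    refine ⟨1, t, ht, ?_⟩
    rw [OneMemClass.coe_one, map_one, one_mul]
  have hPTstable : IsPStable F P PT := by
    intro w y hy
    rw [hPT] at hy ⊢
    induction hy using Submodule.span_induction with
    | mem z hz =>
      obtain ⟨u, t, ht, rfl⟩ := hz
      apply Submodule.subset_span
      refine ⟨w * u, t, ht, ?_⟩
      rw [← mul_assoc, ← map_mul]
      rfl
    | zero =>
      rw [mul_zero]
      exact Submodule.zero_mem _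
    | add z w' _ _ hz hw =>
      rw [mul_add]
      exact Submodule.add_mem _ hz hw
    | smul a z _ hz =>
      rw [mul_smul_comm]
      exact Submodule.smul_mem _ a hz
  -- dimension bound for `PT`
  have hPTdim : Module.finrank F PT ≤ Nat.card P * Module.finrank F T := by
    obtain ⟨Φ, hΦ⟩ : ∃ Φ : (P → T) →ₗ[F] MonoidAlgebra F G,
        ∀ f, Φ f = ∑ u : P, MonoidAlgebra.of F G (u : G) * (f u : MonoidAlgebra F G) := by
      refine ⟨∑ u : P, (LinearMap.mulLeft F (MonoidAlgebra.of F G (u : G))) ∘ₗ T.subtype ∘ₗ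
        (LinearMap.proj u : (P → T) →ₗ[F] T), ?_⟩
      intro f
      rw [LinearMap.sum_apply]
      rfl
    have hle : PT ≤ LinearMap.range Φ := by
      rw [hPT]
      apply Submodule.span_le.mpr
      rintro x ⟨u, t, ht, rfl⟩
      refine ⟨Pi.single u ⟨t, ht⟩, ?_⟩
      rw [hΦ, Finset.sum_eq_single u]
      · simp
      · intro b _ hb
        rw [Pi.single_eq_of_ne hb]
        simp
      · intro h
        exact absurd (Finset.mem_univ u) h
    calc Module.finrank F PT ≤ Module.finrank F (LinearMap.range Φ) := Submodule.finrank_mono hle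
      _ ≤ Module.finrank F (P → T) := LinearMap.finrank_range_le Φ
      _ = Nat.card P * Module.finrank F T := by
        rw [Module.finrank_pi_fintype]
        simp [Nat.card_eq_fintype_card]
  -- induction
  have hind : ∀ k : ℕ, M ≤ PT ⊔ (IP F P)^[k] M := by
    intro k
    induction k with
    | zero =>
      rw [Function.iterate_zero, id]
      exact le_sup_right
    | succ k ih =>
      rw [Function.iterate_succ_apply']
      have h1 : IP F P M ≤ PT ⊔ IP F P ((IP F P)^[k] M) := by
        refine le_trans (IP_mono P ih) ?_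
        refine le_trans (IP_sup_le P _ _) ?_
        exact sup_le_sup_right (IP_le_of_stable P hPTstable) _
      calc M = IP F P M ⊔ T := hsup.symm
        _ ≤ (PT ⊔ IP F P ((IP F P)^[k] M)) ⊔ PT := sup_le_sup h1 hTPT
        _ = PT ⊔ IP F P ((IP F P)^[k] M) := by
          rw [sup_comm, ← sup_assoc, sup_idem]
  have hMPT : M ≤ PT := by
    have := hind (Nat.card G)
    rw [iterate_IP_eq_bot (p := p) P hP M, sup_bot_eq] at this
    exact this
  calc Module.finrank F M ≤ Module.finrank F PT := Submodule.finrank_mono hMPT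
    _ ≤ Nat.card P * Module.finrank F T := hPTdim
    _ = Nat.card P * (Module.finrank F M - Module.finrank F (IP F P M)) := by
      rw [hdim, Nat.add_sub_cancel_left]

omit [Fact p.Prime] [CharP F p] in
/-- the whole group algebra is generated modulo `I_P` by coset representatives -/
theorem card_le_index_add (P : Subgroup G) :
    Nat.card G ≤ P.index + Module.finrank F (IP F P (⊤ : Submodule F (MonoidAlgebra F G))) := by
  classical
  haveI : Fintype G := Fintype.ofFinite G
  haveI : Fintype (G ⧸ P) := Fintype.ofFinite _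
  obtain ⟨r, hr⟩ : ∃ r : G ⧸ P → G, ∀ q, r q = (q.out)⁻¹ := ⟨_, fun _ => rfl⟩
  obtain ⟨S, hS⟩ : ∃ S : Submodule F (MonoidAlgebra F G),
      S = Submodule.span F (Set.range (fun q : G ⧸ P => MonoidAlgebra.of F G (r q))) := ⟨_, rfl⟩
  have hSdim : Module.finrank F S ≤ P.index := by
    rw [hS, Subgroup.index_eq_card, Nat.card_eq_fintype_card]
    exact finrank_range_le_card _
  have hof : ∀ g : G, MonoidAlgebra.of F G g ∈ S ⊔ IP F P ⊤ := by
    intro g
    obtain ⟨q, hq⟩ : ∃ q : G ⧸ P, q = ((g⁻¹ : G) : G ⧸ P) := ⟨_, rfl⟩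
    have hmem : g * q.out ∈ P := by
      have h1 : ((q.out : G) : G ⧸ P) = ((g⁻¹ : G) : G ⧸ P) := by
        rw [← hq]
        exact QuotientGroup.out_eq' q
      have h2 := QuotientGroup.eq.mp h1.symm
      simpa using h2
    have hg : MonoidAlgebra.of F G g = MonoidAlgebra.of F G (r q)
        + (MonoidAlgebra.of F G (g * q.out) - 1) * MonoidAlgebra.of F G (r q) := by
      rw [sub_mul, one_mul, ← map_mul, hr]
      simp
    rw [hg]
    apply Submodule.add_mem_sup
    · rw [hS]
      exact Submodule.subset_span ⟨q, rfl⟩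
    · apply Submodule.subset_span
      exact ⟨⟨g * q.out, hmem⟩, _, Submodule.mem_top, rfl⟩
  have htop : (⊤ : Submodule F (MonoidAlgebra F G)) ≤ S ⊔ IP F P ⊤ := by
    intro x hx
    clear hx
    induction x using MonoidAlgebra.induction_on with
    | of g => exact hof g
    | add a b ha hb => exact Submodule.add_mem _ ha hb
    | smul c a ha => exact Submodule.smul_mem _ c ha
  calc Nat.card G = Module.finrank F (MonoidAlgebra F G) := finrank_monoidAlgebra.symm
    _ = Module.finrank F (⊤ : Submodule F (MonoidAlgebra F G)) := (finrank_top F _).symm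
    _ ≤ Module.finrank F (S ⊔ IP F P ⊤ : Submodule F (MonoidAlgebra F G)) :=
        Submodule.finrank_mono htop
    _ ≤ Module.finrank F S + Module.finrank F (IP F P (⊤ : Submodule F (MonoidAlgebra F G))) :=
        Submodule.finrank_add_le_finrank_add_finrank _ _
    _ ≤ P.index + Module.finrank F (IP F P (⊤ : Submodule F (MonoidAlgebra F G))) :=
        Nat.add_le_add_right hSdim _

/-- **Direct summands are free over `F[P]`** (dimension form): for an idempotent `e` of `F[G]`
and a `p`-subgroup `P`, `|P|` divides `dim F[G] e`. -/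
theorem card_dvd_finrank_range_mulRight (P : Subgroup G) (hP : IsPGroup p P)
    (e : MonoidAlgebra F G) (he : IsIdempotentElem e) :
    Nat.card P ∣ Module.finrank F (LinearMap.range (LinearMap.mulRight F e)) := by
  classical
  obtain ⟨M₁, hM₁⟩ : ∃ M₁ : Submodule F (MonoidAlgebra F G),
      M₁ = LinearMap.range (LinearMap.mulRight F e) := ⟨_, rfl⟩
  obtain ⟨M₂, hM₂⟩ : ∃ M₂ : Submodule F (MonoidAlgebra F G),
      M₂ = LinearMap.range (LinearMap.mulRight F (1 - e)) := ⟨_, rfl⟩
  rw [← hM₁]
  have hst₁ : IsPStable F P M₁ := by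
    rintro u m hm
    rw [hM₁] at hm ⊢
    obtain ⟨x, rfl⟩ := hm
    exact ⟨MonoidAlgebra.of F G (u : G) * x, by simp [mul_assoc]⟩
  have hst₂ : IsPStable F P M₂ := by
    rintro u m hm
    rw [hM₂] at hm ⊢
    obtain ⟨x, rfl⟩ := hm
    exact ⟨MonoidAlgebra.of F G (u : G) * x, by simp [mul_assoc]⟩
  have hsup : M₁ ⊔ M₂ = ⊤ := by
    rw [eq_top_iff]
    intro x _
    have hx : x = x * e + x * (1 - e) := by rw [← mul_add, add_sub_cancel, mul_one]
    rw [hx]
    apply Submodule.add_mem_sup
    · rw [hM₁]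
      exact ⟨x, rfl⟩
    · rw [hM₂]
      exact ⟨x, rfl⟩
  have hinf : M₁ ⊓ M₂ = ⊥ := by
    rw [eq_bot_iff]
    rintro x ⟨h1, h2⟩
    rw [SetLike.mem_coe, hM₁] at h1
    rw [SetLike.mem_coe, hM₂] at h2
    obtain ⟨y, rfl⟩ := h1
    obtain ⟨z, hz⟩ := h2
    simp only [LinearMap.mulRight_apply] at hz ⊢
    have h3 : y * e = (y * e) * e := by rw [mul_assoc, he.eq]
    have h4 : (y * e) * e = 0 := by
      rw [← hz, mul_assoc, sub_mul, one_mul, he.eq, sub_self, mul_zero]
    rw [Submodule.mem_bot, h3, h4]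
  have hdim : Module.finrank F M₁ + Module.finrank F M₂ = Nat.card G := by
    have := Submodule.finrank_sup_add_finrank_inf_eq M₁ M₂
    rw [hsup, hinf, finrank_bot, add_zero, finrank_top, finrank_monoidAlgebra] at this
    exact this.symm
  have htop : IP F P (⊤ : Submodule F (MonoidAlgebra F G)) ≤ IP F P M₁ ⊔ IP F P M₂ := by
    rw [← hsup]
    exact IP_sup_le P M₁ M₂
  have h1 := finrank_le_of_stable (p := p) P hP M₁ hst₁
  have h2 := finrank_le_of_stable (p := p) P hP M₂ hst₂
  have h3 := card_le_index_add (F := F) P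
  have h4 : Module.finrank F (IP F P (⊤ : Submodule F (MonoidAlgebra F G)))
      ≤ Module.finrank F (IP F P M₁) + Module.finrank F (IP F P M₂) :=
    le_trans (Submodule.finrank_mono htop) (Submodule.finrank_add_le_finrank_add_finrank _ _)
  have h5 : Module.finrank F (IP F P M₁) ≤ Module.finrank F M₁ :=
    Submodule.finrank_mono (IP_le_of_stable P hst₁)
  have h6 : Module.finrank F (IP F P M₂) ≤ Module.finrank F M₂ :=
    Submodule.finrank_mono (IP_le_of_stable P hst₂)
  have h7 : Nat.card P * P.index = Nat.card G := Subgroup.card_mul_index P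
  -- arithmetic
  obtain ⟨m₁, hm₁⟩ : ∃ m₁, m₁ = Module.finrank F M₁ := ⟨_, rfl⟩
  obtain ⟨m₂, hm₂⟩ : ∃ m₂, m₂ = Module.finrank F M₂ := ⟨_, rfl⟩
  obtain ⟨n₁, hn₁⟩ : ∃ n₁, n₁ = Module.finrank F (IP F P M₁) := ⟨_, rfl⟩
  obtain ⟨n₂, hn₂⟩ : ∃ n₂, n₂ = Module.finrank F (IP F P M₂) := ⟨_, rfl⟩
  obtain ⟨n₀, hn₀⟩ : ∃ n₀, n₀ = Module.finrank F (IP F P (⊤ : Submodule F (MonoidAlgebra F G))) :=
    ⟨_, rfl⟩
  rw [← hm₁, ← hn₁] at h1 h5
  rw [← hm₂, ← hn₂] at h2 h6
  rw [← hn₀] at h3 h4
  rw [← hn₁, ← hn₂] at h4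
  rw [← hm₁, ← hm₂] at hdim
  rw [← hm₁]
  have h8 : (m₁ - n₁) + (m₂ - n₂) ≤ P.index := by
    have : Nat.card G ≤ P.index + (n₁ + n₂) := le_trans h3 (Nat.add_le_add_left h4 _)
    omega
  have h9 : Nat.card P * (m₁ - n₁) + Nat.card P * (m₂ - n₂) ≤ m₁ + m₂ := by
    rw [← mul_add, hdim, ← h7]
    exact Nat.mul_le_mul_left _ h8
  have h10 : m₁ = Nat.card P * (m₁ - n₁) := by omega
  exact ⟨m₁ - n₁, h10⟩

end Main

end Cfsg.Agent.Lib.Helper24.GroupAlgProj
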