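import Mathlib
import Cfsg.Prelude.Def_Blocks
import Cfsg.Prelude.Def_BlockLocal
import Cfsg.Agent.Lib.Helper24.HKTransport

/-!
# Harris–Knörr, step 1 (helper24 library)

`N ⊴ G`, `H ≤ G`, `L = H ⊓ N`.  If the block `c` of `H` covers the block `e` of `L`, `e` induces
(inside `N`) the block `d` of `N`, and `c` induces the block `B` of `G`, then `B` covers `d`.
-/

set_option autoImplicit false

namespace Cfsg.Agent.Lib.Helper24

open Cfsg.Agent.Lib.Helper2 Cfsg.Agent.Lib.Helper7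
open scoped ComplexConjugate

section CoverTransfer

variable {G : Type*} [Group G] [Fintype G] {p : ℕ} {M : Ideal Cfsg.AlgInt}

/-- transitivity of induced central characters, with the congruence required only on the
`G`-class of `g` -/
theorem inducedCentralChar_trans_of_support (hM : Cfsg.IsPModular p M) (H K : Subgroup G)
    [Fintype H] [Fintype K] [Fintype (H.subgroupOf K)] (hHK : H ≤ K)
    (ξ : Cfsg.IrrCharacter (H.subgroupOf K)) (χ₁ : Cfsg.IrrCharacter K) (g : G)
    (hcong : ∀ n : K, ¬ IsConj g (n : G) ∨ Cfsg.MemLocalIdeal M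
      (Cfsg.inducedCentralChar (H.subgroupOf K) (ξ : H.subgroupOf K → ℂ) n
        - Cfsg.centralChar (χ₁ : K → ℂ) n)) :
    Cfsg.MemLocalIdeal M
      (Cfsg.inducedCentralChar H
        ((irrMap (Subgroup.subgroupOfEquivOfLe hHK) ξ : Cfsg.IrrCharacter H) : H → ℂ) g
        - Cfsg.inducedCentralChar K (χ₁ : K → ℂ) g) := by
  classical
  have h1 := omega_restrict_sub_memLocalIdeal' hM (H.subgroupOf K) (ξ : H.subgroupOf K → ℂ) χ₁
    (classIndicatorOn K g) (classIndicatorOn_isClassFunction K g)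
    (classIndicatorOn_memLocalRing K hM g) (by
      intro n
      rcases hcong n with h0 | h0
      · left
        unfold classIndicatorOn classIndicator
        rw [if_neg h0]
      · right
        exact h0)
  rw [← inducedCentralChar_eq_omega] at h1
  have h2 : omega (ξ : H.subgroupOf K → ℂ)
      (fun h : H.subgroupOf K => classIndicatorOn K g (h : K))
      = Cfsg.inducedCentralChar H
        ((irrMap (Subgroup.subgroupOfEquivOfLe hHK) ξ : Cfsg.IrrCharacter H) : H → ℂ) g := by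
    rw [inducedCentralChar_eq_omega]
    unfold omega
    have e1 : ((irrMap (Subgroup.subgroupOfEquivOfLe hHK) ξ : Cfsg.IrrCharacter H) : H → ℂ) 1
        = (ξ : H.subgroupOf K → ℂ) 1 := by
      rw [irrMap_apply, map_one]
    rw [e1]
    congr 1
    rw [← Equiv.sum_comp (Subgroup.subgroupOfEquivOfLe hHK).toEquiv]
    apply Finset.sum_congr rfl
    intro h _
    show _ = classIndicatorOn H g (Subgroup.subgroupOfEquivOfLe hHK h)
      * ((irrMap (Subgroup.subgroupOfEquivOfLe hHK) ξ : Cfsg.IrrCharacter H) : H → ℂ)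
        (Subgroup.subgroupOfEquivOfLe hHK h)
    rw [irrMap_apply_apply]
    rfl
  rw [h2] at h1
  exact h1

/-- **Harris–Knörr, step 1**: covering is transferred through block induction. -/
theorem covers_of_isInducedBlock (hM : Cfsg.IsPModular p M) (N : Subgroup G) [hN : N.Normal]
    [Fintype N] (H : Subgroup G) [Fintype ↥(H ⊓ N)]
    (c : Set (Cfsg.IrrCharacter H)) (hc : Cfsg.IsPBlock M c)
    (e : Set (Cfsg.IrrCharacter ↥(H ⊓ N))) (he : Cfsg.IsPBlock M e)
    (d : Set (Cfsg.IrrCharacter N))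
    (hed : Cfsg.IsInducedBlockIn M N (H ⊓ N) e d)
    (hcov : ∃ ψ ∈ c, ∃ ξ ∈ e,
      Cfsg.classInner (resTo (H ⊓ N) H inf_le_left (ψ : H → ℂ)) (ξ : ↥(H ⊓ N) → ℂ) ≠ 0)
    (B : Set (Cfsg.IrrCharacter G)) (hind : Cfsg.IsInducedBlock M H c B) :
    ∃ χ ∈ B, ∃ θ ∈ d, Cfsg.classInner (fun n : N => (χ : G → ℂ) n) (θ : N → ℂ) ≠ 0 := by
  classical
  haveI : Fintype H := Fintype.ofFinite _
  haveI : Fintype ((H ⊓ N).subgroupOf H) := Fintype.ofFinite _
  haveI : Fintype ((H ⊓ N).subgroupOf N) := Fintype.ofFinite _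
  haveI : ((H ⊓ N).subgroupOf H).Normal := by
    rw [Subgroup.inf_subgroupOf_left]; infer_instance
  apply covering_of_cong N hM B hind.2.1 d hed.2.1
  intro χ hχ θ hθ n
  obtain ⟨ψ₀, hψ₀, ξ₀, hξ₀, hne⟩ := hcov
  have hcovH := (covers_toSub_iff (H ⊓ N) H inf_le_left c e).mpr ⟨ψ₀, hψ₀, ξ₀, hξ₀, hne⟩
  have h1 := hind.2.2 ψ₀ hψ₀ χ hχ (n : G)
  have h2 := inducedCentralChar_trans_of_support hM (H ⊓ N) H inf_le_left
    (irrMap (Subgroup.subgroupOfEquivOfLe (inf_le_left : H ⊓ N ≤ H)).symm ξ₀) ψ₀ (n : G) (by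
      intro m
      by_cases hconj : IsConj (n : G) (m : G)
      · right
        have hmN : (m : G) ∈ N := by
          obtain ⟨x, hx⟩ := isConj_iff.mp hconj
          rw [← hx]
          exact hN.conj_mem _ n.2 x
        have hm : m ∈ (H ⊓ N).subgroupOf H := by
          rw [Subgroup.mem_subgroupOf]
          exact ⟨m.2, hmN⟩
        have := covering_cong ((H ⊓ N).subgroupOf H) hM c hc
          (toSub (H ⊓ N) H inf_le_left e) (toSub_isPBlock (H ⊓ N) H inf_le_left he) hcovH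
          ψ₀ hψ₀ _ (mem_toSub (H ⊓ N) H inf_le_left hξ₀) ⟨m, hm⟩
        have h := memLocalIdeal_neg this
        rwa [neg_sub] at h
      · left
        exact hconj)
  rw [irrMap_irrMap_symm] at h2
  have hedN := (isInducedBlockIn_iff N (H ⊓ N) inf_le_right e d).mp hed
  have h3 := inducedCentralChar_trans hM (H ⊓ N) N inf_le_right
    (irrMap (Subgroup.subgroupOfEquivOfLe (inf_le_right : H ⊓ N ≤ N)).symm ξ₀) θ
    (fun m => hedN.2.2 _ (mem_toSub (H ⊓ N) N inf_le_right hξ₀) θ hθ m) (n : G)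
  rw [irrMap_irrMap_symm] at h3
  have h4 := memLocalIdeal_sub hM h3 (memLocalIdeal_add hM h2 h1)
  have e1 : Cfsg.inducedCentralChar (H ⊓ N) (ξ₀ : ↥(H ⊓ N) → ℂ) (n : G)
      - Cfsg.inducedCentralChar N (θ : N → ℂ) (n : G)
      - (Cfsg.inducedCentralChar (H ⊓ N) (ξ₀ : ↥(H ⊓ N) → ℂ) (n : G)
          - Cfsg.inducedCentralChar H (ψ₀ : H → ℂ) (n : G)
        + (Cfsg.inducedCentralChar H (ψ₀ : H → ℂ) (n : G) - Cfsg.centralChar (χ : G → ℂ) (n : G)))
      = Cfsg.centralChar (χ : G → ℂ) (n : G) - Cfsg.inducedCentralChar N (θ : N → ℂ) (n : G) := by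
    ring
  rw [e1] at h4
  exact h4

end CoverTransfer

end Cfsg.Agent.Lib.Helper24
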