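import Mathlib
import Cfsg.Prelude.Def_Blocks
import Cfsg.Prelude.Def_BlockLocal
import Cfsg.Agent.Lib.Helper24.HKCover

/-!
# The Harris–Knörr correspondence (helper24 library)

`N ⊴ G`, `Q ≤ N` a `p`-subgroup, `H = N_G(Q)`, `L = H ⊓ N`; `d` a block of `N` with defect group
`Q`, `e` the block of `L` with defect group `Q` inducing `d`.  Then block induction is a bijection
from the blocks of `H` covering `e` onto the blocks of `G` covering `d`.
-/

set_option autoImplicit false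

namespace Cfsg.Agent.Lib.Helper24

open Cfsg.Agent.Lib.Helper2 Cfsg.Agent.Lib.Helper7
open scoped ComplexConjugate

section Grp

variable {G : Type*} [Group G]

theorem normalizer_le_normalizer_of_inf_eq (N P Q : Subgroup G) [hN : N.Normal]
    (h : P ⊓ N = Q) :
    Subgroup.normalizer (P : Set G) ≤ Subgroup.normalizer (Q : Set G) := by
  intro g hg
  rw [Subgroup.mem_normalizer_iff] at hg ⊢
  intro x
  rw [← h, Subgroup.mem_inf, Subgroup.mem_inf, ← hg x]
  constructor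
  · rintro ⟨h1, h2⟩
    exact ⟨h1, hN.conj_mem x h2 g⟩
  · rintro ⟨h1, h2⟩
    refine ⟨h1, ?_⟩
    have := hN.conj_mem _ h2 g⁻¹
    have e : g⁻¹ * (g * x * g⁻¹) * g⁻¹⁻¹ = x := by group
    rwa [e] at this

/-- the restriction to `K` of a class function of `T ≥ K` has the same inner product with a
character of `K` and with its conjugate by an element of `T` normalizing `K` -/
theorem classInner_resTo_conjIrr (K T : Subgroup G) [Fintype K] (hKT : K ≤ T)
    (n : Subgroup.normalizer (K : Set G)) (hn : (n : G) ∈ T) (ψ : T → ℂ)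
    (hψ : Cfsg.IsClassFunction T ψ) (ξ : Cfsg.IrrCharacter K) :
    Cfsg.classInner (resTo K T hKT ψ) (conjIrr K n ξ).1
      = Cfsg.classInner (resTo K T hKT ψ) ξ.1 := by
  unfold Cfsg.classInner
  congr 1
  rw [← Equiv.sum_comp (K.normalizerMonoidHom n).toEquiv]
  apply Finset.sum_congr rfl
  intro k _
  have h1 : (conjIrr K n ξ).1 ((K.normalizerMonoidHom n).toEquiv k) = ξ.1 k := by
    rw [conjIrr_apply, map_inv]
    exact congrArg ξ.1 ((K.normalizerMonoidHom n).symm_apply_apply k)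
  have h2 : resTo K T hKT ψ ((K.normalizerMonoidHom n).toEquiv k) = resTo K T hKT ψ k := by
    rw [resTo_apply, resTo_apply]
    have := hψ ⟨k, hKT k.2⟩ ⟨n, hn⟩
    rw [← this]
    rfl
  rw [h1, h2]

theorem mem_normalizer_inf_of_mem (H N : Subgroup G) [hN : N.Normal] {g : G} (hg : g ∈ H) :
    g ∈ Subgroup.normalizer ((H ⊓ N : Subgroup G) : Set G) := by
  rw [Subgroup.mem_normalizer_iff]
  intro y
  rw [Subgroup.mem_inf, Subgroup.mem_inf]
  constructor
  · rintro ⟨h1, h2⟩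
    exact ⟨H.mul_mem (H.mul_mem hg h1) (H.inv_mem hg), hN.conj_mem y h2 g⟩
  · rintro ⟨h1, h2⟩
    have e : g⁻¹ * (g * y * g⁻¹) * g⁻¹⁻¹ = y := by group
    constructor
    · have := H.mul_mem (H.mul_mem (H.inv_mem hg) h1) (H.inv_mem (H.inv_mem hg))
      rwa [e] at this
    · have := hN.conj_mem _ h2 g⁻¹
      rwa [e] at this

end Grp

section HK

variable {G : Type*} [Group G] [Fintype G] {p : ℕ} {M : Ideal Cfsg.AlgInt}
  (N : Subgroup G) [hN : N.Normal] [Fintype N] (Q : Subgroup G)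
  [Fintype ↥(Subgroup.normalizer (Q : Set G) ⊓ N)]

/-- a block of `H = N_G(Q)` covering `e` (with defect group `Q`) has a defect group `D` with
`D ∩ N = Q`; it induces a block of `G` with defect group `D` -/
theorem exists_defect_inf_eq [Fact p.Prime] (hM : Cfsg.IsPModular p M) (hQN : Q ≤ N)
    (e : Set (Cfsg.IrrCharacter ↥(Subgroup.normalizer (Q : Set G) ⊓ N))) (he : Cfsg.IsPBlock M e)
    (heQ : Cfsg.IsDefectGroup p M e (Q.subgroupOf (Subgroup.normalizer (Q : Set G) ⊓ N)))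
    (c : Set (Cfsg.IrrCharacter ↥(Subgroup.normalizer (Q : Set G)))) (hc : Cfsg.IsPBlock M c)
    (hcov : ∃ ψ ∈ c, ∃ ξ ∈ e, Cfsg.classInner
      (resTo (Subgroup.normalizer (Q : Set G) ⊓ N) (Subgroup.normalizer (Q : Set G)) inf_le_left
        (ψ : ↥(Subgroup.normalizer (Q : Set G)) → ℂ))
      (ξ : ↥(Subgroup.normalizer (Q : Set G) ⊓ N) → ℂ) ≠ 0) :
    ∃ D : Subgroup G, D ≤ Subgroup.normalizer (Q : Set G) ∧ D ⊓ N = Q ∧
      Cfsg.IsDefectGroup p M c (D.subgroupOf (Subgroup.normalizer (Q : Set G))) ∧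
      ∃ B : Set (Cfsg.IrrCharacter G), Cfsg.IsDefectGroup p M B D ∧
        Cfsg.IsInducedBlock M (Subgroup.normalizer (Q : Set G)) c B := by
  classical
  haveI : Fintype ↥(Subgroup.normalizer (Q : Set G)) := Fintype.ofFinite _
  haveI : Fintype ((Subgroup.normalizer (Q : Set G) ⊓ N).subgroupOf
      (Subgroup.normalizer (Q : Set G))) := Fintype.ofFinite _
  haveI : ((Subgroup.normalizer (Q : Set G) ⊓ N).subgroupOf
      (Subgroup.normalizer (Q : Set G))).Normal := by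
    rw [Subgroup.inf_subgroupOf_left]; infer_instance
  have hQL : Q ≤ Subgroup.normalizer (Q : Set G) ⊓ N := le_inf Subgroup.le_normalizer hQN
  have hcovH := (covers_toSub_iff (Subgroup.normalizer (Q : Set G) ⊓ N)
    (Subgroup.normalizer (Q : Set G)) inf_le_left c e).mpr hcov
  have hQLH : Q.subgroupOf (Subgroup.normalizer (Q : Set G)) ≤
      (Subgroup.normalizer (Q : Set G) ⊓ N).subgroupOf (Subgroup.normalizer (Q : Set G)) := by
    intro x hx
    rw [Subgroup.mem_subgroupOf] at hx ⊢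
    exact hQL hx
  obtain ⟨P, hP, hPL⟩ := knorr_exists_defectGroup
    ((Subgroup.normalizer (Q : Set G) ⊓ N).subgroupOf (Subgroup.normalizer (Q : Set G))) hM
    (toSub _ _ inf_le_left e) (toSub_isPBlock _ _ inf_le_left he)
    (Q.subgroupOf (Subgroup.normalizer (Q : Set G))) hQLH
    (isDefectGroup_toSub _ _ Q inf_le_left e heQ) c hc hcovH
  have hDN : P.map (Subgroup.normalizer (Q : Set G)).subtype ⊓ N = Q := by
    ext x
    constructor
    · rintro ⟨⟨y, hy, rfl⟩, hxN⟩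
      have : y ∈ P ⊓ (Subgroup.normalizer (Q : Set G) ⊓ N).subgroupOf
          (Subgroup.normalizer (Q : Set G)) := by
        exact ⟨hy, Subgroup.mem_subgroupOf.mpr ⟨y.2, hxN⟩⟩
      rw [hPL, Subgroup.mem_subgroupOf] at this
      exact this
    · intro hx
      have h1 : (⟨x, Subgroup.le_normalizer hx⟩ : ↥(Subgroup.normalizer (Q : Set G)))
          ∈ Q.subgroupOf (Subgroup.normalizer (Q : Set G)) := by
        rw [Subgroup.mem_subgroupOf]; exact hx
      rw [← hPL] at h1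
      exact ⟨⟨_, h1.1, rfl⟩, hQN hx⟩
  have hsub : (P.map (Subgroup.normalizer (Q : Set G)).subtype).subgroupOf
      (Subgroup.normalizer (Q : Set G)) = P :=
    Cfsg.Agent.S4726.subgroupOf_map_subtype_self _ P
  obtain ⟨g, _, _, hcard⟩ := exists_of_isDefectGroup hP
  have hPp : IsPGroup p P := IsPGroup.of_card hcard
  have hDp : IsPGroup p (P.map (Subgroup.normalizer (Q : Set G)).subtype) := hPp.map _
  have hHD := normalizer_le_normalizer_of_inf_eq N _ Q hDN
  have hP' : Cfsg.IsDefectGroup p M c ((P.map (Subgroup.normalizer (Q : Set G)).subtype).subgroupOf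
      (Subgroup.normalizer (Q : Set G))) := by
    rw [hsub]; exact hP
  obtain ⟨B, hBD, hind⟩ := isInducedBlock_over_normalizer hM (Subgroup.normalizer (Q : Set G))
    (P.map (Subgroup.normalizer (Q : Set G)).subtype) hDp hHD c hc hP'
  exact ⟨_, Subgroup.map_subtype_le P, hDN, hP', B, hBD, hind⟩

/-- **Harris–Knörr, part one**: a block of `N_G(Q)` covering `e` induces a unique block of `G`,
which covers `d`. -/
theorem hk_part_one [Fact p.Prime] (hM : Cfsg.IsPModular p M) (hQN : Q ≤ N)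
    (d : Set (Cfsg.IrrCharacter N))
    (e : Set (Cfsg.IrrCharacter ↥(Subgroup.normalizer (Q : Set G) ⊓ N))) (he : Cfsg.IsPBlock M e)
    (heQ : Cfsg.IsDefectGroup p M e (Q.subgroupOf (Subgroup.normalizer (Q : Set G) ⊓ N)))
    (hed : Cfsg.IsInducedBlockIn M N (Subgroup.normalizer (Q : Set G) ⊓ N) e d)
    (c : Set (Cfsg.IrrCharacter ↥(Subgroup.normalizer (Q : Set G)))) (hc : Cfsg.IsPBlock M c)
    (hcov : ∃ ψ ∈ c, ∃ ξ ∈ e, Cfsg.classInner
      (resTo (Subgroup.normalizer (Q : Set G) ⊓ N) (Subgroup.normalizer (Q : Set G)) inf_le_left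
        (ψ : ↥(Subgroup.normalizer (Q : Set G)) → ℂ))
      (ξ : ↥(Subgroup.normalizer (Q : Set G) ⊓ N) → ℂ) ≠ 0) :
    ∃! B : Set (Cfsg.IrrCharacter G),
      Cfsg.IsInducedBlock M (Subgroup.normalizer (Q : Set G)) c B ∧
      (∃ χ ∈ B, ∃ θ ∈ d, Cfsg.classInner (fun n : N => (χ : G → ℂ) n) (θ : N → ℂ) ≠ 0) := by
  obtain ⟨D, _, _, _, B, _, hind⟩ := exists_defect_inf_eq N Q hM hQN e he heQ c hc hcov
  refine ⟨B, ⟨hind, covers_of_isInducedBlock hM N _ c hc e he d hed hcov B hind⟩, ?_⟩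
  rintro B₂ ⟨h₂, _⟩
  exact Cfsg.Agent.S0953.isInducedBlock_unique hM _ c B₂ B h₂ hind

/-- **Harris–Knörr, injectivity**: two blocks of `N_G(Q)` covering `e` and inducing the same block
of `G` are equal. -/
theorem hk_unique [Fact p.Prime] (hM : Cfsg.IsPModular p M) (hQN : Q ≤ N)
    (e : Set (Cfsg.IrrCharacter ↥(Subgroup.normalizer (Q : Set G) ⊓ N))) (he : Cfsg.IsPBlock M e)
    (heQ : Cfsg.IsDefectGroup p M e (Q.subgroupOf (Subgroup.normalizer (Q : Set G) ⊓ N)))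
    (c₁ c₂ : Set (Cfsg.IrrCharacter ↥(Subgroup.normalizer (Q : Set G))))
    (hc₁ : Cfsg.IsPBlock M c₁) (hc₂ : Cfsg.IsPBlock M c₂)
    (hcov₁ : ∃ ψ ∈ c₁, ∃ ξ ∈ e, Cfsg.classInner
      (resTo (Subgroup.normalizer (Q : Set G) ⊓ N) (Subgroup.normalizer (Q : Set G)) inf_le_left
        (ψ : ↥(Subgroup.normalizer (Q : Set G)) → ℂ))
      (ξ : ↥(Subgroup.normalizer (Q : Set G) ⊓ N) → ℂ) ≠ 0)
    (hcov₂ : ∃ ψ ∈ c₂, ∃ ξ ∈ e, Cfsg.classInner
      (resTo (Subgroup.normalizer (Q : Set G) ⊓ N) (Subgroup.normalizer (Q : Set G)) inf_le_left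
        (ψ : ↥(Subgroup.normalizer (Q : Set G)) → ℂ))
      (ξ : ↥(Subgroup.normalizer (Q : Set G) ⊓ N) → ℂ) ≠ 0)
    (B : Set (Cfsg.IrrCharacter G))
    (h₁ : Cfsg.IsInducedBlock M (Subgroup.normalizer (Q : Set G)) c₁ B)
    (h₂ : Cfsg.IsInducedBlock M (Subgroup.normalizer (Q : Set G)) c₂ B) : c₁ = c₂ := by
  classical
  haveI : Fintype ↥(Subgroup.normalizer (Q : Set G)) := Fintype.ofFinite _
  have hB := h₁.2.1
  obtain ⟨D₁, hD₁H, hD₁N, hdef₁, B₁, hB₁D, hind₁⟩ :=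
    exists_defect_inf_eq N Q hM hQN e he heQ c₁ hc₁ hcov₁
  obtain ⟨D₂, hD₂H, hD₂N, hdef₂, B₂, hB₂D, hind₂⟩ :=
    exists_defect_inf_eq N Q hM hQN e he heQ c₂ hc₂ hcov₂
  have e₁ : B₁ = B := Cfsg.Agent.S0953.isInducedBlock_unique hM _ c₁ B₁ B hind₁ h₁
  have e₂ : B₂ = B := Cfsg.Agent.S0953.isInducedBlock_unique hM _ c₂ B₂ B hind₂ h₂
  rw [e₁] at hB₁D
  rw [e₂] at hB₂D
  obtain ⟨x, hx⟩ := isDefectGroup_conj hM B hB hB₁D hB₂D
  have hxH : x ∈ Subgroup.normalizer (Q : Set G) := by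
    rw [Subgroup.mem_normalizer_iff]
    intro y
    constructor
    · intro hy
      rw [← hD₁N] at hy
      rw [← hD₂N, hx]
      exact ⟨⟨y, hy.1, rfl⟩, hN.conj_mem y hy.2 x⟩
    · intro hy
      rw [← hD₂N, hx] at hy
      obtain ⟨⟨d, hd, hdy⟩, hyN⟩ := hy
      have hyd : y = d := by
        have : x * d * x⁻¹ = x * y * x⁻¹ := hdy
        have h3 := mul_right_cancel this
        exact (mul_left_cancel h3).symm
      rw [← hD₁N]
      refine ⟨hyd ▸ hd, ?_⟩
      have := hN.conj_mem _ hyN x⁻¹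
      have e : x⁻¹ * (x * y * x⁻¹) * x⁻¹⁻¹ = y := by group
      rwa [e] at this
  have hdef₁' : Cfsg.IsDefectGroup p M c₁ (D₂.subgroupOf (Subgroup.normalizer (Q : Set G))) := by
    have := isDefectGroup_map_conj hdef₁ (⟨x, hxH⟩ : ↥(Subgroup.normalizer (Q : Set G)))
    have heq : (D₁.subgroupOf (Subgroup.normalizer (Q : Set G))).map
        (MulAut.conj (⟨x, hxH⟩ : ↥(Subgroup.normalizer (Q : Set G)))).toMonoidHom
        = D₂.subgroupOf (Subgroup.normalizer (Q : Set G)) := by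
      ext z
      constructor
      · rintro ⟨w, hw, rfl⟩
        have hw' : (w : G) ∈ D₁ := Subgroup.mem_subgroupOf.mp hw
        rw [Subgroup.mem_subgroupOf, hx]
        exact ⟨(w : G), hw', rfl⟩
      · intro hz
        rw [Subgroup.mem_subgroupOf, hx] at hz
        obtain ⟨w, hw, hwz⟩ := hz
        refine ⟨⟨w, hD₁H hw⟩, Subgroup.mem_subgroupOf.mpr hw, ?_⟩
        apply Subtype.ext
        exact hwz
    rwa [heq] at this
  exact eq_of_isInducedBlock_over_normalizer hM _ D₂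
    (normalizer_le_normalizer_of_inf_eq N D₂ Q hD₂N) c₁ c₂ hdef₁' hdef₂ B h₁ h₂

end HK

section HKExists

variable {G : Type*} [Group G] [Fintype G] {p : ℕ} {M : Ideal Cfsg.AlgInt}

/-- **Harris–Knörr, surjectivity**: every block of `G` covering `d` is induced from a block of
`H = N_G(Q)` covering `e`. -/
theorem hk_exists [Fact p.Prime] (hM : Cfsg.IsPModular p M) (N : Subgroup G) [hN : N.Normal]
    [Fintype N] (Q H : Subgroup G) (hH : H = Subgroup.normalizer (Q : Set G))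
    [Fintype ↥(H ⊓ N)] (hQ : IsPGroup p Q) (hQN : Q ≤ N)
    (d : Set (Cfsg.IrrCharacter N)) (hd : Cfsg.IsPBlock M d)
    (hdQ : Cfsg.IsDefectGroup p M d (Q.subgroupOf N))
    (e : Set (Cfsg.IrrCharacter ↥(H ⊓ N)))
    (heQ : Cfsg.IsDefectGroup p M e (Q.subgroupOf (H ⊓ N)))
    (hed : Cfsg.IsInducedBlockIn M N (H ⊓ N) e d)
    (B : Set (Cfsg.IrrCharacter G)) (hB : Cfsg.IsPBlock M B)
    (hcov : ∃ χ ∈ B, ∃ θ ∈ d, Cfsg.classInner (fun n : N => (χ : G → ℂ) n) (θ : N → ℂ) ≠ 0) :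
    ∃ c : Set (Cfsg.IrrCharacter H), Cfsg.IsPBlock M c ∧
      (∃ ψ ∈ c, ∃ ξ ∈ e, Cfsg.classInner (resTo (H ⊓ N) H inf_le_left (ψ : H → ℂ))
        (ξ : ↥(H ⊓ N) → ℂ) ≠ 0) ∧
      Cfsg.IsInducedBlock M H c B := by
  classical
  haveI : Fintype H := Fintype.ofFinite _
  haveI : Fintype ((H ⊓ N).subgroupOf H) := Fintype.ofFinite _
  haveI : ((H ⊓ N).subgroupOf H).Normal := by
    rw [Subgroup.inf_subgroupOf_left]; infer_instance
  have hQH : Q ≤ H := hH ▸ Subgroup.le_normalizer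
  have hQL : Q ≤ H ⊓ N := le_inf hQH hQN
  have hNL : Subgroup.normalizer (Q : Set G) ⊓ N ≤ H ⊓ N := by rw [hH]
  -- (a) Knörr in `G`
  obtain ⟨P, hBP, hPN⟩ := knorr_exists_defectGroup N hM d hd Q hQN hdQ B hB hcov
  have hNP : Subgroup.normalizer (P : Set G) ≤ H :=
    hH ▸ normalizer_le_normalizer_of_inf_eq N P Q hPN
  -- (c) the correspondent in `H`
  obtain ⟨c, hc, hcP, hind⟩ := exists_isInducedBlock_over_normalizer hM H P hNP B hB hBP
  -- (d) Knörr in `H`
  obtain ⟨e₂, he₂, _, hcov₂, hDe₂⟩ :=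
    knorr_exists_block ((H ⊓ N).subgroupOf H) hM c hc (P.subgroupOf H) hcP
  have hts : toSub (H ⊓ N) H inf_le_left
      (irrMap (Subgroup.subgroupOfEquivOfLe (inf_le_left : H ⊓ N ≤ H)) '' e₂) = e₂ :=
    image_irrMap_symm_image _ e₂
  have he'' : Cfsg.IsPBlock M
      (irrMap (Subgroup.subgroupOfEquivOfLe (inf_le_left : H ⊓ N ≤ H)) '' e₂) :=
    isPBlock_image_irrMap _ he₂
  have hDe'' : Cfsg.IsDefectGroup p M
      (irrMap (Subgroup.subgroupOfEquivOfLe (inf_le_left : H ⊓ N ≤ H)) '' e₂)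
      (Q.subgroupOf (H ⊓ N)) := by
    have := isDefectGroup_irrMap (p := p) (M := M)
      (Subgroup.subgroupOfEquivOfLe (inf_le_left : H ⊓ N ≤ H)) e₂ _ hDe₂
    have heq : (((P.subgroupOf H) ⊓ (H ⊓ N).subgroupOf H).subgroupOf
        ((H ⊓ N).subgroupOf H)).map
          (Subgroup.subgroupOfEquivOfLe (inf_le_left : H ⊓ N ≤ H)).toMonoidHom
        = Q.subgroupOf (H ⊓ N) := by
      ext x
      constructor
      · rintro ⟨y, hy, rfl⟩
        have hy' : (y : H) ∈ P.subgroupOf H ⊓ (H ⊓ N).subgroupOf H :=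
          Subgroup.mem_subgroupOf.mp hy
        have hyP : ((y : H) : G) ∈ P := Subgroup.mem_subgroupOf.mp hy'.1
        have hyN : ((y : H) : G) ∈ N := (Subgroup.mem_subgroupOf.mp hy'.2).2
        rw [Subgroup.mem_subgroupOf, ← hPN]
        exact ⟨hyP, hyN⟩
      · intro hx
        have hxQ : (x : G) ∈ Q := Subgroup.mem_subgroupOf.mp hx
        rw [← hPN] at hxQ
        refine ⟨(Subgroup.subgroupOfEquivOfLe (inf_le_left : H ⊓ N ≤ H)).symm x, ?_, by simp⟩
        apply Subgroup.mem_subgroupOf.mpr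
        exact ⟨Subgroup.mem_subgroupOf.mpr hxQ.1, Subgroup.mem_subgroupOf.mpr x.2⟩
    rwa [heq] at this
  have hcov'' : ∃ ψ ∈ c, ∃ ξ ∈ irrMap (Subgroup.subgroupOfEquivOfLe
      (inf_le_left : H ⊓ N ≤ H)) '' e₂,
      Cfsg.classInner (resTo (H ⊓ N) H inf_le_left (ψ : H → ℂ)) (ξ : ↥(H ⊓ N) → ℂ) ≠ 0 := by
    apply (covers_toSub_iff (H ⊓ N) H inf_le_left c _).mp
    rw [hts]; exact hcov₂
  -- (e) induce to `N`
  obtain ⟨d'', hd'', hDd'', hind''⟩ := exists_isInducedBlockIn_over_normalizer N (H ⊓ N) Q hM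
    inf_le_right hQL hQ hNL _ he'' hDe''
  -- (f) `B` covers `d''`
  have hcovd'' := covers_of_isInducedBlock hM N H c hc _ he'' d'' hind'' hcov'' B hind
  -- (g) `d''` is conjugate to `d`
  obtain ⟨z, hz⟩ := exists_cs_eq_of_covered N hM B hB d'' d hd'' hd hcovd'' hcov
  have hD1 : Cfsg.IsDefectGroup p M d''
      ((Q.subgroupOf N).map (N.normalizerMonoidHom (nrm N z)).toMonoidHom) := by
    have := isDefectGroup_irrMap (p := p) (M := M) (N.normalizerMonoidHom (nrm N z)) d _ hdQ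
    have himg : irrMap (N.normalizerMonoidHom (nrm N z)) '' d = d'' := by
      rw [hz]
      unfold cs
      apply Set.image_congr
      intro χ _
      exact (conjIrr_eq_irrMap N _ χ).symm
    rwa [himg] at this
  obtain ⟨m, hm⟩ := isDefectGroup_conj hM d'' hd'' hD1 hDd''
  -- `h = m z` normalizes `Q`
  have hmem : ∀ y : G, y ∈ Q ↔ (m : G) * z * y * ((m : G) * z)⁻¹ ∈ Q := by
    intro y
    constructor
    · intro hy
      have h1 : (⟨y, hQN hy⟩ : N) ∈ Q.subgroupOf N := Subgroup.mem_subgroupOf.mpr hy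
      have h2 : (MulAut.conj m) (N.normalizerMonoidHom (nrm N z) ⟨y, hQN hy⟩)
          ∈ Q.subgroupOf N := by
        rw [hm]
        exact ⟨_, ⟨_, h1, rfl⟩, rfl⟩
      have h3 := Subgroup.mem_subgroupOf.mp h2
      have e1 : (((MulAut.conj m) (N.normalizerMonoidHom (nrm N z) ⟨y, hQN hy⟩) : N) : G)
          = (m : G) * z * y * ((m : G) * z)⁻¹ := by
        rw [MulAut.conj_apply]
        push_cast
        rw [normalizerMonoidHom_coe]
        show (m : G) * (z * y * z⁻¹) * (m : G)⁻¹ = _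
        group
      rwa [e1] at h3
    · intro hy
      have hyN : (m : G) * z * y * ((m : G) * z)⁻¹ ∈ N := hQN hy
      have h1 : (⟨_, hyN⟩ : N) ∈ Q.subgroupOf N := Subgroup.mem_subgroupOf.mpr hy
      rw [hm] at h1
      obtain ⟨_, ⟨q, hq, rfl⟩, hq2⟩ := h1
      have hq' : (q : G) ∈ Q := Subgroup.mem_subgroupOf.mp hq
      have e1 : (m : G) * (z * (q : G) * z⁻¹) * (m : G)⁻¹
          = (m : G) * z * y * ((m : G) * z)⁻¹ := by
        have := congrArg (fun n : N => (n : G)) hq2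
        simp only [MulEquiv.coe_toMonoidHom, MulAut.conj_apply] at this
        push_cast at this
        rw [normalizerMonoidHom_coe] at this
        exact this
      have e2 : (q : G) = y := by
        have h5 : (m : G) * z * (q : G) * ((m : G) * z)⁻¹
            = (m : G) * z * y * ((m : G) * z)⁻¹ := by
          rw [← e1]; group
        exact mul_left_cancel (mul_right_cancel h5)
      rw [← e2]; exact hq'
  have hhH : (m : G) * z ∈ H := by
    rw [hH, Subgroup.mem_normalizer_iff]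
    exact hmem
  have hcs : cs N ((m : G) * z) d = d'' := by
    rw [cs_mul, ← hz]
    unfold cs
    have : ∀ χ : Cfsg.IrrCharacter N, conjIrr N (nrm N (m : G)) χ = χ :=
      fun χ => conjIrr_of_mem (nrm N (m : G)) m.2 χ
    simp [this]
  -- (i) conjugate the induction relation
  have hnK : (m : G) * z ∈ Subgroup.normalizer ((H ⊓ N : Subgroup G) : Set G) :=
    mem_normalizer_inf_of_mem H N hhH
  have hedh := isInducedBlockIn_conjIrr N (H ⊓ N) (nrm N ((m : G) * z)) ⟨_, hnK⟩ rfl e d hed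
  have hedh' : Cfsg.IsInducedBlockIn M N (H ⊓ N) (conjIrr (H ⊓ N) ⟨_, hnK⟩ '' e) d'' := by
    rw [← hcs]; exact hedh
  have hDeh : Cfsg.IsDefectGroup p M (conjIrr (H ⊓ N) ⟨_, hnK⟩ '' e)
      (Q.subgroupOf (H ⊓ N)) := by
    have := isDefectGroup_irrMap (p := p) (M := M)
      ((H ⊓ N).normalizerMonoidHom ⟨_, hnK⟩) e _ heQ
    have himg : irrMap ((H ⊓ N).normalizerMonoidHom ⟨_, hnK⟩) '' e
        = conjIrr (H ⊓ N) ⟨_, hnK⟩ '' e :=
      Set.image_congr (fun χ _ => (conjIrr_eq_irrMap _ _ χ).symm)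
    have heq : (Q.subgroupOf (H ⊓ N)).map
        ((H ⊓ N).normalizerMonoidHom ⟨_, hnK⟩).toMonoidHom = Q.subgroupOf (H ⊓ N) := by
      ext x
      constructor
      · rintro ⟨y, hy, rfl⟩
        have hy' : (y : G) ∈ Q := Subgroup.mem_subgroupOf.mp hy
        rw [Subgroup.mem_subgroupOf]
        show (((H ⊓ N).normalizerMonoidHom ⟨_, hnK⟩ y : ↥(H ⊓ N)) : G) ∈ Q
        rw [normalizerMonoidHom_coe]
        exact (hmem y).mp hy'
      · intro hx
        have hx' : (x : G) ∈ Q := Subgroup.mem_subgroupOf.mp hx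
        refine ⟨((H ⊓ N).normalizerMonoidHom ⟨_, hnK⟩).symm x, ?_, by simp⟩
        apply Subgroup.mem_subgroupOf.mpr
        apply (hmem _).mpr
        have e1 : (m : G) * z * ((((H ⊓ N).normalizerMonoidHom ⟨_, hnK⟩).symm x : ↥(H ⊓ N)) : G)
            * ((m : G) * z)⁻¹ = (x : G) := by
          have := normalizerMonoidHom_coe (H ⊓ N) ⟨_, hnK⟩
            (((H ⊓ N).normalizerMonoidHom ⟨_, hnK⟩).symm x)
          rw [MulEquiv.apply_symm_apply] at this
          exact this.symm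
        rw [e1]; exact hx'
    rwa [himg, heq] at this
  -- (j) first main theorem in `N`
  have hee := eq_of_isInducedBlockIn_over_normalizer N (H ⊓ N) Q hM inf_le_right hQL hNL
    _ _ hDe'' hDeh d'' hind'' hedh'
  -- (k) conclude
  refine ⟨c, hc, ?_, hind⟩
  obtain ⟨ψ, hψ, ξ', hξ', hne⟩ := hcov''
  rw [hee] at hξ'
  obtain ⟨ξ, hξ, rfl⟩ := hξ'
  refine ⟨ψ, hψ, ξ, hξ, ?_⟩
  rwa [classInner_resTo_conjIrr (H ⊓ N) H inf_le_left ⟨_, hnK⟩ hhH (ψ : H → ℂ)
    (IrrCharacter.isClassFunction ψ) ξ] at hne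

end HKExists

end Cfsg.Agent.Lib.Helper24
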