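import Mathlib
import Cfsg.Prelude.Def_Characters
import Cfsg.Agent.Lib.Helper7.VanishDiv
import Cfsg.Agent.Lib.Helper7.DefectOrder

/-!
# Averages of characters over a centralizing subgroup (helper24 library)

* `isIntegral_avg`: for a character `χ`, an element `g` and a subgroup `P` centralizing `g`, the
  average `|P|⁻¹ ∑_{u ∈ P} χ(u g)` is an algebraic integer.
* `isIntegral_div_card_of_vanish_gen`: an algebraic-integer combination `θ` of characters with
  `θ(u g) = 0` for `1 ≠ u ∈ P` has `θ(g) / |P|` an algebraic integer.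
-/

set_option autoImplicit false

namespace Cfsg.Agent.Lib.Helper24.KFAvg

open Cfsg.Agent.Lib.Helper2 Cfsg.Agent.Lib.Helper11 Cfsg.Agent.Lib.Helper7
open scoped ComplexConjugate

section

variable {G : Type*} [Group G] [Fintype G]

/-- the average of a character over a subgroup centralizing the element is an algebraic
integer -/
theorem isIntegral_avg (χ : G → ℂ) (hχ : Cfsg.IsCharacter G χ) (g : G)
    (P : Subgroup G) [Fintype P] (hPg : ∀ u ∈ P, u * g = g * u) :
    IsIntegral ℤ ((Nat.card P : ℂ)⁻¹ * ∑ u : P, χ ((u : G) * g)) := by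
  classical
  obtain ⟨A, hA⟩ : ∃ A : Subgroup G, A = Subgroup.zpowers g := ⟨_, rfl⟩
  haveI : Fintype A := Fintype.ofFinite A
  haveI : Fintype (A →* ℂˣ) := Fintype.ofFinite _
  have hgA : g ∈ A := by rw [hA]; exact Subgroup.mem_zpowers g
  have hcomm : ∀ a b : A, a * b = b * a := by
    intro a b
    have ha : (a : G) ∈ Subgroup.zpowers g := hA.le a.2
    have hb : (b : G) ∈ Subgroup.zpowers g := hA.le b.2
    obtain ⟨k, hk⟩ := Subgroup.mem_zpowers_iff.mp ha
    obtain ⟨l, hl⟩ := Subgroup.mem_zpowers_iff.mp hb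
    apply Subtype.ext
    rw [Subgroup.coe_mul, Subgroup.coe_mul, ← hk, ← hl, ← zpow_add, ← zpow_add, add_comm]
  have hcomm2 : ∀ (u : P) (y : A), (u : G) * (y : G) = (y : G) * (u : G) := by
    intro u y
    have hy : (y : G) ∈ Subgroup.zpowers g := hA.le y.2
    obtain ⟨k, hk⟩ := Subgroup.mem_zpowers_iff.mp hy
    rw [← hk]
    have : Commute (u : G) g := hPg u u.2
    exact (this.zpow_right k).eq
  let f : P × A →* G :=
    { toFun := fun x => (x.1 : G) * (x.2 : G)
      map_one' := by simp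
      map_mul' := by
        intro x y
        simp only [Prod.fst_mul, Prod.snd_mul, Subgroup.coe_mul]
        calc (x.1 : G) * (y.1 : G) * ((x.2 : G) * (y.2 : G))
            = (x.1 : G) * ((y.1 : G) * (x.2 : G)) * (y.2 : G) := by group
          _ = (x.1 : G) * ((x.2 : G) * (y.1 : G)) * (y.2 : G) := by rw [hcomm2 y.1 x.2]
          _ = (x.1 : G) * (x.2 : G) * ((y.1 : G) * (y.2 : G)) := by group }
  have hχf : Cfsg.IsCharacter (P × A) (fun x => χ (f x)) := IsCharacter.comp hχ f
  have hμ : ∀ μ : A →* ℂˣ, Cfsg.IsCharacter (P × A)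
      (fun x => (((μ.comp (MonoidHom.snd P A)) x : ℂˣ) : ℂ)) := fun μ =>
    IsIrrCharacter.isCharacter (isIrrCharacter_of_monoidHom (μ.comp (MonoidHom.snd P A)))
  have hn : ∀ μ : A →* ℂˣ, ∃ n : ℕ, Cfsg.classInner (fun x => χ (f x))
      (fun x => (((μ.comp (MonoidHom.snd P A)) x : ℂˣ) : ℂ)) = (n : ℂ) :=
    fun μ => classInner_isCharacter_nat hχf (hμ μ)
  choose n hn using hn
  obtain ⟨g', hg'⟩ : ∃ g' : A, g' = ⟨g, hgA⟩ := ⟨_, rfl⟩
  have key : ∑ μ : A →* ℂˣ, (n μ : ℂ) * (μ g' : ℂ)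
      = (Nat.card P : ℂ)⁻¹ * ∑ u : P, χ ((u : G) * g) := by
    have h1 : ∀ μ : A →* ℂˣ, (n μ : ℂ) * (μ g' : ℂ)
        = (Nat.card (P × A) : ℂ)⁻¹ * ∑ x : P × A, χ (f x) * ((μ (x.2⁻¹ * g') : ℂˣ) : ℂ) := by
      intro μ
      rw [← hn μ, classInner_def, mul_assoc, Finset.sum_mul]
      congr 1
      apply Finset.sum_congr rfl
      intro x _
      have : conj (((μ.comp (MonoidHom.snd P A)) x : ℂˣ) : ℂ) = ((μ (x.2⁻¹) : ℂˣ) : ℂ) := by
        rw [MonoidHom.comp_apply, MonoidHom.coe_snd, linChar_conj]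
        simp
      rw [this, map_mul]
      push_cast
      ring
    rw [Finset.sum_congr rfl (fun μ _ => h1 μ), ← Finset.mul_sum, Finset.sum_comm]
    have h2 : ∀ x : P × A, ∑ μ : A →* ℂˣ, χ (f x) * ((μ (x.2⁻¹ * g') : ℂˣ) : ℂ)
        = if x.2 = g' then χ (f x) * (Nat.card A : ℂ) else 0 := by
      intro x
      rw [← Finset.mul_sum, sum_linChar_apply hcomm]
      by_cases hx : x.2 = g'
      · rw [if_pos hx, if_pos (by rw [hx]; group)]
      · rw [if_neg hx, if_neg, mul_zero]
        intro h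
        apply hx
        have : g' = x.2 * (x.2⁻¹ * g') := by group
        rw [this, h, mul_one]
    rw [Finset.sum_congr rfl (fun x _ => h2 x), Fintype.sum_prod_type]
    have h3 : ∀ u : P, ∑ y : A, (if ((u, y) : P × A).2 = g' then
        χ (f (u, y)) * (Nat.card A : ℂ) else 0)
        = χ ((u : G) * g) * (Nat.card A : ℂ) := by
      intro u
      rw [Finset.sum_eq_single g']
      · rw [if_pos rfl]
        have hf : f (u, g') = (u : G) * g := by
          show (u : G) * (g' : G) = (u : G) * g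
          rw [hg']
        rw [hf]
      · intro y _ hy
        rw [if_neg hy]
      · intro h; exact absurd (Finset.mem_univ _) h
    rw [Finset.sum_congr rfl (fun u _ => h3 u), ← Finset.sum_mul, Nat.card_prod]
    have hP0 : (Nat.card P : ℂ) ≠ 0 := by
      exact_mod_cast (Nat.card_pos (α := P)).ne'
    have hA0 : (Nat.card A : ℂ) ≠ 0 := by
      exact_mod_cast (Nat.card_pos (α := A)).ne'
    push_cast
    field_simp
  rw [← key]
  apply IsIntegral.sum
  intro μ _
  apply IsIntegral.mul (isIntegral_algebraMap (R := ℤ) (A := ℂ) (x := (n μ : ℤ)) |> fun h => by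
    simpa using h)
  have hpow : ((μ g' : ℂˣ) : ℂ) ^ Fintype.card A = 1 := linChar_pow_card μ g'
  exact ⟨Polynomial.X ^ Fintype.card A - 1, Polynomial.monic_X_pow_sub_C 1 Fintype.card_ne_zero,
    by simp [hpow]⟩

/-- an algebraic-integer combination of characters vanishing on `P g ∖ {g}` has value at `g`
divisible by `|P|` -/
theorem isIntegral_div_card_of_vanish_gen {ι : Type*} (s : Finset ι) (a : ι → ℂ)
    (ha : ∀ i ∈ s, IsIntegral ℤ (a i)) (χ : ι → G → ℂ)
    (hχ : ∀ i ∈ s, Cfsg.IsCharacter G (χ i)) (g : G)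
    (P : Subgroup G) (hPg : ∀ u ∈ P, u * g = g * u)
    (hvan : ∀ u ∈ P, u ≠ 1 → ∑ i ∈ s, a i * χ i (u * g) = 0) :
    IsIntegral ℤ ((∑ i ∈ s, a i * χ i g) / (Nat.card P : ℂ)) := by
  classical
  haveI : Fintype P := Fintype.ofFinite P
  have h1 : (∑ i ∈ s, a i * χ i g) / (Nat.card P : ℂ)
      = ∑ i ∈ s, a i * ((Nat.card P : ℂ)⁻¹ * ∑ u : P, χ i ((u : G) * g)) := by
    have h2 : ∑ i ∈ s, a i * ((Nat.card P : ℂ)⁻¹ * ∑ u : P, χ i ((u : G) * g))
        = (Nat.card P : ℂ)⁻¹ * ∑ u : P, ∑ i ∈ s, a i * χ i ((u : G) * g) := by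
      rw [Finset.sum_comm, Finset.mul_sum]
      apply Finset.sum_congr rfl
      intro i _
      rw [Finset.mul_sum, Finset.mul_sum, Finset.mul_sum]
      apply Finset.sum_congr rfl
      intro u _
      ring
    rw [h2, Finset.sum_eq_single (1 : P)]
    · rw [Subgroup.coe_one, one_mul, div_eq_inv_mul]
    · intro u _ hu
      exact hvan u u.2 (fun h => hu (Subtype.ext h))
    · intro h; exact absurd (Finset.mem_univ _) h
  rw [h1]
  apply IsIntegral.sum
  intro i hi
  exact IsIntegral.mul (ha i hi) (isIntegral_avg (χ i) (hχ i hi) g P hPg)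

/-- an algebraic-integer combination of characters vanishing on the `2`-singular elements has
values divisible by the `2`-part of the centralizer order -/
theorem isIntegral_div_two_part_gen {ι : Type*} (T : Finset ι) (a : ι → ℂ)
    (ha : ∀ i ∈ T, IsIntegral ℤ (a i)) (χ : ι → G → ℂ)
    (hχ : ∀ i ∈ T, Cfsg.IsCharacter G (χ i))
    (hsing : ∀ g : G, 2 ∣ orderOf g → ∑ i ∈ T, a i * χ i g = 0)
    (s : G) (hs : ¬ 2 ∣ orderOf s) :
    IsIntegral ℤ ((∑ i ∈ T, a i * χ i s) / ((2 : ℂ) ^
      (Nat.card (Subgroup.centralizer ({s} : Set G))).factorization 2)) := by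
  classical
  haveI : Fact (Nat.Prime 2) := ⟨Nat.prime_two⟩
  obtain ⟨S₀⟩ : Nonempty (Sylow 2 (Subgroup.centralizer ({s} : Set G))) := inferInstance
  obtain ⟨S, hSdef⟩ : ∃ S : Subgroup G,
      S = (S₀ : Subgroup (Subgroup.centralizer ({s} : Set G))).map
        (Subgroup.centralizer ({s} : Set G)).subtype := ⟨_, rfl⟩
  have hScard : Nat.card S
      = 2 ^ (Nat.card (Subgroup.centralizer ({s} : Set G))).factorization 2 := by
    rw [hSdef, ← S₀.card_eq_multiplicity]
    exact (Nat.card_congr (Subgroup.equivMapOfInjective _ _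
      (Subgroup.subtype_injective _)).toEquiv).symm
  have hScomm : ∀ u ∈ S, u * s = s * u := by
    intro u hu
    rw [hSdef] at hu
    obtain ⟨v, _, rfl⟩ := hu
    exact Subgroup.mem_centralizer_singleton_iff.mp v.2
  have hS2 : ∀ u ∈ S, ∃ k : ℕ, orderOf u = 2 ^ k := by
    intro u hu
    rw [hSdef] at hu
    obtain ⟨v, hv, rfl⟩ := hu
    obtain ⟨k, hk⟩ := (IsPGroup.iff_orderOf.mp S₀.isPGroup') ⟨v, hv⟩
    refine ⟨k, ?_⟩
    have h1 : orderOf (⟨v, hv⟩ : (S₀ : Subgroup (Subgroup.centralizer ({s} : Set G))))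
        = orderOf v := Subgroup.orderOf_mk v hv
    have h2 : orderOf ((v : Subgroup.centralizer ({s} : Set G)) : G) = orderOf v :=
      Subgroup.orderOf_coe v
    rw [Subgroup.coe_subtype, h2, ← h1, hk]
  have hvan : ∀ u ∈ S, u ≠ 1 → ∑ i ∈ T, a i * χ i (u * s) = 0 := by
    intro u hu hu1
    apply hsing
    exact Cfsg.Agent.Lib.Helper7.dvd_orderOf_mul_of_pgroup (hS2 u hu) hu1 hs (hScomm u hu)
  have hint := isIntegral_div_card_of_vanish_gen T a ha χ hχ s S hScomm hvan
  rw [hScard] at hint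
  push_cast at hint
  exact hint

/-- a character vanishing on the `2`-singular elements has values divisible by the `2`-part of
the centralizer order -/
theorem isIntegral_div_two_part (Φ : G → ℂ) (hΦ : Cfsg.IsCharacter G Φ)
    (hsing : ∀ g : G, 2 ∣ orderOf g → Φ g = 0) (s : G) (hs : ¬ 2 ∣ orderOf s) :
    IsIntegral ℤ (Φ s / ((2 : ℂ) ^
      (Nat.card (Subgroup.centralizer ({s} : Set G))).factorization 2)) := by
  have h := isIntegral_div_two_part_gen ({()} : Finset Unit) (fun _ => (1 : ℂ))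
    (fun _ _ => isIntegral_one) (fun _ => Φ) (fun _ _ => hΦ)
    (fun g hg => by rw [Finset.sum_singleton, one_mul]; exact hsing g hg) s hs
  rw [Finset.sum_singleton, one_mul] at h
  exact h

end

end Cfsg.Agent.Lib.Helper24.KFAvg
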