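import Mathlib
import Cfsg.Prelude.Def_Blocks
import Cfsg.Prelude.Def_BlockRank
import Cfsg.Agent.Lib.Helper24.InducedDegree

/-!
# Contributions of the restriction of a character (helper24 library)

`p^a ⟨(χ_H)°, ψ₀⟩ / ψ₀(1) = ∑_{ψ ∈ b} ⟨χ_H, ψ⟩ R(ψ, ψ₀)` for `ψ₀` in the block `b` of `H`.
-/

set_option autoImplicit false

namespace Cfsg.Agent.Lib.Helper24

open Cfsg.Agent.Lib.Helper2
open scoped ComplexConjugate

section

variable {G : Type*} [Group G] [Fintype G] {p : ℕ} {M : Ideal Cfsg.AlgInt}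
  (H : Subgroup G) [Fintype H]

theorem restrict_contrib_expansion (hM : Cfsg.IsPModular p M)
    (b : Set (Cfsg.IrrCharacter H)) (hb : Cfsg.IsPBlock M b) (χ : Cfsg.IrrCharacter G)
    (ψ₀ : Cfsg.IrrCharacter H) (hψ₀ : ψ₀ ∈ b) (a : Cfsg.IrrCharacter H → ℕ)
    (ha : ∀ ψ : Cfsg.IrrCharacter H,
      Cfsg.classInner (fun h : H => (χ : G → ℂ) h) (ψ : H → ℂ) = (a ψ : ℂ))
    [Fintype (Cfsg.IrrCharacter H)] [DecidablePred (· ∈ b)] :
    Cfsg.classInner (fun h : H => if p ∣ orderOf h then (0 : ℂ)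
        else ((p ^ (Nat.card H).factorization p : ℕ) : ℂ) * (χ : G → ℂ) h) (ψ₀ : H → ℂ)
        / (ψ₀ : H → ℂ) 1
      = ∑ ψ : Cfsg.IrrCharacter H, if ψ ∈ b then (a ψ : ℂ)
          * contribR p (ψ : H → ℂ) (ψ₀ : H → ℂ) else 0 := by
  have hχH : Cfsg.IsCharacter H (fun c : H => (χ : G → ℂ) c) :=
    IsCharacter.restrict (IsIrrCharacter.isCharacter χ.2) H
  have h1 : (ψ₀ : H → ℂ) 1 ≠ 0 := IsIrrCharacter.apply_one_ne_zero ψ₀.2
  have hW : ∀ ψ : Cfsg.IrrCharacter H, (p : ℂ) ^ (Nat.card H).factorization p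
      * Cfsg.classInner (Cfsg.pRegularPart p (ψ : H → ℂ)) (ψ₀ : H → ℂ)
      = (ψ₀ : H → ℂ) 1 * contribR p (ψ : H → ℂ) (ψ₀ : H → ℂ) :=
    fun ψ => pow_mul_classInner_eq ψ ψ₀
  have hexp : Cfsg.classInner (Cfsg.pRegularPart p (fun c : H => (χ : G → ℂ) c)) (ψ₀ : H → ℂ)
      = ∑ ψ : Cfsg.IrrCharacter H, if ψ ∈ b then (a ψ : ℂ)
          * Cfsg.classInner (Cfsg.pRegularPart p (ψ : H → ℂ)) (ψ₀ : H → ℂ) else 0 := by
    have h2 := classFunction_expansion (fun c : H => (χ : G → ℂ) c)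
      (IsCharacter.isClassFunction hχH)
    have h3 : Cfsg.pRegularPart p (fun c : H => (χ : G → ℂ) c)
        = ∑ ψ : Cfsg.IrrCharacter H, (a ψ : ℂ) • Cfsg.pRegularPart p (ψ : H → ℂ) := by
      have h4 : pRegLin p H (fun c : H => (χ : G → ℂ) c)
          = Cfsg.pRegularPart p (fun c : H => (χ : G → ℂ) c) := rfl
      rw [← h4]
      conv_lhs => rw [h2]
      rw [map_sum]
      apply Finset.sum_congr rfl
      intro ψ _
      rw [map_smul, ha ψ]
      rfl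
    rw [h3, classInner_sum_left]
    apply Finset.sum_congr rfl
    intro ψ _
    rw [classInner_smul_left]
    by_cases hψ : ψ ∈ b
    · rw [if_pos hψ]
    · rw [if_neg hψ, classInner_pRegularPart_symm ψ ψ₀,
        classInner_pRegularPart_eq_zero hM b hb ψ₀ ψ hψ₀ hψ, mul_zero]
  rw [ite_singular_eq_smul p _ (fun h : H => (χ : G → ℂ) h), classInner_smul_left, hexp,
    Nat.cast_pow, Finset.mul_sum, Finset.sum_div]
  apply Finset.sum_congr rfl
  intro ψ _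
  split_ifs
  · rw [mul_left_comm, hW ψ]
    field_simp
  · rw [mul_zero, zero_div]

/-- **Blau's theorem** -/
theorem blau [Fact p.Prime] (hM : Cfsg.IsPModular p M) (b : Set (Cfsg.IrrCharacter H))
    (B : Set (Cfsg.IrrCharacter G)) (hind : Cfsg.IsInducedBlock M H b B)
    (χ : Cfsg.IrrCharacter G) (hχ : χ ∈ B) (h0 : Cfsg.blockHeight p B (χ : G → ℂ) = 0) :
    ∃ ξ ∈ b, Cfsg.blockHeight p b ((ξ : Cfsg.IrrCharacter H) : H → ℂ) = 0 ∧ ∃ n : ℕ,
      Cfsg.classInner (fun h : H => (χ : G → ℂ) h) (ξ : H → ℂ) = (n : ℂ) ∧ ¬ p ∣ n := by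
  classical
  haveI : Fintype (Cfsg.IrrCharacter H) := Fintype.ofFinite _
  have hχH : Cfsg.IsCharacter H (fun c : H => (χ : G → ℂ) c) :=
    IsCharacter.restrict (IsIrrCharacter.isCharacter χ.2) H
  choose a ha using fun ψ : Cfsg.IrrCharacter H =>
    classInner_isCharacter_nat hχH (IsIrrCharacter.isCharacter ψ.2)
  obtain ⟨ψ₀, hψ₀⟩ := isPBlock_nonempty hM hind.1
  by_contra hcon
  push Not at hcon
  apply (induced_contrib H hM b B hind χ ψ₀ hψ₀).2 hχ h0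
  rw [restrict_contrib_expansion H hM b hind.1 χ ψ₀ hψ₀ a ha]
  apply memLocalIdeal_sum hM
  intro ψ _
  split_ifs with hψ
  · by_cases hh : Cfsg.blockHeight p b (ψ : H → ℂ) = 0
    · have hdvd : p ∣ a ψ := hcon ψ hψ hh (a ψ) (ha ψ)
      exact memLocalIdeal_mul_right hM ((memLocalIdeal_natCast_iff hM _).mpr hdvd)
        (contribR_memLocalRing hM ψ ψ₀)
    · apply memLocalIdeal_mul_left hM (memLocalRing_natCast hM _)
      by_contra hnI
      exact hh (height_zero_of_contribR hM b hind.1 ψ hψ ψ₀ hψ₀ hnI)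
  · exact memLocalIdeal_zero hM

/-- **Okuyama's theorem** -/
theorem okuyama [Fact p.Prime] (hM : Cfsg.IsPModular p M) (χ : Cfsg.IrrCharacter G)
    (hres : Cfsg.IsIrrCharacter H (fun h : H => (χ : G → ℂ) h))
    (hχ0 : Cfsg.blockHeight p (Cfsg.blockOf M (χ : G → ℂ)) (χ : G → ℂ) = 0)
    (hψ0 : Cfsg.blockHeight p (Cfsg.blockOf M (fun h : H => (χ : G → ℂ) h))
      (fun h : H => (χ : G → ℂ) h) = 0)
    (e : Set (Cfsg.IrrCharacter H)) (he : Cfsg.InducedBlockDefined M H e) :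
    Cfsg.IsInducedBlock M H e (Cfsg.blockOf M (χ : G → ℂ))
      ↔ e = Cfsg.blockOf M (fun h : H => (χ : G → ℂ) h) := by
  classical
  obtain ⟨ξ, hξ⟩ : ∃ ξ : Cfsg.IrrCharacter H, ξ = ⟨_, hres⟩ := ⟨_, rfl⟩
  have hξcoe : (ξ : H → ℂ) = fun h : H => (χ : G → ℂ) h := by rw [hξ]
  rw [← hξcoe] at hψ0 ⊢
  have hb : Cfsg.IsPBlock M (Cfsg.blockOf M (ξ : H → ℂ)) := ⟨ξ, rfl⟩
  have hξb : ξ ∈ Cfsg.blockOf M (ξ : H → ℂ) := mem_blockOf_self hM ξ
  have hχB : χ ∈ Cfsg.blockOf M (χ : G → ℂ) := mem_blockOf_self hM χ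
  -- the value of the expression at `ψ`
  have hval : ∀ ψ : Cfsg.IrrCharacter H,
      Cfsg.classInner (fun h : H => if p ∣ orderOf h then (0 : ℂ)
        else ((p ^ (Nat.card H).factorization p : ℕ) : ℂ) * (χ : G → ℂ) h) (ψ : H → ℂ)
        / (ψ : H → ℂ) 1 = contribR p (ξ : H → ℂ) (ψ : H → ℂ) := by
    intro ψ
    have h1 : (ψ : H → ℂ) 1 ≠ 0 := IsIrrCharacter.apply_one_ne_zero ψ.2
    rw [ite_singular_eq_smul p _ (fun h : H => (χ : G → ℂ) h), classInner_smul_left, ← hξcoe,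
      Nat.cast_pow, pow_mul_classInner_eq ξ ψ]
    field_simp
  constructor
  · intro hind
    obtain ⟨ψ, hψ⟩ := isPBlock_nonempty hM hind.1
    have h2 := (induced_contrib H hM e _ hind χ ψ hψ).2 hχB hχ0
    rw [hval ψ] at h2
    have hψb : ψ ∈ Cfsg.blockOf M (ξ : H → ℂ) := by
      by_contra hn
      apply h2
      have h3 := pow_mul_classInner_eq (p := p) ξ ψ
      rw [classInner_pRegularPart_eq_zero hM _ hb ξ ψ hξb hn, mul_zero] at h3
      rcases mul_eq_zero.mp h3.symm with h | h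
      · exact absurd h (IsIrrCharacter.apply_one_ne_zero ψ.2)
      · rw [h]
        exact memLocalIdeal_zero hM
    rw [eq_blockOf_of_mem hM hind.1 hψ, eq_blockOf_of_mem hM hb hψb]
  · intro heq
    obtain ⟨B₀, hB₀⟩ := he
    rw [heq] at hB₀ ⊢
    have hχB₀ : χ ∈ B₀ := by
      by_contra hn
      have h2 := (induced_contrib H hM _ B₀ hB₀ χ ξ hξb).1 hn
      rw [hval ξ] at h2
      exact contribR_not_memLocalIdeal_of_height_zero hM _ hb ξ hξb hψ0 ξ hξb h2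
    rw [← eq_blockOf_of_mem hM hB₀.2.1 hχB₀]
    exact hB₀

end

end Cfsg.Agent.Lib.Helper24
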