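import Mathlib
import Cfsg.Prelude.Def_Blocks
import Cfsg.Prelude.Def_BlockRank
import Cfsg.Agent.Lib.Helper24.Contribution
import Cfsg.Agent.Lib.Helper24.RestrictContrib
import Cfsg.Agent.Lib.Helper7.SectionOrtho
import Cfsg.Agent.S4667
import Cfsg.Agent.Lib.Helper7.CentralHom
import Cfsg.Agent.Lib.Helper25.Codegree
import Cfsg.Agent.Lib.Helper24.GaloisAvg

/-!
# Contributions of a major subsection (helper24 library)

For a `p`-element `y` with centralizer `H`, a block `b` of `H` inducing the block `B` of `G`: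
the matrix `m_{χχ'} = ∑_{ξ ∈ b} c°_{χξ} conj c°_{χ'ξ}` (`c°_{χξ} = ⟨(h ↦ χ(y h))°, ξ⟩`) satisfies
`∑_{χ,χ' ∈ B} |m_{χχ'}|² = l(b)`, and `p^d m_{χχ'}` is an algebraic integer which is a unit
modulo `M` when `χ, χ'` have height zero and `b` has the same defect `d` as `B`.
-/

set_option autoImplicit false

namespace Cfsg.Agent.Lib.Helper24

open Cfsg.Agent.Lib.Helper2
open scoped ComplexConjugate

open scoped Matrix in
theorem trace_gram_sq {X Y : Type*} [Fintype X] [Fintype Y] [DecidableEq X] [DecidableEq Y]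
    (D : Matrix X Y ℂ) :
    ∑ x, ∑ x', (D * Dᴴ) x x' * conj ((D * Dᴴ) x x')
      = ∑ y, ∑ y', (Dᴴ * D) y y' * (Dᴴ * D) y' y := by
  have h1 : ∑ x, ∑ x', (D * Dᴴ) x x' * conj ((D * Dᴴ) x x')
      = Matrix.trace ((D * Dᴴ) * (D * Dᴴ)ᴴ) := by
    rw [Matrix.trace]
    apply Finset.sum_congr rfl
    intro x _
    rw [Matrix.diag_apply, Matrix.mul_apply]
    apply Finset.sum_congr rfl
    intro x' _
    rw [Matrix.conjTranspose_apply]
    rfl
  have h2 : ∑ y, ∑ y', (Dᴴ * D) y y' * (Dᴴ * D) y' y = Matrix.trace ((Dᴴ * D) * (Dᴴ * D)) := by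
    rw [Matrix.trace]
    apply Finset.sum_congr rfl
    intro x _
    rw [Matrix.diag_apply, Matrix.mul_apply]
  rw [h1, h2, Matrix.conjTranspose_mul, Matrix.conjTranspose_conjTranspose]
  rw [Matrix.mul_assoc, Matrix.trace_mul_comm, Matrix.mul_assoc, Matrix.mul_assoc,
    Matrix.mul_assoc]

section General

variable {K : Type*} [Group K] [Fintype K] {p : ℕ} {M : Ideal Cfsg.AlgInt}

theorem classInner_pRegularPart_left_right (f g : K → ℂ) :
    Cfsg.classInner (Cfsg.pRegularPart p f) g = Cfsg.classInner f (Cfsg.pRegularPart p g) := by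
  rw [classInner_def, classInner_def]
  congr 1
  apply Finset.sum_congr rfl
  intro k _
  by_cases hk : p ∣ orderOf k
  · rw [pRegularPart_of_singular _ hk, pRegularPart_of_singular _ hk, map_zero, zero_mul, mul_zero]
  · rw [pRegularPart_of_regular _ hk, pRegularPart_of_regular _ hk]

/-- the matrix `⟨ψ°, ψ'⟩` is real -/
theorem conj_classInner_pRegularPart (ψ ψ' : Cfsg.IrrCharacter K) :
    conj (Cfsg.classInner (Cfsg.pRegularPart p (ψ : K → ℂ)) (ψ' : K → ℂ))
      = Cfsg.classInner (Cfsg.pRegularPart p (ψ : K → ℂ)) (ψ' : K → ℂ) := by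
  rw [classInner_conj_symm, ← classInner_pRegularPart_left_right,
    classInner_pRegularPart_symm]

/-- expansion of `⟨F°, ξ⟩` -/
theorem classInner_pRegularPart_expand [Fintype (Cfsg.IrrCharacter K)] (F : K → ℂ)
    (hF : Cfsg.IsClassFunction K F) (ξ : K → ℂ) :
    Cfsg.classInner (Cfsg.pRegularPart p F) ξ
      = ∑ ψ : Cfsg.IrrCharacter K, Cfsg.classInner F (ψ : K → ℂ)
          * Cfsg.classInner (Cfsg.pRegularPart p (ψ : K → ℂ)) ξ := by
  have h2 := classFunction_expansion F hF
  have h3 : Cfsg.pRegularPart p F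
      = ∑ ψ : Cfsg.IrrCharacter K, Cfsg.classInner F (ψ : K → ℂ)
          • Cfsg.pRegularPart p (ψ : K → ℂ) := by
    have h4 : pRegLin p K F = Cfsg.pRegularPart p F := rfl
    rw [← h4]
    conv_lhs => rw [h2]
    rw [map_sum]
    apply Finset.sum_congr rfl
    intro ψ _
    rw [map_smul]
    rfl
  rw [h3, classInner_sum_left]
  apply Finset.sum_congr rfl
  intro ψ _
  rw [classInner_smul_left]

/-- the matrix `⟨ψ°, ψ'⟩` is idempotent -/
theorem regInner_idem [Fintype (Cfsg.IrrCharacter K)] (ψ : Cfsg.IrrCharacter K) (ξ' : K → ℂ) :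
    ∑ ξ : Cfsg.IrrCharacter K, Cfsg.classInner (Cfsg.pRegularPart p (ψ : K → ℂ)) (ξ : K → ℂ)
        * Cfsg.classInner (Cfsg.pRegularPart p (ξ : K → ℂ)) ξ'
      = Cfsg.classInner (Cfsg.pRegularPart p (ψ : K → ℂ)) ξ' := by
  have h := classInner_pRegularPart_expand (p := p) (Cfsg.pRegularPart p (ψ : K → ℂ))
    (pRegularPart_isClassFunction _ (IrrCharacter.isClassFunction ψ)) ξ'
  rw [pRegularPart_pRegularPart] at h
  exact h.symm

/-- the matrix `⟨ψ°, ψ'⟩` is idempotent, block version -/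
theorem regInner_idem_block [Fintype (Cfsg.IrrCharacter K)] (hM : Cfsg.IsPModular p M)
    (b : Set (Cfsg.IrrCharacter K)) (hb : Cfsg.IsPBlock M b) [DecidablePred (· ∈ b)]
    (ψ : Cfsg.IrrCharacter K) (hψ : ψ ∈ b) (ξ' : K → ℂ) :
    ∑ ξ : Cfsg.IrrCharacter K, (if ξ ∈ b then
        Cfsg.classInner (Cfsg.pRegularPart p (ψ : K → ℂ)) (ξ : K → ℂ)
        * Cfsg.classInner (Cfsg.pRegularPart p (ξ : K → ℂ)) ξ' else 0)
      = Cfsg.classInner (Cfsg.pRegularPart p (ψ : K → ℂ)) ξ' := by
  rw [← regInner_idem ψ ξ']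
  apply Finset.sum_congr rfl
  intro ξ _
  by_cases hξ : ξ ∈ b
  · rw [if_pos hξ]
  · rw [if_neg hξ, classInner_pRegularPart_eq_zero hM b hb ψ ξ hψ hξ, zero_mul]

/-- the trace of the matrix `⟨ψ°, ψ'⟩` over a block is `l(b)` -/
theorem sum_regInner_self [Fact p.Prime] [Fintype (Cfsg.IrrCharacter K)]
    (hM : Cfsg.IsPModular p M)
    (b : Set (Cfsg.IrrCharacter K)) (hb : Cfsg.IsPBlock M b) [DecidablePred (· ∈ b)] :
    ∑ ξ : Cfsg.IrrCharacter K, (if ξ ∈ b then
        Cfsg.classInner (Cfsg.pRegularPart p (ξ : K → ℂ)) (ξ : K → ℂ) else 0)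
      = (Cfsg.blockRank p b : ℂ) := by
  have h1 := Cfsg.Agent.S4667.result p M hM b hb
  have hG0 : (Nat.card K : ℂ) ≠ 0 := Nat.cast_ne_zero.mpr Nat.card_pos.ne'
  have h2 : ∑ x : K, ∑ᶠ χ ∈ b, Cfsg.pRegularPart p (χ : K → ℂ) x * (χ : K → ℂ) x⁻¹
      = ∑ χ : Cfsg.IrrCharacter K, if χ ∈ b then (Nat.card K : ℂ)
          * Cfsg.classInner (Cfsg.pRegularPart p (χ : K → ℂ)) (χ : K → ℂ) else 0 := by
    have : ∀ x : K, ∑ᶠ χ ∈ b, Cfsg.pRegularPart p (χ : K → ℂ) x * (χ : K → ℂ) x⁻¹
        = ∑ χ : Cfsg.IrrCharacter K, if χ ∈ b then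
            Cfsg.pRegularPart p (χ : K → ℂ) x * conj ((χ : K → ℂ) x) else 0 := by
      intro x
      rw [finsum_mem_eq_sum_ite]
      apply Finset.sum_congr rfl
      intro χ _
      rw [IrrCharacter.apply_inv]
    rw [Finset.sum_congr rfl (fun x _ => this x), Finset.sum_comm]
    apply Finset.sum_congr rfl
    intro χ _
    by_cases hχ : χ ∈ b
    · simp only [if_pos hχ]
      rw [classInner_def, ← mul_assoc, mul_inv_cancel₀ hG0, one_mul]
    · simp only [if_neg hχ]
      exact Finset.sum_const_zero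
  rw [h2] at h1
  apply mul_left_cancel₀ hG0
  rw [h1, Finset.mul_sum]
  apply Finset.sum_congr rfl
  intro χ _
  split_ifs
  · rfl
  · rw [mul_zero]

end General

section Section

variable {G : Type*} [Group G] [Fintype G] {p : ℕ} [Fact p.Prime] {M : Ideal Cfsg.AlgInt}

/-- `c°_{χξ} = ⟨(h ↦ χ(y h))°, ξ⟩` -/
noncomputable def secCoeff (p : ℕ) (y : G) [Fintype (Subgroup.centralizer ({y} : Set G))]
    (χ : G → ℂ) (ξ : Subgroup.centralizer ({y} : Set G) → ℂ) : ℂ :=
  Cfsg.classInner (Cfsg.pRegularPart p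
    (fun c : Subgroup.centralizer ({y} : Set G) => χ (y * (c : G)))) ξ

/-- section orthogonality in coefficient form: `D* D = N` -/
theorem sum_conj_secCoeff_mul (hM : Cfsg.IsPModular p M) (y : G)
    (hy : ∃ k : ℕ, orderOf y = p ^ k) [Fintype (Subgroup.centralizer ({y} : Set G))]
    (B : Set (Cfsg.IrrCharacter G))
    (b : Set (Cfsg.IrrCharacter (Subgroup.centralizer ({y} : Set G))))
    (hind : Cfsg.IsInducedBlock M (Subgroup.centralizer ({y} : Set G)) b B)
    [Fintype (Cfsg.IrrCharacter G)]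
    [Fintype (Cfsg.IrrCharacter (Subgroup.centralizer ({y} : Set G)))]
    [DecidablePred (· ∈ B)]
    (ξ ξ' : Cfsg.IrrCharacter (Subgroup.centralizer ({y} : Set G))) (hξ : ξ ∈ b) :
    ∑ χ : Cfsg.IrrCharacter G, (if χ ∈ B then
        conj (secCoeff p y (χ : G → ℂ) (ξ : Subgroup.centralizer ({y} : Set G) → ℂ))
          * secCoeff p y (χ : G → ℂ) (ξ' : Subgroup.centralizer ({y} : Set G) → ℂ) else 0)
      = Cfsg.classInner (Cfsg.pRegularPart p (ξ : Subgroup.centralizer ({y} : Set G) → ℂ))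
          (ξ' : Subgroup.centralizer ({y} : Set G) → ℂ) := by
  classical
  have hB : Cfsg.IsPBlock M B := hind.2.1
  have hb : Cfsg.IsPBlock M b := hind.1
  -- pointwise orthogonality including singular elements
  have hpt : ∀ t t' : Subgroup.centralizer ({y} : Set G),
      ∑ χ : Cfsg.IrrCharacter G, (if χ ∈ B then
        conj (Cfsg.pRegularPart p
          (fun c : Subgroup.centralizer ({y} : Set G) => (χ : G → ℂ) (y * (c : G))) t)
        * Cfsg.pRegularPart p
          (fun c : Subgroup.centralizer ({y} : Set G) => (χ : G → ℂ) (y * (c : G))) t' else 0)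
      = ∑ ψ : Cfsg.IrrCharacter (Subgroup.centralizer ({y} : Set G)),
        (if Cfsg.IsInducedBlock M (Subgroup.centralizer ({y} : Set G))
            (Cfsg.blockOf M (ψ : Subgroup.centralizer ({y} : Set G) → ℂ)) B
          then Cfsg.pRegularPart p (ψ : Subgroup.centralizer ({y} : Set G) → ℂ) t'
            * conj (Cfsg.pRegularPart p (ψ : Subgroup.centralizer ({y} : Set G) → ℂ) t)
          else 0) := by
    intro t t'
    by_cases ht : p ∣ orderOf t
    · rw [Finset.sum_eq_zero, Finset.sum_eq_zero]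
      · intro ψ _
        rw [pRegularPart_of_singular _ ht, map_zero, mul_zero, ite_self]
      · intro χ _
        rw [pRegularPart_of_singular _ ht, map_zero, zero_mul, ite_self]
    · by_cases ht' : p ∣ orderOf t'
      · rw [Finset.sum_eq_zero, Finset.sum_eq_zero]
        · intro ψ _
          rw [pRegularPart_of_singular _ ht', zero_mul, ite_self]
        · intro χ _
          rw [pRegularPart_of_singular _ ht', mul_zero, ite_self]
      · have h := Cfsg.Agent.Lib.Helper7.section_block_orthogonality hM y hy B hB t' t ht' ht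
        rw [Finset.sum_congr rfl (fun χ _ => by
          rw [pRegularPart_of_regular _ ht, pRegularPart_of_regular _ ht', mul_comm]), h]
        apply Finset.sum_congr rfl
        intro ψ _
        rw [pRegularPart_of_regular _ ht, pRegularPart_of_regular _ ht']
  have hH0 : (Nat.card (Subgroup.centralizer ({y} : Set G)) : ℂ) ≠ 0 :=
    Nat.cast_ne_zero.mpr Nat.card_pos.ne'
  -- rewrite the left hand side
  have hL : ∑ χ : Cfsg.IrrCharacter G, (if χ ∈ B then
        conj (secCoeff p y (χ : G → ℂ) (ξ : Subgroup.centralizer ({y} : Set G) → ℂ))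
          * secCoeff p y (χ : G → ℂ) (ξ' : Subgroup.centralizer ({y} : Set G) → ℂ) else 0)
      = ∑ ψ : Cfsg.IrrCharacter (Subgroup.centralizer ({y} : Set G)),
        (if Cfsg.IsInducedBlock M (Subgroup.centralizer ({y} : Set G))
            (Cfsg.blockOf M (ψ : Subgroup.centralizer ({y} : Set G) → ℂ)) B
          then Cfsg.classInner (ξ : Subgroup.centralizer ({y} : Set G) → ℂ)
              (Cfsg.pRegularPart p (ψ : Subgroup.centralizer ({y} : Set G) → ℂ))
            * Cfsg.classInner (Cfsg.pRegularPart p (ψ : Subgroup.centralizer ({y} : Set G) → ℂ))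
              (ξ' : Subgroup.centralizer ({y} : Set G) → ℂ)
          else 0) := by
    have e1 : ∀ χ : Cfsg.IrrCharacter G, (if χ ∈ B then
        conj (secCoeff p y (χ : G → ℂ) (ξ : Subgroup.centralizer ({y} : Set G) → ℂ))
          * secCoeff p y (χ : G → ℂ) (ξ' : Subgroup.centralizer ({y} : Set G) → ℂ) else 0)
        = ∑ t : Subgroup.centralizer ({y} : Set G), ∑ t' : Subgroup.centralizer ({y} : Set G),
          ((Nat.card (Subgroup.centralizer ({y} : Set G)) : ℂ)⁻¹
            * (Nat.card (Subgroup.centralizer ({y} : Set G)) : ℂ)⁻¹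
            * ((ξ : Subgroup.centralizer ({y} : Set G) → ℂ) t
              * conj ((ξ' : Subgroup.centralizer ({y} : Set G) → ℂ) t')))
          * (if χ ∈ B then
            conj (Cfsg.pRegularPart p
              (fun c : Subgroup.centralizer ({y} : Set G) => (χ : G → ℂ) (y * (c : G))) t)
            * Cfsg.pRegularPart p
              (fun c : Subgroup.centralizer ({y} : Set G) => (χ : G → ℂ) (y * (c : G))) t'
            else 0) := by
      intro χ
      by_cases hχ : χ ∈ B
      · simp only [if_pos hχ]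
        unfold secCoeff
        rw [classInner_def, classInner_def, map_mul, map_inv₀, map_natCast, map_sum]
        rw [mul_mul_mul_comm, Finset.sum_mul_sum, Finset.mul_sum]
        apply Finset.sum_congr rfl
        intro t _
        rw [Finset.mul_sum]
        apply Finset.sum_congr rfl
        intro t' _
        rw [map_mul, Complex.conj_conj]
        ring
      · simp only [if_neg hχ, mul_zero, Finset.sum_const_zero]
    have e2 : ∀ ψ : Cfsg.IrrCharacter (Subgroup.centralizer ({y} : Set G)),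
        Cfsg.classInner (ξ : Subgroup.centralizer ({y} : Set G) → ℂ)
              (Cfsg.pRegularPart p (ψ : Subgroup.centralizer ({y} : Set G) → ℂ))
            * Cfsg.classInner (Cfsg.pRegularPart p (ψ : Subgroup.centralizer ({y} : Set G) → ℂ))
              (ξ' : Subgroup.centralizer ({y} : Set G) → ℂ)
        = ∑ t : Subgroup.centralizer ({y} : Set G), ∑ t' : Subgroup.centralizer ({y} : Set G),
          ((Nat.card (Subgroup.centralizer ({y} : Set G)) : ℂ)⁻¹
            * (Nat.card (Subgroup.centralizer ({y} : Set G)) : ℂ)⁻¹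
            * ((ξ : Subgroup.centralizer ({y} : Set G) → ℂ) t
              * conj ((ξ' : Subgroup.centralizer ({y} : Set G) → ℂ) t')))
          * (Cfsg.pRegularPart p (ψ : Subgroup.centralizer ({y} : Set G) → ℂ) t'
            * conj (Cfsg.pRegularPart p (ψ : Subgroup.centralizer ({y} : Set G) → ℂ) t)) := by
      intro ψ
      rw [classInner_def, classInner_def, mul_mul_mul_comm, Finset.sum_mul_sum, Finset.mul_sum]
      apply Finset.sum_congr rfl
      intro t _
      rw [Finset.mul_sum]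
      apply Finset.sum_congr rfl
      intro t' _
      ring
    have hswap : ∀ {α : Type _} [Fintype α]
        (f : α → Subgroup.centralizer ({y} : Set G) → Subgroup.centralizer ({y} : Set G) → ℂ),
        ∑ a : α, ∑ t : Subgroup.centralizer ({y} : Set G),
          ∑ t' : Subgroup.centralizer ({y} : Set G), f a t t'
        = ∑ t : Subgroup.centralizer ({y} : Set G), ∑ t' : Subgroup.centralizer ({y} : Set G),
          ∑ a : α, f a t t' := by
      intro α _ f
      rw [Finset.sum_comm]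
      apply Finset.sum_congr rfl
      intro t _
      rw [Finset.sum_comm]
    rw [Finset.sum_congr rfl (fun χ _ => e1 χ), hswap]
    have e3 : ∀ ψ : Cfsg.IrrCharacter (Subgroup.centralizer ({y} : Set G)),
        (if Cfsg.IsInducedBlock M (Subgroup.centralizer ({y} : Set G))
            (Cfsg.blockOf M (ψ : Subgroup.centralizer ({y} : Set G) → ℂ)) B
          then Cfsg.classInner (ξ : Subgroup.centralizer ({y} : Set G) → ℂ)
              (Cfsg.pRegularPart p (ψ : Subgroup.centralizer ({y} : Set G) → ℂ))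
            * Cfsg.classInner (Cfsg.pRegularPart p (ψ : Subgroup.centralizer ({y} : Set G) → ℂ))
              (ξ' : Subgroup.centralizer ({y} : Set G) → ℂ)
          else 0)
        = ∑ t : Subgroup.centralizer ({y} : Set G), ∑ t' : Subgroup.centralizer ({y} : Set G),
          ((Nat.card (Subgroup.centralizer ({y} : Set G)) : ℂ)⁻¹
            * (Nat.card (Subgroup.centralizer ({y} : Set G)) : ℂ)⁻¹
            * ((ξ : Subgroup.centralizer ({y} : Set G) → ℂ) t
              * conj ((ξ' : Subgroup.centralizer ({y} : Set G) → ℂ) t')))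
          * (if Cfsg.IsInducedBlock M (Subgroup.centralizer ({y} : Set G))
              (Cfsg.blockOf M (ψ : Subgroup.centralizer ({y} : Set G) → ℂ)) B
            then Cfsg.pRegularPart p (ψ : Subgroup.centralizer ({y} : Set G) → ℂ) t'
            * conj (Cfsg.pRegularPart p (ψ : Subgroup.centralizer ({y} : Set G) → ℂ) t)
            else 0) := by
      intro ψ
      split_ifs
      · exact e2 ψ
      · simp only [mul_zero, Finset.sum_const_zero]
    rw [Finset.sum_congr rfl (fun ψ _ => e3 ψ), hswap]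
    apply Finset.sum_congr rfl
    intro t _
    apply Finset.sum_congr rfl
    intro t' _
    rw [← Finset.mul_sum, ← Finset.mul_sum, hpt t t']
  rw [hL, ← regInner_idem ξ (ξ' : Subgroup.centralizer ({y} : Set G) → ℂ)]
  apply Finset.sum_congr rfl
  intro ψ _
  rw [← classInner_pRegularPart_left_right]
  split_ifs with hψ
  · rfl
  · have hψb : ψ ∉ b := by
      intro hψb
      apply hψ
      rw [← eq_blockOf_of_mem hM hb hψb]
      exact hind
    rw [classInner_pRegularPart_eq_zero hM b hb ξ ψ hξ hψb, zero_mul]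

/-- the contribution `m_{χχ'}` of the subsection `(y, b)` -/
noncomputable def secContrib (p : ℕ) (y : G) [Fintype (Subgroup.centralizer ({y} : Set G))]
    (b : Set (Cfsg.IrrCharacter (Subgroup.centralizer ({y} : Set G))))
    [Fintype (Cfsg.IrrCharacter (Subgroup.centralizer ({y} : Set G)))] [DecidablePred (· ∈ b)]
    (χ χ' : G → ℂ) : ℂ :=
  ∑ ξ : Cfsg.IrrCharacter (Subgroup.centralizer ({y} : Set G)), if ξ ∈ b then
    secCoeff p y χ (ξ : Subgroup.centralizer ({y} : Set G) → ℂ)
      * conj (secCoeff p y χ' (ξ : Subgroup.centralizer ({y} : Set G) → ℂ)) else 0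

open scoped Matrix in
/-- `tr(M M*) = l(b)` -/
theorem sum_secContrib_mul_conj (hM : Cfsg.IsPModular p M) (y : G)
    (hy : ∃ k : ℕ, orderOf y = p ^ k) [Fintype (Subgroup.centralizer ({y} : Set G))]
    (B : Set (Cfsg.IrrCharacter G))
    (b : Set (Cfsg.IrrCharacter (Subgroup.centralizer ({y} : Set G))))
    (hind : Cfsg.IsInducedBlock M (Subgroup.centralizer ({y} : Set G)) b B)
    [Fintype (Cfsg.IrrCharacter G)]
    [Fintype (Cfsg.IrrCharacter (Subgroup.centralizer ({y} : Set G)))]
    [DecidablePred (· ∈ B)] [DecidablePred (· ∈ b)] :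
    ∑ χ : Cfsg.IrrCharacter G, ∑ χ' : Cfsg.IrrCharacter G, (if χ ∈ B ∧ χ' ∈ B then
        secContrib p y b (χ : G → ℂ) (χ' : G → ℂ)
          * conj (secContrib p y b (χ : G → ℂ) (χ' : G → ℂ)) else 0)
      = (Cfsg.blockRank p b : ℂ) := by
  classical
  have hb : Cfsg.IsPBlock M b := hind.1
  obtain ⟨D, hD⟩ : ∃ D : Matrix (Cfsg.IrrCharacter G)
      (Cfsg.IrrCharacter (Subgroup.centralizer ({y} : Set G))) ℂ,
      D = fun χ ξ => if χ ∈ B ∧ ξ ∈ b then
        secCoeff p y (χ : G → ℂ) (ξ : Subgroup.centralizer ({y} : Set G) → ℂ) else 0 := ⟨_, rfl⟩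
  have hDapp : ∀ χ ξ, D χ ξ = if χ ∈ B ∧ ξ ∈ b then
        secCoeff p y (χ : G → ℂ) (ξ : Subgroup.centralizer ({y} : Set G) → ℂ) else 0 := by
    intro χ ξ
    rw [hD]
  have hD0B : ∀ χ ξ, χ ∉ B → D χ ξ = 0 := by
    intro χ ξ h
    rw [hDapp, if_neg (fun hh => h hh.1)]
  have hD0b : ∀ χ ξ, ξ ∉ b → D χ ξ = 0 := by
    intro χ ξ h
    rw [hDapp, if_neg (fun hh => h hh.2)]
  have hD1 : ∀ χ ξ, χ ∈ B → ξ ∈ b → D χ ξ
      = secCoeff p y (χ : G → ℂ) (ξ : Subgroup.centralizer ({y} : Set G) → ℂ) := by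
    intro χ ξ h1 h2
    rw [hDapp, if_pos ⟨h1, h2⟩]
  have hMM : ∀ χ χ' : Cfsg.IrrCharacter G, (D * Dᴴ) χ χ' = if χ ∈ B ∧ χ' ∈ B then
      secContrib p y b (χ : G → ℂ) (χ' : G → ℂ) else 0 := by
    intro χ χ'
    rw [Matrix.mul_apply]
    by_cases h : χ ∈ B ∧ χ' ∈ B
    · rw [if_pos h]
      unfold secContrib
      apply Finset.sum_congr rfl
      intro ξ _
      rw [Matrix.conjTranspose_apply]
      by_cases hξ : ξ ∈ b
      · rw [hD1 χ ξ h.1 hξ, hD1 χ' ξ h.2 hξ, if_pos hξ]
        rfl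
      · rw [hD0b χ ξ hξ, zero_mul, if_neg hξ]
    · rw [if_neg h]
      apply Finset.sum_eq_zero
      intro ξ _
      rw [Matrix.conjTranspose_apply]
      by_cases h1 : χ ∈ B
      · have h2 : χ' ∉ B := fun h2 => h ⟨h1, h2⟩
        rw [hD0B χ' ξ h2, star_zero, mul_zero]
      · rw [hD0B χ ξ h1, zero_mul]
  have hNN : ∀ ξ ξ' : Cfsg.IrrCharacter (Subgroup.centralizer ({y} : Set G)),
      (Dᴴ * D) ξ ξ' = if ξ ∈ b ∧ ξ' ∈ b then
        Cfsg.classInner (Cfsg.pRegularPart p (ξ : Subgroup.centralizer ({y} : Set G) → ℂ))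
          (ξ' : Subgroup.centralizer ({y} : Set G) → ℂ) else 0 := by
    intro ξ ξ'
    rw [Matrix.mul_apply]
    by_cases h : ξ ∈ b ∧ ξ' ∈ b
    · rw [if_pos h, ← sum_conj_secCoeff_mul hM y hy B b hind ξ ξ' h.1]
      apply Finset.sum_congr rfl
      intro χ _
      rw [Matrix.conjTranspose_apply]
      by_cases hχ : χ ∈ B
      · rw [hD1 χ ξ hχ h.1, hD1 χ ξ' hχ h.2, if_pos hχ]
        rfl
      · rw [hD0B χ ξ hχ, star_zero, zero_mul, if_neg hχ]
    · rw [if_neg h]
      apply Finset.sum_eq_zero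
      intro χ _
      rw [Matrix.conjTranspose_apply]
      by_cases h1 : ξ ∈ b
      · have h2 : ξ' ∉ b := fun h2 => h ⟨h1, h2⟩
        rw [hD0b χ ξ' h2, mul_zero]
      · rw [hD0b χ ξ h1, star_zero, zero_mul]
  have key := trace_gram_sq D
  have hL : ∑ χ : Cfsg.IrrCharacter G, ∑ χ' : Cfsg.IrrCharacter G, (if χ ∈ B ∧ χ' ∈ B then
        secContrib p y b (χ : G → ℂ) (χ' : G → ℂ)
          * conj (secContrib p y b (χ : G → ℂ) (χ' : G → ℂ)) else 0)
      = ∑ χ, ∑ χ', (D * Dᴴ) χ χ' * conj ((D * Dᴴ) χ χ') := by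
    apply Finset.sum_congr rfl
    intro χ _
    apply Finset.sum_congr rfl
    intro χ' _
    rw [hMM]
    split_ifs
    · rfl
    · rw [zero_mul]
  rw [hL, key, ← sum_regInner_self hM b hb]
  apply Finset.sum_congr rfl
  intro ξ _
  by_cases hξ : ξ ∈ b
  · rw [if_pos hξ, ← regInner_idem_block hM b hb ξ hξ]
    apply Finset.sum_congr rfl
    intro ξ' _
    rw [hNN, hNN]
    by_cases hξ' : ξ' ∈ b
    · rw [if_pos ⟨hξ, hξ'⟩, if_pos ⟨hξ', hξ⟩, if_pos hξ']
    · rw [if_neg (fun hh => hξ' hh.2), zero_mul, if_neg hξ']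
  · rw [if_neg hξ]
    apply Finset.sum_eq_zero
    intro ξ' _
    rw [hNN, if_neg (fun hh => hξ hh.1), zero_mul]

/-- the inner products of the shifted character: `⟨χ(y ·), ψ⟩ = ε_ψ ⟨χ_H, ψ⟩` with `ε_ψ` a root
of unity of `p`-power order. -/
theorem exists_shift_scalars (y : G) (hy : ∃ k : ℕ, orderOf y = p ^ k)
    [Fintype (Subgroup.centralizer ({y} : Set G))] :
    ∃ (ε : Cfsg.IrrCharacter (Subgroup.centralizer ({y} : Set G)) → ℂ) (k : ℕ),
      (∀ ψ, ε ψ ^ (p ^ k) = 1) ∧
      ∀ (χ : Cfsg.IrrCharacter G) (ψ : Cfsg.IrrCharacter (Subgroup.centralizer ({y} : Set G))),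
        Cfsg.classInner (fun c : Subgroup.centralizer ({y} : Set G) => (χ : G → ℂ) (y * (c : G)))
          (ψ : Subgroup.centralizer ({y} : Set G) → ℂ)
        = ε ψ * Cfsg.classInner (fun c : Subgroup.centralizer ({y} : Set G) => (χ : G → ℂ) c)
          (ψ : Subgroup.centralizer ({y} : Set G) → ℂ) := by
  classical
  obtain ⟨k, hk⟩ := hy
  have hyC : y ∈ Subgroup.centralizer ({y} : Set G) := by
    rw [Subgroup.mem_centralizer_singleton_iff]
  obtain ⟨xC, hxCdef⟩ : ∃ xC : Subgroup.centralizer ({y} : Set G), xC = ⟨y, hyC⟩ := ⟨_, rfl⟩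
  have hxCcoe : (xC : G) = y := by rw [hxCdef]
  have hz : xC ∈ Subgroup.center (Subgroup.centralizer ({y} : Set G)) := by
    rw [Subgroup.mem_center_iff]
    intro c
    apply Subtype.ext
    rw [Subgroup.coe_mul, Subgroup.coe_mul, hxCcoe]
    exact Subgroup.mem_centralizer_singleton_iff.mp c.2
  have hz' : xC⁻¹ ∈ Subgroup.center (Subgroup.centralizer ({y} : Set G)) :=
    (Subgroup.center _).inv_mem hz
  have hpow : xC ^ (p ^ k) = 1 := by
    apply Subtype.ext
    rw [Subgroup.coe_pow, hxCcoe, Subgroup.coe_one, ← hk]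
    exact pow_orderOf_eq_one y
  have h1 : ∀ ψ : Cfsg.IrrCharacter (Subgroup.centralizer ({y} : Set G)),
      (ψ : Subgroup.centralizer ({y} : Set G) → ℂ) 1 ≠ 0 :=
    fun ψ => IsIrrCharacter.apply_one_ne_zero ψ.2
  obtain ⟨ε, hε⟩ : ∃ ε : Cfsg.IrrCharacter (Subgroup.centralizer ({y} : Set G)) → ℂ,
      ∀ ψ : Cfsg.IrrCharacter (Subgroup.centralizer ({y} : Set G)),
        ε ψ = (ψ : Subgroup.centralizer ({y} : Set G) → ℂ) xC
          / (ψ : Subgroup.centralizer ({y} : Set G) → ℂ) 1 := ⟨_, fun _ => rfl⟩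
  have hmul : ∀ (ψ : Cfsg.IrrCharacter (Subgroup.centralizer ({y} : Set G)))
      (c : Subgroup.centralizer ({y} : Set G)),
      (ψ : Subgroup.centralizer ({y} : Set G) → ℂ) (xC * c)
        = ε ψ * (ψ : Subgroup.centralizer ({y} : Set G) → ℂ) c := by
    intro ψ c
    have := Cfsg.Agent.Lib.Helper7.irr_mul_of_mem_center ψ hz c
    rw [hε, div_mul_eq_mul_div, ← this, mul_div_assoc, div_self (h1 ψ), mul_one]
  have hmul' : ∀ (ψ : Cfsg.IrrCharacter (Subgroup.centralizer ({y} : Set G)))
      (c : Subgroup.centralizer ({y} : Set G)),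
      conj ((ψ : Subgroup.centralizer ({y} : Set G) → ℂ) (xC⁻¹ * c))
        = ε ψ * conj ((ψ : Subgroup.centralizer ({y} : Set G) → ℂ) c) := by
    intro ψ c
    have := Cfsg.Agent.Lib.Helper7.irr_mul_of_mem_center ψ hz' c
    have e : (ψ : Subgroup.centralizer ({y} : Set G) → ℂ) (xC⁻¹ * c)
        = (ψ : Subgroup.centralizer ({y} : Set G) → ℂ) xC⁻¹
          * (ψ : Subgroup.centralizer ({y} : Set G) → ℂ) c
          / (ψ : Subgroup.centralizer ({y} : Set G) → ℂ) 1 := by
      rw [← this, mul_div_assoc, div_self (h1 ψ), mul_one]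
    rw [e, map_div₀, map_mul, IrrCharacter.apply_inv, Complex.conj_conj, hε,
      apply_one_eq_charDegree, Complex.conj_natCast]
    ring
  have hεpow : ∀ (ψ : Cfsg.IrrCharacter (Subgroup.centralizer ({y} : Set G))) (n : ℕ),
      (ψ : Subgroup.centralizer ({y} : Set G) → ℂ) (xC ^ n)
        = ε ψ ^ n * (ψ : Subgroup.centralizer ({y} : Set G) → ℂ) 1 := by
    intro ψ n
    induction n with
    | zero => rw [pow_zero, pow_zero, one_mul]
    | succ n ih => rw [pow_succ', hmul, ih, pow_succ', mul_assoc]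
  have hε1 : ∀ ψ : Cfsg.IrrCharacter (Subgroup.centralizer ({y} : Set G)),
      ε ψ ^ (p ^ k) = 1 := by
    intro ψ
    have := hεpow ψ (p ^ k)
    rw [hpow] at this
    have h2 : ε ψ ^ (p ^ k) * (ψ : Subgroup.centralizer ({y} : Set G) → ℂ) 1
        = 1 * (ψ : Subgroup.centralizer ({y} : Set G) → ℂ) 1 := by
      rw [one_mul]
      exact this.symm
    exact mul_right_cancel₀ (h1 ψ) h2
  refine ⟨ε, k, hε1, ?_⟩
  intro χ ψ
  rw [classInner_def, classInner_def]
  have e : ∑ c : Subgroup.centralizer ({y} : Set G),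
        (fun c : Subgroup.centralizer ({y} : Set G) => (χ : G → ℂ) (y * (c : G))) c
          * conj ((ψ : Subgroup.centralizer ({y} : Set G) → ℂ) c)
      = ∑ c : Subgroup.centralizer ({y} : Set G), (χ : G → ℂ) c
          * conj ((ψ : Subgroup.centralizer ({y} : Set G) → ℂ) (xC⁻¹ * c)) := by
    symm
    apply Fintype.sum_equiv (Equiv.mulLeft xC⁻¹)
    intro c
    show (χ : G → ℂ) (c : G) * conj ((ψ : Subgroup.centralizer ({y} : Set G) → ℂ) (xC⁻¹ * c))
      = (χ : G → ℂ) (y * ((xC⁻¹ * c : Subgroup.centralizer ({y} : Set G)) : G))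
        * conj ((ψ : Subgroup.centralizer ({y} : Set G) → ℂ) (xC⁻¹ * c))
    congr 2
    rw [Subgroup.coe_mul, Subgroup.coe_inv, hxCcoe, mul_inv_cancel_left]
  rw [e, Finset.sum_congr rfl (fun c _ => by rw [hmul' ψ c])]
  rw [Finset.mul_sum, Finset.mul_sum, Finset.mul_sum]
  apply Finset.sum_congr rfl
  intro c _
  ring

/-- form C of the contribution: `m_{χχ'} = ∑_{ψ' ∈ b} conj c_{χ'ψ'} ∑_{ψ ∈ b} c_{χψ} N_{ψψ'}` -/
theorem secContrib_eq_sum (hM : Cfsg.IsPModular p M) (y : G)
    [Fintype (Subgroup.centralizer ({y} : Set G))]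
    (b : Set (Cfsg.IrrCharacter (Subgroup.centralizer ({y} : Set G))))
    (hb : Cfsg.IsPBlock M b)
    [Fintype (Cfsg.IrrCharacter (Subgroup.centralizer ({y} : Set G)))]
    [DecidablePred (· ∈ b)] (χ χ' : Cfsg.IrrCharacter G) :
    secContrib p y b (χ : G → ℂ) (χ' : G → ℂ)
      = ∑ ψ' : Cfsg.IrrCharacter (Subgroup.centralizer ({y} : Set G)), if ψ' ∈ b then
          conj (Cfsg.classInner
            (fun c : Subgroup.centralizer ({y} : Set G) => (χ' : G → ℂ) (y * (c : G)))
            (ψ' : Subgroup.centralizer ({y} : Set G) → ℂ))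
          * ∑ ψ : Cfsg.IrrCharacter (Subgroup.centralizer ({y} : Set G)), (if ψ ∈ b then
            Cfsg.classInner
              (fun c : Subgroup.centralizer ({y} : Set G) => (χ : G → ℂ) (y * (c : G)))
              (ψ : Subgroup.centralizer ({y} : Set G) → ℂ)
            * Cfsg.classInner (Cfsg.pRegularPart p (ψ : Subgroup.centralizer ({y} : Set G) → ℂ))
              (ψ' : Subgroup.centralizer ({y} : Set G) → ℂ) else 0) else 0 := by
  classical
  have hcf := fun ζ : Cfsg.IrrCharacter G => Cfsg.Agent.Lib.Helper7.isClassFunction_shift ζ y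
  -- step (ii): expansion of the coefficients, restricted to the block
  have hexp : ∀ (ζ : Cfsg.IrrCharacter G)
      (ξ : Cfsg.IrrCharacter (Subgroup.centralizer ({y} : Set G))), ξ ∈ b →
      secCoeff p y (ζ : G → ℂ) (ξ : Subgroup.centralizer ({y} : Set G) → ℂ)
        = ∑ ψ : Cfsg.IrrCharacter (Subgroup.centralizer ({y} : Set G)), (if ψ ∈ b then
            Cfsg.classInner
              (fun c : Subgroup.centralizer ({y} : Set G) => (ζ : G → ℂ) (y * (c : G)))
              (ψ : Subgroup.centralizer ({y} : Set G) → ℂ)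
            * Cfsg.classInner (Cfsg.pRegularPart p (ψ : Subgroup.centralizer ({y} : Set G) → ℂ))
              (ξ : Subgroup.centralizer ({y} : Set G) → ℂ) else 0) := by
    intro ζ ξ hξ
    unfold secCoeff
    rw [classInner_pRegularPart_expand _ (hcf ζ)]
    apply Finset.sum_congr rfl
    intro ψ _
    by_cases hψ : ψ ∈ b
    · rw [if_pos hψ]
    · rw [if_neg hψ, classInner_pRegularPart_symm ψ ξ,
        classInner_pRegularPart_eq_zero hM b hb ξ ψ hξ hψ, mul_zero]
  -- the conjugate of a coefficient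
  have hconj : ∀ (ξ : Cfsg.IrrCharacter (Subgroup.centralizer ({y} : Set G))),
      conj (secCoeff p y (χ' : G → ℂ) (ξ : Subgroup.centralizer ({y} : Set G) → ℂ))
        = ∑ ψ' : Cfsg.IrrCharacter (Subgroup.centralizer ({y} : Set G)),
            conj (Cfsg.classInner
              (fun c : Subgroup.centralizer ({y} : Set G) => (χ' : G → ℂ) (y * (c : G)))
              (ψ' : Subgroup.centralizer ({y} : Set G) → ℂ))
            * Cfsg.classInner (Cfsg.pRegularPart p (ξ : Subgroup.centralizer ({y} : Set G) → ℂ))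
              (ψ' : Subgroup.centralizer ({y} : Set G) → ℂ) := by
    intro ξ
    unfold secCoeff
    rw [classInner_pRegularPart_expand _ (hcf χ'), map_sum]
    apply Finset.sum_congr rfl
    intro ψ' _
    rw [map_mul, conj_classInner_pRegularPart, classInner_pRegularPart_symm ψ' ξ]
  -- step (i)
  have hstep : ∀ ψ' : Cfsg.IrrCharacter (Subgroup.centralizer ({y} : Set G)),
      ∑ ξ : Cfsg.IrrCharacter (Subgroup.centralizer ({y} : Set G)), (if ξ ∈ b then
        secCoeff p y (χ : G → ℂ) (ξ : Subgroup.centralizer ({y} : Set G) → ℂ)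
          * Cfsg.classInner (Cfsg.pRegularPart p (ξ : Subgroup.centralizer ({y} : Set G) → ℂ))
              (ψ' : Subgroup.centralizer ({y} : Set G) → ℂ) else 0)
        = if ψ' ∈ b then
          secCoeff p y (χ : G → ℂ) (ψ' : Subgroup.centralizer ({y} : Set G) → ℂ) else 0 := by
    intro ψ'
    by_cases hψ' : ψ' ∈ b
    · rw [if_pos hψ']
      have h1 := classInner_pRegularPart_expand (p := p) (Cfsg.pRegularPart p
        (fun c : Subgroup.centralizer ({y} : Set G) => (χ : G → ℂ) (y * (c : G))))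
        (pRegularPart_isClassFunction _ (hcf χ))
        (ψ' : Subgroup.centralizer ({y} : Set G) → ℂ)
      rw [pRegularPart_pRegularPart] at h1
      unfold secCoeff
      rw [h1]
      apply Finset.sum_congr rfl
      intro ξ _
      by_cases hξ : ξ ∈ b
      · rw [if_pos hξ]
      · rw [if_neg hξ, classInner_pRegularPart_symm ξ ψ',
          classInner_pRegularPart_eq_zero hM b hb ψ' ξ hψ' hξ, mul_zero]
    · rw [if_neg hψ']
      apply Finset.sum_eq_zero
      intro ξ _
      by_cases hξ : ξ ∈ b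
      · rw [if_pos hξ, classInner_pRegularPart_eq_zero hM b hb ξ ψ' hξ hψ', mul_zero]
      · rw [if_neg hξ]
  unfold secContrib
  have h2 : ∀ ξ : Cfsg.IrrCharacter (Subgroup.centralizer ({y} : Set G)), (if ξ ∈ b then
      secCoeff p y (χ : G → ℂ) (ξ : Subgroup.centralizer ({y} : Set G) → ℂ)
        * conj (secCoeff p y (χ' : G → ℂ) (ξ : Subgroup.centralizer ({y} : Set G) → ℂ)) else 0)
      = ∑ ψ' : Cfsg.IrrCharacter (Subgroup.centralizer ({y} : Set G)),
          conj (Cfsg.classInner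
              (fun c : Subgroup.centralizer ({y} : Set G) => (χ' : G → ℂ) (y * (c : G)))
              (ψ' : Subgroup.centralizer ({y} : Set G) → ℂ))
          * (if ξ ∈ b then
            secCoeff p y (χ : G → ℂ) (ξ : Subgroup.centralizer ({y} : Set G) → ℂ)
            * Cfsg.classInner (Cfsg.pRegularPart p (ξ : Subgroup.centralizer ({y} : Set G) → ℂ))
              (ψ' : Subgroup.centralizer ({y} : Set G) → ℂ) else 0) := by
    intro ξ
    by_cases hξ : ξ ∈ b
    · simp only [if_pos hξ]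
      rw [hconj ξ, Finset.mul_sum]
      apply Finset.sum_congr rfl
      intro ψ' _
      ring
    · simp only [if_neg hξ, mul_zero, Finset.sum_const_zero]
  rw [Finset.sum_congr rfl (fun ξ _ => h2 ξ), Finset.sum_comm]
  apply Finset.sum_congr rfl
  intro ψ' _
  rw [← Finset.mul_sum, hstep ψ']
  by_cases hψ' : ψ' ∈ b
  · rw [if_pos hψ', if_pos hψ', hexp χ ψ' hψ']
  · rw [if_neg hψ', if_neg hψ', mul_zero]

theorem isIntegral_of_pow_eq_one {z : ℂ} {n : ℕ} (hn : 0 < n) (h : z ^ n = 1) :
    IsIntegral ℤ z :=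
  ⟨Polynomial.X ^ n - 1, Polynomial.monic_X_pow_sub_C 1 hn.ne', by simp [h]⟩

/-- `p^{d(b)} m_{χχ'}` is an algebraic integer, and a unit modulo `M` for `χ, χ'` of height
zero. -/
theorem secContrib_unit (hM : Cfsg.IsPModular p M) (y : G) (hy : ∃ k : ℕ, orderOf y = p ^ k)
    [Fintype (Subgroup.centralizer ({y} : Set G))]
    (B : Set (Cfsg.IrrCharacter G))
    (b : Set (Cfsg.IrrCharacter (Subgroup.centralizer ({y} : Set G))))
    (hind : Cfsg.IsInducedBlock M (Subgroup.centralizer ({y} : Set G)) b B)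
    [Fintype (Cfsg.IrrCharacter (Subgroup.centralizer ({y} : Set G)))]
    [DecidablePred (· ∈ b)] (χ χ' : Cfsg.IrrCharacter G) (hχ : χ ∈ B) (hχ' : χ' ∈ B)
    (h0 : Cfsg.blockHeight p B (χ : G → ℂ) = 0) (h0' : Cfsg.blockHeight p B (χ' : G → ℂ) = 0) :
    IsIntegral ℤ ((p : ℂ) ^ Cfsg.blockDefect p b
        * secContrib p y b (χ : G → ℂ) (χ' : G → ℂ)) ∧
      ¬ Cfsg.MemLocalIdeal M ((p : ℂ) ^ Cfsg.blockDefect p b
        * secContrib p y b (χ : G → ℂ) (χ' : G → ℂ)) := by
  classical
  have hp : p.Prime := hM.1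
  have hb : Cfsg.IsPBlock M b := hind.1
  obtain ⟨ε, k, hε1, hεF⟩ := exists_shift_scalars (p := p) y hy
  have hpk : 0 < p ^ k := pow_pos hp.pos k
  -- multiplicities
  have hχH : Cfsg.IsCharacter (Subgroup.centralizer ({y} : Set G))
      (fun c : Subgroup.centralizer ({y} : Set G) => (χ : G → ℂ) c) :=
    IsCharacter.restrict (IsIrrCharacter.isCharacter χ.2) _
  have hχ'H : Cfsg.IsCharacter (Subgroup.centralizer ({y} : Set G))
      (fun c : Subgroup.centralizer ({y} : Set G) => (χ' : G → ℂ) c) :=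
    IsCharacter.restrict (IsIrrCharacter.isCharacter χ'.2) _
  choose a ha using fun ψ : Cfsg.IrrCharacter (Subgroup.centralizer ({y} : Set G)) =>
    classInner_isCharacter_nat hχH (IsIrrCharacter.isCharacter ψ.2)
  choose a' ha' using fun ψ : Cfsg.IrrCharacter (Subgroup.centralizer ({y} : Set G)) =>
    classInner_isCharacter_nat hχ'H (IsIrrCharacter.isCharacter ψ.2)
  -- the formula
  have hform : (p : ℂ) ^ Cfsg.blockDefect p b * secContrib p y b (χ : G → ℂ) (χ' : G → ℂ)
      = ∑ ψ' : Cfsg.IrrCharacter (Subgroup.centralizer ({y} : Set G)),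
        ∑ ψ : Cfsg.IrrCharacter (Subgroup.centralizer ({y} : Set G)),
          if ψ' ∈ b ∧ ψ ∈ b then (conj (ε ψ') * (a' ψ' : ℂ)) * (ε ψ * (a ψ : ℂ))
            * ((p : ℂ) ^ Cfsg.blockDefect p b * Cfsg.classInner
              (Cfsg.pRegularPart p (ψ : Subgroup.centralizer ({y} : Set G) → ℂ))
              (ψ' : Subgroup.centralizer ({y} : Set G) → ℂ)) else 0 := by
    rw [secContrib_eq_sum hM y b hb χ χ', Finset.mul_sum]
    apply Finset.sum_congr rfl
    intro ψ' _
    by_cases hψ' : ψ' ∈ b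
    · rw [if_pos hψ', Finset.mul_sum, Finset.mul_sum]
      apply Finset.sum_congr rfl
      intro ψ _
      by_cases hψ : ψ ∈ b
      · rw [if_pos hψ, if_pos ⟨hψ', hψ⟩, hεF χ' ψ', hεF χ ψ, ha, ha', map_mul,
          Complex.conj_natCast]
        ring
      · rw [if_neg hψ, if_neg (fun hh => hψ hh.2), mul_zero, mul_zero]
    · rw [if_neg hψ', mul_zero]
      symm
      apply Finset.sum_eq_zero
      intro ψ _
      rw [if_neg (fun hh => hψ' hh.1)]
  constructor
  · -- integrality
    rw [hform]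
    apply IsIntegral.sum
    intro ψ' _
    apply IsIntegral.sum
    intro ψ _
    split_ifs with h
    · obtain ⟨c, hc⟩ := exists_int_pow_defect_mul_classInner hM b ψ ψ' h.2
      rw [hc]
      have hε' : IsIntegral ℤ (conj (ε ψ')) := by
        apply isIntegral_of_pow_eq_one hpk
        rw [← map_pow, hε1, map_one]
      have hεi : IsIntegral ℤ (ε ψ) := isIntegral_of_pow_eq_one hpk (hε1 ψ)
      have hnat : ∀ n : ℕ, IsIntegral ℤ (n : ℂ) := fun n => by
        simpa using isIntegral_algebraMap (R := ℤ) (A := ℂ) (x := (n : ℤ))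
      have hintc : IsIntegral ℤ (c : ℂ) := by
        simpa using isIntegral_algebraMap (R := ℤ) (A := ℂ) (x := c)
      exact ((hε'.mul (hnat _)).mul (hεi.mul (hnat _))).mul hintc
    · exact isIntegral_zero
  · -- not in the local ideal
    obtain ⟨aH, haH⟩ : ∃ aH : ℕ,
      aH = (Nat.card (Subgroup.centralizer ({y} : Set G))).factorization p := ⟨_, rfl⟩
    have hne : ((fun ψ : Cfsg.IrrCharacter (Subgroup.centralizer ({y} : Set G)) =>
        (Cfsg.charDegree (ψ : Subgroup.centralizer ({y} : Set G) → ℂ)).factorization p)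
          '' b).Nonempty := by
      obtain ⟨ψ, hψ⟩ := isPBlock_nonempty hM hb
      exact ⟨_, ψ, hψ, rfl⟩
    obtain ⟨ψ₀, hψ₀, hs⟩ := Nat.sInf_mem hne
    obtain ⟨s, hsdef⟩ : ∃ s : ℕ, s = sInf ((fun ψ : Cfsg.IrrCharacter
        (Subgroup.centralizer ({y} : Set G)) =>
        (Cfsg.charDegree (ψ : Subgroup.centralizer ({y} : Set G) → ℂ)).factorization p)
          '' b) := ⟨_, rfl⟩
    rw [← hsdef] at hs
    have hs' : (Cfsg.charDegree (ψ₀ : Subgroup.centralizer ({y} : Set G) → ℂ)).factorization p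
        = s := hs
    have hsle : s ≤ aH := by
      rw [← hs', haH]
      exact (Nat.factorization_le_iff_dvd (charDegree_ne_zero ψ₀) Nat.card_pos.ne').mpr
        (Cfsg.Agent.Lib.Helper25.charDegree_dvd_card ψ₀.2) p
    have hd : Cfsg.blockDefect p b = aH - s := by
      unfold Cfsg.blockDefect
      rw [hsdef, haH]
    have hu : ∀ ψ : Cfsg.IrrCharacter (Subgroup.centralizer ({y} : Set G)), ψ ∈ b →
        ∃ u : ℕ, Cfsg.charDegree (ψ : Subgroup.centralizer ({y} : Set G) → ℂ) = p ^ s * u := by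
      intro ψ hψ
      have h1 : s ≤ (Cfsg.charDegree
          (ψ : Subgroup.centralizer ({y} : Set G) → ℂ)).factorization p := by
        rw [hsdef]
        exact Nat.sInf_le ⟨ψ, hψ, rfl⟩
      exact (Nat.Prime.pow_dvd_iff_le_factorization hp (charDegree_ne_zero ψ)).mpr h1
    choose! u hu using hu
    have hu₀ : ¬ p ∣ u ψ₀ := by
      intro hdvd
      have h1 : p ^ (s + 1) ∣ Cfsg.charDegree
          (ψ₀ : Subgroup.centralizer ({y} : Set G) → ℂ) := by
        rw [hu ψ₀ hψ₀, pow_succ]
        exact Nat.mul_dvd_mul_left _ hdvd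
      have h2 := (Nat.Prime.pow_dvd_iff_le_factorization hp (charDegree_ne_zero ψ₀)).mp h1
      omega
    have hps : (p : ℂ) ^ s ≠ 0 := pow_ne_zero _ (Nat.cast_ne_zero.mpr hp.ne_zero)
    -- `T = u R`
    have hT : ∀ ψ ψ' : Cfsg.IrrCharacter (Subgroup.centralizer ({y} : Set G)), ψ' ∈ b →
        (p : ℂ) ^ Cfsg.blockDefect p b * Cfsg.classInner
          (Cfsg.pRegularPart p (ψ : Subgroup.centralizer ({y} : Set G) → ℂ))
          (ψ' : Subgroup.centralizer ({y} : Set G) → ℂ)
        = (u ψ' : ℂ) * contribR p (ψ : Subgroup.centralizer ({y} : Set G) → ℂ)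
          (ψ' : Subgroup.centralizer ({y} : Set G) → ℂ) := by
      intro ψ ψ' hψ'
      have h1 := pow_mul_classInner_eq (p := p) ψ ψ'
      rw [apply_one_eq_charDegree, hu ψ' hψ', ← haH] at h1
      apply mul_left_cancel₀ hps
      rw [← mul_assoc, ← pow_add, hd, (by omega : s + (aH - s) = aH), h1]
      push_cast
      ring
    have hR := fun ψ ψ' : Cfsg.IrrCharacter (Subgroup.centralizer ({y} : Set G)) =>
      contribR_memLocalRing hM ψ ψ'
    have hsame : ∀ ψ : Cfsg.IrrCharacter (Subgroup.centralizer ({y} : Set G)), ψ ∈ b →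
        Cfsg.SameBlock M (ψ : Subgroup.centralizer ({y} : Set G) → ℂ)
          (ψ₀ : Subgroup.centralizer ({y} : Set G) → ℂ) := by
      intro ψ hψ
      have h1 : ψ₀ ∈ Cfsg.blockOf M (ψ : Subgroup.centralizer ({y} : Set G) → ℂ) := by
        rw [← eq_blockOf_of_mem hM hb hψ]
        exact hψ₀
      exact h1
    -- the two restricted sums
    have hXnot : ∀ (ζ : Cfsg.IrrCharacter G) (az : Cfsg.IrrCharacter
        (Subgroup.centralizer ({y} : Set G)) → ℕ), ζ ∈ B →
        Cfsg.blockHeight p B (ζ : G → ℂ) = 0 →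
        (∀ ψ : Cfsg.IrrCharacter (Subgroup.centralizer ({y} : Set G)),
          Cfsg.classInner (fun c : Subgroup.centralizer ({y} : Set G) => (ζ : G → ℂ) c)
            (ψ : Subgroup.centralizer ({y} : Set G) → ℂ) = (az ψ : ℂ)) →
        ¬ Cfsg.MemLocalIdeal M (∑ ψ : Cfsg.IrrCharacter (Subgroup.centralizer ({y} : Set G)),
          if ψ ∈ b then (az ψ : ℂ) * contribR p (ψ : Subgroup.centralizer ({y} : Set G) → ℂ)
            (ψ₀ : Subgroup.centralizer ({y} : Set G) → ℂ) else 0) := by
      intro ζ az hζ hζ0 haz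
      rw [← restrict_contrib_expansion _ hM b hb ζ ψ₀ hψ₀ az haz]
      exact (induced_contrib _ hM b B hind ζ ψ₀ hψ₀).2 hζ hζ0
    have hXring : ∀ (az : Cfsg.IrrCharacter (Subgroup.centralizer ({y} : Set G)) → ℕ),
        Cfsg.MemLocalRing M (∑ ψ : Cfsg.IrrCharacter (Subgroup.centralizer ({y} : Set G)),
          if ψ ∈ b then (az ψ : ℂ) * contribR p (ψ : Subgroup.centralizer ({y} : Set G) → ℂ)
            (ψ₀ : Subgroup.centralizer ({y} : Set G) → ℂ) else 0) := by
      intro az
      apply memLocalRing_sum hM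
      intro ψ _
      split_ifs
      · exact memLocalRing_mul hM (memLocalRing_natCast hM _) (hR ψ ψ₀)
      · exact memLocalRing_zero hM
    -- the degree sum
    obtain ⟨U, hU⟩ : ∃ U : ℂ, U = ∑ ψ' : Cfsg.IrrCharacter (Subgroup.centralizer ({y} : Set G)),
        if ψ' ∈ b then (a' ψ' : ℂ) * (u ψ' : ℂ) else 0 := ⟨_, rfl⟩
    have hUring : Cfsg.MemLocalRing M U := by
      rw [hU]
      apply memLocalRing_sum hM
      intro ψ _
      split_ifs
      · exact memLocalRing_mul hM (memLocalRing_natCast hM _) (memLocalRing_natCast hM _)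
      · exact memLocalRing_zero hM
    have hUnot : ¬ Cfsg.MemLocalIdeal M U := by
      intro hUI
      have hsym : ∀ ψ : Cfsg.IrrCharacter (Subgroup.centralizer ({y} : Set G)), ψ ∈ b →
          (u ψ₀ : ℂ) * contribR p (ψ : Subgroup.centralizer ({y} : Set G) → ℂ)
            (ψ₀ : Subgroup.centralizer ({y} : Set G) → ℂ)
          = (u ψ : ℂ) * contribR p (ψ₀ : Subgroup.centralizer ({y} : Set G) → ℂ)
            (ψ : Subgroup.centralizer ({y} : Set G) → ℂ) := by
        intro ψ hψ
        rw [← hT ψ ψ₀ hψ₀, ← hT ψ₀ ψ hψ, classInner_pRegularPart_symm ψ ψ₀]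
      have hdiff : Cfsg.MemLocalIdeal M ((u ψ₀ : ℂ)
          * (∑ ψ : Cfsg.IrrCharacter (Subgroup.centralizer ({y} : Set G)),
            if ψ ∈ b then (a' ψ : ℂ) * contribR p (ψ : Subgroup.centralizer ({y} : Set G) → ℂ)
              (ψ₀ : Subgroup.centralizer ({y} : Set G) → ℂ) else 0)
          - contribR p (ψ₀ : Subgroup.centralizer ({y} : Set G) → ℂ)
              (ψ₀ : Subgroup.centralizer ({y} : Set G) → ℂ) * U) := by
        rw [hU, Finset.mul_sum, Finset.mul_sum, ← Finset.sum_sub_distrib]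
        apply memLocalIdeal_sum hM
        intro ψ _
        by_cases hψ : ψ ∈ b
        · rw [if_pos hψ, if_pos hψ]
          have e : (u ψ₀ : ℂ) * ((a' ψ : ℂ) * contribR p
                (ψ : Subgroup.centralizer ({y} : Set G) → ℂ)
                (ψ₀ : Subgroup.centralizer ({y} : Set G) → ℂ))
              - contribR p (ψ₀ : Subgroup.centralizer ({y} : Set G) → ℂ)
                (ψ₀ : Subgroup.centralizer ({y} : Set G) → ℂ) * ((a' ψ : ℂ) * (u ψ : ℂ))
              = ((a' ψ : ℂ) * (u ψ : ℂ))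
                * (contribR p (ψ₀ : Subgroup.centralizer ({y} : Set G) → ℂ)
                    (ψ : Subgroup.centralizer ({y} : Set G) → ℂ)
                  - contribR p (ψ₀ : Subgroup.centralizer ({y} : Set G) → ℂ)
                    (ψ₀ : Subgroup.centralizer ({y} : Set G) → ℂ)) := by
            rw [mul_left_comm, hsym ψ hψ]
            ring
          rw [e]
          exact memLocalIdeal_mul_left hM
            (memLocalRing_mul hM (memLocalRing_natCast hM _) (memLocalRing_natCast hM _))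
            (contribR_sub_memLocalIdeal hM ψ₀ ψ ψ₀ (hsame ψ hψ))
        · rw [if_neg hψ, if_neg hψ, mul_zero, mul_zero, sub_zero]
          exact memLocalIdeal_zero hM
      have h2 : Cfsg.MemLocalIdeal M ((u ψ₀ : ℂ)
          * (∑ ψ : Cfsg.IrrCharacter (Subgroup.centralizer ({y} : Set G)),
            if ψ ∈ b then (a' ψ : ℂ) * contribR p (ψ : Subgroup.centralizer ({y} : Set G) → ℂ)
              (ψ₀ : Subgroup.centralizer ({y} : Set G) → ℂ) else 0)) := by
        have h3 := memLocalIdeal_add hM hdiff (memLocalIdeal_mul_left hM (hR ψ₀ ψ₀) hUI)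
        rwa [sub_add_cancel] at h3
      rcases memLocalIdeal_or_of_mul hM (memLocalRing_natCast hM _) (hXring a') h2 with h4 | h4
      · exact hu₀ ((memLocalIdeal_natCast_iff hM _).mp h4)
      · exact hXnot χ' a' hχ' h0' ha' h4
    -- the main congruence
    intro hS
    have hUX : U * (∑ ψ : Cfsg.IrrCharacter (Subgroup.centralizer ({y} : Set G)),
          if ψ ∈ b then (a ψ : ℂ) * contribR p (ψ : Subgroup.centralizer ({y} : Set G) → ℂ)
            (ψ₀ : Subgroup.centralizer ({y} : Set G) → ℂ) else 0)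
        = ∑ ψ' : Cfsg.IrrCharacter (Subgroup.centralizer ({y} : Set G)),
          ∑ ψ : Cfsg.IrrCharacter (Subgroup.centralizer ({y} : Set G)),
            if ψ' ∈ b ∧ ψ ∈ b then ((a' ψ' : ℂ) * (u ψ' : ℂ)) * ((a ψ : ℂ)
              * contribR p (ψ : Subgroup.centralizer ({y} : Set G) → ℂ)
                (ψ₀ : Subgroup.centralizer ({y} : Set G) → ℂ)) else 0 := by
      rw [hU, Finset.sum_mul_sum]
      apply Finset.sum_congr rfl
      intro ψ' _
      apply Finset.sum_congr rfl
      intro ψ _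
      by_cases hψ' : ψ' ∈ b
      · by_cases hψ : ψ ∈ b
        · rw [if_pos hψ', if_pos hψ, if_pos ⟨hψ', hψ⟩]
        · rw [if_neg hψ, mul_zero, if_neg (fun hh => hψ hh.2)]
      · rw [if_neg hψ', zero_mul, if_neg (fun hh => hψ' hh.1)]
    have hdiff : Cfsg.MemLocalIdeal M ((p : ℂ) ^ Cfsg.blockDefect p b
          * secContrib p y b (χ : G → ℂ) (χ' : G → ℂ)
        - U * (∑ ψ : Cfsg.IrrCharacter (Subgroup.centralizer ({y} : Set G)),
          if ψ ∈ b then (a ψ : ℂ) * contribR p (ψ : Subgroup.centralizer ({y} : Set G) → ℂ)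
            (ψ₀ : Subgroup.centralizer ({y} : Set G) → ℂ) else 0)) := by
      rw [hform, hUX, ← Finset.sum_sub_distrib]
      apply memLocalIdeal_sum hM
      intro ψ' _
      rw [← Finset.sum_sub_distrib]
      apply memLocalIdeal_sum hM
      intro ψ _
      by_cases h : ψ' ∈ b ∧ ψ ∈ b
      · rw [if_pos h, if_pos h, hT ψ ψ' h.1]
        have e : conj (ε ψ') * (a' ψ' : ℂ) * (ε ψ * (a ψ : ℂ))
              * ((u ψ' : ℂ) * contribR p (ψ : Subgroup.centralizer ({y} : Set G) → ℂ)
                (ψ' : Subgroup.centralizer ({y} : Set G) → ℂ))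
            - (a' ψ' : ℂ) * (u ψ' : ℂ) * ((a ψ : ℂ)
              * contribR p (ψ : Subgroup.centralizer ({y} : Set G) → ℂ)
                (ψ₀ : Subgroup.centralizer ({y} : Set G) → ℂ))
            = ((a' ψ' : ℂ) * (u ψ' : ℂ) * (a ψ : ℂ))
              * ((conj (ε ψ') * ε ψ - 1)
                  * contribR p (ψ : Subgroup.centralizer ({y} : Set G) → ℂ)
                    (ψ' : Subgroup.centralizer ({y} : Set G) → ℂ)
                + (contribR p (ψ : Subgroup.centralizer ({y} : Set G) → ℂ)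
                    (ψ' : Subgroup.centralizer ({y} : Set G) → ℂ)
                  - contribR p (ψ : Subgroup.centralizer ({y} : Set G) → ℂ)
                    (ψ₀ : Subgroup.centralizer ({y} : Set G) → ℂ))) := by
          ring
        rw [e]
        apply memLocalIdeal_mul_left hM
          (memLocalRing_mul hM (memLocalRing_mul hM (memLocalRing_natCast hM _)
            (memLocalRing_natCast hM _)) (memLocalRing_natCast hM _))
        apply memLocalIdeal_add hM
        · apply memLocalIdeal_mul_right hM _ (hR ψ ψ')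
          apply memLocalIdeal_sub_one_of_pow_eq_one hM (k := k)
          rw [mul_pow, ← map_pow, hε1, hε1, map_one, one_mul]
        · exact contribR_sub_memLocalIdeal hM ψ ψ' ψ₀ (hsame ψ' h.1)
      · rw [if_neg h, if_neg h, sub_zero]
        exact memLocalIdeal_zero hM
    have h5 := memLocalIdeal_sub hM hS hdiff
    rw [sub_sub_cancel] at h5
    rcases memLocalIdeal_or_of_mul hM hUring (hXring a) h5 with h6 | h6
    · exact hUnot h6
    · exact hXnot χ a hχ h0 ha h6

end Section

section Cyclo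

/-- character values lie in the cyclotomic field -/
theorem character_mem_cycloSub {K : Type*} [Group K] [Finite K] {χ : K → ℂ}
    (hχ : Cfsg.IsCharacter K χ) {n : ℕ} (hn : Nat.card K ∣ n) (g : K) : χ g ∈ cycloSub n := by
  obtain ⟨m, ρ, rfl⟩ := hχ
  obtain ⟨μ, hμ, hsum, -⟩ := exists_eigenvalues ρ g
  have h1 := hsum 1
  rw [pow_one] at h1
  rw [h1]
  apply Subfield.sum_mem
  intro i _
  rw [pow_one]
  exact mem_cycloSub_of_pow_eq_one_of_dvd ((orderOf_dvd_natCard g).trans hn) (hμ i)

theorem secContrib_mem_cycloSub {G : Type*} [Group G] [Fintype G] (p : ℕ) (y : G)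
    [Fintype (Subgroup.centralizer ({y} : Set G))]
    (b : Set (Cfsg.IrrCharacter (Subgroup.centralizer ({y} : Set G))))
    [Fintype (Cfsg.IrrCharacter (Subgroup.centralizer ({y} : Set G)))]
    [DecidablePred (· ∈ b)] (χ χ' : Cfsg.IrrCharacter G) :
    secContrib p y b (χ : G → ℂ) (χ' : G → ℂ) ∈ cycloSub (Nat.card G) := by
  have hcoeff : ∀ (ζ : Cfsg.IrrCharacter G)
      (ξ : Cfsg.IrrCharacter (Subgroup.centralizer ({y} : Set G))),
      secCoeff p y (ζ : G → ℂ) (ξ : Subgroup.centralizer ({y} : Set G) → ℂ)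
        ∈ cycloSub (Nat.card G) := by
    intro ζ ξ
    unfold secCoeff
    rw [classInner_def]
    apply Subfield.mul_mem
    · apply Subfield.inv_mem
      exact _root_.natCast_mem (cycloSub (Nat.card G)) (Nat.card (Subgroup.centralizer ({y} : Set G)))
    · apply Subfield.sum_mem
      intro c _
      apply Subfield.mul_mem
      · by_cases hc : p ∣ orderOf c
        · rw [pRegularPart_of_singular _ hc]
          exact Subfield.zero_mem _
        · rw [pRegularPart_of_regular _ hc]
          exact character_mem_cycloSub (IsIrrCharacter.isCharacter ζ.2) dvd_rfl _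
      · apply conj_mem_cycloSub
        exact character_mem_cycloSub (IsIrrCharacter.isCharacter ξ.2)
          (Subgroup.card_subgroup_dvd_card _) c
  unfold secContrib
  apply Subfield.sum_mem
  intro ξ _
  split_ifs
  · exact Subfield.mul_mem _ (hcoeff χ ξ) (conj_mem_cycloSub (hcoeff χ' ξ))
  · exact Subfield.zero_mem _

end Cyclo

end Cfsg.Agent.Lib.Helper24
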