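import Mathlib
import Cfsg.Prelude.Def_Blocks
import Cfsg.Prelude.Def_BlockRank
import Cfsg.Agent.Lib.Helper24.SectionContrib

/-!
# Shift scalars at an involution (helper24 library)

For an involution `z` with centralizer `C`, the inner products `⟨χ(z ·), ψ⟩_C` are integers:
`⟨χ(z ·), ψ⟩ = ε_ψ ⟨χ_C, ψ⟩` with `ε_ψ = ± 1`.
-/

set_option autoImplicit false

namespace Cfsg.Agent.Lib.Helper24.KFShift

open Cfsg.Agent.Lib.Helper2 Cfsg.Agent.Lib.Helper24
open scoped ComplexConjugate

variable {G : Type*} [Group G] [Fintype G]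

/-- the inner products of the shifted character at an element `y` with `y * y = 1` are integers -/
theorem exists_shift_int (y : G) (hy : y * y = 1)
    [Fintype (Subgroup.centralizer ({y} : Set G))] :
    ∃ (e : Cfsg.IrrCharacter G → Cfsg.IrrCharacter (Subgroup.centralizer ({y} : Set G)) → ℤ),
      ∀ (χ : Cfsg.IrrCharacter G) (ψ : Cfsg.IrrCharacter (Subgroup.centralizer ({y} : Set G))),
        Cfsg.classInner (fun c : Subgroup.centralizer ({y} : Set G) => (χ : G → ℂ) (y * (c : G)))
          (ψ : Subgroup.centralizer ({y} : Set G) → ℂ) = (e χ ψ : ℂ) := by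
  classical
  have hyC : y ∈ Subgroup.centralizer ({y} : Set G) := by
    rw [Subgroup.mem_centralizer_singleton_iff]
  obtain ⟨xC, hxCdef⟩ : ∃ xC : Subgroup.centralizer ({y} : Set G), xC = ⟨y, hyC⟩ := ⟨_, rfl⟩
  have hxCcoe : (xC : G) = y := by rw [hxCdef]
  have hz : xC ∈ Subgroup.center (Subgroup.centralizer ({y} : Set G)) := by
    rw [Subgroup.mem_center_iff]
    intro c
    apply Subtype.ext
    rw [Subgroup.coe_mul, Subgroup.coe_mul, hxCcoe]
    exact Subgroup.mem_centralizer_singleton_iff.mp c.2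
  have hsq : xC * xC = 1 := by
    apply Subtype.ext
    rw [Subgroup.coe_mul, hxCcoe, Subgroup.coe_one, hy]
  have hinv : xC⁻¹ = xC := inv_eq_of_mul_eq_one_left hsq
  have h1 : ∀ ψ : Cfsg.IrrCharacter (Subgroup.centralizer ({y} : Set G)),
      (ψ : Subgroup.centralizer ({y} : Set G) → ℂ) 1 ≠ 0 :=
    fun ψ => IsIrrCharacter.apply_one_ne_zero ψ.2
  obtain ⟨ε, hε⟩ : ∃ ε : Cfsg.IrrCharacter (Subgroup.centralizer ({y} : Set G)) → ℂ,
      ∀ ψ : Cfsg.IrrCharacter (Subgroup.centralizer ({y} : Set G)),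
        ε ψ = (ψ : Subgroup.centralizer ({y} : Set G) → ℂ) xC
          / (ψ : Subgroup.centralizer ({y} : Set G) → ℂ) 1 := ⟨_, fun _ => rfl⟩
  have hmul : ∀ (ψ : Cfsg.IrrCharacter (Subgroup.centralizer ({y} : Set G)))
      (c : Subgroup.centralizer ({y} : Set G)),
      (ψ : Subgroup.centralizer ({y} : Set G) → ℂ) (xC * c)
        = ε ψ * (ψ : Subgroup.centralizer ({y} : Set G) → ℂ) c := by
    intro ψ c
    have := Cfsg.Agent.Lib.Helper7.irr_mul_of_mem_center ψ hz c
    rw [hε, div_mul_eq_mul_div, ← this, mul_div_assoc, div_self (h1 ψ), mul_one]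
  have hεsq : ∀ ψ : Cfsg.IrrCharacter (Subgroup.centralizer ({y} : Set G)),
      ε ψ * ε ψ = 1 := by
    intro ψ
    have e1 := hmul ψ xC
    rw [hsq] at e1
    have e2 := hmul ψ 1
    rw [mul_one] at e2
    rw [e2] at e1
    have e3 : 1 * (ψ : Subgroup.centralizer ({y} : Set G) → ℂ) 1
        = (ε ψ * ε ψ) * (ψ : Subgroup.centralizer ({y} : Set G) → ℂ) 1 := by
      rw [one_mul, mul_assoc]; exact e1
    exact (mul_right_cancel₀ (h1 ψ) e3).symm
  have hεpm : ∀ ψ : Cfsg.IrrCharacter (Subgroup.centralizer ({y} : Set G)),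
      ε ψ = 1 ∨ ε ψ = -1 := by
    intro ψ
    exact mul_self_eq_one_iff.mp (hεsq ψ)
  have hεconj : ∀ ψ : Cfsg.IrrCharacter (Subgroup.centralizer ({y} : Set G)),
      conj (ε ψ) = ε ψ := by
    intro ψ
    rcases hεpm ψ with h | h
    · rw [h, map_one]
    · rw [h, map_neg, map_one]
  -- the shifted inner product
  have hshift : ∀ (χ : Cfsg.IrrCharacter G)
      (ψ : Cfsg.IrrCharacter (Subgroup.centralizer ({y} : Set G))),
      Cfsg.classInner (fun c : Subgroup.centralizer ({y} : Set G) => (χ : G → ℂ) (y * (c : G)))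
          (ψ : Subgroup.centralizer ({y} : Set G) → ℂ)
        = ε ψ * Cfsg.classInner (fun c : Subgroup.centralizer ({y} : Set G) => (χ : G → ℂ) c)
          (ψ : Subgroup.centralizer ({y} : Set G) → ℂ) := by
    intro χ ψ
    rw [classInner_def, classInner_def]
    have e : ∑ c : Subgroup.centralizer ({y} : Set G),
          (fun c : Subgroup.centralizer ({y} : Set G) => (χ : G → ℂ) (y * (c : G))) c
            * conj ((ψ : Subgroup.centralizer ({y} : Set G) → ℂ) c)
        = ∑ c : Subgroup.centralizer ({y} : Set G), (χ : G → ℂ) c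
            * conj ((ψ : Subgroup.centralizer ({y} : Set G) → ℂ) (xC * c)) := by
      symm
      apply Fintype.sum_equiv (Equiv.mulLeft xC)
      intro c
      show (χ : G → ℂ) (c : G) * conj ((ψ : Subgroup.centralizer ({y} : Set G) → ℂ) (xC * c))
        = (χ : G → ℂ) (y * ((xC * c : Subgroup.centralizer ({y} : Set G)) : G))
          * conj ((ψ : Subgroup.centralizer ({y} : Set G) → ℂ) (xC * c))
      congr 2
      rw [Subgroup.coe_mul, hxCcoe, ← mul_assoc, hy, one_mul]
    rw [e, Finset.sum_congr rfl (fun c _ => by rw [hmul ψ c, map_mul, hεconj])]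
    rw [Finset.mul_sum, Finset.mul_sum, Finset.mul_sum]
    apply Finset.sum_congr rfl
    intro c _
    ring
  -- multiplicities
  have hnat : ∀ (χ : Cfsg.IrrCharacter G)
      (ψ : Cfsg.IrrCharacter (Subgroup.centralizer ({y} : Set G))), ∃ a : ℕ,
      Cfsg.classInner (fun c : Subgroup.centralizer ({y} : Set G) => (χ : G → ℂ) c)
          (ψ : Subgroup.centralizer ({y} : Set G) → ℂ) = (a : ℂ) := by
    intro χ ψ
    exact classInner_isCharacter_nat
      (IsCharacter.restrict (IsIrrCharacter.isCharacter χ.2) _)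
      (IsIrrCharacter.isCharacter ψ.2)
  choose a ha using hnat
  have hsign : ∀ ψ : Cfsg.IrrCharacter (Subgroup.centralizer ({y} : Set G)),
      ∃ s : ℤ, ε ψ = (s : ℂ) := by
    intro ψ
    rcases hεpm ψ with h | h
    · exact ⟨1, by rw [h]; norm_num⟩
    · exact ⟨-1, by rw [h]; norm_num⟩
  choose s hs using hsign
  refine ⟨fun χ ψ => s ψ * (a χ ψ : ℤ), ?_⟩
  intro χ ψ
  rw [hshift, ha, hs]
  push_cast
  ring

end Cfsg.Agent.Lib.Helper24.KFShift
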