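import Mathlib
import Cfsg.Agent.Lib.Helper24.BrauerFeit
import Cfsg.Agent.Lib.Helper25.ContribMatrix

/-!
# Blocks with a single irreducible Brauer character
-/

open scoped ComplexConjugate
open Cfsg.Agent.Lib.Helper2

namespace Cfsg.Agent.Lib.Helper24

section RankOne

variable {G : Type*} [Group G] [Fintype G] {p : ℕ} [Fact p.Prime] {M : Ideal Cfsg.AlgInt}

omit [Fintype G] [Fact p.Prime] in
/-- in a block of rank one every regular part is a multiple of a fixed one -/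
theorem pRegularPart_eq_smul_of_blockRank_one [Finite G] (B : Set (Cfsg.IrrCharacter G))
    (hl : Cfsg.blockRank p B = 1) (ψ₀ χ : Cfsg.IrrCharacter G) (hψ₀ : ψ₀ ∈ B) (hχ : χ ∈ B) :
    Cfsg.pRegularPart p (χ : G → ℂ)
      = ((χ : G → ℂ) 1 / (ψ₀ : G → ℂ) 1) • Cfsg.pRegularPart p (ψ₀ : G → ℂ) := by
  have h1r : ¬ p ∣ orderOf (1 : G) := by
    rw [orderOf_one, Nat.dvd_one]
    intro h
    -- `p = 1` is excluded below through the rank
    subst h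
    unfold Cfsg.blockRank at hl
    have hz : ∀ ξ : Cfsg.IrrCharacter G, Cfsg.pRegularPart 1 (ξ : G → ℂ) = 0 := by
      intro ξ
      funext g
      exact pRegularPart_of_singular _ (one_dvd _)
    have : Submodule.span ℂ ((fun χ : Cfsg.IrrCharacter G =>
        Cfsg.pRegularPart 1 (χ : G → ℂ)) '' B) = ⊥ := by
      rw [Submodule.span_eq_bot]
      rintro _ ⟨ξ, _, rfl⟩
      exact hz ξ
    rw [this, finrank_bot] at hl
    exact zero_ne_one hl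
  have h01 : (ψ₀ : G → ℂ) 1 ≠ 0 := IsIrrCharacter.apply_one_ne_zero ψ₀.2
  unfold Cfsg.blockRank at hl
  have hv0 : (⟨Cfsg.pRegularPart p (ψ₀ : G → ℂ), Submodule.subset_span ⟨ψ₀, hψ₀, rfl⟩⟩ :
      ↥(Submodule.span ℂ ((fun χ : Cfsg.IrrCharacter G =>
        Cfsg.pRegularPart p (χ : G → ℂ)) '' B))) ≠ 0 := by
    intro h
    have h2 := congrArg (fun w : ↥(Submodule.span ℂ ((fun χ : Cfsg.IrrCharacter G =>
        Cfsg.pRegularPart p (χ : G → ℂ)) '' B)) => (w : G → ℂ) 1) h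
    simp only [Submodule.coe_zero, Pi.zero_apply] at h2
    rw [pRegularPart_of_regular _ h1r] at h2
    exact h01 h2
  obtain ⟨c, hc⟩ := (finrank_eq_one_iff_of_nonzero' _ hv0).mp hl
    ⟨Cfsg.pRegularPart p (χ : G → ℂ), Submodule.subset_span ⟨χ, hχ, rfl⟩⟩
  have hc' : c • Cfsg.pRegularPart p (ψ₀ : G → ℂ) = Cfsg.pRegularPart p (χ : G → ℂ) :=
    congrArg Subtype.val hc
  have h3 := congrFun hc' 1
  rw [Pi.smul_apply, pRegularPart_of_regular _ h1r, pRegularPart_of_regular _ h1r,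
    smul_eq_mul] at h3
  have hcval : c = (χ : G → ℂ) 1 / (ψ₀ : G → ℂ) 1 := by
    rw [← h3]
    field_simp
  rw [← hcval, hc']


omit [Fact p.Prime] in
/-- `⟨χ°, ξ⟩ = ⟨χ°, ξ°⟩` -/
theorem classInner_pRegularPart_right (χ ξ : G → ℂ) :
    Cfsg.classInner (Cfsg.pRegularPart p χ) ξ
      = Cfsg.classInner (Cfsg.pRegularPart p χ) (Cfsg.pRegularPart p ξ) := by
  rw [classInner_def, classInner_def]
  congr 1
  apply Finset.sum_congr rfl
  intro g _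
  by_cases hg : p ∣ orderOf g
  · rw [pRegularPart_of_singular _ hg, zero_mul, zero_mul]
  · rw [pRegularPart_of_regular _ hg, pRegularPart_of_regular _ hg]

/-- **blocks of rank one**: all characters are integer multiples `d_χ φ` of one class function
`φ` on the `p`-regular elements, `φ` is an integer combination of the block there, and
`∑ d_χ² = p^d` -/
theorem rank_one_main (hM : Cfsg.IsPModular p M) (B : Set (Cfsg.IrrCharacter G))
    (hB : Cfsg.IsPBlock M B) (hl : Cfsg.blockRank p B = 1)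
    (T : Finset (Cfsg.IrrCharacter G)) (hT : ∀ ξ, ξ ∈ T ↔ ξ ∈ B) :
    ∃ (φ : G → ℂ) (d : Cfsg.IrrCharacter G → ℕ) (n : Cfsg.IrrCharacter G → ℤ),
      (∀ x : G, ¬ p ∣ orderOf x → φ x = ∑ ψ ∈ T, (n ψ : ℂ) * (ψ : G → ℂ) x) ∧
      (∀ χ ∈ B, ∀ x : G, ¬ p ∣ orderOf x → (χ : G → ℂ) x = (d χ : ℂ) * φ x) ∧
      ∑ χ ∈ T, d χ ^ 2 = p ^ Cfsg.blockDefect p B := by
  classical
  haveI : Fintype (Cfsg.IrrCharacter G) := Fintype.ofFinite _
  have hp : p.Prime := Fact.out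
  obtain ⟨ψ₀, hψ₀, h0⟩ := exists_height_zero (p := p) hM B hB
  have hψ₀T : ψ₀ ∈ T := (hT ψ₀).mpr hψ₀
  have h01 : (ψ₀ : G → ℂ) 1 ≠ 0 := IsIrrCharacter.apply_one_ne_zero ψ₀.2
  -- degrees
  obtain ⟨deg, hdeg⟩ : ∃ deg : Cfsg.IrrCharacter G → ℤ,
      ∀ χ, deg χ = (Cfsg.charDegree (χ : G → ℂ) : ℤ) := ⟨_, fun _ => rfl⟩
  have hdegpos : ∀ χ, 0 < deg χ := by
    intro χ
    rw [hdeg]
    exact_mod_cast Nat.pos_of_ne_zero (charDegree_ne_zero χ)
  have hdegC : ∀ χ : Cfsg.IrrCharacter G, (χ : G → ℂ) 1 = (deg χ : ℂ) := by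
    intro χ
    rw [apply_one_eq_charDegree, hdeg]
    push_cast
    rfl
  obtain ⟨g, hg⟩ : ∃ g : ℤ, g = T.gcd deg := ⟨_, rfl⟩
  have hgdvd : ∀ χ ∈ T, g ∣ deg χ := fun χ hχ => hg ▸ Finset.gcd_dvd hχ
  have hgne : g ≠ 0 := by
    intro h
    rw [hg, Finset.gcd_eq_zero_iff] at h
    exact (hdegpos ψ₀).ne' (h ψ₀ hψ₀T)
  have hgnn : 0 ≤ g := by
    rw [hg]
    exact Int.nonneg_of_normalize_eq_self Finset.normalize_gcd
  have hgpos : 0 < g := lt_of_le_of_ne hgnn (Ne.symm hgne)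
  obtain ⟨n, hn⟩ := Finset.gcd_eq_sum_mul T deg
  rw [← hg] at hn
  -- quotients
  obtain ⟨e, he⟩ : ∃ e : Cfsg.IrrCharacter G → ℤ, ∀ χ, e χ = deg χ / g := ⟨_, fun _ => rfl⟩
  have hdeg_eq : ∀ χ ∈ T, deg χ = g * e χ := by
    intro χ hχ
    rw [he, Int.mul_ediv_cancel' (hgdvd χ hχ)]
  have hepos : ∀ χ ∈ T, 0 < e χ := by
    intro χ hχ
    have h1 := hdegpos χ
    rw [hdeg_eq χ hχ] at h1
    exact (mul_pos_iff_of_pos_left hgpos).mp h1
  have hbez : ∑ χ ∈ T, e χ * n χ = 1 := by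
    have h1 : g * ∑ χ ∈ T, e χ * n χ = g * 1 := by
      rw [mul_one, Finset.mul_sum]
      nth_rewrite 2 [hn]
      apply Finset.sum_congr rfl
      intro χ hχ
      rw [hdeg_eq χ hχ]
      ring
    exact mul_left_cancel₀ hgne h1
  obtain ⟨φ, hφ⟩ : ∃ φ : G → ℂ, φ = ((g : ℂ) / (ψ₀ : G → ℂ) 1)
      • Cfsg.pRegularPart p (ψ₀ : G → ℂ) := ⟨_, rfl⟩
  have hsm : ∀ χ ∈ B, Cfsg.pRegularPart p (χ : G → ℂ) = (e χ : ℂ) • φ := by
    intro χ hχ
    rw [pRegularPart_eq_smul_of_blockRank_one B hl ψ₀ χ hψ₀ hχ, hφ, smul_smul, hdegC χ,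
      hdeg_eq χ ((hT χ).mpr hχ)]
    congr 1
    push_cast
    ring
  have hbezC : ∑ χ ∈ T, (e χ : ℂ) * (n χ : ℂ) = 1 := by
    have := congrArg (fun z : ℤ => (z : ℂ)) hbez
    simpa using this
  refine ⟨φ, fun χ => (e χ).toNat, n, ?_, ?_, ?_⟩
  · intro x hx
    have h1 : ∀ ψ ∈ T, (n ψ : ℂ) * (ψ : G → ℂ) x = ((e ψ : ℂ) * (n ψ : ℂ)) * φ x := by
      intro ψ hψ
      have h2 := congrFun (hsm ψ ((hT ψ).mp hψ)) x
      rw [pRegularPart_of_regular _ hx, Pi.smul_apply, smul_eq_mul] at h2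
      rw [h2]
      ring
    rw [Finset.sum_congr rfl h1, ← Finset.sum_mul, hbezC, one_mul]
  · intro χ hχ x hx
    have h2 := congrFun (hsm χ hχ) x
    rw [pRegularPart_of_regular _ hx, Pi.smul_apply, smul_eq_mul] at h2
    rw [h2]
    congr 1
    have h3 : ((e χ).toNat : ℤ) = e χ := Int.toNat_of_nonneg (hepos χ ((hT χ).mpr hχ)).le
    have h4 : (((e χ).toNat : ℤ) : ℂ) = (e χ : ℂ) := by rw [h3]
    rw [← h4, Int.cast_natCast]
  · -- the inner products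
    obtain ⟨τ, hτ⟩ : ∃ τ : ℂ, τ = Cfsg.classInner φ φ := ⟨_, rfl⟩
    have hτreal : conj τ = τ := by
      rw [hτ, classInner_conj_symm]
    have hinner : ∀ χ ∈ B, ∀ ξ ∈ B,
        Cfsg.classInner (Cfsg.pRegularPart p (χ : G → ℂ)) (ξ : G → ℂ)
          = (e χ : ℂ) * (e ξ : ℂ) * τ := by
      intro χ hχ ξ hξ
      rw [classInner_pRegularPart_right, hsm χ hχ, hsm ξ hξ, classInner_smul_left,
        classInner_smul_right, ← hτ, map_intCast]
      ring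
    obtain ⟨c, hc⟩ : ∃ c : ℤ, c = ∑ χ ∈ T, e χ ^ 2 := ⟨_, rfl⟩
    have he0 : (e ψ₀ : ℂ) ≠ 0 := by
      exact_mod_cast (hepos ψ₀ hψ₀T).ne'
    have hτ0 : τ ≠ 0 := by
      intro h
      apply classInner_pRegularPart_ne_zero_of_height_zero hM B hB ψ₀ hψ₀ h0 ψ₀ hψ₀
      rw [hinner ψ₀ hψ₀ ψ₀ hψ₀, h, mul_zero]
    -- Parseval
    have hpar := sum_classInner_pRegularPart_mul_conj (p := p) ψ₀
    rw [← Finset.sum_subset (Finset.subset_univ T)] at hpar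
    swap
    · intro ξ _ hξ
      rw [classInner_pRegularPart_eq_zero hM B hB ψ₀ ξ hψ₀ (fun h => hξ ((hT ξ).mpr h)), zero_mul]
    have hcτ : (c : ℂ) * τ = 1 := by
      have h1 : ∀ ξ ∈ T, Cfsg.classInner (Cfsg.pRegularPart p (ψ₀ : G → ℂ)) (ξ : G → ℂ)
          * conj (Cfsg.classInner (Cfsg.pRegularPart p (ψ₀ : G → ℂ)) (ξ : G → ℂ))
          = ((e ψ₀ : ℂ) ^ 2 * τ ^ 2) * ((e ξ : ℂ) ^ 2) := by
        intro ξ hξ
        rw [hinner ψ₀ hψ₀ ξ ((hT ξ).mp hξ), map_mul, map_mul, map_intCast, map_intCast, hτreal]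
        ring
      rw [Finset.sum_congr rfl h1, ← Finset.mul_sum, hinner ψ₀ hψ₀ ψ₀ hψ₀] at hpar
      have h2 : ((c : ℤ) : ℂ) = ∑ ξ ∈ T, (e ξ : ℂ) ^ 2 := by
        rw [hc]
        push_cast
        rfl
      rw [← h2] at hpar
      have h3 : ((e ψ₀ : ℂ) ^ 2 * τ) * ((c : ℂ) * τ - 1) = 0 := by
        linear_combination hpar
      rcases mul_eq_zero.mp h3 with h | h
      · exfalso
        rcases mul_eq_zero.mp h with h' | h'
        · exact he0 (pow_eq_zero_iff (two_ne_zero) |>.mp h')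
        · exact hτ0 h'
      · linear_combination h
    -- (a) `c` divides `p^D`
    have hint : ∀ χ ∈ T, ∀ ξ ∈ T, ∃ z : ℤ, (p : ℂ) ^ Cfsg.blockDefect p B
        * ((e χ : ℂ) * (e ξ : ℂ) * τ) = (z : ℂ) := by
      intro χ hχ ξ hξ
      obtain ⟨z, hz⟩ := exists_int_pow_defect_mul_classInner hM B χ ξ ((hT χ).mp hχ)
      rw [hinner χ ((hT χ).mp hχ) ξ ((hT ξ).mp hξ)] at hz
      exact ⟨z, hz⟩
    choose! zz hzz using hint
    obtain ⟨Z, hZ⟩ : ∃ Z : ℤ, Z = ∑ χ ∈ T, ∑ ξ ∈ T, n χ * n ξ * zz χ ξ := ⟨_, rfl⟩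
    have hZτ : (p : ℂ) ^ Cfsg.blockDefect p B * τ = (Z : ℂ) := by
      rw [hZ]
      push_cast
      have h1 : ∀ χ ∈ T, ∑ ξ ∈ T, (n χ : ℂ) * (n ξ : ℂ) * (zz χ ξ : ℂ)
          = ((p : ℂ) ^ Cfsg.blockDefect p B * τ) * ((e χ : ℂ) * (n χ : ℂ)) := by
        intro χ hχ
        have h2 : ∀ ξ ∈ T, (n χ : ℂ) * (n ξ : ℂ) * (zz χ ξ : ℂ)
            = ((p : ℂ) ^ Cfsg.blockDefect p B * τ * ((e χ : ℂ) * (n χ : ℂ)))
              * ((e ξ : ℂ) * (n ξ : ℂ)) := by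
          intro ξ hξ
          rw [← hzz χ hχ ξ hξ]
          ring
        rw [Finset.sum_congr rfl h2, ← Finset.mul_sum, hbezC, mul_one]
      rw [Finset.sum_congr rfl h1, ← Finset.mul_sum, hbezC, mul_one]
    have hcZ : ((p : ℤ) ^ Cfsg.blockDefect p B) = Z * c := by
      have h1 : (((p : ℤ) ^ Cfsg.blockDefect p B : ℤ) : ℂ) = ((Z * c : ℤ) : ℂ) := by
        push_cast
        rw [← hZτ]
        linear_combination ((p : ℂ) ^ Cfsg.blockDefect p B) * (-hcτ)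
      exact_mod_cast h1
    have hcpos : 0 < c := by
      rw [hc]
      have h1 : 0 < e ψ₀ ^ 2 := by
        have := hepos ψ₀ hψ₀T
        positivity
      calc 0 < e ψ₀ ^ 2 := h1
        _ ≤ ∑ χ ∈ T, e χ ^ 2 :=
          Finset.single_le_sum (f := fun χ => e χ ^ 2) (fun χ _ => sq_nonneg _) hψ₀T
    have hcdvd : c.natAbs ∣ p ^ Cfsg.blockDefect p B := by
      have h1 : c ∣ ((p : ℤ) ^ Cfsg.blockDefect p B) := ⟨Z, by rw [hcZ]; ring⟩
      have h2 := Int.natAbs_dvd_natAbs.mpr h1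
      rwa [Int.natAbs_pow, Int.natAbs_natCast] at h2
    obtain ⟨e', he'D, hce'⟩ := (Nat.dvd_prime_pow hp).mp hcdvd
    have hcval : c = (p : ℤ) ^ e' := by
      have h1 : (c.natAbs : ℤ) = c := Int.natAbs_of_nonneg hcpos.le
      rw [← h1, hce']
      push_cast
      rfl
    -- (b) the exact power
    obtain ⟨a, ha⟩ : ∃ a, a = (Nat.card G).factorization p := ⟨_, rfl⟩
    obtain ⟨s, hs⟩ : ∃ s, s = sInf ((fun χ : Cfsg.IrrCharacter G =>
      (Cfsg.charDegree (χ : G → ℂ)).factorization p) '' B) := ⟨_, rfl⟩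
    have hD : Cfsg.blockDefect p B = a - s := by
      unfold Cfsg.blockDefect
      rw [← ha, ← hs]
    have hv0 : (Cfsg.charDegree (ψ₀ : G → ℂ)).factorization p = s := by
      have h1 : s ≤ (Cfsg.charDegree (ψ₀ : G → ℂ)).factorization p := by
        rw [hs]
        exact Nat.sInf_le ⟨ψ₀, hψ₀, rfl⟩
      unfold Cfsg.blockHeight at h0
      rw [← hs] at h0
      omega
    have hsa : s ≤ a := by
      rw [← hv0, ha]
      exact (Nat.factorization_le_iff_dvd (charDegree_ne_zero ψ₀) Nat.card_pos.ne').mpr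
        (Cfsg.Agent.Lib.Helper25.charDegree_dvd_card ψ₀.2) p
    obtain ⟨hm0, hmval⟩ := Cfsg.Agent.Lib.Helper25.contribN_of_height_zero hM B hB ψ₀ hψ₀ h0
      ψ₀ hψ₀
    have hmspec := Cfsg.Agent.Lib.Helper25.contribN_spec (p := p) ψ₀ ψ₀
    rw [hinner ψ₀ hψ₀ ψ₀ hψ₀, ← ha] at hmspec
    have hmc : (p : ℤ) ^ a * e ψ₀ ^ 2 = Cfsg.Agent.Lib.Helper25.contribN p ψ₀ ψ₀ * c := by
      have h1 : (((p : ℤ) ^ a * e ψ₀ ^ 2 : ℤ) : ℂ)
          = ((Cfsg.Agent.Lib.Helper25.contribN p ψ₀ ψ₀ * c : ℤ) : ℂ) := by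
        push_cast
        rw [← hmspec]
        linear_combination ((p : ℂ) ^ a * (e ψ₀ : ℂ) ^ 2) * (-hcτ)
      exact_mod_cast h1
    have he'eq : e' = Cfsg.blockDefect p B := by
      by_contra hne
      have hlt : e' < a - s := by
        rw [hD] at he'D
        rw [hD] at hne
        omega
      have hpz : (p : ℤ) ≠ 0 := by exact_mod_cast hp.ne_zero
      have h1 : (p : ℤ) ^ (a - e') * e ψ₀ ^ 2 = Cfsg.Agent.Lib.Helper25.contribN p ψ₀ ψ₀ := by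
        have h2 : (p : ℤ) ^ e' * ((p : ℤ) ^ (a - e') * e ψ₀ ^ 2)
            = (p : ℤ) ^ e' * Cfsg.Agent.Lib.Helper25.contribN p ψ₀ ψ₀ := by
          rw [← mul_assoc, ← pow_add, show e' + (a - e') = a by omega, hmc, hcval]
          ring
        exact mul_left_cancel₀ (pow_ne_zero _ hpz) h2
      have h3 : ((p : ℕ) : ℤ) ^ (a - e') ∣ Cfsg.Agent.Lib.Helper25.contribN p ψ₀ ψ₀ :=
        ⟨e ψ₀ ^ 2, h1.symm⟩
      rcases (padicValInt_dvd_iff (a - e') _).mp h3 with h | h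
      · exact hm0 h
      · rw [hmval, hv0] at h
        omega
    -- conclusion
    have hfinal : ((∑ χ ∈ T, (e χ).toNat ^ 2 : ℕ) : ℤ) = ((p ^ Cfsg.blockDefect p B : ℕ) : ℤ) := by
      push_cast
      rw [← he'eq, ← hcval, hc]
      apply Finset.sum_congr rfl
      intro χ hχ
      rw [Int.toNat_of_nonneg (hepos χ hχ).le]
    exact_mod_cast hfinal

end RankOne

end Cfsg.Agent.Lib.Helper24
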