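import Mathlib
import Cfsg.Prelude.Def_Blocks
import Cfsg.Prelude.Def_BlockRank
import Cfsg.Agent.Lib.Helper24.SectionContrib
import Cfsg.Agent.Lib.Helper24.RankOne
import Cfsg.Agent.Lib.Helper24.KFShift
import Cfsg.Agent.Lib.Helper24.KFAvg
import Cfsg.Agent.Lib.Helper7.ContribTwo
import Cfsg.Agent.Lib.Helper7.DefectOrder
import Cfsg.Agent.Lib.Helper7.VanishDiv
import Cfsg.Agent.Lib.Helper7.BrauerCount2
import Cfsg.Agent.S4717
import Cfsg.Agent.S4710

/-!
# The column of a subsection of a `2`-block of defect two with four characters (helper24 library)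

For an involution `z` of `K` and a block `b` of `C_K(z)` inducing the block `β` of defect two
with four characters: `b` has a single Brauer character `φ`, every `χ ∈ β` has an integer
generalized decomposition number `D χ = ± 1` at `(z, b)`, the column `D` is orthogonal to the
`2`-regular columns, and `4 φ(s)` is divisible by the `2`-part of `|C(s)|`.
-/

set_option autoImplicit false

namespace Cfsg.Agent.Lib.Helper24.KFCol

open Cfsg.Agent.Lib.Helper2 Cfsg.Agent.Lib.Helper24
open scoped ComplexConjugate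

variable {K : Type*} [Group K] [Fintype K] {M : Ideal Cfsg.AlgInt}

/-- **the column of a subsection** -/
theorem block_column (hM : Cfsg.IsPModular 2 M) (β : Set (Cfsg.IrrCharacter K))
    (hd : Cfsg.blockDefect 2 β = 2) (z : K) (hz : orderOf z = 2)
    [Fintype (Subgroup.centralizer ({z} : Set K))]
    [Fintype (Cfsg.IrrCharacter K)]
    [Fintype (Cfsg.IrrCharacter (Subgroup.centralizer ({z} : Set K)))]
    [DecidablePred (· ∈ β)]
    (hk : (Finset.univ.filter (· ∈ β)).card = 4)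
    (b : Set (Cfsg.IrrCharacter (Subgroup.centralizer ({z} : Set K))))
    [DecidablePred (· ∈ b)]
    (hind : Cfsg.IsInducedBlock M (Subgroup.centralizer ({z} : Set K)) b β) :
    ∃ (φ : Subgroup.centralizer ({z} : Set K) → ℂ)
      (d : Cfsg.IrrCharacter (Subgroup.centralizer ({z} : Set K)) → ℕ)
      (D : Cfsg.IrrCharacter K → ℤ),
      (∀ ψ ∈ b, ∀ s : Subgroup.centralizer ({z} : Set K), ¬ 2 ∣ orderOf s →
        (ψ : Subgroup.centralizer ({z} : Set K) → ℂ) s = (d ψ : ℂ) * φ s) ∧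
      (∀ s : Subgroup.centralizer ({z} : Set K), ¬ 2 ∣ orderOf s → IsIntegral ℤ (φ s)) ∧
      (∀ s : Subgroup.centralizer ({z} : Set K), ¬ 2 ∣ orderOf s →
        IsIntegral ℤ (4 * φ s / ((2 : ℂ) ^ (Nat.card (Subgroup.centralizer
          ({s} : Set (Subgroup.centralizer ({z} : Set K))))).factorization 2))) ∧
      (∀ χ ∈ β, D χ = 1 ∨ D χ = -1) ∧
      (∀ χ : Cfsg.IrrCharacter K,
        ∑ ψ : Cfsg.IrrCharacter (Subgroup.centralizer ({z} : Set K)), (if ψ ∈ b then
          Cfsg.classInner (fun c : Subgroup.centralizer ({z} : Set K) => (χ : K → ℂ) (z * (c : K)))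
            (ψ : Subgroup.centralizer ({z} : Set K) → ℂ) * (d ψ : ℂ) else 0) = (D χ : ℂ)) ∧
      (∀ t : K, ¬ 2 ∣ orderOf t →
        ∑ χ : Cfsg.IrrCharacter K, (if χ ∈ β then (D χ : ℂ) * (χ : K → ℂ) t else 0) = 0) := by
  classical
  haveI : Fact (Nat.Prime 2) := ⟨Nat.prime_two⟩
  have hβ : Cfsg.IsPBlock M β := hind.2.1
  have hb : Cfsg.IsPBlock M b := hind.1
  have hz2 : ∃ k : ℕ, orderOf z = 2 ^ k := ⟨1, by rw [hz, pow_one]⟩
  have hzz : z * z = 1 := by
    rw [← pow_two, ← hz]; exact pow_orderOf_eq_one z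
  have hz1 : z ≠ 1 := by
    intro h
    rw [h, orderOf_one] at hz
    norm_num at hz
  have hzC : z ∈ Subgroup.centralizer ({z} : Set K) :=
    Subgroup.mem_centralizer_singleton_iff.mpr rfl
  obtain ⟨zC, hzCdef⟩ : ∃ zC : Subgroup.centralizer ({z} : Set K), zC = ⟨z, hzC⟩ := ⟨_, rfl⟩
  have hzCcoe : (zC : K) = z := by rw [hzCdef]
  have hzCcen : zC ∈ Subgroup.center (Subgroup.centralizer ({z} : Set K)) := by
    rw [Subgroup.mem_center_iff]
    intro c
    apply Subtype.ext
    rw [Subgroup.coe_mul, Subgroup.coe_mul, hzCcoe]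
    exact Subgroup.mem_centralizer_singleton_iff.mp c.2
  have hzC1 : zC ≠ 1 := by
    intro h
    apply hz1
    rw [← hzCcoe, h, Subgroup.coe_one]
  have hzC2 : ∃ k : ℕ, orderOf zC = 2 ^ k :=
    ⟨1, by rw [← Subgroup.orderOf_coe, hzCcoe, hz, pow_one]⟩
  have hdb : Cfsg.blockDefect 2 b ≤ 2 := by
    have := Cfsg.Agent.S4717.blockDefect_le_of_isInducedBlock hM _ b β hind
    rw [hd] at this
    exact this
  have hl : Cfsg.blockRank 2 b = 1 :=
    Cfsg.Agent.Lib.Helper7.blockRank_eq_one_of_central hM zC hzCcen hzC1 hzC2 b hb hdb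
  obtain ⟨φ, d, n, hφ, hψ, hsum⟩ := rank_one_main hM b hb hl (Finset.univ.filter (· ∈ b))
    (by intro ξ; simp)
  obtain ⟨db, hdbdef⟩ : ∃ db : ℕ, db = Cfsg.blockDefect 2 b := ⟨_, rfl⟩
  rw [← hdbdef] at hsum hdb
  -- the regular parts
  obtain ⟨r, hr⟩ : ∃ r : ℂ,
      r = Cfsg.classInner (Cfsg.pRegularPart 2 φ) (Cfsg.pRegularPart 2 φ) := ⟨_, rfl⟩
  have hreg : ∀ ψ ∈ b, Cfsg.pRegularPart 2 (ψ : Subgroup.centralizer ({z} : Set K) → ℂ)
      = (d ψ : ℂ) • Cfsg.pRegularPart 2 φ := by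
    intro ψ hψb
    funext s
    by_cases hs : 2 ∣ orderOf s
    · rw [Pi.smul_apply, pRegularPart_of_singular _ hs, pRegularPart_of_singular _ hs, smul_zero]
    · rw [Pi.smul_apply, pRegularPart_of_regular _ hs, pRegularPart_of_regular _ hs,
        hψ ψ hψb s hs, smul_eq_mul]
  have hN : ∀ ψ ∈ b, ∀ ξ ∈ b,
      Cfsg.classInner (Cfsg.pRegularPart 2 (ψ : Subgroup.centralizer ({z} : Set K) → ℂ))
        (ξ : Subgroup.centralizer ({z} : Set K) → ℂ) = (d ψ : ℂ) * (d ξ : ℂ) * r := by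
    intro ψ hψb ξ hξb
    rw [classInner_pRegularPart_right, hreg ψ hψb, hreg ξ hξb, classInner_smul_left,
      classInner_smul_right, Complex.conj_natCast, ← hr]
    ring
  have hsumC : ∑ ξ ∈ Finset.univ.filter (· ∈ b), ((d ξ : ℂ)) ^ 2 = (2 : ℂ) ^ db := by
    have := congrArg (fun m : ℕ => (m : ℂ)) hsum
    push_cast at this
    exact this
  have hrsum : r * (2 : ℂ) ^ db = 1 := by
    have h1 := sum_regInner_self hM b hb
    rw [hl, Nat.cast_one, ← Finset.sum_filter] at h1
    rw [← hsumC, Finset.mul_sum, ← h1]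
    apply Finset.sum_congr rfl
    intro ξ hξ
    have hξb : ξ ∈ b := by simpa using hξ
    rw [hN ξ hξb ξ hξb]
    ring
  have h2db : ((2 : ℂ) ^ db) ≠ 0 := pow_ne_zero _ two_ne_zero
  have hrval : r = ((2 : ℂ) ^ db)⁻¹ := eq_inv_of_mul_eq_one_left hrsum
  have hr0 : r ≠ 0 := by
    rw [hrval]; exact inv_ne_zero h2db
  have hrconj : conj r = r := by
    rw [hrval, map_inv₀, map_pow]
    congr 2
    exact Complex.conj_ofNat 2
  -- the integers
  obtain ⟨e, he⟩ := KFShift.exists_shift_int z hzz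
  obtain ⟨D, hD⟩ : ∃ D : Cfsg.IrrCharacter K → ℤ, ∀ χ, D χ
      = ∑ ψ : Cfsg.IrrCharacter (Subgroup.centralizer ({z} : Set K)),
        if ψ ∈ b then e χ ψ * (d ψ : ℤ) else 0 := ⟨_, fun _ => rfl⟩
  have hDc : ∀ χ : Cfsg.IrrCharacter K,
      ∑ ψ : Cfsg.IrrCharacter (Subgroup.centralizer ({z} : Set K)), (if ψ ∈ b then
        Cfsg.classInner (fun c : Subgroup.centralizer ({z} : Set K) => (χ : K → ℂ) (z * (c : K)))
          (ψ : Subgroup.centralizer ({z} : Set K) → ℂ) * (d ψ : ℂ) else 0) = (D χ : ℂ) := by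
    intro χ
    rw [hD]
    push_cast
    apply Finset.sum_congr rfl
    intro ψ _
    by_cases hψb : ψ ∈ b
    · rw [if_pos hψb, if_pos hψb, he]
    · rw [if_neg hψb, if_neg hψb]
  -- the coefficients
  have hsec : ∀ χ : Cfsg.IrrCharacter K, ∀ ξ ∈ b,
      secCoeff 2 z (χ : K → ℂ) (ξ : Subgroup.centralizer ({z} : Set K) → ℂ)
        = (D χ : ℂ) * (d ξ : ℂ) * r := by
    intro χ ξ hξb
    unfold secCoeff
    rw [classInner_pRegularPart_expand _ (Cfsg.Agent.Lib.Helper7.isClassFunction_shift χ z)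
      (ξ : Subgroup.centralizer ({z} : Set K) → ℂ)]
    rw [← hDc χ, Finset.sum_mul, Finset.sum_mul]
    apply Finset.sum_congr rfl
    intro ψ _
    by_cases hψb : ψ ∈ b
    · rw [if_pos hψb, hN ψ hψb ξ hξb]
      ring
    · rw [if_neg hψb, zero_mul, zero_mul]
      have : Cfsg.classInner
          (Cfsg.pRegularPart 2 (ψ : Subgroup.centralizer ({z} : Set K) → ℂ))
          (ξ : Subgroup.centralizer ({z} : Set K) → ℂ) = 0 := by
        rw [classInner_pRegularPart_symm]
        exact classInner_pRegularPart_eq_zero hM b hb ξ ψ hξb hψb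
      rw [this, mul_zero]
  -- heights
  have hht : ∀ χ ∈ β, Cfsg.blockHeight 2 β (χ : K → ℂ) = 0 := by
    intro χ hχ
    have := ((Cfsg.Agent.S4710.result 2 M hM β hβ 2 hd).2 χ hχ).2 le_rfl
    omega
  have hDne : ∀ χ ∈ β, D χ ≠ 0 := by
    intro χ hχ h0
    have hu := (secContrib_unit hM z hz2 β b hind χ χ hχ hχ (hht χ hχ) (hht χ hχ)).2
    apply hu
    have : secContrib 2 z b (χ : K → ℂ) (χ : K → ℂ) = 0 := by
      unfold secContrib
      apply Finset.sum_eq_zero
      intro ξ _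
      by_cases hξb : ξ ∈ b
      · rw [if_pos hξb, hsec χ ξ hξb, h0]
        simp
      · rw [if_neg hξb]
    rw [this, mul_zero]
    exact memLocalIdeal_zero hM
  -- the norm of the column
  obtain ⟨ξ₀, hξ₀⟩ := isPBlock_nonempty hM hb
  have h1reg : ¬ 2 ∣ orderOf (1 : Subgroup.centralizer ({z} : Set K)) := by
    rw [orderOf_one]; norm_num
  have hφ1 : φ 1 ≠ 0 := by
    intro h
    have := hψ ξ₀ hξ₀ 1 h1reg
    rw [h, mul_zero] at this
    exact IsIrrCharacter.apply_one_ne_zero ξ₀.2 this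
  have hdξ₀ : (d ξ₀ : ℂ) ≠ 0 := by
    intro h
    have := hψ ξ₀ hξ₀ 1 h1reg
    rw [h, zero_mul] at this
    exact IsIrrCharacter.apply_one_ne_zero ξ₀.2 this
  have hnormC : (∑ χ ∈ Finset.univ.filter (· ∈ β), ((D χ : ℂ)) ^ 2) * r = 1 := by
    have h1 := sum_conj_secCoeff_mul hM z hz2 β b hind ξ₀ ξ₀ hξ₀
    rw [hN ξ₀ hξ₀ ξ₀ hξ₀, ← Finset.sum_filter] at h1
    have h2 : ∑ χ ∈ Finset.univ.filter (· ∈ β),
        conj (secCoeff 2 z (χ : K → ℂ) (ξ₀ : Subgroup.centralizer ({z} : Set K) → ℂ))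
          * secCoeff 2 z (χ : K → ℂ) (ξ₀ : Subgroup.centralizer ({z} : Set K) → ℂ)
        = ((d ξ₀ : ℂ) * (d ξ₀ : ℂ) * r)
          * ((∑ χ ∈ Finset.univ.filter (· ∈ β), ((D χ : ℂ)) ^ 2) * r) := by
      rw [Finset.sum_mul, Finset.mul_sum]
      apply Finset.sum_congr rfl
      intro χ _
      rw [hsec χ ξ₀ hξ₀, map_mul, map_mul, hrconj, Complex.conj_natCast, map_intCast]
      ring
    rw [h2] at h1
    have h3 : (d ξ₀ : ℂ) * (d ξ₀ : ℂ) * r ≠ 0 := mul_ne_zero (mul_ne_zero hdξ₀ hdξ₀) hr0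
    have h4 : ((d ξ₀ : ℂ) * (d ξ₀ : ℂ) * r)
        * ((∑ χ ∈ Finset.univ.filter (· ∈ β), ((D χ : ℂ)) ^ 2) * r)
        = ((d ξ₀ : ℂ) * (d ξ₀ : ℂ) * r) * 1 := by rw [mul_one]; exact h1
    exact mul_left_cancel₀ h3 h4
  have hnormZ : ∑ χ ∈ Finset.univ.filter (· ∈ β), (D χ) ^ 2 = (2 : ℤ) ^ db := by
    have h1 : (∑ χ ∈ Finset.univ.filter (· ∈ β), ((D χ : ℂ)) ^ 2) = (2 : ℂ) ^ db := by
      have h2 : (∑ χ ∈ Finset.univ.filter (· ∈ β), ((D χ : ℂ)) ^ 2) * r = (2 : ℂ) ^ db * r := by
        rw [hnormC, mul_comm, hrsum]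
      exact mul_right_cancel₀ hr0 h2
    have h3 : ((∑ χ ∈ Finset.univ.filter (· ∈ β), (D χ) ^ 2 : ℤ) : ℂ) = (((2 : ℤ) ^ db : ℤ) : ℂ) := by
      push_cast
      exact h1
    exact Int.cast_injective h3
  -- the entries are signs
  have hsq1 : ∀ χ ∈ Finset.univ.filter (· ∈ β), 1 ≤ (D χ) ^ 2 := by
    intro χ hχ
    have hχβ : χ ∈ β := by simpa using hχ
    have := hDne χ hχβ
    have h2 : 0 < (D χ) ^ 2 := by positivity
    omega
  have hge : (4 : ℤ) ≤ ∑ χ ∈ Finset.univ.filter (· ∈ β), (D χ) ^ 2 := by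
    calc (4 : ℤ) = ∑ χ ∈ Finset.univ.filter (· ∈ β), (1 : ℤ) := by
          rw [Finset.sum_const, hk]; norm_num
      _ ≤ _ := Finset.sum_le_sum hsq1
  have hdb2 : db = 2 := by
    rw [hnormZ] at hge
    have h1 : db ≤ 2 := hdb
    interval_cases db
    · norm_num at hge
    · norm_num at hge
    · rfl
  rw [hdb2] at hnormZ hsumC hrsum
  have hDsq : ∀ χ ∈ Finset.univ.filter (· ∈ β), (D χ) ^ 2 = 1 := by
    have h0 : ∑ χ ∈ Finset.univ.filter (· ∈ β), ((D χ) ^ 2 - 1) = 0 := by
      rw [Finset.sum_sub_distrib, hnormZ, Finset.sum_const, hk]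
      norm_num
    have h1 := (Finset.sum_eq_zero_iff_of_nonneg
      (fun χ hχ => sub_nonneg.mpr (hsq1 χ hχ))).mp h0
    intro χ hχ
    have := h1 χ hχ
    omega
  have hDpm : ∀ χ ∈ β, D χ = 1 ∨ D χ = -1 := by
    intro χ hχ
    have h1 := hDsq χ (by simpa using hχ)
    have h2 : (D χ - 1) * (D χ + 1) = 0 := by ring_nf; rw [h1]; ring
    rcases mul_eq_zero.mp h2 with h | h
    · left; omega
    · right; omega
  refine ⟨φ, d, D, hψ, ?_, ?_, hDpm, hDc, ?_⟩
  · -- integrality of φ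
    intro s hs
    rw [hφ s hs]
    apply IsIntegral.sum
    intro ψ _
    apply IsIntegral.mul
    · have := isIntegral_algebraMap (R := ℤ) (A := ℂ) (x := n ψ)
      simpa using this
    · obtain ⟨m, ρ, hρ⟩ := IsIrrCharacter.isCharacter ψ.2
      rw [← hρ]
      exact char_isIntegral ρ s
  · -- divisibility of 4 φ
    intro s hs
    obtain ⟨Φ, hΦdef⟩ : ∃ Φ : Subgroup.centralizer ({z} : Set K) → ℂ,
        Φ = ∑ ψ ∈ Finset.univ.filter (· ∈ b),
          (d ψ) • (ψ : Subgroup.centralizer ({z} : Set K) → ℂ) := ⟨_, rfl⟩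
    have hΦchar : Cfsg.IsCharacter (Subgroup.centralizer ({z} : Set K)) Φ := by
      rw [hΦdef]
      apply isCharacter_sum
      intro ψ _
      exact isCharacter_nsmul (d ψ) (IsIrrCharacter.isCharacter ψ.2)
    have hΦapp : ∀ g : Subgroup.centralizer ({z} : Set K),
        Φ g = ∑ ψ ∈ Finset.univ.filter (· ∈ b),
          (d ψ : ℂ) * (ψ : Subgroup.centralizer ({z} : Set K) → ℂ) g := by
      intro g
      rw [hΦdef, Finset.sum_apply]
      apply Finset.sum_congr rfl
      intro ψ _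
      rw [Pi.smul_apply, nsmul_eq_mul]
    have hΦreg : ∀ g : Subgroup.centralizer ({z} : Set K), ¬ 2 ∣ orderOf g →
        Φ g = 4 * φ g := by
      intro g hg
      rw [hΦapp]
      have h4 : (4 : ℂ) = (2 : ℂ) ^ 2 := by norm_num
      rw [h4, ← hsumC, Finset.sum_mul]
      apply Finset.sum_congr rfl
      intro ψ hψT
      have hψb : ψ ∈ b := by simpa using hψT
      rw [hψ ψ hψb g hg]
      ring
    have hΦsing : ∀ g : Subgroup.centralizer ({z} : Set K), 2 ∣ orderOf g → Φ g = 0 := by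
      intro g hg
      have h1 : ∑ ψ : Cfsg.IrrCharacter (Subgroup.centralizer ({z} : Set K)),
          (if ψ ∈ b then (ψ : Subgroup.centralizer ({z} : Set K) → ℂ) g
            * conj ((ψ : Subgroup.centralizer ({z} : Set K) → ℂ) 1) else 0) = 0 := by
        convert (Cfsg.Agent.Lib.Helper7.kernel_eq_zero_of_regular_singular hM b hb 1 g
          h1reg hg).2
      rw [← Finset.sum_filter] at h1
      have h2 : ∑ ψ ∈ Finset.univ.filter (· ∈ b),
          (ψ : Subgroup.centralizer ({z} : Set K) → ℂ) g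
            * conj ((ψ : Subgroup.centralizer ({z} : Set K) → ℂ) 1)
          = conj (φ 1) * Φ g := by
        rw [hΦapp, Finset.mul_sum]
        apply Finset.sum_congr rfl
        intro ψ hψT
        have hψb : ψ ∈ b := by simpa using hψT
        rw [hψ ψ hψb 1 h1reg, map_mul, Complex.conj_natCast]
        ring
      rw [h2] at h1
      rcases mul_eq_zero.mp h1 with h | h
      · exact absurd ((map_eq_zero _).mp h) hφ1
      · exact h
    -- the Sylow subgroup of the centralizer of `s`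
    obtain ⟨S₀⟩ : Nonempty (Sylow 2 (Subgroup.centralizer
      ({s} : Set (Subgroup.centralizer ({z} : Set K))))) := inferInstance
    obtain ⟨S, hSdef⟩ : ∃ S : Subgroup (Subgroup.centralizer ({z} : Set K)),
        S = (S₀ : Subgroup (Subgroup.centralizer
          ({s} : Set (Subgroup.centralizer ({z} : Set K))))).map
          (Subgroup.centralizer ({s} : Set (Subgroup.centralizer ({z} : Set K)))).subtype :=
      ⟨_, rfl⟩
    have hScard : Nat.card S = 2 ^ (Nat.card (Subgroup.centralizer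
        ({s} : Set (Subgroup.centralizer ({z} : Set K))))).factorization 2 := by
      rw [hSdef, ← S₀.card_eq_multiplicity]
      exact (Nat.card_congr (Subgroup.equivMapOfInjective _ _
        (Subgroup.subtype_injective _)).toEquiv).symm
    have hScomm : ∀ u ∈ S, u * s = s * u := by
      intro u hu
      rw [hSdef] at hu
      obtain ⟨v, _, rfl⟩ := hu
      exact Subgroup.mem_centralizer_singleton_iff.mp v.2
    have hS2 : ∀ u ∈ S, ∃ k : ℕ, orderOf u = 2 ^ k := by
      intro u hu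
      rw [hSdef] at hu
      obtain ⟨v, hv, rfl⟩ := hu
      obtain ⟨k, hk⟩ := (IsPGroup.iff_orderOf.mp S₀.isPGroup') ⟨v, hv⟩
      refine ⟨k, ?_⟩
      have h1 : orderOf (⟨v, hv⟩ : (S₀ : Subgroup (Subgroup.centralizer
          ({s} : Set (Subgroup.centralizer ({z} : Set K)))))) = orderOf v :=
        Subgroup.orderOf_mk v hv
      have h2 : orderOf ((v : Subgroup.centralizer
          ({s} : Set (Subgroup.centralizer ({z} : Set K)))) :
            Subgroup.centralizer ({z} : Set K)) = orderOf v := Subgroup.orderOf_coe v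
      rw [Subgroup.coe_subtype, h2, ← h1, hk]
    have hvan : ∀ u ∈ S, u ≠ 1 → Φ (u * s) = 0 := by
      intro u hu hu1
      apply hΦsing
      exact Cfsg.Agent.Lib.Helper7.dvd_orderOf_mul_of_pgroup (hS2 u hu) hu1 hs (hScomm u hu)
    have hint := Cfsg.Agent.Lib.Helper7.isIntegral_div_card_of_vanish Φ hΦchar s S hScomm hvan
    rw [hΦreg s hs, hScard] at hint
    push_cast at hint
    exact hint
  · -- orthogonality to the regular columns
    intro t ht
    have htinv : ¬ 2 ∣ orderOf t⁻¹ := by rw [orderOf_inv]; exact ht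
    have h2 : ∑ χ : Cfsg.IrrCharacter K, (if χ ∈ β then
        secCoeff 2 z (χ : K → ℂ) (ξ₀ : Subgroup.centralizer ({z} : Set K) → ℂ)
          * conj ((χ : K → ℂ) t⁻¹) else 0) = 0 := by
      have h3 : ∀ χ : Cfsg.IrrCharacter K, (if χ ∈ β then
          secCoeff 2 z (χ : K → ℂ) (ξ₀ : Subgroup.centralizer ({z} : Set K) → ℂ)
            * conj ((χ : K → ℂ) t⁻¹) else 0)
          = (Nat.card (Subgroup.centralizer ({z} : Set K)) : ℂ)⁻¹
            * ∑ c : Subgroup.centralizer ({z} : Set K),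
              conj ((ξ₀ : Subgroup.centralizer ({z} : Set K) → ℂ) c)
              * (if χ ∈ β then Cfsg.pRegularPart 2
                  (fun c : Subgroup.centralizer ({z} : Set K) => (χ : K → ℂ) (z * (c : K))) c
                  * conj ((χ : K → ℂ) t⁻¹) else 0) := by
        intro χ
        by_cases hχ : χ ∈ β
        · simp only [if_pos hχ]
          unfold secCoeff
          rw [classInner_def, mul_assoc, Finset.sum_mul]
          congr 1
          apply Finset.sum_congr rfl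
          intro c _
          ring
        · simp only [if_neg hχ, mul_zero, Finset.sum_const_zero]
      rw [Finset.sum_congr rfl (fun χ _ => h3 χ), ← Finset.mul_sum, Finset.sum_comm]
      have h4 : ∀ c : Subgroup.centralizer ({z} : Set K),
          ∑ χ : Cfsg.IrrCharacter K,
            conj ((ξ₀ : Subgroup.centralizer ({z} : Set K) → ℂ) c)
              * (if χ ∈ β then Cfsg.pRegularPart 2
                  (fun c : Subgroup.centralizer ({z} : Set K) => (χ : K → ℂ) (z * (c : K))) c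
                  * conj ((χ : K → ℂ) t⁻¹) else 0) = 0 := by
        intro c
        rw [← Finset.mul_sum]
        by_cases hc : 2 ∣ orderOf c
        · have : ∀ χ : Cfsg.IrrCharacter K, (if χ ∈ β then Cfsg.pRegularPart 2
              (fun c : Subgroup.centralizer ({z} : Set K) => (χ : K → ℂ) (z * (c : K))) c
              * conj ((χ : K → ℂ) t⁻¹) else 0) = 0 := by
            intro χ
            rw [pRegularPart_of_singular _ hc, zero_mul, ite_self]
          rw [Finset.sum_congr rfl (fun χ _ => this χ), Finset.sum_const_zero, mul_zero]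
        · have hcK : ¬ 2 ∣ orderOf (c : K) := by rw [Subgroup.orderOf_coe]; exact hc
          have hzc : z * (c : K) = (c : K) * z :=
            (Subgroup.mem_centralizer_singleton_iff.mp c.2).symm
          have hsing : 2 ∣ orderOf (z * (c : K)) :=
            Cfsg.Agent.Lib.Helper7.dvd_orderOf_mul_of_pgroup hz2 hz1 hcK hzc
          have h5 : ∑ χ : Cfsg.IrrCharacter K, (if χ ∈ β then
              (χ : K → ℂ) (z * (c : K)) * conj ((χ : K → ℂ) t⁻¹) else 0) = 0 := by
            convert (Cfsg.Agent.Lib.Helper7.kernel_eq_zero_of_regular_singular hM β hβ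
              t⁻¹ (z * (c : K)) htinv hsing).2
          have : ∀ χ : Cfsg.IrrCharacter K, (if χ ∈ β then Cfsg.pRegularPart 2
              (fun c : Subgroup.centralizer ({z} : Set K) => (χ : K → ℂ) (z * (c : K))) c
              * conj ((χ : K → ℂ) t⁻¹) else 0)
              = (if χ ∈ β then (χ : K → ℂ) (z * (c : K)) * conj ((χ : K → ℂ) t⁻¹) else 0) := by
            intro χ
            rw [pRegularPart_of_regular _ hc]
          rw [Finset.sum_congr rfl (fun χ _ => this χ), h5, mul_zero]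
      rw [Finset.sum_congr rfl (fun c _ => h4 c), Finset.sum_const_zero, mul_zero]
    have h6 : ∑ χ : Cfsg.IrrCharacter K, (if χ ∈ β then (D χ : ℂ) * (χ : K → ℂ) t else 0)
        = ((d ξ₀ : ℂ) * r)⁻¹ * ∑ χ : Cfsg.IrrCharacter K, (if χ ∈ β then
          secCoeff 2 z (χ : K → ℂ) (ξ₀ : Subgroup.centralizer ({z} : Set K) → ℂ)
            * conj ((χ : K → ℂ) t⁻¹) else 0) := by
      rw [Finset.mul_sum]
      apply Finset.sum_congr rfl
      intro χ _
      by_cases hχ : χ ∈ β
      · rw [if_pos hχ, if_pos hχ, hsec χ ξ₀ hξ₀, IrrCharacter.apply_inv, Complex.conj_conj]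
        have h7 : (d ξ₀ : ℂ) * r ≠ 0 := mul_ne_zero hdξ₀ hr0
        field_simp
      · rw [if_neg hχ, if_neg hχ, mul_zero]
    rw [h6, h2, mul_zero]

end Cfsg.Agent.Lib.Helper24.KFCol
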