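import Mathlib
import Cfsg.Prelude.Def_Blocks
import Cfsg.Prelude.Def_BlockLocal
import Cfsg.Prelude.Def_BlockRank
import Cfsg.Agent.Lib.Helper24.Loc
import Cfsg.Agent.Lib.Helper24.KFAvg

/-!
# Assembling a perfect isometry from sign columns (helper24 library)

`assemble`: if the values at `2`-singular elements of two sets `B`, `c` of irreducible characters
(of two groups) expand along sign columns orthogonal to the `2`-regular values, then a signed
bijection `c → B` compatible with the columns is a perfect isometry.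
-/

set_option autoImplicit false

namespace Cfsg.Agent.Lib.Helper24.KFIso

open Cfsg.Agent.Lib.Helper2 Cfsg.Agent.Lib.Helper24
open scoped ComplexConjugate

/-- a sign column of `B`: values `± 1` on `B`, orthogonal to the `2`-regular values of `B` -/
def IsSignColumn {G : Type*} [Group G] (B : Set (Cfsg.IrrCharacter G))
    (D : Cfsg.IrrCharacter G → ℤ) : Prop :=
  (∀ χ ∈ B, D χ = 1 ∨ D χ = -1) ∧
    ∀ t : G, ¬ 2 ∣ orderOf t → ∑ᶠ χ ∈ B, (D χ : ℂ) * (χ : G → ℂ) t = 0

/-- the values of `B` at the `2`-singular elements expand along sign columns -/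
def HasColumns {G : Type*} [Group G] (B : Set (Cfsg.IrrCharacter G)) : Prop :=
  ∀ x : G, 2 ∣ orderOf x →
    ∃ (n : ℕ) (D : Fin n → Cfsg.IrrCharacter G → ℤ) (φ : Fin n → ℂ),
      (∀ j, IsSignColumn B (D j)) ∧
      (∀ χ ∈ B, (χ : G → ℂ) x = ∑ j, (D j χ : ℂ) * φ j) ∧
      (∀ j, IsIntegral ℤ (φ j)) ∧
      (∀ j, IsIntegral ℤ (4 * φ j / ((2 : ℂ) ^
        (Nat.card (Subgroup.centralizer ({x} : Set G))).factorization 2)))

/-- from divisibility by the `2`-part to the local ring -/
theorem memLocalRing_div_card {M : Ideal Cfsg.AlgInt} (hM : Cfsg.IsPModular 2 M) (X : ℂ) (n : ℕ)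
    (hn : n ≠ 0) (hX : IsIntegral ℤ (X / (2 : ℂ) ^ n.factorization 2)) :
    Cfsg.MemLocalRing M (X / (n : ℂ)) := by
  have h1 := Nat.ordProj_mul_ordCompl_eq_self n 2
  have h2 : ¬ 2 ∣ n / 2 ^ n.factorization 2 := Nat.not_dvd_ordCompl Nat.prime_two hn
  have h3 : (n : ℂ) = (2 : ℂ) ^ n.factorization 2 * ((n / 2 ^ n.factorization 2 : ℕ) : ℂ) := by
    conv_lhs => rw [← h1]
    push_cast
    ring
  have h4 : X / (n : ℂ)
      = (X / (2 : ℂ) ^ n.factorization 2) * ((n / 2 ^ n.factorization 2 : ℕ) : ℂ)⁻¹ := by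
    rw [h3]
    have h5 : ((2 : ℂ) ^ n.factorization 2) ≠ 0 := pow_ne_zero _ two_ne_zero
    have h6 : ((n / 2 ^ n.factorization 2 : ℕ) : ℂ) ≠ 0 := by
      intro h
      have : (n / 2 ^ n.factorization 2 : ℕ) = 0 := by exact_mod_cast h
      rw [this] at h2
      exact h2 (dvd_zero 2)
    field_simp
  rw [h4]
  exact memLocalRing_mul hM (memLocalRing_of_isIntegral hM hX) (memLocalRing_natCast_inv hM h2)

theorem irr_isIntegral {G : Type*} [Group G] [Finite G] (χ : Cfsg.IrrCharacter G) (g : G) :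
    IsIntegral ℤ ((χ : G → ℂ) g) := by
  obtain ⟨m, ρ, hρ⟩ := IsIrrCharacter.isCharacter χ.2
  rw [← hρ]
  exact char_isIntegral ρ g

theorem isIntegral_intCast (m : ℤ) : IsIntegral ℤ (m : ℂ) := by
  have := isIntegral_algebraMap (R := ℤ) (A := ℂ) (x := m)
  simpa using this

section Assemble

variable {G : Type*} {H : Type*} [Group G] [Group H] [Fintype G] [Fintype H]
  {M : Ideal Cfsg.AlgInt}

/-- **assembling the perfect isometry** -/
theorem assemble (hM : Cfsg.IsPModular 2 M) (B : Set (Cfsg.IrrCharacter G))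
    (c : Set (Cfsg.IrrCharacter H)) (hcolB : HasColumns B) (hcolc : HasColumns c)
    (I : Cfsg.IrrCharacter H → Cfsg.IrrCharacter G) (ε : Cfsg.IrrCharacter H → ℤ)
    (hI : Set.BijOn I c B) (hε : ∀ η ∈ c, ε η = 1 ∨ ε η = -1)
    (hK : ∀ D D', IsSignColumn B D → IsSignColumn c D' →
      ∃ m : ℤ, ∑ᶠ η ∈ c, (ε η : ℂ) * (D (I η) : ℂ) * (D' η : ℂ) = 4 * (m : ℂ))
    (h2 : ∀ D', IsSignColumn c D' → ∀ x : G, ¬ 2 ∣ orderOf x →
      ∑ᶠ η ∈ c, (ε η : ℂ) * (D' η : ℂ) * (I η : G → ℂ) x = 0)
    (h3 : ∀ D, IsSignColumn B D → ∀ y : H, ¬ 2 ∣ orderOf y →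
      ∑ᶠ η ∈ c, (ε η : ℂ) * (D (I η) : ℂ) * (η : H → ℂ) y = 0) :
    Cfsg.IsPerfectIsometry 2 M c B I ε := by
  classical
  haveI : Fintype (Cfsg.IrrCharacter H) := Fintype.ofFinite _
  refine ⟨hI, hε, ?_⟩
  obtain ⟨Tc, hTc⟩ : ∃ Tc : Finset (Cfsg.IrrCharacter H), ∀ η, η ∈ Tc ↔ η ∈ c :=
    ⟨(Set.toFinite c).toFinset, fun η => by simp⟩
  have hfin : ∀ f : Cfsg.IrrCharacter H → ℂ, ∑ᶠ η ∈ c, f η = ∑ η ∈ Tc, f η := by
    intro f
    rw [finsum_mem_eq_finite_toFinset_sum _ (Set.toFinite c)]
    apply Finset.sum_congr _ (fun _ _ => rfl)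
    ext η
    rw [hTc]; simp
  have hμ : ∀ (x : G) (y : H), Cfsg.signedBijectionKernel c I ε x y
      = ∑ η ∈ Tc, (ε η : ℂ) * (I η : G → ℂ) x * (η : H → ℂ) y := by
    intro x y
    unfold Cfsg.signedBijectionKernel
    rw [hfin]
  have hεint : ∀ η, IsIntegral ℤ ((ε η : ℤ) : ℂ) := fun η => isIntegral_intCast _
  -- vanishing: regular / singular
  have hRS : ∀ (x : G) (y : H), ¬ 2 ∣ orderOf x → 2 ∣ orderOf y →
      ∑ η ∈ Tc, (ε η : ℂ) * (I η : G → ℂ) x * (η : H → ℂ) y = 0 := by
    intro x y hx hy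
    obtain ⟨n', D', φ', hD', hexp', -, -⟩ := hcolc y hy
    have h1 : ∑ η ∈ Tc, (ε η : ℂ) * (I η : G → ℂ) x * (η : H → ℂ) y
        = ∑ j : Fin n', φ' j * ∑ η ∈ Tc, (ε η : ℂ) * (D' j η : ℂ) * (I η : G → ℂ) x := by
      rw [Finset.sum_congr rfl (fun η hη => by rw [hexp' η ((hTc η).mp hη)])]
      simp only [Finset.mul_sum]
      rw [Finset.sum_comm]
      apply Finset.sum_congr rfl
      intro j _
      apply Finset.sum_congr rfl
      intro η _
      ring
    rw [h1]
    apply Finset.sum_eq_zero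
    intro j _
    rw [← hfin, h2 (D' j) (hD' j) x hx, mul_zero]
  have hSR : ∀ (x : G) (y : H), 2 ∣ orderOf x → ¬ 2 ∣ orderOf y →
      ∑ η ∈ Tc, (ε η : ℂ) * (I η : G → ℂ) x * (η : H → ℂ) y = 0 := by
    intro x y hx hy
    obtain ⟨n, D, φ, hD, hexp, -, -⟩ := hcolB x hx
    have h1 : ∑ η ∈ Tc, (ε η : ℂ) * (I η : G → ℂ) x * (η : H → ℂ) y
        = ∑ j : Fin n, φ j * ∑ η ∈ Tc, (ε η : ℂ) * (D j (I η) : ℂ) * (η : H → ℂ) y := by
      rw [Finset.sum_congr rfl (fun η hη => by
        rw [hexp (I η) (hI.mapsTo ((hTc η).mp hη))])]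
      simp only [Finset.mul_sum, Finset.sum_mul]
      rw [Finset.sum_comm]
      apply Finset.sum_congr rfl
      intro j _
      apply Finset.sum_congr rfl
      intro η _
      ring
    rw [h1]
    apply Finset.sum_eq_zero
    intro j _
    rw [← hfin, h3 (D j) (hD j) y hy, mul_zero]
  have hcardG : ∀ x : G, Nat.card (Subgroup.centralizer ({x} : Set G)) ≠ 0 :=
    fun x => Nat.card_pos.ne'
  have hcardH : ∀ y : H, Nat.card (Subgroup.centralizer ({y} : Set H)) ≠ 0 :=
    fun y => Nat.card_pos.ne'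
  intro x y
  rw [hμ]
  by_cases hx : 2 ∣ orderOf x
  · by_cases hy : 2 ∣ orderOf y
    · -- singular / singular
      obtain ⟨n, D, φ, hD, hexp, hint, hdiv⟩ := hcolB x hx
      obtain ⟨n', D', φ', hD', hexp', hint', hdiv'⟩ := hcolc y hy
      choose m hm using fun j j' => hK (D j) (D' j') (hD j) (hD' j')
      have h1 : ∑ η ∈ Tc, (ε η : ℂ) * (I η : G → ℂ) x * (η : H → ℂ) y
          = ∑ j : Fin n, ∑ j' : Fin n', (4 * (m j j' : ℂ)) * φ j * φ' j' := by
        have hstep : ∀ η ∈ Tc, (ε η : ℂ) * (I η : G → ℂ) x * (η : H → ℂ) y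
            = ∑ j : Fin n, ∑ j' : Fin n',
              (ε η : ℂ) * (D j (I η) : ℂ) * (D' j' η : ℂ) * φ j * φ' j' := by
          intro η hη
          rw [hexp (I η) (hI.mapsTo ((hTc η).mp hη)), hexp' η ((hTc η).mp hη),
            mul_assoc, Finset.sum_mul_sum, Finset.mul_sum]
          apply Finset.sum_congr rfl
          intro j _
          rw [Finset.mul_sum]
          apply Finset.sum_congr rfl
          intro j' _
          ring
        rw [Finset.sum_congr rfl hstep, Finset.sum_comm]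
        apply Finset.sum_congr rfl
        intro j _
        rw [Finset.sum_comm]
        apply Finset.sum_congr rfl
        intro j' _
        rw [← hm j j', hfin, Finset.sum_mul, Finset.sum_mul]
      refine ⟨?_, ?_, Or.inl ?_⟩
      · rw [h1, Finset.sum_div]
        apply memLocalRing_sum hM
        intro j _
        rw [Finset.sum_div]
        apply memLocalRing_sum hM
        intro j' _
        have e : 4 * (m j j' : ℂ) * φ j * φ' j'
            / (Nat.card (Subgroup.centralizer ({x} : Set G)) : ℂ)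
            = (m j j' : ℂ) * (4 * φ j / (Nat.card (Subgroup.centralizer ({x} : Set G)) : ℂ))
              * φ' j' := by ring
        rw [e]
        exact memLocalRing_mul hM (memLocalRing_mul hM (memLocalRing_intCast hM _)
          (memLocalRing_div_card hM _ _ (hcardG x) (hdiv j)))
          (memLocalRing_of_isIntegral hM (hint' j'))
      · rw [h1, Finset.sum_div]
        apply memLocalRing_sum hM
        intro j _
        rw [Finset.sum_div]
        apply memLocalRing_sum hM
        intro j' _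
        have e : 4 * (m j j' : ℂ) * φ j * φ' j'
            / (Nat.card (Subgroup.centralizer ({y} : Set H)) : ℂ)
            = (m j j' : ℂ) * φ j
              * (4 * φ' j' / (Nat.card (Subgroup.centralizer ({y} : Set H)) : ℂ)) := by ring
        rw [e]
        exact memLocalRing_mul hM (memLocalRing_mul hM (memLocalRing_intCast hM _)
          (memLocalRing_of_isIntegral hM (hint j)))
          (memLocalRing_div_card hM _ _ (hcardH y) (hdiv' j'))
      · unfold Cfsg.IsPRegular
        exact ⟨fun h => absurd hx h, fun h => absurd hy h⟩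
    · -- singular / regular
      rw [hSR x y hx hy, zero_div, zero_div]
      exact ⟨memLocalRing_zero hM, memLocalRing_zero hM, Or.inr rfl⟩
  · by_cases hy : 2 ∣ orderOf y
    · rw [hRS x y hx hy, zero_div, zero_div]
      exact ⟨memLocalRing_zero hM, memLocalRing_zero hM, Or.inr rfl⟩
    · -- regular / regular
      refine ⟨?_, ?_, Or.inl ?_⟩
      · have h1 := KFAvg.isIntegral_div_two_part_gen Tc
          (fun η => (ε η : ℂ) * (η : H → ℂ) y)
          (fun η _ => IsIntegral.mul (hεint η) (irr_isIntegral η y))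
          (fun η => (I η : G → ℂ)) (fun η _ => IsIrrCharacter.isCharacter (I η).2)
          (fun g hg => by
            have := hSR g y hg hy
            rw [← this]
            apply Finset.sum_congr rfl
            intro η _
            ring) x hx
        have h2 : ∑ η ∈ Tc, (ε η : ℂ) * (I η : G → ℂ) x * (η : H → ℂ) y
            = ∑ η ∈ Tc, (ε η : ℂ) * (η : H → ℂ) y * (I η : G → ℂ) x := by
          apply Finset.sum_congr rfl
          intro η _
          ring
        rw [h2]
        exact memLocalRing_div_card hM _ _ (hcardG x) h1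
      · have h1 := KFAvg.isIntegral_div_two_part_gen Tc
          (fun η => (ε η : ℂ) * (I η : G → ℂ) x)
          (fun η _ => IsIntegral.mul (hεint η) (irr_isIntegral (I η) x))
          (fun η => (η : H → ℂ)) (fun η _ => IsIrrCharacter.isCharacter η.2)
          (fun g hg => hRS x g hx hg) y hy
        exact memLocalRing_div_card hM _ _ (hcardH y) h1
      · unfold Cfsg.IsPRegular
        exact ⟨fun _ => hy, fun _ => hx⟩

end Assemble

end Cfsg.Agent.Lib.Helper24.KFIso
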