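import Mathlib
import Cfsg.Prelude.Def_Blocks
import Cfsg.Prelude.Def_BlockRank
import Cfsg.Agent.Lib.Helper24.RankOne
import Cfsg.Agent.Lib.Helper24.KFAvg
import Cfsg.Agent.Lib.Helper7.BrauerCount
import Cfsg.Agent.Lib.Helper7.BrauerCount2

/-!
# The `2`-regular side of a `2`-block with four characters of defect two (helper24 library)

* `rank_one_structure`: if `l(β) = 1` all characters of `β` agree on the `2`-regular elements.
* `exists_singular_ne_zero`: if `l(β) < k(β)` some character of `β` does not vanish at some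
  singular element.
* `column_unique`: if `k(β) = l(β) + 1`, two sign vectors orthogonal to the regular values of
  `β` agree up to a global sign.
-/

set_option autoImplicit false

namespace Cfsg.Agent.Lib.Helper24.KFRegular

open Cfsg.Agent.Lib.Helper2 Cfsg.Agent.Lib.Helper24
open scoped ComplexConjugate

variable {K : Type*} [Group K] [Fintype K] {M : Ideal Cfsg.AlgInt}

/-- **blocks with four characters, defect two and one Brauer character** -/
theorem rank_one_structure (hM : Cfsg.IsPModular 2 M) (β : Set (Cfsg.IrrCharacter K))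
    (hβ : Cfsg.IsPBlock M β) (hd : Cfsg.blockDefect 2 β = 2)
    [Fintype (Cfsg.IrrCharacter K)] [DecidablePred (· ∈ β)]
    (hk : (Finset.univ.filter (· ∈ β)).card = 4) (hl : Cfsg.blockRank 2 β = 1) :
    ∃ φ : K → ℂ,
      (∀ χ ∈ β, ∀ t : K, ¬ 2 ∣ orderOf t → (χ : K → ℂ) t = φ t) ∧
      (∀ t : K, ¬ 2 ∣ orderOf t → IsIntegral ℤ (φ t)) ∧
      (∀ t : K, ¬ 2 ∣ orderOf t → IsIntegral ℤ (4 * φ t / ((2 : ℂ) ^
        (Nat.card (Subgroup.centralizer ({t} : Set K))).factorization 2))) ∧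
      (∀ g : K, 2 ∣ orderOf g →
        ∑ χ : Cfsg.IrrCharacter K, (if χ ∈ β then (χ : K → ℂ) g else 0) = 0) := by
  classical
  haveI : Fact (Nat.Prime 2) := ⟨Nat.prime_two⟩
  obtain ⟨φ, d, n, hφ, hψ, hsum⟩ := rank_one_main hM β hβ hl (Finset.univ.filter (· ∈ β))
    (by intro ξ; simp)
  rw [hd] at hsum
  have h1reg : ¬ 2 ∣ orderOf (1 : K) := by
    rw [orderOf_one]; norm_num
  have hdpos : ∀ χ ∈ Finset.univ.filter (· ∈ β), 1 ≤ d χ ^ 2 := by
    intro χ hχ
    have hχβ : χ ∈ β := by simpa using hχ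
    have h0 : d χ ≠ 0 := by
      intro h
      have := hψ χ hχβ 1 h1reg
      rw [h, Nat.cast_zero, zero_mul] at this
      exact IsIrrCharacter.apply_one_ne_zero χ.2 this
    exact Nat.one_le_iff_ne_zero.mpr (pow_ne_zero 2 h0)
  have hd1 : ∀ χ ∈ Finset.univ.filter (· ∈ β), d χ = 1 := by
    have h0 : ∑ χ ∈ Finset.univ.filter (· ∈ β), (d χ ^ 2 - 1) = 0 := by
      have h1 : ∑ χ ∈ Finset.univ.filter (· ∈ β), (d χ ^ 2 - 1) + ∑ χ ∈ Finset.univ.filter (· ∈ β), 1
          = ∑ χ ∈ Finset.univ.filter (· ∈ β), d χ ^ 2 := by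
        rw [← Finset.sum_add_distrib]
        apply Finset.sum_congr rfl
        intro χ hχ
        have := hdpos χ hχ
        omega
      rw [hsum, Finset.sum_const, hk, smul_eq_mul] at h1
      have h4 : (2 : ℕ) ^ 2 = 4 := by norm_num
      rw [h4] at h1
      omega
    intro χ hχ
    have h1 := (Finset.sum_eq_zero_iff.mp h0) χ hχ
    have h2 := hdpos χ hχ
    have h3 : d χ ^ 2 = 1 := by omega
    exact (Nat.pow_eq_one.mp h3).resolve_right (by norm_num)
  have hval : ∀ χ ∈ β, ∀ t : K, ¬ 2 ∣ orderOf t → (χ : K → ℂ) t = φ t := by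
    intro χ hχ t ht
    rw [hψ χ hχ t ht, hd1 χ (by simpa using hχ), Nat.cast_one, one_mul]
  obtain ⟨χ₀, hχ₀⟩ := isPBlock_nonempty hM hβ
  have hφ1 : φ 1 ≠ 0 := by
    intro h
    have := hval χ₀ hχ₀ 1 h1reg
    rw [h] at this
    exact IsIrrCharacter.apply_one_ne_zero χ₀.2 this
  have hsing : ∀ g : K, 2 ∣ orderOf g →
      ∑ χ : Cfsg.IrrCharacter K, (if χ ∈ β then (χ : K → ℂ) g else 0) = 0 := by
    intro g hg
    have h1 : ∑ ψ : Cfsg.IrrCharacter K,
        (if ψ ∈ β then (ψ : K → ℂ) g * conj ((ψ : K → ℂ) 1) else 0) = 0 := by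
      convert (Cfsg.Agent.Lib.Helper7.kernel_eq_zero_of_regular_singular hM β hβ 1 g
        h1reg hg).2
    have h2 : ∑ ψ : Cfsg.IrrCharacter K,
        (if ψ ∈ β then (ψ : K → ℂ) g * conj ((ψ : K → ℂ) 1) else 0)
        = conj (φ 1) * ∑ χ : Cfsg.IrrCharacter K, (if χ ∈ β then (χ : K → ℂ) g else 0) := by
      rw [Finset.mul_sum]
      apply Finset.sum_congr rfl
      intro ψ _
      by_cases hψβ : ψ ∈ β
      · rw [if_pos hψβ, if_pos hψβ, hval ψ hψβ 1 h1reg]
        ring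
      · rw [if_neg hψβ, if_neg hψβ, mul_zero]
    rw [h2] at h1
    rcases mul_eq_zero.mp h1 with h | h
    · exact absurd ((map_eq_zero _).mp h) hφ1
    · exact h
  refine ⟨φ, hval, ?_, ?_, hsing⟩
  · intro t ht
    rw [hφ t ht]
    apply IsIntegral.sum
    intro ψ _
    apply IsIntegral.mul
    · have := isIntegral_algebraMap (R := ℤ) (A := ℂ) (x := n ψ)
      simpa using this
    · obtain ⟨m, ρ, hρ⟩ := IsIrrCharacter.isCharacter ψ.2
      rw [← hρ]
      exact char_isIntegral ρ t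
  · intro t ht
    obtain ⟨Φ, hΦdef⟩ : ∃ Φ : K → ℂ,
        Φ = ∑ ψ ∈ Finset.univ.filter (· ∈ β), (ψ : K → ℂ) := ⟨_, rfl⟩
    have hΦchar : Cfsg.IsCharacter K Φ := by
      rw [hΦdef]
      apply isCharacter_sum
      intro ψ _
      exact IsIrrCharacter.isCharacter ψ.2
    have hΦapp : ∀ g : K, Φ g = ∑ χ : Cfsg.IrrCharacter K,
        (if χ ∈ β then (χ : K → ℂ) g else 0) := by
      intro g
      rw [hΦdef, Finset.sum_apply, Finset.sum_filter]
    have hΦreg : Φ t = 4 * φ t := by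
      rw [hΦapp, ← Finset.sum_filter,
        Finset.sum_congr rfl (fun χ hχ => hval χ (by simpa using hχ) t ht), Finset.sum_const, hk]
      simp
    have := KFAvg.isIntegral_div_two_part Φ hΦchar
      (fun g hg => by rw [hΦapp]; exact hsing g hg) t ht
    rw [hΦreg] at this
    exact this

/-- if `l(β) < k(β)`, some character of `β` does not vanish at some singular element -/
theorem exists_singular_ne_zero (β : Set (Cfsg.IrrCharacter K))
    (hlt : Cfsg.blockRank 2 β < Nat.card β) :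
    ∃ x : K, 2 ∣ orderOf x ∧ ∃ χ ∈ β, (χ : K → ℂ) x ≠ 0 := by
  by_contra hcon
  push Not at hcon
  have heq : (fun χ : Cfsg.IrrCharacter K => Cfsg.pRegularPart 2 (χ : K → ℂ)) '' β
      = (fun χ : Cfsg.IrrCharacter K => (χ : K → ℂ)) '' β := by
    apply Set.image_congr
    intro χ hχ
    funext g
    by_cases hg : 2 ∣ orderOf g
    · rw [pRegularPart_of_singular _ hg, hcon g hg χ hχ]
    · rw [pRegularPart_of_regular _ hg]
  unfold Cfsg.blockRank at hlt
  rw [heq, Cfsg.Agent.Lib.Helper7.finrank_span_irr] at hlt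
  exact lt_irrefl _ hlt

/-- **uniqueness of the singular column** when `k(β) = l(β) + 1` -/
theorem column_unique (β : Set (Cfsg.IrrCharacter K))
    (hkl : Nat.card β = Cfsg.blockRank 2 β + 1)
    (a a' : Cfsg.IrrCharacter K → ℤ)
    (ha : ∀ χ ∈ β, a χ = 1 ∨ a χ = -1) (ha' : ∀ χ ∈ β, a' χ = 1 ∨ a' χ = -1)
    (hne : ∃ χ, χ ∈ β)
    (horth : ∀ t : K, ¬ 2 ∣ orderOf t → ∑ᶠ χ ∈ β, (a χ : ℂ) * (χ : K → ℂ) t = 0)
    (horth' : ∀ t : K, ¬ 2 ∣ orderOf t → ∑ᶠ χ ∈ β, (a' χ : ℂ) * (χ : K → ℂ) t = 0) :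
    (∀ χ ∈ β, a' χ = a χ) ∨ (∀ χ ∈ β, a' χ = - a χ) := by
  classical
  haveI : Fintype (Cfsg.IrrCharacter K) := Fintype.ofFinite _
  haveI : Fintype β := Fintype.ofFinite _
  -- the linear map
  obtain ⟨v, hv⟩ : ∃ v : β → (K → ℂ), v = fun χ : β =>
      Cfsg.pRegularPart 2 ((χ : Cfsg.IrrCharacter K) : K → ℂ) := ⟨_, rfl⟩
  obtain ⟨L, hL⟩ : ∃ L : (β → ℂ) →ₗ[ℂ] (K → ℂ), L = Fintype.linearCombination ℂ v := ⟨_, rfl⟩
  have hrange : LinearMap.range L = Submodule.span ℂ
      ((fun χ : Cfsg.IrrCharacter K => Cfsg.pRegularPart 2 (χ : K → ℂ)) '' β) := by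
    rw [hL, Fintype.range_linearCombination]
    congr 1
    rw [hv]
    ext f
    constructor
    · rintro ⟨χ, rfl⟩
      exact ⟨χ.1, χ.2, rfl⟩
    · rintro ⟨χ, hχ, rfl⟩
      exact ⟨⟨χ, hχ⟩, rfl⟩
  have hrn := LinearMap.finrank_range_add_finrank_ker L
  rw [hrange, Module.finrank_fintype_fun_eq_card] at hrn
  have hker : Module.finrank ℂ (LinearMap.ker L) = 1 := by
    have h1 : Fintype.card β = Nat.card β := (Nat.card_eq_fintype_card).symm
    unfold Cfsg.blockRank at hkl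
    omega
  -- the two vectors
  have hLapp : ∀ (c : β → ℂ) (t : K), L c t
      = ∑ χ : β, c χ * Cfsg.pRegularPart 2 ((χ : Cfsg.IrrCharacter K) : K → ℂ) t := by
    intro c t
    rw [hL, Fintype.linearCombination_apply, Finset.sum_apply]
    apply Finset.sum_congr rfl
    intro χ _
    rw [Pi.smul_apply, hv, smul_eq_mul]
  have hmemker : ∀ b : Cfsg.IrrCharacter K → ℤ,
      (∀ t : K, ¬ 2 ∣ orderOf t → ∑ᶠ χ ∈ β, (b χ : ℂ) * (χ : K → ℂ) t = 0) →
      (fun χ : β => ((b χ : ℤ) : ℂ)) ∈ LinearMap.ker L := by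
    intro b hb
    rw [LinearMap.mem_ker]
    funext t
    rw [hLapp, Pi.zero_apply]
    by_cases ht : 2 ∣ orderOf t
    · apply Finset.sum_eq_zero
      intro χ _
      rw [pRegularPart_of_singular _ ht, mul_zero]
    · have h1 := hb t ht
      rw [finsum_mem_eq_finite_toFinset_sum _ (Set.toFinite β)] at h1
      rw [← h1]
      rw [← Finset.sum_coe_sort (Set.toFinite β).toFinset]
      symm
      apply Fintype.sum_equiv (Equiv.subtypeEquivRight (fun χ => by simp))
      intro χ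
      rw [pRegularPart_of_regular _ ht]
      rfl
  obtain ⟨χ₁, hχ₁⟩ := hne
  have hane : (⟨fun χ : β => ((a χ : ℤ) : ℂ), hmemker a horth⟩ : LinearMap.ker L) ≠ 0 := by
    intro h
    have h1 := congrArg (fun w : LinearMap.ker L => (w : β → ℂ) ⟨χ₁, hχ₁⟩) h
    simp only [Submodule.coe_zero, Pi.zero_apply] at h1
    rcases ha χ₁ hχ₁ with h2 | h2
    · rw [h2] at h1; norm_num at h1
    · rw [h2] at h1; norm_num at h1
  obtain ⟨c, hc⟩ := (finrank_eq_one_iff_of_nonzero' _ hane).mp hker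
    ⟨fun χ : β => ((a' χ : ℤ) : ℂ), hmemker a' horth'⟩
  have hc' : ∀ χ ∈ β, c * (a χ : ℂ) = (a' χ : ℂ) := by
    intro χ hχ
    have h1 := congrArg (fun w : LinearMap.ker L => (w : β → ℂ) ⟨χ, hχ⟩) hc
    simpa using h1
  -- `c = ± 1`
  have hcsq : c = 1 ∨ c = -1 := by
    have h1 := hc' χ₁ hχ₁
    rcases ha χ₁ hχ₁ with h2 | h2 <;> rcases ha' χ₁ hχ₁ with h3 | h3
    · left; rw [h2, h3] at h1; simpa using h1
    · right; rw [h2, h3] at h1; simpa using h1
    · right
      rw [h2, h3] at h1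
      push_cast at h1
      have : c = -(c * -1) := by ring
      rw [this, h1]
    · left
      rw [h2, h3] at h1
      push_cast at h1
      have : c = -(c * -1) := by ring
      rw [this, h1]; norm_num
  rcases hcsq with h | h
  · left
    intro χ hχ
    have h1 := hc' χ hχ
    rw [h, one_mul] at h1
    exact_mod_cast h1.symm
  · right
    intro χ hχ
    have h1 := hc' χ hχ
    rw [h] at h1
    have h2 : ((a' χ : ℤ) : ℂ) = ((- a χ : ℤ) : ℂ) := by
      rw [← h1]; push_cast; ring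
    exact_mod_cast h2

end Cfsg.Agent.Lib.Helper24.KFRegular
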