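import Mathlib
import Cfsg.Prelude.Def_Blocks
import Cfsg.Prelude.Def_BlockRank
import Cfsg.Agent.Lib.Helper24.KFCol
import Cfsg.Agent.Lib.Helper7.SectionOrtho
import Cfsg.Agent.Lib.Helper7.PPartFn
import Cfsg.Agent.Lib.Helper7.ContribTwo
import Cfsg.Agent.Lib.Helper7.DefectOrder
import Cfsg.Agent.S0926

/-!
# The values of a `2`-block with Klein four defect group at `2`-singular elements
(helper24 library)

`column_structure`: for a `2`-block `β` with a Klein four defect group and a `2`-singular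
element `x` there are finitely many sign columns `D j` and algebraic integers `φ j` with
`χ(x) = ∑ j, D j χ * φ j` for all `χ ∈ β`; each column is orthogonal to the `2`-regular values
of `β` and `4 φ j` is divisible by the `2`-part of `|C(x)|`.
-/

set_option autoImplicit false

namespace Cfsg.Agent.Lib.Helper24.KFStruct

open Cfsg.Agent.Lib.Helper2 Cfsg.Agent.Lib.Helper24
open scoped ComplexConjugate

variable {K : Type*} [Group K] [Fintype K] {M : Ideal Cfsg.AlgInt}

/-- basic data of a block with Klein four defect group -/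
theorem defect_two (hM : Cfsg.IsPModular 2 M) (β : Set (Cfsg.IrrCharacter K))
    (hβ : Cfsg.IsPBlock M β) (P : Subgroup K) (hPD : Cfsg.IsDefectGroup 2 M β P)
    (hV : IsKleinFour P) : Cfsg.blockDefect 2 β = 2 := by
  haveI : Fact (Nat.Prime 2) := ⟨Nat.prime_two⟩
  have hcardP : Nat.card P = 4 := IsKleinFour.card_four
  have h1 := Cfsg.Agent.Lib.Helper7.card_of_isDefectGroup hM β hβ P hPD
  rw [hcardP] at h1
  have h2 : (2 : ℕ) ^ 2 = 2 ^ Cfsg.blockDefect 2 β := by rw [← h1]; norm_num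
  exact (Nat.pow_right_injective (le_refl 2) h2).symm

/-- **the column structure at a singular element** -/
theorem column_structure (hM : Cfsg.IsPModular 2 M) (β : Set (Cfsg.IrrCharacter K))
    (hβ : Cfsg.IsPBlock M β) (P : Subgroup K) (hPD : Cfsg.IsDefectGroup 2 M β P)
    (hV : IsKleinFour P) (x : K) (hx : 2 ∣ orderOf x) :
    ∃ (n : ℕ) (D : Fin n → Cfsg.IrrCharacter K → ℤ) (φ : Fin n → ℂ),
      (∀ j, ∀ χ ∈ β, D j χ = 1 ∨ D j χ = -1) ∧
      (∀ χ ∈ β, (χ : K → ℂ) x = ∑ j, (D j χ : ℂ) * φ j) ∧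
      (∀ j, IsIntegral ℤ (φ j)) ∧
      (∀ j, IsIntegral ℤ (4 * φ j / ((2 : ℂ) ^
        (Nat.card (Subgroup.centralizer ({x} : Set K))).factorization 2))) ∧
      (∀ j, ∀ t : K, ¬ 2 ∣ orderOf t →
        ∑ᶠ χ ∈ β, (D j χ : ℂ) * (χ : K → ℂ) t = 0) := by
  classical
  haveI : Fact (Nat.Prime 2) := ⟨Nat.prime_two⟩
  haveI : Fintype (Cfsg.IrrCharacter K) := Fintype.ofFinite _
  have hd := defect_two hM β hβ P hPD hV
  have hk4 := (Cfsg.Agent.Lib.Helper7.card_eq_four_of_defect_two hM β hβ hd).1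
  have hk : (Finset.univ.filter (· ∈ β)).card = 4 := by
    rw [← hk4, Cfsg.Agent.Lib.Helper7.card_set_eq_card_filter]
  by_cases hall : ∀ χ ∈ β, (χ : K → ℂ) x = 0
  · refine ⟨0, fun j => Fin.elim0 j, fun j => Fin.elim0 j, ?_, ?_, ?_, ?_, ?_⟩
    · intro j; exact Fin.elim0 j
    · intro χ hχ
      rw [hall χ hχ]
      simp
    · intro j; exact Fin.elim0 j
    · intro j; exact Fin.elim0 j
    · intro j; exact Fin.elim0 j
  push Not at hall
  obtain ⟨χ₀, hχ₀, hχ₀x⟩ := hall
  -- heights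
  have hht : ∀ χ ∈ β, Cfsg.blockHeight 2 β (χ : K → ℂ) = 0 := by
    intro χ hχ
    have := ((Cfsg.Agent.S4710.result 2 M hM β hβ 2 hd).2 χ hχ).2 le_rfl
    omega
  -- the 2-part
  obtain ⟨z, hzdef⟩ : ∃ z : K, z = Cfsg.Agent.Lib.Helper7.pPt 2 x := ⟨_, rfl⟩
  obtain ⟨t, htdef⟩ : ∃ t : K, t = Cfsg.Agent.Lib.Helper7.pRg 2 x := ⟨_, rfl⟩
  have hzt : z * t = x := by
    rw [hzdef, htdef]; exact Cfsg.Agent.Lib.Helper7.pPt_mul_pRg 2 x
  have htreg : ¬ 2 ∣ orderOf t := by
    rw [htdef]; exact Cfsg.Agent.Lib.Helper7.pRg_regular 2 x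
  have hzcomm : z * t = t * z := by
    rw [hzdef, htdef]; exact Cfsg.Agent.Lib.Helper7.pPt_pRg_commute 2 x
  have hz1 : z ≠ 1 := by
    rw [hzdef]; exact Cfsg.Agent.Lib.Helper7.pPt_ne_one_of_singular hx
  have hzpow : ∃ k : ℕ, orderOf z = 2 ^ k := by
    rw [hzdef]; exact Cfsg.Agent.Lib.Helper7.pPt_orderOf 2 x
  have hzpart : Cfsg.IsPPart 2 x z := by
    rw [hzdef]; exact Cfsg.Agent.Lib.Helper7.pPt_spec 2 x
  -- `z` is conjugate into the defect group
  obtain ⟨g, hg⟩ := (Cfsg.Agent.S0926.result 2 M hM β hβ P hPD χ₀ hχ₀ (hht χ₀ hχ₀) z hzpow).mpr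
    ⟨x, ⟨z, hzpart, IsConj.refl z⟩, hχ₀x⟩
  have hzz : z * z = 1 := by
    have h1 : (⟨g * z * g⁻¹, hg⟩ : P) ^ 2 = 1 := by
      have h2 := Monoid.pow_exponent_eq_one (⟨g * z * g⁻¹, hg⟩ : P)
      rwa [IsKleinFour.exponent_two] at h2
    have h3 : (g * z * g⁻¹) ^ 2 = 1 := by
      have := congrArg (fun u : P => (u : K)) h1
      simpa using this
    have h4 : (g * z * g⁻¹) ^ 2 = g * (z * z) * g⁻¹ := by
      rw [pow_two]; group
    rw [h4] at h3
    have h5 : z * z = g⁻¹ * (g * (z * z) * g⁻¹) * g := by group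
    rw [h5, h3]; group
  have hz : orderOf z = 2 := by
    have h1 : orderOf z ∣ 2 := by
      apply orderOf_dvd_of_pow_eq_one
      rw [pow_two]; exact hzz
    rcases (Nat.dvd_prime Nat.prime_two).mp h1 with h | h
    · exact absurd (orderOf_eq_one_iff.mp h) hz1
    · exact h
  -- the centralizer
  haveI : Fintype (Subgroup.centralizer ({z} : Set K)) := Fintype.ofFinite _
  haveI : Fintype (Cfsg.IrrCharacter (Subgroup.centralizer ({z} : Set K))) := Fintype.ofFinite _
  have htC : t ∈ Subgroup.centralizer ({z} : Set K) := by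
    rw [Subgroup.mem_centralizer_singleton_iff]
    exact hzcomm.symm
  obtain ⟨w, hwdef⟩ : ∃ w : Subgroup.centralizer ({z} : Set K), w = ⟨t, htC⟩ := ⟨_, rfl⟩
  have hwcoe : (w : K) = t := by rw [hwdef]
  have hwreg : ¬ 2 ∣ orderOf w := by
    rw [← Subgroup.orderOf_coe, hwcoe]; exact htreg
  have hcardC : Nat.card (Subgroup.centralizer ({w} : Set (Subgroup.centralizer ({z} : Set K))))
      = Nat.card (Subgroup.centralizer ({x} : Set K)) := by
    rw [← hzt, ← hwcoe]
    exact (Cfsg.Agent.Lib.Helper7.card_centralizer_section (p := 2) z hzpow w hwreg).symm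
  -- the blocks
  have hcol : ∀ b : Set (Cfsg.IrrCharacter (Subgroup.centralizer ({z} : Set K))),
      ∃ (φ : Subgroup.centralizer ({z} : Set K) → ℂ)
        (d : Cfsg.IrrCharacter (Subgroup.centralizer ({z} : Set K)) → ℕ)
        (D : Cfsg.IrrCharacter K → ℤ),
        Cfsg.IsInducedBlock M (Subgroup.centralizer ({z} : Set K)) b β →
        (∀ ψ ∈ b, ∀ s : Subgroup.centralizer ({z} : Set K), ¬ 2 ∣ orderOf s →
          (ψ : Subgroup.centralizer ({z} : Set K) → ℂ) s = (d ψ : ℂ) * φ s) ∧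
        (∀ s : Subgroup.centralizer ({z} : Set K), ¬ 2 ∣ orderOf s → IsIntegral ℤ (φ s)) ∧
        (∀ s : Subgroup.centralizer ({z} : Set K), ¬ 2 ∣ orderOf s →
          IsIntegral ℤ (4 * φ s / ((2 : ℂ) ^ (Nat.card (Subgroup.centralizer
            ({s} : Set (Subgroup.centralizer ({z} : Set K))))).factorization 2))) ∧
        (∀ χ ∈ β, D χ = 1 ∨ D χ = -1) ∧
        (∀ χ : Cfsg.IrrCharacter K,
          ∑ ψ : Cfsg.IrrCharacter (Subgroup.centralizer ({z} : Set K)), (if ψ ∈ b then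
            Cfsg.classInner
              (fun c : Subgroup.centralizer ({z} : Set K) => (χ : K → ℂ) (z * (c : K)))
              (ψ : Subgroup.centralizer ({z} : Set K) → ℂ) * (d ψ : ℂ) else 0) = (D χ : ℂ)) ∧
        (∀ t : K, ¬ 2 ∣ orderOf t →
          ∑ χ : Cfsg.IrrCharacter K, (if χ ∈ β then (D χ : ℂ) * (χ : K → ℂ) t else 0) = 0) := by
    intro b
    by_cases hind : Cfsg.IsInducedBlock M (Subgroup.centralizer ({z} : Set K)) b β
    · obtain ⟨φ, d, D, h⟩ := KFCol.block_column hM β hd z hz hk b hind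
      exact ⟨φ, d, D, fun _ => h⟩
    · exact ⟨fun _ => 0, fun _ => 0, fun _ => 0, fun h => absurd h hind⟩
  choose φ d D hprop using hcol
  -- the finite set of blocks inducing `β`
  obtain ⟨S, hS⟩ : ∃ S : Finset (Set (Cfsg.IrrCharacter (Subgroup.centralizer ({z} : Set K)))),
      ∀ b, b ∈ S ↔ Cfsg.IsInducedBlock M (Subgroup.centralizer ({z} : Set K)) b β := by
    refine ⟨(Set.toFinite {b : Set (Cfsg.IrrCharacter (Subgroup.centralizer ({z} : Set K))) |
      Cfsg.IsInducedBlock M (Subgroup.centralizer ({z} : Set K)) b β}).toFinset, ?_⟩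
    intro b
    rw [Set.Finite.mem_toFinset]
    rfl
  -- the expansion
  have hexp : ∀ χ ∈ β, (χ : K → ℂ) x = ∑ b ∈ S, (D b χ : ℂ) * φ b w := by
    intro χ hχ
    have h1 := Cfsg.Agent.Lib.Helper7.section_expansion hM z hzpow β hβ χ w hwreg
    rw [if_pos hχ, hwcoe, hzt] at h1
    rw [← h1]
    -- regroup
    have h2 : ∀ b ∈ S, (D b χ : ℂ) * φ b w
        = ∑ ψ : Cfsg.IrrCharacter (Subgroup.centralizer ({z} : Set K)), (if ψ ∈ b then
            Cfsg.classInner
              (fun c : Subgroup.centralizer ({z} : Set K) => (χ : K → ℂ) (z * (c : K)))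
              (ψ : Subgroup.centralizer ({z} : Set K) → ℂ)
            * (ψ : Subgroup.centralizer ({z} : Set K) → ℂ) w else 0) := by
      intro b hb
      have hb' := (hS b).mp hb
      obtain ⟨p1, -, -, -, p5, -⟩ := hprop b hb'
      rw [← p5 χ, Finset.sum_mul]
      apply Finset.sum_congr rfl
      intro ψ _
      by_cases hψ : ψ ∈ b
      · rw [if_pos hψ, if_pos hψ, p1 ψ hψ w hwreg]
        ring
      · rw [if_neg hψ, if_neg hψ, zero_mul]
    rw [Finset.sum_congr rfl h2, Finset.sum_comm]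
    apply Finset.sum_congr rfl
    intro ψ _
    by_cases hψ : Cfsg.IsInducedBlock M (Subgroup.centralizer ({z} : Set K))
        (Cfsg.blockOf M (ψ : Subgroup.centralizer ({z} : Set K) → ℂ)) β
    · rw [if_pos hψ, Finset.sum_eq_single (Cfsg.blockOf M
        (ψ : Subgroup.centralizer ({z} : Set K) → ℂ))]
      · rw [if_pos (mem_blockOf_self hM ψ)]
      · intro b hb hne
        rw [if_neg]
        intro hψb
        exact hne (eq_blockOf_of_mem hM ((hS b).mp hb).1 hψb)
      · intro hnot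
        exact absurd ((hS _).mpr hψ) hnot
    · rw [if_neg hψ]
      symm
      apply Finset.sum_eq_zero
      intro b hb
      rw [if_neg]
      intro hψb
      apply hψ
      rw [← eq_blockOf_of_mem hM ((hS b).mp hb).1 hψb]
      exact (hS b).mp hb
  -- reindexing
  obtain ⟨n, hn⟩ : ∃ n : ℕ, n = S.card := ⟨_, rfl⟩
  have e : {b // b ∈ S} ≃ Fin n := by
    rw [hn]; exact S.equivFin
  refine ⟨n, fun j => D (e.symm j).1, fun j => φ (e.symm j).1 w, ?_, ?_, ?_, ?_, ?_⟩
  · intro j χ hχ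
    obtain ⟨-, -, -, p4, -, -⟩ := hprop (e.symm j).1 ((hS _).mp (e.symm j).2)
    exact p4 χ hχ
  · intro χ hχ
    rw [hexp χ hχ, ← Finset.sum_coe_sort S]
    exact (Equiv.sum_comp e.symm (fun b : {b // b ∈ S} => (D b.1 χ : ℂ) * φ b.1 w)).symm
  · intro j
    obtain ⟨-, p2, -, -, -, -⟩ := hprop (e.symm j).1 ((hS _).mp (e.symm j).2)
    exact p2 w hwreg
  · intro j
    obtain ⟨-, -, p3, -, -, -⟩ := hprop (e.symm j).1 ((hS _).mp (e.symm j).2)
    have := p3 w hwreg
    rw [hcardC] at this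
    exact this
  · intro j t ht
    obtain ⟨-, -, -, -, -, p6⟩ := hprop (e.symm j).1 ((hS _).mp (e.symm j).2)
    rw [finsum_mem_eq_sum_ite]
    exact p6 t ht

end Cfsg.Agent.Lib.Helper24.KFStruct
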