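import Mathlib
import Cfsg.Prelude.Def_Blocks
import Cfsg.Prelude.Def_BlockLocal
import Cfsg.Prelude.Def_BlockRank
import Cfsg.Agent.Lib.Helper24.KFIso
import Cfsg.Agent.Lib.Helper24.KFRegular
import Cfsg.Agent.Lib.Helper24.KFStruct

/-!
# Perfect isometries between `2`-blocks with four characters of defect two (helper24 library)

`exists_perfect_isometry`: two blocks (of two groups) with four characters, defect two, the same
number `1` or `3` of irreducible Brauer characters and sign-column expansions at the singular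
elements are perfectly isometric.
-/

set_option autoImplicit false

namespace Cfsg.Agent.Lib.Helper24.KFMain

open Cfsg.Agent.Lib.Helper2 Cfsg.Agent.Lib.Helper24 Cfsg.Agent.Lib.Helper24.KFIso
open scoped ComplexConjugate

section Columns

variable {K : Type*} [Group K] [Fintype K] {M : Ideal Cfsg.AlgInt}

/-- blocks with Klein four defect groups have sign-column expansions -/
theorem hasColumns_of_kleinFour (hM : Cfsg.IsPModular 2 M) (β : Set (Cfsg.IrrCharacter K))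
    (hβ : Cfsg.IsPBlock M β) (P : Subgroup K) (hPD : Cfsg.IsDefectGroup 2 M β P)
    (hV : IsKleinFour P) : HasColumns β := by
  intro x hx
  obtain ⟨n, D, φ, h1, h2, h3, h4, h5⟩ := KFStruct.column_structure hM β hβ P hPD hV x hx
  exact ⟨n, D, φ, fun j => ⟨h1 j, h5 j⟩, h2, h3, h4⟩

end Columns

section Sums

variable {G : Type*} {H : Type*} [Group G] [Group H]

theorem exists_bijOn (B : Set (Cfsg.IrrCharacter G)) (c : Set (Cfsg.IrrCharacter H))
    [Finite B] [Finite c] (hcard : Nat.card c = Nat.card B) (hne : ∃ χ, χ ∈ B) :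
    ∃ I : Cfsg.IrrCharacter H → Cfsg.IrrCharacter G, Set.BijOn I c B := by
  classical
  obtain ⟨χ₀, hχ₀⟩ := hne
  obtain ⟨e⟩ : Nonempty (c ≃ B) :=
    ⟨(Finite.equivFin c).trans ((finCongr hcard).trans (Finite.equivFin B).symm)⟩
  refine ⟨fun η => if h : η ∈ c then (e ⟨η, h⟩ : Cfsg.IrrCharacter G) else χ₀, ?_, ?_, ?_⟩
  · intro η hη
    simp only [dif_pos hη]
    exact (e ⟨η, hη⟩).2
  · intro η hη η' hη' h
    simp only [dif_pos hη, dif_pos hη'] at h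
    have := e.injective (Subtype.ext h)
    exact congrArg Subtype.val this
  · intro χ hχ
    refine ⟨(e.symm ⟨χ, hχ⟩ : Cfsg.IrrCharacter H), (e.symm ⟨χ, hχ⟩).2, ?_⟩
    simp only [dif_pos (e.symm ⟨χ, hχ⟩).2]
    rw [Subtype.coe_eta, Equiv.apply_symm_apply]

end Sums

section Main

variable {G : Type*} {H : Type*} [Group G] [Group H] [Fintype G] [Fintype H]
  {M : Ideal Cfsg.AlgInt}

/-- the case of a single Brauer character -/
theorem exists_perfect_isometry_one (hM : Cfsg.IsPModular 2 M) (B : Set (Cfsg.IrrCharacter G))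
    (hB : Cfsg.IsPBlock M B) (c : Set (Cfsg.IrrCharacter H)) (hc : Cfsg.IsPBlock M c)
    (hdB : Cfsg.blockDefect 2 B = 2) (hdc : Cfsg.blockDefect 2 c = 2)
    (hkB : Nat.card B = 4) (hkc : Nat.card c = 4)
    (hcolB : HasColumns B) (hcolc : HasColumns c)
    (hlB : Cfsg.blockRank 2 B = 1) (hlc : Cfsg.blockRank 2 c = 1) :
    ∃ (I : Cfsg.IrrCharacter H → Cfsg.IrrCharacter G) (ε : Cfsg.IrrCharacter H → ℤ),
      Cfsg.IsPerfectIsometry 2 M c B I ε := by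
  classical
  haveI : Fintype (Cfsg.IrrCharacter G) := Fintype.ofFinite _
  haveI : Fintype (Cfsg.IrrCharacter H) := Fintype.ofFinite _
  obtain ⟨χ₀, hχ₀⟩ := isPBlock_nonempty hM hB
  obtain ⟨η₀, hη₀⟩ := isPBlock_nonempty hM hc
  obtain ⟨I, hI⟩ := exists_bijOn B c (hkc.trans hkB.symm) ⟨χ₀, hχ₀⟩
  have hkB' : (Finset.univ.filter (· ∈ B)).card = 4 := by
    rw [← hkB, Cfsg.Agent.Lib.Helper7.card_set_eq_card_filter]
  have hkc' : (Finset.univ.filter (· ∈ c)).card = 4 := by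
    rw [← hkc, Cfsg.Agent.Lib.Helper7.card_set_eq_card_filter]
  obtain ⟨φB, hφB, -, -, -⟩ := KFRegular.rank_one_structure hM B hB hdB hkB' hlB
  obtain ⟨φc, hφc, -, -, -⟩ := KFRegular.rank_one_structure hM c hc hdc hkc' hlc
  have h1G : ¬ 2 ∣ orderOf (1 : G) := by rw [orderOf_one]; norm_num
  have h1H : ¬ 2 ∣ orderOf (1 : H) := by rw [orderOf_one]; norm_num
  have hφB1 : φB 1 ≠ 0 := by
    rw [← hφB χ₀ hχ₀ 1 h1G]
    exact IsIrrCharacter.apply_one_ne_zero χ₀.2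
  have hφc1 : φc 1 ≠ 0 := by
    rw [← hφc η₀ hη₀ 1 h1H]
    exact IsIrrCharacter.apply_one_ne_zero η₀.2
  -- finite sums
  obtain ⟨Tc, hTc⟩ : ∃ Tc : Finset (Cfsg.IrrCharacter H), ∀ η, η ∈ Tc ↔ η ∈ c :=
    ⟨Finset.univ.filter (· ∈ c), fun η => by simp⟩
  obtain ⟨TB, hTB⟩ : ∃ TB : Finset (Cfsg.IrrCharacter G), ∀ χ, χ ∈ TB ↔ χ ∈ B :=
    ⟨Finset.univ.filter (· ∈ B), fun χ => by simp⟩
  have hTccard : Tc.card = 4 := by
    rw [← hkc']
    congr 1
    ext η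
    rw [hTc]; simp
  have hfinc : ∀ f : Cfsg.IrrCharacter H → ℂ, ∑ᶠ η ∈ c, f η = ∑ η ∈ Tc, f η := by
    intro f
    rw [finsum_mem_eq_finite_toFinset_sum _ (Set.toFinite c)]
    apply Finset.sum_congr _ (fun _ _ => rfl)
    ext η
    rw [hTc]; simp
  have hfinB : ∀ f : Cfsg.IrrCharacter G → ℂ, ∑ᶠ χ ∈ B, f χ = ∑ χ ∈ TB, f χ := by
    intro f
    rw [finsum_mem_eq_finite_toFinset_sum _ (Set.toFinite B)]
    apply Finset.sum_congr _ (fun _ _ => rfl)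
    ext χ
    rw [hTB]; simp
  have hbijZ : ∀ g : Cfsg.IrrCharacter G → ℤ, ∑ η ∈ Tc, g (I η) = ∑ χ ∈ TB, g χ := by
    intro g
    apply Finset.sum_nbij I
    · intro η hη
      exact (hTB _).mpr (hI.mapsTo ((hTc η).mp hη))
    · intro η hη η' hη' h
      exact hI.injOn ((hTc η).mp hη) ((hTc η').mp hη') h
    · intro χ hχ
      obtain ⟨η, hη, rfl⟩ := hI.surjOn ((hTB χ).mp hχ)
      exact ⟨η, (hTc η).mpr hη, rfl⟩
    · intro η _
      rfl
  -- zero sums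
  have hzeroB : ∀ D, IsSignColumn B D → ∑ χ ∈ TB, D χ = 0 := by
    intro D hD
    have h1 := hD.2 1 h1G
    rw [hfinB] at h1
    have h2 : ∑ χ ∈ TB, (D χ : ℂ) * (χ : G → ℂ) 1 = φB 1 * ((∑ χ ∈ TB, D χ : ℤ) : ℂ) := by
      push_cast
      rw [Finset.mul_sum]
      apply Finset.sum_congr rfl
      intro χ hχ
      rw [hφB χ ((hTB χ).mp hχ) 1 h1G]
      ring
    rw [h2] at h1
    rcases mul_eq_zero.mp h1 with h | h
    · exact absurd h hφB1
    · exact_mod_cast h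
  have hzeroc : ∀ D', IsSignColumn c D' → ∑ η ∈ Tc, D' η = 0 := by
    intro D' hD'
    have h1 := hD'.2 1 h1H
    rw [hfinc] at h1
    have h2 : ∑ η ∈ Tc, (D' η : ℂ) * (η : H → ℂ) 1 = φc 1 * ((∑ η ∈ Tc, D' η : ℤ) : ℂ) := by
      push_cast
      rw [Finset.mul_sum]
      apply Finset.sum_congr rfl
      intro η hη
      rw [hφc η ((hTc η).mp hη) 1 h1H]
      ring
    rw [h2] at h1
    rcases mul_eq_zero.mp h1 with h | h
    · exact absurd h hφc1
    · exact_mod_cast h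
  refine ⟨I, fun _ => 1, ?_⟩
  apply assemble hM B c hcolB hcolc I (fun _ => 1) hI (fun _ _ => Or.inl rfl)
  · -- the products of columns
    intro D D' hD hD'
    have hX : ∀ η ∈ Tc, D (I η) = 1 ∨ D (I η) = -1 :=
      fun η hη => hD.1 _ (hI.mapsTo ((hTc η).mp hη))
    have hY : ∀ η ∈ Tc, D' η = 1 ∨ D' η = -1 := fun η hη => hD'.1 _ ((hTc η).mp hη)
    have hsX : ∑ η ∈ Tc, D (I η) = 0 := by rw [hbijZ D]; exact hzeroB D hD
    have hsY : ∑ η ∈ Tc, D' η = 0 := hzeroc D' hD'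
    have hkey : ∑ η ∈ Tc, D (I η) * D' η
        = 4 * ((∑ η ∈ Tc, if D (I η) = 1 ∧ D' η = 1 then (1 : ℤ) else 0) - 1) := by
      have h1 : ∀ η ∈ Tc, D (I η) * D' η
          = 4 * (if D (I η) = 1 ∧ D' η = 1 then (1 : ℤ) else 0) - D (I η) - D' η - 1 := by
        intro η hη
        rcases hX η hη with h | h <;> rcases hY η hη with h' | h' <;> rw [h, h'] <;> norm_num
      rw [Finset.sum_congr rfl h1, Finset.sum_sub_distrib, Finset.sum_sub_distrib,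
        Finset.sum_sub_distrib, hsX, hsY, ← Finset.mul_sum, Finset.sum_const, hTccard]
      simp
      ring
    refine ⟨(∑ η ∈ Tc, if D (I η) = 1 ∧ D' η = 1 then (1 : ℤ) else 0) - 1, ?_⟩
    rw [hfinc]
    have h3 : ∑ η ∈ Tc, (((1 : ℤ) : ℂ)) * (D (I η) : ℂ) * (D' η : ℂ)
        = ((∑ η ∈ Tc, D (I η) * D' η : ℤ) : ℂ) := by
      push_cast
      apply Finset.sum_congr rfl
      intro η _
      ring
    rw [h3, hkey]
    push_cast
    ring
  · intro D' hD' x hx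
    rw [hfinc]
    have h1 : ∑ η ∈ Tc, (((1 : ℤ) : ℂ)) * (D' η : ℂ) * (I η : G → ℂ) x
        = φB x * ((∑ η ∈ Tc, D' η : ℤ) : ℂ) := by
      push_cast
      rw [Finset.mul_sum]
      apply Finset.sum_congr rfl
      intro η hη
      rw [hφB (I η) (hI.mapsTo ((hTc η).mp hη)) x hx]
      ring
    rw [h1, hzeroc D' hD']
    simp
  · intro D hD y hy
    rw [hfinc]
    have h1 : ∑ η ∈ Tc, (((1 : ℤ) : ℂ)) * (D (I η) : ℂ) * (η : H → ℂ) y
        = φc y * ((∑ η ∈ Tc, D (I η) : ℤ) : ℂ) := by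
      push_cast
      rw [Finset.mul_sum]
      apply Finset.sum_congr rfl
      intro η hη
      rw [hφc η ((hTc η).mp hη) y hy]
      ring
    rw [h1, hbijZ D, hzeroB D hD]
    simp

/-- a sign column from a nonvanishing singular value -/
theorem exists_signColumn (B : Set (Cfsg.IrrCharacter G)) (hcolB : HasColumns B)
    (hlt : Cfsg.blockRank 2 B < Nat.card B) : ∃ a, IsSignColumn B a := by
  obtain ⟨x₀, hx₀, χ₀, hχ₀, hne⟩ := KFRegular.exists_singular_ne_zero B hlt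
  obtain ⟨n, D, φ, hD, hexp, -, -⟩ := hcolB x₀ hx₀
  have hn : n ≠ 0 := by
    rintro rfl
    apply hne
    rw [hexp χ₀ hχ₀]
    simp
  exact ⟨D ⟨0, Nat.pos_of_ne_zero hn⟩, hD _⟩

/-- the case of three Brauer characters -/
theorem exists_perfect_isometry_three (hM : Cfsg.IsPModular 2 M)
    (B : Set (Cfsg.IrrCharacter G))
    (hB : Cfsg.IsPBlock M B) (c : Set (Cfsg.IrrCharacter H)) (hc : Cfsg.IsPBlock M c)
    (hkB : Nat.card B = 4) (hkc : Nat.card c = 4)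
    (hcolB : HasColumns B) (hcolc : HasColumns c)
    (hlB : Cfsg.blockRank 2 B = 3) (hlc : Cfsg.blockRank 2 c = 3) :
    ∃ (I : Cfsg.IrrCharacter H → Cfsg.IrrCharacter G) (ε : Cfsg.IrrCharacter H → ℤ),
      Cfsg.IsPerfectIsometry 2 M c B I ε := by
  classical
  haveI : Fintype (Cfsg.IrrCharacter G) := Fintype.ofFinite _
  haveI : Fintype (Cfsg.IrrCharacter H) := Fintype.ofFinite _
  obtain ⟨χ₀, hχ₀⟩ := isPBlock_nonempty hM hB
  obtain ⟨η₀, hη₀⟩ := isPBlock_nonempty hM hc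
  obtain ⟨I, hI⟩ := exists_bijOn B c (hkc.trans hkB.symm) ⟨χ₀, hχ₀⟩
  obtain ⟨a, ha⟩ := exists_signColumn B hcolB (by rw [hlB, hkB]; norm_num)
  obtain ⟨a', ha'⟩ := exists_signColumn c hcolc (by rw [hlc, hkc]; norm_num)
  -- finite sums
  obtain ⟨Tc, hTc⟩ : ∃ Tc : Finset (Cfsg.IrrCharacter H), ∀ η, η ∈ Tc ↔ η ∈ c :=
    ⟨Finset.univ.filter (· ∈ c), fun η => by simp⟩
  obtain ⟨TB, hTB⟩ : ∃ TB : Finset (Cfsg.IrrCharacter G), ∀ χ, χ ∈ TB ↔ χ ∈ B :=
    ⟨Finset.univ.filter (· ∈ B), fun χ => by simp⟩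
  have hTccard : Tc.card = 4 := by
    rw [← hkc, Cfsg.Agent.Lib.Helper7.card_set_eq_card_filter]
    congr 1
    ext η
    rw [hTc]; simp
  have hfinc : ∀ f : Cfsg.IrrCharacter H → ℂ, ∑ᶠ η ∈ c, f η = ∑ η ∈ Tc, f η := by
    intro f
    rw [finsum_mem_eq_finite_toFinset_sum _ (Set.toFinite c)]
    apply Finset.sum_congr _ (fun _ _ => rfl)
    ext η
    rw [hTc]; simp
  have hfinB : ∀ f : Cfsg.IrrCharacter G → ℂ, ∑ᶠ χ ∈ B, f χ = ∑ χ ∈ TB, f χ := by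
    intro f
    rw [finsum_mem_eq_finite_toFinset_sum _ (Set.toFinite B)]
    apply Finset.sum_congr _ (fun _ _ => rfl)
    ext χ
    rw [hTB]; simp
  have hbijC : ∀ g : Cfsg.IrrCharacter G → ℂ, ∑ η ∈ Tc, g (I η) = ∑ χ ∈ TB, g χ := by
    intro g
    apply Finset.sum_nbij I
    · intro η hη
      exact (hTB _).mpr (hI.mapsTo ((hTc η).mp hη))
    · intro η hη η' hη' h
      exact hI.injOn ((hTc η).mp hη) ((hTc η').mp hη') h
    · intro χ hχ
      obtain ⟨η, hη, rfl⟩ := hI.surjOn ((hTB χ).mp hχ)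
      exact ⟨η, (hTc η).mpr hη, rfl⟩
    · intro η _
      rfl
  -- uniqueness of the columns
  have huB : ∀ D, IsSignColumn B D → ∃ σ : ℤ, (σ = 1 ∨ σ = -1) ∧ ∀ χ ∈ B, D χ = σ * a χ := by
    intro D hD
    rcases KFRegular.column_unique B (by rw [hlB, hkB]) a D ha.1 hD.1 ⟨χ₀, hχ₀⟩ ha.2 hD.2
      with h | h
    · exact ⟨1, Or.inl rfl, fun χ hχ => by rw [h χ hχ, one_mul]⟩
    · exact ⟨-1, Or.inr rfl, fun χ hχ => by rw [h χ hχ]; ring⟩
  have huc : ∀ D', IsSignColumn c D' →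
      ∃ σ : ℤ, (σ = 1 ∨ σ = -1) ∧ ∀ η ∈ c, D' η = σ * a' η := by
    intro D' hD'
    rcases KFRegular.column_unique c (by rw [hlc, hkc]) a' D' ha'.1 hD'.1 ⟨η₀, hη₀⟩ ha'.2 hD'.2
      with h | h
    · exact ⟨1, Or.inl rfl, fun η hη => by rw [h η hη, one_mul]⟩
    · exact ⟨-1, Or.inr rfl, fun η hη => by rw [h η hη]; ring⟩
  have hasq : ∀ η ∈ Tc, ((a (I η) : ℤ) : ℂ) * (a (I η) : ℂ) = 1 := by
    intro η hη
    rcases ha.1 _ (hI.mapsTo ((hTc η).mp hη)) with h | h <;> rw [h] <;> norm_num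
  have ha'sq : ∀ η ∈ Tc, ((a' η : ℤ) : ℂ) * (a' η : ℂ) = 1 := by
    intro η hη
    rcases ha'.1 _ ((hTc η).mp hη) with h | h <;> rw [h] <;> norm_num
  refine ⟨I, fun η => a' η * a (I η), ?_⟩
  apply assemble hM B c hcolB hcolc I (fun η => a' η * a (I η)) hI
  · intro η hη
    rcases ha'.1 η hη with h | h <;> rcases ha.1 _ (hI.mapsTo hη) with h' | h' <;>
      simp only [h, h'] <;> norm_num
  · intro D D' hD hD'
    obtain ⟨σ, -, hσ⟩ := huB D hD
    obtain ⟨σ', -, hσ'⟩ := huc D' hD'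
    refine ⟨σ * σ', ?_⟩
    rw [hfinc]
    have h1 : ∀ η ∈ Tc, (((a' η * a (I η) : ℤ)) : ℂ) * (D (I η) : ℂ) * (D' η : ℂ)
        = (σ : ℂ) * (σ' : ℂ) := by
      intro η hη
      rw [hσ _ (hI.mapsTo ((hTc η).mp hη)), hσ' η ((hTc η).mp hη)]
      push_cast
      calc (a' η : ℂ) * (a (I η) : ℂ) * ((σ : ℂ) * (a (I η) : ℂ)) * ((σ' : ℂ) * (a' η : ℂ))
          = (σ : ℂ) * (σ' : ℂ) * ((a (I η) : ℂ) * (a (I η) : ℂ)) * ((a' η : ℂ) * (a' η : ℂ)) := by
            ring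
        _ = (σ : ℂ) * (σ' : ℂ) := by rw [hasq η hη, ha'sq η hη, mul_one, mul_one]
    rw [Finset.sum_congr rfl h1, Finset.sum_const, hTccard]
    push_cast
    simp
  · intro D' hD' x hx
    obtain ⟨σ', -, hσ'⟩ := huc D' hD'
    rw [hfinc]
    have h1 : ∀ η ∈ Tc, (((a' η * a (I η) : ℤ)) : ℂ) * (D' η : ℂ) * (I η : G → ℂ) x
        = (σ' : ℂ) * ((a (I η) : ℂ) * (I η : G → ℂ) x) := by
      intro η hη
      rw [hσ' η ((hTc η).mp hη)]
      push_cast
      calc (a' η : ℂ) * (a (I η) : ℂ) * ((σ' : ℂ) * (a' η : ℂ)) * (I η : G → ℂ) x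
          = (σ' : ℂ) * ((a' η : ℂ) * (a' η : ℂ)) * ((a (I η) : ℂ) * (I η : G → ℂ) x) := by ring
        _ = (σ' : ℂ) * ((a (I η) : ℂ) * (I η : G → ℂ) x) := by rw [ha'sq η hη, mul_one]
    rw [Finset.sum_congr rfl h1, ← Finset.mul_sum,
      hbijC (fun χ => (a χ : ℂ) * (χ : G → ℂ) x), ← hfinB, ha.2 x hx, mul_zero]
  · intro D hD y hy
    obtain ⟨σ, -, hσ⟩ := huB D hD
    rw [hfinc]
    have h1 : ∀ η ∈ Tc, (((a' η * a (I η) : ℤ)) : ℂ) * (D (I η) : ℂ) * (η : H → ℂ) y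
        = (σ : ℂ) * ((a' η : ℂ) * (η : H → ℂ) y) := by
      intro η hη
      rw [hσ _ (hI.mapsTo ((hTc η).mp hη))]
      push_cast
      calc (a' η : ℂ) * (a (I η) : ℂ) * ((σ : ℂ) * (a (I η) : ℂ)) * (η : H → ℂ) y
          = (σ : ℂ) * ((a (I η) : ℂ) * (a (I η) : ℂ)) * ((a' η : ℂ) * (η : H → ℂ) y) := by ring
        _ = (σ : ℂ) * ((a' η : ℂ) * (η : H → ℂ) y) := by rw [hasq η hη, mul_one]
    rw [Finset.sum_congr rfl h1, ← Finset.mul_sum, ← hfinc, ha'.2 y hy, mul_zero]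

end Main

end Cfsg.Agent.Lib.Helper24.KFMain
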