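import Mathlib
import Cfsg.Prelude.Def_Blocks
import Cfsg.Prelude.Def_BlockLocal
import Cfsg.Prelude.Def_BlockRank
import Cfsg.Agent.Lib.Helper24.Transport
import Cfsg.Agent.Lib.Helper24.MaxPairs
import Cfsg.Agent.Lib.Helper24.StabPairs
import Cfsg.Agent.Lib.Helper24.SubpairStep
import Cfsg.Agent.Lib.Helper7.ExtFirstMain
import Cfsg.Agent.S4637

/-!
# A `2`-block with Klein four defect group and its Brauer correspondent have the same number of
irreducible Brauer characters (helper24 library)
-/

set_option autoImplicit false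

namespace Cfsg.Agent.Lib.Helper24.KFRank

open Cfsg.Agent.Lib.Helper2 Cfsg.Agent.Lib.Helper24 Cfsg.Agent.Lib.Helper7
open scoped ComplexConjugate

section Transport

variable {G : Type*} [Group G] [Finite G] {p : ℕ} [Fact p.Prime] {M : Ideal Cfsg.AlgInt}

/-- a block of `H ≤ N` (read in the group `N`) inducing `c`, where `c` induces `B`, gives a block
of `H` inducing `B`, with the same stabilizer in `N` -/
theorem transport_root (hM : Cfsg.IsPModular p M) (H N : Subgroup G) (hHN : H ≤ N)
    (hnorm : N ≤ Subgroup.normalizer (H : Set G))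
    (C' : Subgroup N) (hC' : C' = H.subgroupOf N)
    (b' : Set (Cfsg.IrrCharacter C')) (c : Set (Cfsg.IrrCharacter N))
    (B : Set (Cfsg.IrrCharacter G))
    (hb' : Cfsg.IsInducedBlock M C' b' c) (hc : Cfsg.IsInducedBlock M N c B) :
    ∃ b : Set (Cfsg.IrrCharacter H), Cfsg.IsInducedBlock M H b B ∧
      ∀ n : N, Cfsg.StabilizesBlock C' b' n ↔ Cfsg.StabilizesBlock H b (n : G) := by
  subst hC'
  letI : Fintype G := Fintype.ofFinite G
  letI : Fintype N := Fintype.ofFinite N
  letI : Fintype H := Fintype.ofFinite H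
  letI : Fintype (H.subgroupOf N) := Fintype.ofFinite _
  refine ⟨irrMap (Subgroup.subgroupOfEquivOfLe hHN) '' b', ?_, ?_⟩
  · refine ⟨isPBlock_image_irrMap _ hb'.1, hc.2.1, ?_⟩
    rintro _ ⟨ξ, hξ, rfl⟩ χ hχ g
    obtain ⟨χ₁, hχ₁⟩ := isPBlock_nonempty hM hb'.2.1
    have t1 := inducedCentralChar_trans hM H N hHN ξ χ₁ (fun n => hb'.2.2 ξ hξ χ₁ hχ₁ n) g
    have t2 := hc.2.2 χ₁ hχ₁ χ hχ g
    have := memLocalIdeal_add hM t1 t2
    rwa [sub_add_sub_cancel] at this
  · intro n
    constructor
    · rintro ⟨_, h⟩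
      refine ⟨hnorm n.2, ?_⟩
      rintro _ ⟨ξ, hξ, rfl⟩
      obtain ⟨ξ', hξ', hconj⟩ := h ξ hξ
      refine ⟨_, ⟨ξ', hξ', rfl⟩, ?_⟩
      intro k k' hk
      rw [irrMap_apply, irrMap_apply]
      apply hconj
      apply Subtype.ext
      show (k' : G) = (n : G) * (k : G) * (n : G)⁻¹
      exact hk
    · rintro ⟨hn, h⟩
      constructor
      · rw [Subgroup.mem_normalizer_iff]
        intro m
        rw [Subgroup.mem_subgroupOf, Subgroup.mem_subgroupOf]
        exact (Subgroup.mem_normalizer_iff.mp hn) (m : G)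
      · intro ξ hξ
        obtain ⟨_, ⟨ξ', hξ', rfl⟩, hconj⟩ := h _ ⟨ξ, hξ, rfl⟩
        refine ⟨ξ', hξ', ?_⟩
        intro k k' hk
        have h1 := hconj (Subgroup.subgroupOfEquivOfLe hHN k) (Subgroup.subgroupOfEquivOfLe hHN k')
          (by
            have := congrArg (fun m : N => (m : G)) hk
            exact this)
        rw [irrMap_apply_apply, irrMap_apply_apply] at h1
        exact h1

theorem centralizer_subgroupOf_normalizer (P : Subgroup G) :
    Subgroup.centralizer ((P.subgroupOf (Subgroup.normalizer (P : Set G)) :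
        Subgroup (Subgroup.normalizer (P : Set G))) : Set (Subgroup.normalizer (P : Set G)))
      = (Subgroup.centralizer (P : Set G)).subgroupOf (Subgroup.normalizer (P : Set G)) := by
  ext n
  rw [Subgroup.mem_subgroupOf, Subgroup.mem_centralizer_iff, Subgroup.mem_centralizer_iff]
  constructor
  · intro h u hu
    have := h ⟨u, Subgroup.le_normalizer hu⟩ (Subgroup.mem_subgroupOf.mpr hu)
    exact congrArg (fun m : Subgroup.normalizer (P : Set G) => (m : G)) this
  · intro h u hu
    apply Subtype.ext
    exact h (u : G) (Subgroup.mem_subgroupOf.mp hu)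

end Transport

section Main

variable {G : Type*} [Group G] [Finite G] {M : Ideal Cfsg.AlgInt}

/-- **the Brauer correspondent has the same number of irreducible Brauer characters** -/
theorem blockRank_correspondent (hM : Cfsg.IsPModular 2 M) (B : Set (Cfsg.IrrCharacter G))
    (hB : Cfsg.IsPBlock M B) (P : Subgroup G) (hPD : Cfsg.IsDefectGroup 2 M B P)
    (hV : IsKleinFour P)
    (c : Set (Cfsg.IrrCharacter (Subgroup.normalizer (P : Set G))))
    (hcD : Cfsg.IsDefectGroup 2 M c (P.subgroupOf (Subgroup.normalizer (P : Set G))))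
    (hc : Cfsg.IsInducedBlock M (Subgroup.normalizer (P : Set G)) c B) :
    Cfsg.blockRank 2 c = Cfsg.blockRank 2 B ∧
      (Cfsg.blockRank 2 B = 1 ∨ Cfsg.blockRank 2 B = 3) ∧ Nat.card B = 4 ∧ Nat.card c = 4 ∧
      IsKleinFour (P.subgroupOf (Subgroup.normalizer (P : Set G))) := by
  classical
  haveI : Fact (Nat.Prime 2) := ⟨Nat.prime_two⟩
  letI : Fintype G := Fintype.ofFinite G
  letI : Fintype (Subgroup.normalizer (P : Set G)) := Fintype.ofFinite _
  obtain ⟨N, hN⟩ : ∃ N : Subgroup G, N = Subgroup.normalizer (P : Set G) := ⟨_, rfl⟩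
  -- the Klein four group inside the normalizer
  have hPN : P ≤ Subgroup.normalizer (P : Set G) := Subgroup.le_normalizer
  obtain ⟨eP, -⟩ : ∃ eP : P.subgroupOf (Subgroup.normalizer (P : Set G)) ≃* P, True :=
    ⟨Subgroup.subgroupOfEquivOfLe hPN, trivial⟩
  have hV' : IsKleinFour (P.subgroupOf (Subgroup.normalizer (P : Set G))) := by
    refine ⟨?_, ?_⟩
    · rw [Nat.card_congr eP.toEquiv]; exact IsKleinFour.card_four
    · rw [Monoid.exponent_eq_of_mulEquiv eP]; exact IsKleinFour.exponent_two
  -- `P` is abelian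
  have hab : ∀ x ∈ P, ∀ y ∈ P, x * y = y * x := by
    intro x hx y hy
    have h1 : (⟨x, hx⟩ : P) * ⟨y, hy⟩ = ⟨y, hy⟩ * ⟨x, hx⟩ :=
      mul_comm_of_exponent_two IsKleinFour.exponent_two _ _
    exact congrArg Subtype.val h1
  have hPC : P ≤ Subgroup.centralizer (P : Set G) := by
    intro u hu
    rw [Subgroup.mem_centralizer_iff]
    intro q hq
    exact hab q hq u hu
  have hCeq := centralizer_subgroupOf_normalizer P
  have hP'C : P.subgroupOf (Subgroup.normalizer (P : Set G))
      ≤ Subgroup.centralizer ((P.subgroupOf (Subgroup.normalizer (P : Set G)) :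
        Subgroup (Subgroup.normalizer (P : Set G))) : Set (Subgroup.normalizer (P : Set G))) := by
    rw [hCeq]
    intro n hn
    rw [Subgroup.mem_subgroupOf] at hn ⊢
    exact hPC hn
  -- the root in the normalizer
  letI : Fintype (Subgroup.centralizer ((P.subgroupOf (Subgroup.normalizer (P : Set G)) :
      Subgroup (Subgroup.normalizer (P : Set G))) : Set (Subgroup.normalizer (P : Set G)))) :=
    Fintype.ofFinite _
  obtain ⟨b', -, hb'⟩ := exists_isInducedBlock_defect_of_le (G := Subgroup.normalizer (P : Set G))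
    hM (Subgroup.centralizer ((P.subgroupOf (Subgroup.normalizer (P : Set G)) :
        Subgroup (Subgroup.normalizer (P : Set G))) : Set (Subgroup.normalizer (P : Set G))))
    (P.subgroupOf (Subgroup.normalizer (P : Set G))) hP'C le_rfl
    (Subgroup.centralizer_le_normalizer _) c hc.1 hcD
  -- the root in `G`
  obtain ⟨b, hb, hstab⟩ := transport_root hM (Subgroup.centralizer (P : Set G))
    (Subgroup.normalizer (P : Set G)) (Subgroup.centralizer_le_normalizer _)
    (normalizer_le_normalizer_centralizer P) _ hCeq b' c B hb' hc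
  -- the two inertial indices
  obtain ⟨h13, hk, hl⟩ := Cfsg.Agent.S4637.result M hM B hB P hPD hV b hb (stabSubgroup P b)
    (fun g => mem_stabSubgroup P b g) _ rfl
  obtain ⟨h13', hk', hl'⟩ := Cfsg.Agent.S4637.result M hM c hc.1
    (P.subgroupOf (Subgroup.normalizer (P : Set G))) hcD hV' b' hb'
    (stabSubgroup (P.subgroupOf (Subgroup.normalizer (P : Set G))) b')
    (fun g => mem_stabSubgroup _ b' g) _ rfl
  -- comparison
  have hiff : (Subgroup.centralizer (P : Set G)).relIndex (stabSubgroup P b) = 1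
      ↔ (Subgroup.centralizer ((P.subgroupOf (Subgroup.normalizer (P : Set G)) :
        Subgroup (Subgroup.normalizer (P : Set G))) : Set (Subgroup.normalizer (P : Set G)))).relIndex
        (stabSubgroup (P.subgroupOf (Subgroup.normalizer (P : Set G))) b') = 1 := by
    rw [Subgroup.relIndex_eq_one, Subgroup.relIndex_eq_one]
    constructor
    · intro h n hn
      rw [mem_stabSubgroup] at hn
      rw [hCeq, Subgroup.mem_subgroupOf]
      apply h
      rw [mem_stabSubgroup]
      exact ⟨n.2, (hstab n).mp hn.2⟩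
    · intro h g hg
      rw [mem_stabSubgroup] at hg
      have hn : (⟨g, hg.1⟩ : Subgroup.normalizer (P : Set G))
          ∈ stabSubgroup (P.subgroupOf (Subgroup.normalizer (P : Set G))) b' := by
        rw [mem_stabSubgroup]
        refine ⟨?_, (hstab ⟨g, hg.1⟩).mpr hg.2⟩
        haveI : (P.subgroupOf (Subgroup.normalizer (P : Set G))).Normal :=
          Subgroup.normal_subgroupOf_of_le_normalizer le_rfl
        exact (Subgroup.normalizer_eq_top
          (H := P.subgroupOf (Subgroup.normalizer (P : Set G)))).ge (Subgroup.mem_top _)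
      have := h hn
      rw [hCeq, Subgroup.mem_subgroupOf] at this
      exact this
  refine ⟨?_, ?_, hk, hk', hV'⟩
  · rw [hl, hl']
    rcases h13 with h | h <;> rcases h13' with h' | h'
    · rw [h, h']
    · exfalso
      have := hiff.mp h
      omega
    · exfalso
      have := hiff.mpr h'
      omega
    · rw [h, h']
  · rw [hl]; exact h13

end Main

end Cfsg.Agent.Lib.Helper24.KFRank
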