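import Mathlib

/-!
# A combinatorial inequality behind Knörr's abelian-stabilizer criterion (helper24 library)

`A` is a finite abelian group, `x : A → J → ℂ` a function with values in an additive subgroup `L`
whose nonzero members have squared norm at least `μ`.  For a list `l` of subgroups of `A` the
quadratic expression `Q l x` is defined by
`Q [] x = ∑ a, ‖x a‖²` and `Q (B :: l) x = Q l x + ½ ∑_{ν ∈ B} Q l (x - x(· ν))`.
Then `Q l x ≥ μ · |supp(x) · ⨆ l|`.
-/

set_option autoImplicit false

namespace Cfsg.Agent.Lib.Helper24.KGV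

open scoped Classical

section Defs

variable {A : Type*} [CommGroup A] [Fintype A] {J : Type*} [Fintype J]

/-- the squared norm of a complex vector -/
noncomputable def nsq (w : J → ℂ) : ℝ := ∑ j, Complex.normSq (w j)

theorem nsq_nonneg (w : J → ℂ) : 0 ≤ nsq w :=
  Finset.sum_nonneg fun j _ => Complex.normSq_nonneg _

theorem nsq_neg (w : J → ℂ) : nsq (-w) = nsq w := by
  unfold nsq
  apply Finset.sum_congr rfl
  intro j _
  rw [Pi.neg_apply, Complex.normSq_neg]

theorem nsq_smul (z : ℂ) (w : J → ℂ) : nsq (z • w) = Complex.normSq z * nsq w := by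
  unfold nsq
  rw [Finset.mul_sum]
  apply Finset.sum_congr rfl
  intro j _
  rw [Pi.smul_apply, smul_eq_mul, Complex.normSq_mul]

/-- translation of a function on `A` -/
def tr (ν : A) (x : A → J → ℂ) : A → J → ℂ := fun a => x (a * ν)

/-- the join of a list of subgroups -/
def supList : List (Subgroup A) → Subgroup A
  | [] => ⊥
  | B :: l => B ⊔ supList l

/-- the quadratic expression attached to a list of subgroups -/
noncomputable def Q : List (Subgroup A) → (A → J → ℂ) → ℝ
  | [], x => ∑ a, nsq (x a)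
  | B :: l, x => Q l x + (1 / 2 : ℝ) * ∑ ν : ↥B, Q l (x - tr (ν : A) x)

/-- the saturation of the support of `x` under a subgroup -/
noncomputable def suppSat (H : Subgroup A) (x : A → J → ℂ) : Finset A :=
  Finset.univ.filter fun a => ∃ h ∈ H, x (a * h) ≠ 0

theorem mem_suppSat (H : Subgroup A) (x : A → J → ℂ) (a : A) :
    a ∈ suppSat H x ↔ ∃ h ∈ H, x (a * h) ≠ 0 := by
  unfold suppSat
  rw [Finset.mem_filter]
  exact ⟨fun h => h.2, fun h => ⟨Finset.mem_univ _, h⟩⟩

theorem mul_mem_suppSat_iff (H : Subgroup A) (x : A → J → ℂ) (a : A) {h : A} (hh : h ∈ H) :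
    a * h ∈ suppSat H x ↔ a ∈ suppSat H x := by
  rw [mem_suppSat, mem_suppSat]
  constructor
  · rintro ⟨k, hk, hne⟩
    exact ⟨h * k, H.mul_mem hh hk, by rwa [← mul_assoc]⟩
  · rintro ⟨k, hk, hne⟩
    refine ⟨h⁻¹ * k, H.mul_mem (H.inv_mem hh) hk, ?_⟩
    rwa [mul_assoc, mul_inv_cancel_left]

end Defs

section Counting

variable {A : Type*} [CommGroup A] [Fintype A]

/-- the key counting inequality: for a subset `U` and a subgroup `B`,
`∑_{a ∈ U} (1 + #{ν ∈ B : a ν ∉ U}) ≥ |U B|`. -/
theorem card_mul_le (U : Finset A) (B : Subgroup A) (W : Finset A)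
    (hW : ∀ b ∈ W, ∃ β ∈ B, b * β ∈ U) :
    (W.card : ℝ) ≤ ∑ a ∈ U, (1 + ((Finset.univ.filter fun ν : ↥B => a * (ν : A) ∉ U).card : ℝ)) := by
  -- `n a = #{ν ∈ B : a ν ∈ U}`
  set n : A → ℝ := fun a => ((Finset.univ.filter fun ν : ↥B => a * (ν : A) ∈ U).card : ℝ) with hn
  have hninv : ∀ (a : A) (β : ↥B), n (a * (β : A)) = n a := by
    intro a β
    simp only [hn]
    congr 1
    apply Finset.card_bij (fun ν _ => β * ν)
    · intro ν hν
      rw [Finset.mem_filter] at hν ⊢
      refine ⟨Finset.mem_univ _, ?_⟩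
      have := hν.2
      rwa [Subgroup.coe_mul, ← mul_assoc]
    · intro ν₁ _ ν₂ _ h
      exact mul_left_cancel h
    · intro ν hν
      rw [Finset.mem_filter] at hν
      refine ⟨β⁻¹ * ν, ?_, by rw [mul_inv_cancel_left]⟩
      rw [Finset.mem_filter]
      refine ⟨Finset.mem_univ _, ?_⟩
      have := hν.2
      rwa [Subgroup.coe_mul, Subgroup.coe_inv, ← mul_assoc, mul_assoc a, mul_inv_cancel, mul_one]
  have hnpos : ∀ a ∈ U, 1 ≤ n a := by
    intro a ha
    simp only [hn]
    have : 0 < (Finset.univ.filter fun ν : ↥B => a * (ν : A) ∈ U).card := by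
      apply Finset.card_pos.2
      refine ⟨1, ?_⟩
      rw [Finset.mem_filter]
      exact ⟨Finset.mem_univ _, by simpa using ha⟩
    exact_mod_cast this
  have hnle : ∀ a, n a ≤ (Fintype.card ↥B : ℝ) := by
    intro a
    simp only [hn]
    have := Finset.card_le_univ (Finset.univ.filter fun ν : ↥B => a * (ν : A) ∈ U)
    exact_mod_cast this
  have hcompl : ∀ a, ((Finset.univ.filter fun ν : ↥B => a * (ν : A) ∉ U).card : ℝ)
      = (Fintype.card ↥B : ℝ) - n a := by
    intro a
    simp only [hn]
    have h := Finset.card_filter_add_card_filter_not (s := (Finset.univ : Finset ↥B))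
      (fun ν : ↥B => a * (ν : A) ∈ U)
    rw [Finset.card_univ] at h
    have h' : (((Finset.univ.filter fun ν : ↥B => a * (ν : A) ∈ U).card : ℝ))
        + ((Finset.univ.filter fun ν : ↥B => ¬ a * (ν : A) ∈ U).card : ℝ)
        = (Fintype.card ↥B : ℝ) := by exact_mod_cast h
    linarith
  -- step 1: `|W| ≤ |B| ∑_{a ∈ U} 1 / n a`
  have h1 : (W.card : ℝ) ≤ ∑ a ∈ U, (Fintype.card ↥B : ℝ) / n a := by
    -- for `b ∈ W`: `1 = ∑_{ν ∈ B} [b ν ∈ U] / n b`
    have hb : ∀ b ∈ W, (1 : ℝ) = ∑ ν : ↥B, if b * (ν : A) ∈ U then 1 / n b else 0 := by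
      intro b hbW
      rw [← Finset.sum_filter, Finset.sum_const, nsmul_eq_mul]
      have hpos : 0 < n b := by
        obtain ⟨β, hβ, hbβ⟩ := hW b hbW
        have h1 := hnpos _ hbβ
        rw [hninv b ⟨β, hβ⟩] at h1
        linarith
      show (1 : ℝ) = n b * (1 / n b)
      field_simp
    calc (W.card : ℝ) = ∑ b ∈ W, (1 : ℝ) := by simp
      _ = ∑ b ∈ W, ∑ ν : ↥B, if b * (ν : A) ∈ U then 1 / n b else 0 :=
          Finset.sum_congr rfl hb
      _ ≤ ∑ b : A, ∑ ν : ↥B, if b * (ν : A) ∈ U then 1 / n b else 0 := by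
          apply Finset.sum_le_sum_of_subset_of_nonneg (Finset.subset_univ _)
          intro b _ _
          apply Finset.sum_nonneg
          intro ν _
          split_ifs
          · have : 0 ≤ n b := by simp only [hn]; positivity
            positivity
          · exact le_refl _
      _ = ∑ ν : ↥B, ∑ b : A, if b * (ν : A) ∈ U then 1 / n b else 0 := Finset.sum_comm
      _ = ∑ ν : ↥B, ∑ a ∈ U, 1 / n a := by
          apply Finset.sum_congr rfl
          intro ν _
          rw [← Finset.sum_filter]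
          apply Finset.sum_bij (fun b _ => b * (ν : A))
          · intro b hb
            rw [Finset.mem_filter] at hb
            exact hb.2
          · intro b₁ _ b₂ _ h
            exact mul_right_cancel h
          · intro a ha
            refine ⟨a * (ν : A)⁻¹, ?_, by rw [inv_mul_cancel_right]⟩
            rw [Finset.mem_filter]
            exact ⟨Finset.mem_univ _, by rwa [inv_mul_cancel_right]⟩
          · intro b _
            rw [hninv b ν]
      _ = ∑ a ∈ U, (Fintype.card ↥B : ℝ) / n a := by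
          rw [Finset.sum_const, Finset.card_univ, nsmul_eq_mul, Finset.mul_sum]
          apply Finset.sum_congr rfl
          intro a _
          ring
  refine le_trans h1 ?_
  apply Finset.sum_le_sum
  intro a ha
  rw [hcompl a]
  have h1 := hnpos a ha
  have h2 := hnle a
  have hpos : 0 < n a := by linarith
  rw [div_le_iff₀ hpos]
  nlinarith

end Counting

section Main

variable {A : Type*} [CommGroup A] [Fintype A] {J : Type*} [Fintype J]

theorem le_Q (L : AddSubgroup (J → ℂ)) (μ : ℝ) (hμ : 0 ≤ μ)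
    (hL : ∀ w ∈ L, w ≠ 0 → μ ≤ nsq w) (l : List (Subgroup A)) :
    ∀ x : A → J → ℂ, (∀ a, x a ∈ L) → μ * ((suppSat (supList l) x).card : ℝ) ≤ Q l x := by
  induction l with
  | nil =>
    intro x hx
    show μ * ((suppSat ⊥ x).card : ℝ) ≤ ∑ a, nsq (x a)
    have h1 : μ * ((suppSat ⊥ x).card : ℝ) = ∑ a ∈ suppSat (⊥ : Subgroup A) x, μ := by
      rw [Finset.sum_const, nsmul_eq_mul, mul_comm]
    rw [h1]
    calc ∑ a ∈ suppSat (⊥ : Subgroup A) x, μ ≤ ∑ a ∈ suppSat (⊥ : Subgroup A) x, nsq (x a) := by
          apply Finset.sum_le_sum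
          intro a ha
          rw [mem_suppSat] at ha
          obtain ⟨h, hh, hne⟩ := ha
          rw [Subgroup.mem_bot] at hh
          rw [hh, mul_one] at hne
          exact hL _ (hx a) hne
      _ ≤ ∑ a, nsq (x a) := by
          apply Finset.sum_le_sum_of_subset_of_nonneg (Finset.subset_univ _)
          intro a _ _
          exact nsq_nonneg _
  | cons B l ih =>
    intro x hx
    show μ * ((suppSat (B ⊔ supList l) x).card : ℝ)
      ≤ Q l x + (1 / 2 : ℝ) * ∑ ν : ↥B, Q l (x - tr (ν : A) x)
    set A' := supList l with hA'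
    set U := suppSat A' x with hU
    have hy : ∀ ν : ↥B, ∀ a, (x - tr (ν : A) x) a ∈ L := by
      intro ν a
      rw [Pi.sub_apply]
      exact L.sub_mem (hx a) (hx _)
    -- Claim 1
    have hclaim1 : ∀ ν : ↥B,
        (((U.filter fun a => a * (ν : A) ∉ U).card : ℝ)
          + ((U.filter fun a => a * (ν : A)⁻¹ ∉ U).card : ℝ))
        ≤ ((suppSat A' (x - tr (ν : A) x)).card : ℝ) := by
      intro ν
      set S₁ := U.filter fun a => a * (ν : A) ∉ U with hS₁
      set S₂ := (Finset.univ.filter fun a : A => a ∉ U ∧ a * (ν : A) ∈ U) with hS₂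
      have hcard2 : (U.filter fun a => a * (ν : A)⁻¹ ∉ U).card = S₂.card := by
        apply Finset.card_bij (fun a _ => a * (ν : A)⁻¹)
        · intro a ha
          rw [Finset.mem_filter] at ha
          rw [hS₂, Finset.mem_filter]
          refine ⟨Finset.mem_univ _, ha.2, ?_⟩
          rw [inv_mul_cancel_right]
          exact ha.1
        · intro a₁ _ a₂ _ h
          exact mul_right_cancel h
        · intro b hb
          rw [hS₂, Finset.mem_filter] at hb
          refine ⟨b * (ν : A), ?_, by rw [mul_inv_cancel_right]⟩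
          rw [Finset.mem_filter]
          refine ⟨hb.2.2, ?_⟩
          rw [mul_inv_cancel_right]
          exact hb.2.1
      have hdisj : Disjoint S₁ S₂ := by
        rw [Finset.disjoint_left]
        intro a ha1 ha2
        rw [hS₁, Finset.mem_filter] at ha1
        rw [hS₂, Finset.mem_filter] at ha2
        exact ha2.2.1 ha1.1
      have hsub : S₁ ∪ S₂ ⊆ suppSat A' (x - tr (ν : A) x) := by
        intro a ha
        rw [Finset.mem_union] at ha
        rw [mem_suppSat]
        rcases ha with ha | ha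
        · rw [hS₁, Finset.mem_filter] at ha
          obtain ⟨haU, hnot⟩ := ha
          rw [hU, mem_suppSat] at haU
          obtain ⟨h, hh, hne⟩ := haU
          refine ⟨h, hh, ?_⟩
          have h0 : x (a * h * (ν : A)) = 0 := by
            by_contra hcon
            apply hnot
            rw [hU, mem_suppSat]
            refine ⟨h, hh, ?_⟩
            rwa [mul_assoc, mul_comm (ν : A) h, ← mul_assoc]
          rw [Pi.sub_apply]
          show x (a * h) - x (a * h * (ν : A)) ≠ 0
          rw [h0, sub_zero]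
          exact hne
        · rw [hS₂, Finset.mem_filter] at ha
          obtain ⟨_, hnot, haν⟩ := ha
          rw [hU, mem_suppSat] at haν
          obtain ⟨h, hh, hne⟩ := haν
          refine ⟨h, hh, ?_⟩
          have h0 : x (a * h) = 0 := by
            by_contra hcon
            apply hnot
            rw [hU, mem_suppSat]
            exact ⟨h, hh, hcon⟩
          rw [Pi.sub_apply]
          show x (a * h) - x (a * h * (ν : A)) ≠ 0
          rw [h0, zero_sub, neg_ne_zero]
          rwa [mul_assoc, mul_comm h (ν : A), ← mul_assoc]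
      have h3 := Finset.card_le_card hsub
      rw [Finset.card_union_of_disjoint hdisj] at h3
      rw [hcard2]
      exact_mod_cast h3
    -- Claim 2
    have hclaim2 : ((suppSat (B ⊔ A') x).card : ℝ)
        ≤ ∑ a ∈ U, (1 + ((Finset.univ.filter fun ν : ↥B => a * (ν : A) ∉ U).card : ℝ)) := by
      apply card_mul_le U B
      intro b hb
      rw [mem_suppSat] at hb
      obtain ⟨h, hh, hne⟩ := hb
      obtain ⟨β, hβ, h', hh', rfl⟩ := Subgroup.mem_sup.1 hh
      refine ⟨β, hβ, ?_⟩
      rw [hU, mem_suppSat]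
      exact ⟨h', hh', by rwa [mul_assoc]⟩
    -- assemble
    have hih1 := ih x hx
    have hih2 : ∀ ν : ↥B, μ * ((suppSat A' (x - tr (ν : A) x)).card : ℝ)
        ≤ Q l (x - tr (ν : A) x) := fun ν => ih _ (hy ν)
    have hsum : ∑ ν : ↥B, μ * (((U.filter fun a => a * (ν : A) ∉ U).card : ℝ)
          + ((U.filter fun a => a * (ν : A)⁻¹ ∉ U).card : ℝ))
        ≤ ∑ ν : ↥B, Q l (x - tr (ν : A) x) := by
      apply Finset.sum_le_sum
      intro ν _
      exact le_trans (mul_le_mul_of_nonneg_left (hclaim1 ν) hμ) (hih2 ν)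
    have hreindex : ∑ ν : ↥B, ((U.filter fun a => a * (ν : A)⁻¹ ∉ U).card : ℝ)
        = ∑ ν : ↥B, ((U.filter fun a => a * (ν : A) ∉ U).card : ℝ) := by
      apply Fintype.sum_equiv (Equiv.inv ↥B)
      intro ν
      simp only [Equiv.inv_apply, Subgroup.coe_inv]
    have hswap : ∑ ν : ↥B, ((U.filter fun a => a * (ν : A) ∉ U).card : ℝ)
        = ∑ a ∈ U, ((Finset.univ.filter fun ν : ↥B => a * (ν : A) ∉ U).card : ℝ) := by
      have e1 : ∀ ν : ↥B, ((U.filter fun a => a * (ν : A) ∉ U).card : ℝ)
          = ∑ a ∈ U, if a * (ν : A) ∉ U then (1 : ℝ) else 0 := by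
        intro ν
        rw [← Finset.sum_filter, Finset.sum_const, nsmul_eq_mul, mul_one]
      have e2 : ∀ a : A, ((Finset.univ.filter fun ν : ↥B => a * (ν : A) ∉ U).card : ℝ)
          = ∑ ν : ↥B, if a * (ν : A) ∉ U then (1 : ℝ) else 0 := by
        intro a
        rw [← Finset.sum_filter, Finset.sum_const, nsmul_eq_mul, mul_one]
      simp only [e1, e2]
      exact Finset.sum_comm
    have htotal : ∑ ν : ↥B, μ * (((U.filter fun a => a * (ν : A) ∉ U).card : ℝ)
          + ((U.filter fun a => a * (ν : A)⁻¹ ∉ U).card : ℝ))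
        = 2 * μ * ∑ a ∈ U, ((Finset.univ.filter fun ν : ↥B => a * (ν : A) ∉ U).card : ℝ) := by
      rw [← Finset.mul_sum, Finset.sum_add_distrib, hreindex, hswap]
      ring
    have hc2 : ∑ a ∈ U, (1 + ((Finset.univ.filter fun ν : ↥B => a * (ν : A) ∉ U).card : ℝ))
        = (U.card : ℝ) + ∑ a ∈ U, ((Finset.univ.filter fun ν : ↥B => a * (ν : A) ∉ U).card : ℝ) := by
      rw [Finset.sum_add_distrib, Finset.sum_const, nsmul_eq_mul, mul_one]
    rw [hc2] at hclaim2
    have h5 := mul_le_mul_of_nonneg_left hclaim2 hμ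
    rw [htotal] at hsum
    nlinarith
  
end Main

end Cfsg.Agent.Lib.Helper24.KGV
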