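import Mathlib
import Cfsg.Agent.Lib.Helper24.KGVComb

/-!
# Fourier analysis on a finite abelian group and Knörr's inequality (helper24 library)

`C` a finite abelian group with dual `C →* ℂˣ`.  The quadratic expression `Q` of `KGVComb` on the
dual group is a weighted Parseval sum on `C`; this gives `knorr_ineq`.
-/

set_option autoImplicit false

namespace Cfsg.Agent.Lib.Helper24.KGV

open scoped Classical ComplexConjugate

section Fourier

variable {C : Type*} [CommGroup C] [Fintype C]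

/-- the dual group is finite -/
noncomputable local instance dualFintype : Fintype (C →* ℂˣ) := Fintype.ofFinite _

theorem card_dual : Fintype.card (C →* ℂˣ) = Fintype.card C := by
  have h := CommGroup.card_monoidHom_of_hasEnoughRootsOfUnity C ℂ
  rw [Nat.card_eq_fintype_card, Nat.card_eq_fintype_card] at h
  exact h

theorem normSq_dual (φ : C →* ℂˣ) (c : C) : Complex.normSq ((φ c : ℂˣ) : ℂ) = 1 := by
  have h1 : ((φ c : ℂˣ) : ℂ) ^ Fintype.card C = 1 := by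
    rw [← Units.val_pow_eq_pow_val, ← map_pow, pow_card_eq_one, map_one, Units.val_one]
  have h2 : ‖((φ c : ℂˣ) : ℂ)‖ = 1 :=
    Complex.norm_eq_one_of_pow_eq_one h1 Fintype.card_ne_zero
  rw [Complex.normSq_eq_norm_sq, h2, one_pow]

theorem conj_dual (φ : C →* ℂˣ) (c : C) :
    conj ((φ c : ℂˣ) : ℂ) = (((φ c)⁻¹ : ℂˣ) : ℂ) := by
  have h1 := Complex.mul_conj ((φ c : ℂˣ) : ℂ)
  rw [normSq_dual, Complex.ofReal_one] at h1
  rw [Units.val_inv_eq_inv_val]
  exact eq_inv_of_mul_eq_one_right h1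

theorem sum_dual_apply (φ : C →* ℂˣ) :
    ∑ c, ((φ c : ℂˣ) : ℂ) = if φ = 1 then (Fintype.card C : ℂ) else 0 := by
  split_ifs with h
  · subst h
    simp
  · have : ∃ c₀, φ c₀ ≠ 1 := by
      by_contra hcon
      push Not at hcon
      exact h (MonoidHom.ext hcon)
    obtain ⟨c₀, hc₀⟩ := this
    have h1 : ∑ c, ((φ c : ℂˣ) : ℂ) = ((φ c₀ : ℂˣ) : ℂ) * ∑ c, ((φ c : ℂˣ) : ℂ) := by
      rw [Finset.mul_sum, ← Equiv.sum_comp (Equiv.mulLeft c₀)]
      apply Finset.sum_congr rfl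
      intro c _
      rw [Equiv.coe_mulLeft, map_mul, Units.val_mul]
    have h2 : (1 - ((φ c₀ : ℂˣ) : ℂ)) * ∑ c, ((φ c : ℂˣ) : ℂ) = 0 := by
      rw [sub_mul, one_mul, ← h1, sub_self]
    rcases mul_eq_zero.1 h2 with h3 | h3
    · exfalso
      apply hc₀
      apply Units.ext
      rw [Units.val_one]
      exact (sub_eq_zero.1 h3).symm
    · exact h3

theorem sum_apply_dual (c : C) :
    ∑ φ : C →* ℂˣ, ((φ c : ℂˣ) : ℂ) = if c = 1 then (Fintype.card C : ℂ) else 0 := by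
  split_ifs with h
  · subst h
    simp [card_dual]
  · obtain ⟨φ₀, hφ₀⟩ := CommGroup.exists_apply_ne_one_of_hasEnoughRootsOfUnity C ℂ h
    have h1 : ∑ φ : C →* ℂˣ, ((φ c : ℂˣ) : ℂ)
        = ((φ₀ c : ℂˣ) : ℂ) * ∑ φ : C →* ℂˣ, ((φ c : ℂˣ) : ℂ) := by
      rw [Finset.mul_sum, ← Equiv.sum_comp (Equiv.mulLeft φ₀)]
      apply Finset.sum_congr rfl
      intro φ _
      rw [Equiv.coe_mulLeft, MonoidHom.mul_apply, Units.val_mul]
    have h2 : (1 - ((φ₀ c : ℂˣ) : ℂ)) * ∑ φ : C →* ℂˣ, ((φ c : ℂˣ) : ℂ) = 0 := by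
      rw [sub_mul, one_mul, ← h1, sub_self]
    rcases mul_eq_zero.1 h2 with h3 | h3
    · exfalso
      apply hφ₀
      apply Units.ext
      rw [Units.val_one]
      exact (sub_eq_zero.1 h3).symm
    · exact h3

variable {J : Type*} [Fintype J]

/-- the Fourier transform of a function on the dual group -/
noncomputable def hat (x : (C →* ℂˣ) → J → ℂ) : C → J → ℂ :=
  fun c j => ∑ φ : C →* ℂˣ, ((φ c : ℂˣ) : ℂ) * x φ j

theorem hat_sub (x y : (C →* ℂˣ) → J → ℂ) : hat (x - y) = hat x - hat y := by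
  funext c j
  simp only [hat, Pi.sub_apply, mul_sub, Finset.sum_sub_distrib]

theorem hat_tr (ν : C →* ℂˣ) (x : (C →* ℂˣ) → J → ℂ) (c : C) :
    hat (tr ν x) c = (((ν c)⁻¹ : ℂˣ) : ℂ) • hat x c := by
  funext j
  simp only [hat, tr, Pi.smul_apply, smul_eq_mul]
  have hne : ((ν c : ℂˣ) : ℂ) ≠ 0 := Units.ne_zero _
  calc ∑ φ : C →* ℂˣ, ((φ c : ℂˣ) : ℂ) * x (φ * ν) j
      = ∑ φ : C →* ℂˣ, (((ν c)⁻¹ : ℂˣ) : ℂ) * ((((φ * ν) c : ℂˣ) : ℂ) * x (φ * ν) j) := by
        apply Finset.sum_congr rfl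
        intro φ _
        rw [MonoidHom.mul_apply, Units.val_mul, Units.val_inv_eq_inv_val]
        field_simp
    _ = ∑ φ : C →* ℂˣ, (((ν c)⁻¹ : ℂˣ) : ℂ) * (((φ c : ℂˣ) : ℂ) * x φ j) :=
        Equiv.sum_comp (Equiv.mulRight ν)
          (fun φ => (((ν c)⁻¹ : ℂˣ) : ℂ) * (((φ c : ℂˣ) : ℂ) * x φ j))
    _ = _ := by rw [Finset.mul_sum]

/-- scalar Parseval -/
theorem parseval_scalar (y : (C →* ℂˣ) → ℂ) :
    ∑ c, Complex.normSq (∑ φ : C →* ℂˣ, ((φ c : ℂˣ) : ℂ) * y φ)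
      = (Fintype.card C : ℝ) * ∑ φ : C →* ℂˣ, Complex.normSq (y φ) := by
  have hC : ∑ c, ((Complex.normSq (∑ φ : C →* ℂˣ, ((φ c : ℂˣ) : ℂ) * y φ) : ℝ) : ℂ)
      = (Fintype.card C : ℂ) * ∑ φ : C →* ℂˣ, ((Complex.normSq (y φ) : ℝ) : ℂ) := by
    have e1 : ∀ c : C, ((Complex.normSq (∑ φ : C →* ℂˣ, ((φ c : ℂˣ) : ℂ) * y φ) : ℝ) : ℂ)
        = ∑ φ : C →* ℂˣ, ∑ ψ : C →* ℂˣ,
            (y φ * conj (y ψ)) * (((φ * ψ⁻¹) c : ℂˣ) : ℂ) := by
      intro c
      rw [← Complex.mul_conj, map_sum, Finset.sum_mul_sum]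
      apply Finset.sum_congr rfl
      intro φ _
      apply Finset.sum_congr rfl
      intro ψ _
      rw [map_mul, conj_dual, MonoidHom.mul_apply, MonoidHom.inv_apply, Units.val_mul]
      ring
    simp only [e1]
    rw [Finset.sum_comm]
    have e2 : ∀ φ : C →* ℂˣ, ∑ c, ∑ ψ : C →* ℂˣ, (y φ * conj (y ψ)) * (((φ * ψ⁻¹) c : ℂˣ) : ℂ)
        = (Fintype.card C : ℂ) * ((Complex.normSq (y φ) : ℝ) : ℂ) := by
      intro φ
      rw [Finset.sum_comm]
      rw [Finset.sum_eq_single φ]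
      · rw [← Finset.mul_sum, sum_dual_apply, if_pos (mul_inv_cancel φ), Complex.mul_conj]
        ring
      · intro ψ _ hne
        rw [← Finset.mul_sum, sum_dual_apply, if_neg, mul_zero]
        intro h
        apply hne
        exact (mul_inv_eq_one.1 h).symm
      · intro h
        exact absurd (Finset.mem_univ _) h
    rw [Finset.sum_congr rfl (fun φ _ => e2 φ), Finset.mul_sum]
  have h2 : ((∑ c, Complex.normSq (∑ φ : C →* ℂˣ, ((φ c : ℂˣ) : ℂ) * y φ) : ℝ) : ℂ)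
      = (((Fintype.card C : ℝ) * ∑ φ : C →* ℂˣ, Complex.normSq (y φ) : ℝ) : ℂ) := by
    push_cast
    exact hC
  exact Complex.ofReal_injective h2

theorem parseval (x : (C →* ℂˣ) → J → ℂ) :
    ∑ c, nsq (hat x c) = (Fintype.card C : ℝ) * ∑ φ : C →* ℂˣ, nsq (x φ) := by
  unfold nsq hat
  rw [Finset.sum_comm]
  rw [Finset.sum_congr rfl (fun j _ => parseval_scalar (fun φ => x φ j))]
  rw [← Finset.mul_sum, Finset.sum_comm]

/-- Fourier inversion on a finite abelian group -/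
theorem fourier_inversion (D : C → ℂ) (c : C) :
    ∑ φ : C →* ℂˣ, ((φ c : ℂˣ) : ℂ) *
        ((Fintype.card C : ℂ)⁻¹ * ∑ c', (((φ c')⁻¹ : ℂˣ) : ℂ) * D c') = D c := by
  have hCc : (Fintype.card C : ℂ) ≠ 0 := by
    have := Fintype.card_ne_zero (α := C)
    exact_mod_cast this
  have e1 : ∀ φ : C →* ℂˣ, ((φ c : ℂˣ) : ℂ) *
      ((Fintype.card C : ℂ)⁻¹ * ∑ c', (((φ c')⁻¹ : ℂˣ) : ℂ) * D c')
      = (Fintype.card C : ℂ)⁻¹ * ∑ c', D c' * ((φ (c * c'⁻¹) : ℂˣ) : ℂ) := by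
    intro φ
    rw [mul_left_comm, Finset.mul_sum]
    congr 1
    apply Finset.sum_congr rfl
    intro c' _
    rw [map_mul, map_inv, Units.val_mul]
    ring
  rw [Finset.sum_congr rfl (fun φ _ => e1 φ), ← Finset.mul_sum, Finset.sum_comm]
  have e2 : ∀ c' : C, ∑ φ : C →* ℂˣ, D c' * ((φ (c * c'⁻¹) : ℂˣ) : ℂ)
      = if c' = c then (Fintype.card C : ℂ) * D c' else 0 := by
    intro c'
    rw [← Finset.mul_sum, sum_apply_dual]
    by_cases h : c' = c
    · subst h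
      rw [if_pos (mul_inv_cancel c'), if_pos rfl, mul_comm]
    · rw [if_neg, if_neg h, mul_zero]
      intro h'
      exact h (mul_inv_eq_one.1 h').symm
  rw [Finset.sum_congr rfl (fun c' _ => e2 c'), Finset.sum_ite_eq' Finset.univ c,
    if_pos (Finset.mem_univ _), ← mul_assoc, inv_mul_cancel₀ hCc, one_mul]

/-- the weight attached to a list of subgroups of the dual group -/
noncomputable def wt : List (Subgroup (C →* ℂˣ)) → C → ℝ
  | [], _ => 1
  | B :: l, c => wt l c *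
      (1 + (1 / 2 : ℝ) * ∑ ν : ↥B, Complex.normSq (1 - ((((ν : C →* ℂˣ) c)⁻¹ : ℂˣ) : ℂ)))

theorem wt_nonneg (l : List (Subgroup (C →* ℂˣ))) (c : C) : 0 ≤ wt l c := by
  induction l with
  | nil => exact zero_le_one
  | cons B l ih =>
    show 0 ≤ wt l c * _
    apply mul_nonneg ih
    have : 0 ≤ ∑ ν : ↥B, Complex.normSq (1 - ((((ν : C →* ℂˣ) c)⁻¹ : ℂˣ) : ℂ)) :=
      Finset.sum_nonneg fun ν _ => Complex.normSq_nonneg _
    linarith

theorem Q_eq (l : List (Subgroup (C →* ℂˣ))) :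
    ∀ x : (C →* ℂˣ) → J → ℂ,
      Q l x = (Fintype.card C : ℝ)⁻¹ * ∑ c, wt l c * nsq (hat x c) := by
  have hC : (Fintype.card C : ℝ) ≠ 0 := by
    have := Fintype.card_ne_zero (α := C)
    exact_mod_cast this
  induction l with
  | nil =>
    intro x
    show ∑ φ : C →* ℂˣ, nsq (x φ) = _
    simp only [wt, one_mul]
    rw [parseval, ← mul_assoc, inv_mul_cancel₀ hC, one_mul]
  | cons B l ih =>
    intro x
    show Q l x + (1 / 2 : ℝ) * ∑ ν : ↥B, Q l (x - tr (ν : C →* ℂˣ) x) = _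
    rw [ih x]
    have e1 : ∀ ν : ↥B, Q l (x - tr (ν : C →* ℂˣ) x)
        = (Fintype.card C : ℝ)⁻¹ * ∑ c, wt l c *
            (Complex.normSq (1 - ((((ν : C →* ℂˣ) c)⁻¹ : ℂˣ) : ℂ)) * nsq (hat x c)) := by
      intro ν
      rw [ih]
      congr 1
      apply Finset.sum_congr rfl
      intro c _
      congr 1
      rw [hat_sub, Pi.sub_apply, hat_tr, ← nsq_smul]
      congr 1
      rw [sub_smul, one_smul]
    rw [Finset.sum_congr rfl (fun ν _ => e1 ν), ← Finset.mul_sum, Finset.sum_comm]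
    rw [← mul_assoc, mul_comm (1 / 2 : ℝ), mul_assoc, ← mul_add, Finset.mul_sum,
      ← Finset.sum_add_distrib]
    congr 1
    apply Finset.sum_congr rfl
    intro c _
    show _ = wt l c * (1 + (1 / 2 : ℝ) * ∑ ν : ↥B, _) * _
    rw [← Finset.mul_sum, ← Finset.sum_mul]
    ring

/-- the sum of the values at `c` over a group of characters -/
theorem sum_subgroup_apply (B : Subgroup (C →* ℂˣ)) (c : C) :
    ∑ ν : ↥B, (((ν : C →* ℂˣ) c : ℂˣ) : ℂ)
      = if ∀ ν ∈ B, ν c = 1 then (Fintype.card ↥B : ℂ) else 0 := by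
  split_ifs with h
  · rw [Finset.sum_congr rfl (fun ν _ => by rw [h ν ν.2, Units.val_one])]
    simp
  · push Not at h
    obtain ⟨ν₀, hν₀, hne⟩ := h
    have h1 : ∑ ν : ↥B, (((ν : C →* ℂˣ) c : ℂˣ) : ℂ)
        = ((ν₀ c : ℂˣ) : ℂ) * ∑ ν : ↥B, (((ν : C →* ℂˣ) c : ℂˣ) : ℂ) := by
      rw [Finset.mul_sum, ← Equiv.sum_comp (Equiv.mulLeft (⟨ν₀, hν₀⟩ : ↥B))]
      apply Finset.sum_congr rfl
      intro ν _
      rw [Equiv.coe_mulLeft, Subgroup.coe_mul, MonoidHom.mul_apply, Units.val_mul]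
    have h2 : (1 - ((ν₀ c : ℂˣ) : ℂ)) * ∑ ν : ↥B, (((ν : C →* ℂˣ) c : ℂˣ) : ℂ) = 0 := by
      rw [sub_mul, one_mul, ← h1, sub_self]
    rcases mul_eq_zero.1 h2 with h3 | h3
    · exfalso
      apply hne
      apply Units.ext
      rw [Units.val_one]
      exact (sub_eq_zero.1 h3).symm
    · exact h3

theorem half_sum_eq (B : Subgroup (C →* ℂˣ)) (c : C) :
    (1 / 2 : ℝ) * ∑ ν : ↥B, Complex.normSq (1 - ((((ν : C →* ℂˣ) c)⁻¹ : ℂˣ) : ℂ))
      = if ∀ ν ∈ B, ν c = 1 then 0 else (Fintype.card ↥B : ℝ) := by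
  have e1 : ∀ ν : ↥B, Complex.normSq (1 - ((((ν : C →* ℂˣ) c)⁻¹ : ℂˣ) : ℂ))
      = 2 - 2 * ((((ν⁻¹ : ↥B) : C →* ℂˣ) c : ℂˣ) : ℂ).re := by
    intro ν
    rw [Complex.normSq_sub, Complex.normSq_one, one_mul]
    have h1 : Complex.normSq ((((ν : C →* ℂˣ) c)⁻¹ : ℂˣ) : ℂ) = 1 := by
      rw [← MonoidHom.inv_apply]
      exact normSq_dual _ c
    rw [h1, Complex.conj_re]
    have h2 : (((ν⁻¹ : ↥B) : C →* ℂˣ) c) = ((ν : C →* ℂˣ) c)⁻¹ := by
      rw [Subgroup.coe_inv, MonoidHom.inv_apply]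
    rw [h2]
    ring
  have e2 : ∑ ν : ↥B, ((((ν⁻¹ : ↥B) : C →* ℂˣ) c : ℂˣ) : ℂ).re
      = ∑ ν : ↥B, ((((ν : ↥B) : C →* ℂˣ) c : ℂˣ) : ℂ).re :=
    Fintype.sum_equiv (Equiv.inv ↥B) _ _ (fun ν => rfl)
  rw [Finset.sum_congr rfl (fun ν _ => e1 ν), Finset.sum_sub_distrib, ← Finset.mul_sum, e2,
    ← Complex.re_sum, sum_subgroup_apply]
  rw [Finset.sum_const, Finset.card_univ, nsmul_eq_mul]
  split_ifs with h
  · rw [Complex.natCast_re]
    ring
  · rw [Complex.zero_re]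
    ring

end Fourier

section Annihilator

variable {C : Type*} [CommGroup C] [Fintype C]

noncomputable local instance dualFintype' : Fintype (C →* ℂˣ) := Fintype.ofFinite _

/-- the annihilator of a subgroup in the dual group -/
def ann (K : Subgroup C) : Subgroup (C →* ℂˣ) where
  carrier := {φ | ∀ k ∈ K, φ k = 1}
  one_mem' := fun k _ => rfl
  mul_mem' := by
    intro φ ψ hφ hψ k hk
    rw [MonoidHom.mul_apply, hφ k hk, hψ k hk, one_mul]
  inv_mem' := by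
    intro φ hφ k hk
    rw [MonoidHom.inv_apply, hφ k hk, inv_one]

theorem mem_ann (K : Subgroup C) (φ : C →* ℂˣ) : φ ∈ ann K ↔ ∀ k ∈ K, φ k = 1 := Iff.rfl

theorem ann_eq (K : Subgroup C) :
    ann K = (CommGroup.subgroupOrderIsoSubgroupMonoidHom C ℂ K).ofDual := by
  ext φ
  rw [mem_ann, CommGroup.mem_subgroupOrderIsoSubgroupMonoidHom_iff]

theorem card_ann (K : Subgroup C) : Nat.card ↥(ann K) = K.index := by
  rw [ann_eq, CommGroup.card_subgroupOrderIsoSubgroupMonoidHom]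
  rfl

theorem ann_bot : ann (⊥ : Subgroup C) = ⊤ := by
  ext φ
  rw [mem_ann]
  constructor
  · intro _
    exact Subgroup.mem_top _
  · intro _ k hk
    rw [Subgroup.mem_bot] at hk
    rw [hk, map_one]

theorem ann_top : ann (⊤ : Subgroup C) = ⊥ := by
  ext φ
  rw [mem_ann, Subgroup.mem_bot]
  constructor
  · intro h
    exact MonoidHom.ext fun k => h k (Subgroup.mem_top _)
  · intro h k _
    rw [h]
    rfl

theorem ann_inf (K₁ K₂ : Subgroup C) : ann (K₁ ⊓ K₂) = ann K₁ ⊔ ann K₂ := by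
  rw [ann_eq, ann_eq, ann_eq, OrderIso.map_inf]
  rfl

/-- the meet of a list of subgroups -/
def infList : List (Subgroup C) → Subgroup C
  | [] => ⊤
  | K :: l => K ⊓ infList l

theorem supList_map_ann (l : List (Subgroup C)) : supList (l.map ann) = ann (infList l) := by
  induction l with
  | nil => exact ann_top.symm
  | cons K l ih =>
    show ann K ⊔ supList (l.map ann) = ann (K ⊓ infList l)
    rw [ih, ann_inf]

/-- the weight on the group side -/
noncomputable def wtK : List (Subgroup C) → C → ℝ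
  | [], _ => 1
  | K :: l, c => wtK l c * (1 + if c ∈ K then 0 else (K.index : ℝ))

theorem wt_le_wtK (l : List (Subgroup C)) (c : C) : wt (l.map ann) c ≤ wtK l c := by
  induction l with
  | nil => exact le_refl _
  | cons K l ih =>
    show wt (l.map ann) c * (1 + (1 / 2 : ℝ) * ∑ ν : ↥(ann K), _) ≤ wtK l c * _
    rw [half_sum_eq]
    apply mul_le_mul ih _ _ (le_trans (wt_nonneg _ c) ih)
    · by_cases hc : c ∈ K
      · rw [if_pos hc, if_pos]
        intro ν hν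
        exact hν c hc
      · rw [if_neg hc]
        have h1 : (Fintype.card ↥(ann K) : ℝ) = (K.index : ℝ) := by
          rw [← Nat.card_eq_fintype_card, card_ann]
        split_ifs
        · have : (0 : ℝ) ≤ (K.index : ℝ) := Nat.cast_nonneg _
          linarith
        · rw [h1]
    · split_ifs
      · linarith
      · have : (0 : ℝ) ≤ (Fintype.card ↥(ann K) : ℝ) := Nat.cast_nonneg _
        linarith

variable {J : Type*} [Fintype J]

/-- **Knörr's inequality.** -/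
theorem knorr_ineq (lK : List (Subgroup C)) (hinf : infList lK = ⊥) (W : C → ℝ)
    (hW : ∀ c, wtK lK c ≤ W c) (L : AddSubgroup (J → ℂ)) (μ : ℝ) (hμ : 0 ≤ μ)
    (hL : ∀ w ∈ L, w ≠ 0 → μ ≤ nsq w) (D : C → J → ℂ)
    (hD : ∀ φ : C →* ℂˣ,
      (fun j => (Fintype.card C : ℂ)⁻¹ * ∑ c, (((φ c)⁻¹ : ℂˣ) : ℂ) * D c j) ∈ L)
    (hD0 : D ≠ 0) :
    μ * (Fintype.card C : ℝ) ^ 2 ≤ ∑ c, W c * nsq (D c) := by
  have hCc : (Fintype.card C : ℂ) ≠ 0 := by
    have := Fintype.card_ne_zero (α := C)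
    exact_mod_cast this
  have hCr : (0 : ℝ) < (Fintype.card C : ℝ) := by
    have := Fintype.card_pos (α := C)
    exact_mod_cast this
  set x : (C →* ℂˣ) → J → ℂ :=
    fun φ j => (Fintype.card C : ℂ)⁻¹ * ∑ c, (((φ c)⁻¹ : ℂˣ) : ℂ) * D c j with hx
  have hhat : hat x = D := by
    funext c j
    simp only [hat, hx]
    have e1 : ∀ φ : C →* ℂˣ, ((φ c : ℂˣ) : ℂ) *
        ((Fintype.card C : ℂ)⁻¹ * ∑ c', (((φ c')⁻¹ : ℂˣ) : ℂ) * D c' j)
        = (Fintype.card C : ℂ)⁻¹ * ∑ c', D c' j * ((φ (c * c'⁻¹) : ℂˣ) : ℂ) := by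
      intro φ
      rw [mul_left_comm, Finset.mul_sum]
      congr 1
      apply Finset.sum_congr rfl
      intro c' _
      rw [map_mul, map_inv, Units.val_mul]
      ring
    rw [Finset.sum_congr rfl (fun φ _ => e1 φ), ← Finset.mul_sum, Finset.sum_comm]
    have e2 : ∀ c' : C, ∑ φ : C →* ℂˣ, D c' j * ((φ (c * c'⁻¹) : ℂˣ) : ℂ)
        = if c' = c then (Fintype.card C : ℂ) * D c' j else 0 := by
      intro c'
      rw [← Finset.mul_sum, sum_apply_dual]
      by_cases h : c' = c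
      · subst h
        rw [if_pos (mul_inv_cancel c'), if_pos rfl, mul_comm]
      · rw [if_neg, if_neg h, mul_zero]
        intro h'
        exact h (mul_inv_eq_one.1 h').symm
    rw [Finset.sum_congr rfl (fun c' _ => e2 c'), Finset.sum_ite_eq' Finset.univ c,
      if_pos (Finset.mem_univ _), ← mul_assoc, inv_mul_cancel₀ hCc, one_mul]
  have hx0 : x ≠ 0 := by
    intro h
    apply hD0
    rw [← hhat, h]
    funext c j
    simp [hat]
  have hxL : ∀ φ, x φ ∈ L := hD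
  have h1 := le_Q L μ hμ hL (lK.map ann) x hxL
  rw [supList_map_ann, hinf, ann_bot] at h1
  have hsupp : suppSat (⊤ : Subgroup (C →* ℂˣ)) x = Finset.univ := by
    have : ∃ φ₀, x φ₀ ≠ 0 := by
      by_contra hcon
      push Not at hcon
      exact hx0 (funext hcon)
    obtain ⟨φ₀, hφ₀⟩ := this
    apply Finset.eq_univ_of_forall
    intro a
    rw [mem_suppSat]
    refine ⟨a⁻¹ * φ₀, Subgroup.mem_top _, ?_⟩
    rw [show a * (a⁻¹ * φ₀) = φ₀ from mul_inv_cancel_left a φ₀]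
    exact hφ₀
  rw [hsupp, Finset.card_univ, card_dual, Q_eq, hhat] at h1
  have h2 : ∑ c, wt (lK.map ann) c * nsq (D c) ≤ ∑ c, W c * nsq (D c) := by
    apply Finset.sum_le_sum
    intro c _
    exact mul_le_mul_of_nonneg_right (le_trans (wt_le_wtK lK c) (hW c)) (nsq_nonneg _)
  have h3 : μ * (Fintype.card C : ℝ) * (Fintype.card C : ℝ)
      ≤ ∑ c, wt (lK.map ann) c * nsq (D c) := by
    rw [inv_mul_eq_div, le_div_iff₀ hCr] at h1
    exact h1
  calc μ * (Fintype.card C : ℝ) ^ 2 = μ * (Fintype.card C : ℝ) * (Fintype.card C : ℝ) := by ring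
    _ ≤ _ := h3
    _ ≤ _ := h2

end Annihilator

end Cfsg.Agent.Lib.Helper24.KGV
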