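import Mathlib
import Cfsg.Agent.Lib.Helper24.KGVFourier

/-!
# The lattice of values of generalized characters of a group of prime order (helper24 library)

`Z` a group of prime order `p`, `J = Z ∖ {1}`.  The vectors `(∑_λ a_λ λ(t))_{t ∈ J}` with integer
`a` form an additive subgroup of `J → ℂ` whose nonzero members have squared norm at least `p - 1`.
-/

set_option autoImplicit false

namespace Cfsg.Agent.Lib.Helper24.KGV

open scoped Classical ComplexConjugate

section Lattice

variable {Z : Type*} [CommGroup Z] [Fintype Z]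

noncomputable local instance dualFintypeZ : Fintype (Z →* ℂˣ) := Fintype.ofFinite _

/-- the value vector of the generalized character with coefficients `a` -/
noncomputable def valVec (a : (Z →* ℂˣ) → ℤ) : {t : Z // t ≠ 1} → ℂ :=
  fun t => ∑ lam : Z →* ℂˣ, (a lam : ℂ) * ((lam (t : Z) : ℂˣ) : ℂ)

/-- the lattice of value vectors -/
noncomputable def valLattice (Z : Type*) [CommGroup Z] [Fintype Z] :
    AddSubgroup ({t : Z // t ≠ 1} → ℂ) where
  carrier := {w | ∃ a : (Z →* ℂˣ) → ℤ, w = valVec a}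
  zero_mem' := by
    refine ⟨0, ?_⟩
    funext t
    simp [valVec]
  add_mem' := by
    rintro w w' ⟨a, rfl⟩ ⟨a', rfl⟩
    refine ⟨a + a', ?_⟩
    funext t
    simp only [valVec, Pi.add_apply, Int.cast_add, add_mul, Finset.sum_add_distrib]
  neg_mem' := by
    rintro w ⟨a, rfl⟩
    refine ⟨-a, ?_⟩
    funext t
    simp only [valVec, Pi.neg_apply, Int.cast_neg, neg_mul, Finset.sum_neg_distrib]

theorem mem_valLattice (w : {t : Z // t ≠ 1} → ℂ) :
    w ∈ valLattice Z ↔ ∃ a : (Z →* ℂˣ) → ℤ, w = valVec a := Iff.rfl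

/-- an integer inequality: a nonzero integer vector on `p` points vanishing at one point -/
theorem int_ineq {ι : Type*} [Fintype ι] (b : ι → ℤ) (i₀ : ι) (h0 : b i₀ = 0) (hb : b ≠ 0) :
    (Fintype.card ι : ℤ) - 1 ≤ (Fintype.card ι : ℤ) * ∑ i, b i ^ 2 - (∑ i, b i) ^ 2 := by
  set S : Finset ι := Finset.univ.filter fun i => b i ≠ 0 with hS
  have hsum1 : ∑ i, b i = ∑ i ∈ S, b i := by
    rw [hS, Finset.sum_filter]
    apply Finset.sum_congr rfl
    intro i _
    split_ifs with h
    · rfl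
    · push Not at h
      exact h
  have hsum2 : ∑ i, b i ^ 2 = ∑ i ∈ S, b i ^ 2 := by
    rw [hS, Finset.sum_filter]
    apply Finset.sum_congr rfl
    intro i _
    split_ifs with h
    · rfl
    · push Not at h
      rw [h]
      ring
  have hcs : (∑ i ∈ S, b i) ^ 2 ≤ (S.card : ℤ) * ∑ i ∈ S, b i ^ 2 :=
    sq_sum_le_card_mul_sum_sq
  have hge : (S.card : ℤ) ≤ ∑ i ∈ S, b i ^ 2 := by
    have : ∑ i ∈ S, (1 : ℤ) ≤ ∑ i ∈ S, b i ^ 2 := by
      apply Finset.sum_le_sum
      intro i hi
      rw [hS, Finset.mem_filter] at hi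
      have h1 : b i ≠ 0 := hi.2
      have h2 : 0 < b i ^ 2 := by positivity
      linarith
    simpa using this
  have hm1 : 1 ≤ (S.card : ℤ) := by
    have : ∃ i, b i ≠ 0 := by
      by_contra hcon
      push Not at hcon
      exact hb (funext hcon)
    obtain ⟨i, hi⟩ := this
    have : 0 < S.card := Finset.card_pos.2 ⟨i, by rw [hS, Finset.mem_filter]; exact ⟨Finset.mem_univ _, hi⟩⟩
    exact_mod_cast this
  have hm2 : (S.card : ℤ) ≤ (Fintype.card ι : ℤ) - 1 := by
    have hsub : S ⊆ Finset.univ.erase i₀ := by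
      intro i hi
      rw [hS, Finset.mem_filter] at hi
      rw [Finset.mem_erase]
      refine ⟨?_, Finset.mem_univ _⟩
      intro h
      rw [h] at hi
      exact hi.2 h0
    have h1 := Finset.card_le_card hsub
    rw [Finset.card_erase_of_mem (Finset.mem_univ _), Finset.card_univ] at h1
    have h2 : 0 < Fintype.card ι := Fintype.card_pos_iff.2 ⟨i₀⟩
    omega
  rw [hsum1, hsum2]
  nlinarith

variable (p : ℕ) [hp : Fact p.Prime]

/-- nonzero vectors of the lattice have squared norm at least `p - 1` -/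
theorem le_nsq_of_mem_valLattice (hZ : Fintype.card Z = p) (w : {t : Z // t ≠ 1} → ℂ)
    (hw : w ∈ valLattice Z) (hw0 : w ≠ 0) : ((p : ℝ) - 1) ≤ nsq w := by
  obtain ⟨a, rfl⟩ := hw
  -- shift so that the coefficient of the trivial character vanishes
  set b : (Z →* ℂˣ) → ℤ := fun lam => a lam - a 1 with hb
  have hval : ∀ t : {t : Z // t ≠ 1}, valVec a t = ∑ lam : Z →* ℂˣ, (b lam : ℂ) * ((lam (t : Z) : ℂˣ) : ℂ) := by
    intro t
    simp only [valVec, hb, Int.cast_sub, sub_mul, Finset.sum_sub_distrib]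
    rw [← Finset.mul_sum, sum_apply_dual, if_neg t.2, mul_zero, sub_zero]
  set F : Z → ℂ := fun t => ∑ lam : Z →* ℂˣ, ((lam t : ℂˣ) : ℂ) * (b lam : ℂ) with hF
  have hpars := parseval_scalar (C := Z) (fun lam => (b lam : ℂ))
  have hF1 : Complex.normSq (F 1) = ((∑ lam : Z →* ℂˣ, b lam : ℤ) : ℝ) ^ 2 := by
    have : F 1 = ((∑ lam : Z →* ℂˣ, b lam : ℤ) : ℂ) := by
      simp only [hF, map_one, Units.val_one, one_mul]
      push_cast
      rfl
    rw [this, ← Complex.ofReal_intCast, Complex.normSq_ofReal]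
    ring
  have hnsq : nsq (valVec a) = ∑ t : Z, Complex.normSq (F t) - Complex.normSq (F 1) := by
    unfold nsq
    have e1 : ∀ t : {t : Z // t ≠ 1}, Complex.normSq (valVec a t) = Complex.normSq (F (t : Z)) := by
      intro t
      rw [hval t]
      congr 1
      apply Finset.sum_congr rfl
      intro lam _
      ring
    rw [Finset.sum_congr rfl (fun t _ => e1 t)]
    have e2 : ∑ t : {t : Z // t ≠ 1}, Complex.normSq (F (t : Z))
        = ∑ t ∈ Finset.univ.filter (fun t : Z => t ≠ 1), Complex.normSq (F t) := by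
      rw [Finset.sum_subtype (p := fun t : Z => t ≠ 1) (Finset.univ.filter (fun t : Z => t ≠ 1))
        (fun t => by simp) (fun t => Complex.normSq (F t))]
    rw [e2, Finset.filter_ne' Finset.univ (1 : Z), Finset.sum_erase_eq_sub (Finset.mem_univ _)]
  have hnormb : ∀ lam : Z →* ℂˣ, Complex.normSq ((b lam : ℤ) : ℂ) = ((b lam ^ 2 : ℤ) : ℝ) := by
    intro lam
    rw [← Complex.ofReal_intCast, Complex.normSq_ofReal]
    push_cast
    ring
  have hb1 : b 1 = 0 := by simp [hb]
  have hb0 : b ≠ 0 := by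
    intro h
    apply hw0
    funext t
    rw [hval t]
    simp [h]
  have hcardD : Fintype.card (Z →* ℂˣ) = p := by rw [card_dual, hZ]
  have hint := int_ineq b 1 hb1 hb0
  rw [hcardD] at hint
  rw [hnsq]
  have hpars' : ∑ t : Z, Complex.normSq (F t) = (p : ℝ) * ((∑ lam : Z →* ℂˣ, b lam ^ 2 : ℤ) : ℝ) := by
    rw [hpars, hZ]
    congr 1
    rw [Finset.sum_congr rfl (fun lam _ => hnormb lam)]
    push_cast
    rfl
  rw [hpars', hF1]
  have : (((p : ℤ) - 1 : ℤ) : ℝ) ≤ (((p : ℤ) * ∑ lam : Z →* ℂˣ, b lam ^ 2 - (∑ lam : Z →* ℂˣ, b lam) ^ 2 : ℤ) : ℝ) := by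
    exact_mod_cast hint
  push_cast at this ⊢
  linarith

end Lattice

end Cfsg.Agent.Lib.Helper24.KGV
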