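import Mathlib
import Cfsg.Agent.Lib.Helper24.KGVFourier
import Cfsg.Agent.Lib.Helper23.ExtInvariant

/-!
# Decomposing a coprime module for an abelian group (helper24 library)

`C` a finite abelian group acting coprimely on an elementary abelian `p`-group `V`.  There is a list
of subgroups `K_i` of `C` (the kernels on the irreducible summands) with intersection the kernel of
the action and `∏ (1 + [c ∉ K_i] |C : K_i|) · |C_V(c)| ≤ |V|` for all `c`.
-/

set_option autoImplicit false

namespace Cfsg.Agent.Lib.Helper24.KGV

open scoped Classical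

section Module

variable {C : Type*} [CommGroup C] [Fintype C] {V : Type*} [Group V] [Finite V]

/-- the fixed points of `σ c` -/
def fixSub (σ : C →* MulAut V) (c : C) : Subgroup V where
  carrier := {u | σ c u = u}
  one_mem' := map_one _
  mul_mem' := by
    intro a b ha hb
    show σ c (a * b) = a * b
    rw [map_mul, ha, hb]
  inv_mem' := by
    intro a ha
    show σ c a⁻¹ = a⁻¹
    rw [map_inv, ha]

theorem mem_fixSub (σ : C →* MulAut V) (c : C) (u : V) : u ∈ fixSub σ c ↔ σ c u = u := Iff.rfl

/-- the kernel of the action on a subgroup -/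
def kerOn (σ : C →* MulAut V) (U : Subgroup V) : Subgroup C where
  carrier := {c | ∀ u ∈ U, σ c u = u}
  one_mem' := by
    intro u _
    rw [map_one]
    rfl
  mul_mem' := by
    intro a b ha hb u hu
    rw [map_mul, MulAut.mul_apply, hb u hu, ha u hu]
  inv_mem' := by
    intro a ha u hu
    rw [map_inv, MulAut.inv_apply, MulEquiv.symm_apply_eq, ha u hu]

theorem mem_kerOn (σ : C →* MulAut V) (U : Subgroup V) (c : C) :
    c ∈ kerOn σ U ↔ ∀ u ∈ U, σ c u = u := Iff.rfl

theorem wtK_nonneg (l : List (Subgroup C)) (c : C) : 0 ≤ wtK l c := by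
  induction l with
  | nil => exact zero_le_one
  | cons K l ih =>
    show 0 ≤ wtK l c * _
    apply mul_nonneg ih
    split_ifs
    · linarith
    · have : (0 : ℝ) ≤ (K.index : ℝ) := Nat.cast_nonneg _
      linarith

variable (hcomm : ∀ x y : V, x * y = y * x) (p : ℕ) [Fact p.Prime] (hexp : ∀ v : V, v ^ p = 1)
  (σ : C →* MulAut V) (hcop : (Nat.card C).Coprime (Nat.card V))

include hcomm hexp hcop in
theorem exists_list_aux : ∀ (n : ℕ) (U : Subgroup V), Nat.card U = n →
    (∀ c : C, ∀ u ∈ U, σ c u ∈ U) →
    ∃ lK : List (Subgroup C), infList lK = kerOn σ U ∧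
      ∀ c : C, wtK lK c * (Nat.card ↥(U ⊓ fixSub σ c) : ℝ) ≤ (Nat.card ↥U : ℝ) := by
  intro n
  induction n using Nat.strong_induction_on with
  | _ n ih =>
    intro U hn hU
    by_cases hbot : U = ⊥
    · refine ⟨[], ?_, ?_⟩
      · ext c
        rw [mem_kerOn]
        constructor
        · intro _ u hu
          rw [hbot, Subgroup.mem_bot] at hu
          rw [hu, map_one]
        · intro _
          exact Subgroup.mem_top _
      · intro c
        show 1 * _ ≤ _
        rw [one_mul]
        have := Subgroup.card_le_of_le (inf_le_left : U ⊓ fixSub σ c ≤ U)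
        exact_mod_cast this
    · -- a minimal nontrivial invariant subgroup
      let 𝒮 : Set (Subgroup V) := {S | S ≤ U ∧ S ≠ ⊥ ∧ ∀ c : C, ∀ u ∈ S, σ c u ∈ S}
      have h𝒮 : 𝒮.Nonempty := ⟨U, le_refl _, hbot, hU⟩
      obtain ⟨U₁, ⟨hU₁U, hU₁bot, hU₁inv⟩, hU₁min⟩ :=
        Set.exists_min_image 𝒮 (fun S => Nat.card S) (Set.toFinite 𝒮) h𝒮
      have hmin : ∀ S : Subgroup V, S ≤ U₁ → (∀ c : C, ∀ u ∈ S, σ c u ∈ S) → S = ⊥ ∨ S = U₁ := by
        intro S hS hSinv
        by_cases hSb : S = ⊥
        · exact Or.inl hSb
        · right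
          have h1 := hU₁min S ⟨le_trans hS hU₁U, hSb, hSinv⟩
          exact Subgroup.eq_of_le_of_card_ge hS h1
      obtain ⟨W', hW'inv, hW'1, hW'2⟩ :=
        Cfsg.Agent.Lib.Helper23.exists_invariant_complement_of_elementary hcomm p hexp σ hcop
          U₁ hU₁inv
      set U' : Subgroup V := U ⊓ W' with hU'
      have hU'inv : ∀ c : C, ∀ u ∈ U', σ c u ∈ U' := by
        intro c u hu
        exact ⟨hU c u hu.1, hW'inv c u hu.2⟩
      have hdisj : U₁ ⊓ U' = ⊥ := by
        apply le_antisymm _ bot_le
        rw [← hW'1]
        exact inf_le_inf_left _ inf_le_right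
      have hdecomp : ∀ u ∈ U, ∃ u₁ ∈ U₁, ∃ w ∈ U', u = u₁ * w := by
        intro u hu
        have h1 : u ∈ U₁ ⊔ W' := by rw [hW'2]; exact Subgroup.mem_top _
        haveI : W'.Normal := ⟨fun n hn g => by rw [hcomm g n, mul_inv_cancel_right]; exact hn⟩
        obtain ⟨u₁, hu₁, w, hw, rfl⟩ := Subgroup.mem_sup_of_normal_right.1 h1
        refine ⟨u₁, hu₁, w, ⟨?_, hw⟩, rfl⟩
        have : w = u₁⁻¹ * (u₁ * w) := by group
        rw [this]
        exact U.mul_mem (U.inv_mem (hU₁U hu₁)) hu
      have hmeet : ∀ a ∈ U₁, ∀ b ∈ U', a = b → a = 1 := by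
        intro a ha b hb hab
        have : a ∈ U₁ ⊓ U' := ⟨ha, hab ▸ hb⟩
        rw [hdisj, Subgroup.mem_bot] at this
        exact this
      -- `U'` is smaller
      have hU'lt : Nat.card U' < n := by
        rw [← hn]
        have hlt : U' < U := by
          refine lt_of_le_of_ne inf_le_left ?_
          intro h
          apply hU₁bot
          rw [eq_bot_iff, ← hdisj, h]
          exact le_inf (le_refl _) hU₁U
        have h1 : (U' : Set V) ⊂ (U : Set V) := by exact_mod_cast hlt
        have h2 := Set.ncard_lt_ncard h1 (Set.toFinite _)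
        rw [← Nat.card_coe_set_eq, ← Nat.card_coe_set_eq] at h2
        exact h2
      obtain ⟨lK', hinf', hwt'⟩ := ih _ hU'lt U' rfl hU'inv
      refine ⟨kerOn σ U₁ :: lK', ?_, ?_⟩
      · show kerOn σ U₁ ⊓ infList lK' = kerOn σ U
        rw [hinf']
        ext c
        rw [Subgroup.mem_inf, mem_kerOn, mem_kerOn, mem_kerOn]
        constructor
        · rintro ⟨h1, h2⟩ u hu
          obtain ⟨u₁, hu₁, w, hw, rfl⟩ := hdecomp u hu
          rw [map_mul, h1 u₁ hu₁, h2 w hw]
        · intro h
          exact ⟨fun u hu => h u (hU₁U hu), fun u hu => h u hu.1⟩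
      · intro c
        show wtK lK' c * (1 + if c ∈ kerOn σ U₁ then 0 else ((kerOn σ U₁).index : ℝ))
          * (Nat.card ↥(U ⊓ fixSub σ c) : ℝ) ≤ (Nat.card ↥U : ℝ)
        have A1 := hwt' c
        -- A3
        have A3 : Nat.card ↥(U ⊓ fixSub σ c)
            ≤ Nat.card ↥(U₁ ⊓ fixSub σ c) * Nat.card ↥(U' ⊓ fixSub σ c) := by
          rw [← Nat.card_prod]
          let f : ↥(U₁ ⊓ fixSub σ c) × ↥(U' ⊓ fixSub σ c) → ↥(U ⊓ fixSub σ c) :=
            fun x => ⟨(x.1 : V) * (x.2 : V),
              U.mul_mem (hU₁U x.1.2.1) x.2.2.1.1, (fixSub σ c).mul_mem x.1.2.2 x.2.2.2⟩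
          apply Nat.card_le_card_of_surjective f
          rintro ⟨u, huU, hufix⟩
          obtain ⟨u₁, hu₁, w, hw, rfl⟩ := hdecomp u huU
          have hufix' : σ c (u₁ * w) = u₁ * w := hufix
          rw [map_mul] at hufix'
          have h1 : u₁⁻¹ * σ c u₁ = w * (σ c w)⁻¹ := by
            have : σ c u₁ = u₁ * w * (σ c w)⁻¹ := by rw [← hufix']; group
            rw [this]
            group
          have h2 := hmeet (u₁⁻¹ * σ c u₁) (U₁.mul_mem (U₁.inv_mem hu₁) (hU₁inv c u₁ hu₁))
            (w * (σ c w)⁻¹) (U'.mul_mem hw (U'.inv_mem (hU'inv c w hw))) h1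
          have h3 : σ c u₁ = u₁ := by
            have := inv_mul_eq_one.1 h2
            exact this.symm
          have h4 : σ c w = w := by
            rw [h2] at h1
            have := mul_inv_eq_one.1 h1.symm
            exact this.symm
          exact ⟨(⟨u₁, hu₁, h3⟩, ⟨w, hw, h4⟩), rfl⟩
        -- A4
        have A4 : Nat.card ↥U₁ * Nat.card ↥U' ≤ Nat.card ↥U := by
          rw [← Nat.card_prod]
          let f : ↥U₁ × ↥U' → ↥U := fun x => ⟨(x.1 : V) * (x.2 : V),
            U.mul_mem (hU₁U x.1.2) x.2.2.1⟩
          apply Nat.card_le_card_of_injective f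
          rintro ⟨a, b⟩ ⟨a', b'⟩ h
          have h1 : (a : V) * (b : V) = (a' : V) * (b' : V) := congrArg Subtype.val h
          have h2 : (a' : V)⁻¹ * (a : V) = (b' : V) * (b : V)⁻¹ := by
            have : (a : V) = (a' : V) * (b' : V) * (b : V)⁻¹ := by rw [← h1]; group
            rw [this]
            group
          have h3 := hmeet _ (U₁.mul_mem (U₁.inv_mem a'.2) a.2) _
            (U'.mul_mem b'.2 (U'.inv_mem b.2)) h2
          have h4 : (a : V) = (a' : V) := (inv_mul_eq_one.1 h3).symm
          have h5 : (b : V) = (b' : V) := by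
            rw [h3] at h2
            exact (mul_inv_eq_one.1 h2.symm).symm
          exact Prod.ext (Subtype.ext h4) (Subtype.ext h5)
        -- A2
        have hSinv : ∀ d : C, ∀ c' : C, ∀ u ∈ U₁ ⊓ fixSub σ d, σ c' u ∈ U₁ ⊓ fixSub σ d := by
          intro d c' u hu
          refine ⟨hU₁inv c' u hu.1, ?_⟩
          show σ d (σ c' u) = σ c' u
          have h1 : σ d (σ c' u) = (σ d * σ c') u := rfl
          rw [h1, ← map_mul, mul_comm, map_mul]
          show σ c' (σ d u) = σ c' u
          have h2 : σ d u = u := hu.2
          rw [h2]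
        have A2 : (1 + if c ∈ kerOn σ U₁ then 0 else ((kerOn σ U₁).index : ℝ))
            * (Nat.card ↥(U₁ ⊓ fixSub σ c) : ℝ) ≤ (Nat.card ↥U₁ : ℝ) := by
          by_cases hc : c ∈ kerOn σ U₁
          · rw [if_pos hc, add_zero, one_mul]
            have := Subgroup.card_le_of_le (inf_le_left : U₁ ⊓ fixSub σ c ≤ U₁)
            exact_mod_cast this
          · rw [if_neg hc]
            have hS : U₁ ⊓ fixSub σ c = ⊥ := by
              rcases hmin _ inf_le_left (hSinv c) with h | h
              · exact h
              · exfalso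
                apply hc
                intro u hu
                have : u ∈ U₁ ⊓ fixSub σ c := by rw [h]; exact hu
                exact this.2
            rw [hS, Subgroup.card_bot, Nat.cast_one, mul_one]
            -- the index bound
            obtain ⟨u₀, hne⟩ := (Subgroup.ne_bot_iff_exists_ne_one.1 hU₁bot)
            have hu₀U : (u₀ : V) ∈ U₁ := u₀.2
            have hu₀1 : (u₀ : V) ≠ 1 := by
              intro h
              apply hne
              exact Subtype.ext h
            have hfixK : ∀ d : C, σ d (u₀ : V) = (u₀ : V) → d ∈ kerOn σ U₁ := by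
              intro d hd
              rcases hmin _ inf_le_left (hSinv d) with h | h
              · exfalso
                have : (u₀ : V) ∈ U₁ ⊓ fixSub σ d := ⟨hu₀U, hd⟩
                rw [h, Subgroup.mem_bot] at this
                exact hu₀1 this
              · intro u hu
                have : u ∈ U₁ ⊓ fixSub σ d := by rw [h]; exact hu
                exact this.2
            let g : C ⧸ kerOn σ U₁ → ↥U₁ := fun q =>
              Quotient.liftOn' q (fun d => (⟨σ d (u₀ : V), hU₁inv d _ hu₀U⟩ : ↥U₁)) (by
                intro d d' hdd'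
                rw [QuotientGroup.leftRel_apply] at hdd'
                apply Subtype.ext
                show σ d (u₀ : V) = σ d' (u₀ : V)
                have h1 := hdd' (u₀ : V) hu₀U
                rw [map_mul, map_inv, MulAut.mul_apply, MulAut.inv_apply,
                  MulEquiv.symm_apply_eq] at h1
                exact h1.symm)
            let f : Option (C ⧸ kerOn σ U₁) → ↥U₁ := fun o =>
              match o with
              | none => 1
              | some q => g q
            have hg1 : ∀ q, g q ≠ 1 := by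
              intro q
              induction q using Quotient.inductionOn' with
              | h d =>
                intro h
                have h1 : σ d (u₀ : V) = 1 := congrArg Subtype.val h
                rw [MulEquiv.map_eq_one_iff] at h1
                exact hu₀1 h1
            have hginj : Function.Injective g := by
              intro q q'
              induction q using Quotient.inductionOn' with
              | h d =>
                induction q' using Quotient.inductionOn' with
                | h d' =>
                  intro h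
                  have h1 : σ d (u₀ : V) = σ d' (u₀ : V) := congrArg Subtype.val h
                  apply Quotient.sound'
                  rw [QuotientGroup.leftRel_apply]
                  apply hfixK
                  rw [map_mul, map_inv, MulAut.mul_apply, MulAut.inv_apply,
                    MulEquiv.symm_apply_eq]
                  exact h1.symm
            have hfinj : Function.Injective f := by
              intro o o' h
              match o, o' with
              | none, none => rfl
              | none, some q => exact absurd h.symm (hg1 q)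
              | some q, none => exact absurd h (hg1 q)
              | some q, some q' => rw [hginj h]
            have h5 := Nat.card_le_card_of_injective f hfinj
            rw [Finite.card_option] at h5
            have h6 : (kerOn σ U₁).index = Nat.card (C ⧸ kerOn σ U₁) := rfl
            rw [h6]
            have : ((Nat.card (C ⧸ kerOn σ U₁) + 1 : ℕ) : ℝ) ≤ (Nat.card ↥U₁ : ℝ) := by
              exact_mod_cast h5
            push_cast at this
            linarith
        -- combine
        have hw0 := wtK_nonneg lK' c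
        have hf0 : (0 : ℝ) ≤ 1 + if c ∈ kerOn σ U₁ then 0 else ((kerOn σ U₁).index : ℝ) := by
          split_ifs
          · linarith
          · have : (0 : ℝ) ≤ ((kerOn σ U₁).index : ℝ) := Nat.cast_nonneg _
            linarith
        have A3' : (Nat.card ↥(U ⊓ fixSub σ c) : ℝ)
            ≤ (Nat.card ↥(U₁ ⊓ fixSub σ c) : ℝ) * (Nat.card ↥(U' ⊓ fixSub σ c) : ℝ) := by
          exact_mod_cast A3
        have A4' : (Nat.card ↥U₁ : ℝ) * (Nat.card ↥U' : ℝ) ≤ (Nat.card ↥U : ℝ) := by
          exact_mod_cast A4
        have hc1 : (0 : ℝ) ≤ (Nat.card ↥(U₁ ⊓ fixSub σ c) : ℝ) := Nat.cast_nonneg _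
        have hc2 : (0 : ℝ) ≤ (Nat.card ↥(U' ⊓ fixSub σ c) : ℝ) := Nat.cast_nonneg _
        calc wtK lK' c * (1 + if c ∈ kerOn σ U₁ then 0 else ((kerOn σ U₁).index : ℝ))
              * (Nat.card ↥(U ⊓ fixSub σ c) : ℝ)
            ≤ wtK lK' c * (1 + if c ∈ kerOn σ U₁ then 0 else ((kerOn σ U₁).index : ℝ))
              * ((Nat.card ↥(U₁ ⊓ fixSub σ c) : ℝ) * (Nat.card ↥(U' ⊓ fixSub σ c) : ℝ)) :=
              mul_le_mul_of_nonneg_left A3' (mul_nonneg hw0 hf0)
          _ = (wtK lK' c * (Nat.card ↥(U' ⊓ fixSub σ c) : ℝ))
              * ((1 + if c ∈ kerOn σ U₁ then 0 else ((kerOn σ U₁).index : ℝ))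
                * (Nat.card ↥(U₁ ⊓ fixSub σ c) : ℝ)) := by ring
          _ ≤ (Nat.card ↥U' : ℝ) * (Nat.card ↥U₁ : ℝ) :=
              mul_le_mul A1 A2 (mul_nonneg hf0 hc1) (Nat.cast_nonneg _)
          _ ≤ (Nat.card ↥U : ℝ) := by rw [mul_comm]; exact A4'

include hcomm hexp hcop in
/-- the decomposition list for the whole module -/
theorem exists_list :
    ∃ lK : List (Subgroup C), infList lK = kerOn σ ⊤ ∧
      ∀ c : C, wtK lK c * (Nat.card ↥(fixSub σ c) : ℝ) ≤ (Nat.card V : ℝ) := by
  obtain ⟨lK, h1, h2⟩ := exists_list_aux hcomm p hexp σ hcop _ ⊤ rfl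
    (fun _ _ _ => Subgroup.mem_top _)
  refine ⟨lK, h1, ?_⟩
  intro c
  have := h2 c
  rw [top_inf_eq, Subgroup.card_top] at this
  exact this

end Module

end Cfsg.Agent.Lib.Helper24.KGV
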