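import Mathlib
import Cfsg.Agent.Lib.Helper24.KGVLattice
import Cfsg.Agent.Lib.Helper24.KGVModule
import Cfsg.Agent.Lib.Helper7.KGV
import Cfsg.Agent.Lib.Helper7.LinearExt
import Cfsg.Agent.Lib.Helper2.Expansion
import Cfsg.Agent.Lib.Helper2.Induction

/-!
# Knörr's abelian-stabilizer criterion for `k(GV)` (helper24 library)

`X = V ⋊ G`, `V` elementary abelian self-centralizing normal Sylow `p`-subgroup, and `v ∈ V` with
`C_G(v)` abelian.  Then `k(X) ≤ |V|`.
-/

set_option autoImplicit false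

namespace Cfsg.Agent.Lib.Helper24.KGV

open scoped Classical ComplexConjugate

section GroupLemmas

variable {X : Type*} [Group X] [Finite X]

theorem mem_zpowers_pow_of_coprime' (a : X) {k : ℕ} (h : (orderOf a).Coprime k) :
    a ∈ Subgroup.zpowers (a ^ k) := by
  have hle : Subgroup.zpowers (a ^ k) ≤ Subgroup.zpowers a :=
    Subgroup.zpowers_le.mpr (Subgroup.pow_mem _ (Subgroup.mem_zpowers a) k)
  have hcard : Nat.card (Subgroup.zpowers a) ≤ Nat.card (Subgroup.zpowers (a ^ k)) := by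
    rw [Nat.card_zpowers, Nat.card_zpowers, Nat.Coprime.orderOf_pow h]
  have h1 := Subgroup.eq_of_le_of_card_ge hle hcard
  rw [h1]
  exact Subgroup.mem_zpowers a

theorem mem_zpowers_mul_left_of_coprime {a b : X} (hab : Commute a b)
    (hcop : (orderOf a).Coprime (orderOf b)) : a ∈ Subgroup.zpowers (a * b) := by
  have h1 : (a * b) ^ orderOf b = a ^ orderOf b := by
    rw [hab.mul_pow, pow_orderOf_eq_one, mul_one]
  have h2 : a ^ orderOf b ∈ Subgroup.zpowers (a * b) := by
    rw [← h1]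
    exact Subgroup.pow_mem _ (Subgroup.mem_zpowers _) _
  exact (Subgroup.zpowers_le.mpr h2) (mem_zpowers_pow_of_coprime' a hcop)

theorem commute_of_mem_zpowers_right {y z a : X} (h : Commute y z) (ha : a ∈ Subgroup.zpowers z) :
    Commute y a := by
  obtain ⟨i, rfl⟩ := Subgroup.mem_zpowers_iff.mp ha
  exact h.zpow_right i

/-- the centralizer of `t c` in `X = V G` -/
theorem card_centralizer_mul (V G : Subgroup X) (hVab : ∀ a ∈ V, ∀ b ∈ V, a * b = b * a)
    (hGV : Subgroup.IsComplement' V G) {v t c : X} (hv : v ∈ V)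
    (ht : t ∈ Subgroup.zpowers v) (hvt : v ∈ Subgroup.zpowers t)
    (hc : c ∈ G ⊓ Subgroup.centralizer ({v} : Set X))
    (hcop : (orderOf t).Coprime (orderOf c))
    (hab : ∀ a ∈ G ⊓ Subgroup.centralizer ({v} : Set X),
      ∀ b ∈ G ⊓ Subgroup.centralizer ({v} : Set X), a * b = b * a) :
    Nat.card (Subgroup.centralizer ({t * c} : Set X))
      = Nat.card ↥(V ⊓ Subgroup.centralizer ({c} : Set X))
        * Nat.card ↥(G ⊓ Subgroup.centralizer ({v} : Set X)) := by
  have htV : t ∈ V := (Subgroup.zpowers_le.mpr hv) ht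
  have hcv : Commute c v := by
    have := Subgroup.mem_centralizer_singleton_iff.1 hc.2
    exact this
  have hct : Commute c t := commute_of_mem_zpowers_right hcv ht
  have htc : Commute t c := hct.symm
  let f : ↥(V ⊓ Subgroup.centralizer ({c} : Set X)) × ↥(G ⊓ Subgroup.centralizer ({v} : Set X))
      → ↥(Subgroup.centralizer ({t * c} : Set X)) := fun x =>
    ⟨(x.1 : X) * (x.2 : X), by
      rw [Subgroup.mem_centralizer_singleton_iff]
      have hu1 : Commute (x.1 : X) t := hVab _ x.1.2.1 _ htV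
      have hu2 : Commute (x.1 : X) c := Subgroup.mem_centralizer_singleton_iff.1 x.1.2.2
      have hw0 : Commute (x.2 : X) v := Subgroup.mem_centralizer_singleton_iff.1 x.2.2.2
      have hw1 : Commute (x.2 : X) t := commute_of_mem_zpowers_right hw0 ht
      have hw2 : Commute (x.2 : X) c := hab _ x.2.2 _ hc
      exact ((hu1.mul_right hu2).mul_left (hw1.mul_right hw2)).eq⟩
  have hf : Function.Bijective f := by
    constructor
    · intro a b hab'
      have h1 : (a.1 : X) * (a.2 : X) = (b.1 : X) * (b.2 : X) := congrArg Subtype.val hab'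
      have h2 := hGV.1
        (a₁ := ((⟨(a.1 : X), a.1.2.1⟩ : ↥(V : Set X)), (⟨(a.2 : X), a.2.2.1⟩ : ↥(G : Set X))))
        (a₂ := ((⟨(b.1 : X), b.1.2.1⟩ : ↥(V : Set X)), (⟨(b.2 : X), b.2.2.1⟩ : ↥(G : Set X)))) h1
      have h3 := congrArg (fun z => (z.1 : X)) h2
      have h4 := congrArg (fun z => (z.2 : X)) h2
      simp only at h3 h4
      apply Prod.ext
      · exact Subtype.ext h3
      · exact Subtype.ext h4
    · intro y
      have hy : Commute (y : X) (t * c) := Subgroup.mem_centralizer_singleton_iff.1 y.2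
      have hyt : Commute (y : X) t :=
        commute_of_mem_zpowers_right hy (mem_zpowers_mul_left_of_coprime htc hcop)
      have hyc : Commute (y : X) c := by
        have h1 : c ∈ Subgroup.zpowers (t * c) := by
          rw [htc.eq]
          exact mem_zpowers_mul_left_of_coprime hct hcop.symm
        exact commute_of_mem_zpowers_right hy h1
      have hyv : Commute (y : X) v := commute_of_mem_zpowers_right hyt hvt
      obtain ⟨⟨u, w⟩, huw⟩ := hGV.2 (y : X)
      simp only at huw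
      have huv : Commute (u : X) v := hVab _ u.2 _ hv
      have hwv : Commute (w : X) v := by
        have : (w : X) = (u : X)⁻¹ * (y : X) := by rw [← huw]; group
        rw [this]
        exact huv.inv_left.mul_left hyv
      have hwC : (w : X) ∈ G ⊓ Subgroup.centralizer ({v} : Set X) :=
        ⟨w.2, Subgroup.mem_centralizer_singleton_iff.2 hwv.eq⟩
      have hwc : Commute (w : X) c := hab _ hwC _ hc
      have huc : Commute (u : X) c := by
        have : (u : X) = (y : X) * (w : X)⁻¹ := by rw [← huw]; group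
        rw [this]
        exact hyc.mul_left hwc.inv_left
      exact ⟨(⟨(u : X), u.2, Subgroup.mem_centralizer_singleton_iff.2 huc.eq⟩, ⟨(w : X), hwC⟩),
        Subtype.ext huw⟩
  rw [← Nat.card_prod]
  exact (Nat.card_congr (Equiv.ofBijective f hf)).symm

end GroupLemmas

section Coefficients

variable {X : Type*} [Group X] {C Z : Type*} [CommGroup C] [Fintype C] [CommGroup Z] [Fintype Z]

noncomputable local instance dualFintypeC : Fintype (C →* ℂˣ) := Fintype.ofFinite _
noncomputable local instance dualFintypeZ' : Fintype (Z →* ℂˣ) := Fintype.ofFinite _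

/-- the Fourier coefficients (along `C`) of a character on a product of two commuting abelian
subgroups lie in the value lattice of the second factor -/
theorem coeff_mem_valLattice (ιC : C →* X) (ιZ : Z →* X) (hcomm : ∀ c t, Commute (ιC c) (ιZ t))
    {χ : X → ℂ} (hχ : Cfsg.IsCharacter X χ) (φ : C →* ℂˣ) :
    (fun t : {t : Z // t ≠ 1} => (Fintype.card C : ℂ)⁻¹ *
      ∑ c, (((φ c)⁻¹ : ℂˣ) : ℂ) * χ (ιZ (t : Z) * ιC c)) ∈ valLattice Z := by
  let m : C × Z →* X := MonoidHom.noncommCoprod ιC ιZ hcomm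
  have hm : ∀ x : C × Z, m x = ιC x.1 * ιZ x.2 := fun x => rfl
  have hΨ : Cfsg.IsCharacter (C × Z) (fun x => χ (m x)) :=
    Cfsg.Agent.Lib.Helper2.IsCharacter.comp hχ m
  let θ : (Z →* ℂˣ) → (C × Z →* ℂˣ) := fun lam =>
    (φ.comp (MonoidHom.fst C Z)) * (lam.comp (MonoidHom.snd C Z))
  have hθ : ∀ lam : Z →* ℂˣ, Cfsg.IsCharacter (C × Z)
      (Cfsg.Agent.Lib.Helper7.coeFunHom (C × Z) (θ lam)) :=
    fun lam => (Cfsg.Agent.Lib.Helper7.isCharacter_coeFunHom (θ lam)).1
  have hn := fun lam => Cfsg.Agent.Lib.Helper2.classInner_isCharacter_nat hΨ (hθ lam)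
  choose n hn using hn
  refine ⟨fun lam => (n lam : ℤ), ?_⟩
  funext t
  set g : Z → ℂ := fun t => (Fintype.card C : ℂ)⁻¹ *
      ∑ c, (((φ c)⁻¹ : ℂˣ) : ℂ) * χ (ιZ t * ιC c) with hg
  have hCc : (Fintype.card C : ℂ) ≠ 0 := by
    have := Fintype.card_ne_zero (α := C)
    exact_mod_cast this
  have hZc : (Fintype.card Z : ℂ) ≠ 0 := by
    have := Fintype.card_ne_zero (α := Z)
    exact_mod_cast this
  have hcoef : ∀ lam : Z →* ℂˣ,
      (Fintype.card Z : ℂ)⁻¹ * ∑ t', (((lam t')⁻¹ : ℂˣ) : ℂ) * g t' = (n lam : ℂ) := by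
    intro lam
    rw [← hn lam, Cfsg.Agent.Lib.Helper2.classInner_def, Fintype.sum_prod_type, Finset.sum_comm]
    have hcard : (Nat.card (C × Z) : ℂ) = (Fintype.card Z : ℂ) * (Fintype.card C : ℂ) := by
      rw [Nat.card_eq_fintype_card, Fintype.card_prod]
      push_cast
      ring
    rw [hcard, mul_inv, mul_assoc]
    congr 1
    rw [Finset.mul_sum]
    apply Finset.sum_congr rfl
    intro t' _
    have hterm : ∀ c : C, χ (m (c, t')) * conj (Cfsg.Agent.Lib.Helper7.coeFunHom (C × Z) (θ lam) (c, t'))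
        = (((lam t')⁻¹ : ℂˣ) : ℂ) * ((((φ c)⁻¹ : ℂˣ) : ℂ) * χ (ιZ t' * ιC c)) := by
      intro c
      rw [hm, (hcomm c t').eq, Cfsg.Agent.Lib.Helper7.coeFunHom_apply]
      have hval : ((θ lam (c, t') : ℂˣ) : ℂ) = ((φ c : ℂˣ) : ℂ) * ((lam t' : ℂˣ) : ℂ) := by
        show (((φ c) * (lam t') : ℂˣ) : ℂ) = _
        rw [Units.val_mul]
      rw [hval, map_mul, conj_dual, conj_dual]
      ring
    rw [Finset.sum_congr rfl (fun c _ => hterm c), ← Finset.mul_sum]
    simp only [hg]
    ring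
  have hinv := fourier_inversion (C := Z) g (t : Z)
  show g (t : Z) = valVec (fun lam => (n lam : ℤ)) t
  rw [← hinv]
  unfold valVec
  apply Finset.sum_congr rfl
  intro lam _
  rw [hcoef lam]
  push_cast
  ring

end Coefficients

section Main

universe u

variable {X : Type u} [Group X] [Finite X]

/-- **Knörr's abelian stabilizer criterion**, for a nonidentity vector. -/
theorem card_conjClasses_le_aux (p : ℕ) [Fact p.Prime] (V : Subgroup X) [V.Normal]
    (hVexp : ∀ v ∈ V, v ^ p = 1) (hidx : ¬ p ∣ V.index)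
    (hself : Subgroup.centralizer (V : Set X) = V) (G : Subgroup X)
    (hGV : Subgroup.IsComplement' V G) (v : X) (hv : v ∈ V) (hv1 : v ≠ 1)
    (hab : ∀ a ∈ G ⊓ Subgroup.centralizer ({v} : Set X),
      ∀ b ∈ G ⊓ Subgroup.centralizer ({v} : Set X), a * b = b * a) :
    Nat.card (ConjClasses X) ≤ Nat.card V := by
  classical
  haveI : Fintype X := Fintype.ofFinite X
  haveI : Fintype (Cfsg.IrrCharacter X) := Fintype.ofFinite _
  have hp : p.Prime := Fact.out
  have hVab : ∀ a ∈ V, ∀ b ∈ V, a * b = b * a := by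
    intro a ha b hb
    have h1 : a ∈ Subgroup.centralizer (V : Set X) := by rw [hself]; exact ha
    exact (Subgroup.mem_centralizer_iff.1 h1 b hb).symm
  have hVp : IsPGroup p V := fun g => ⟨1, by rw [pow_one]; exact Subtype.ext (hVexp g g.2)⟩
  have hov : orderOf v = p := orderOf_eq_prime (hVexp v hv) hv1
  have hne : ∀ χ : Cfsg.IrrCharacter X, (χ : X → ℂ) v ≠ 0 := fun χ =>
    Cfsg.Agent.Lib.Helper7.irr_apply_ne_zero_of_mem_abelian_normal_sylow p V hVp hidx
      hVab χ.2 hv
  set C : Subgroup X := G ⊓ Subgroup.centralizer ({v} : Set X) with hC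
  letI instC : CommGroup ↥C :=
    { (inferInstance : Group ↥C) with mul_comm := fun a b => Subtype.ext (hab a a.2 b b.2) }
  haveI : Fintype ↥C := Fintype.ofFinite _
  set Z : Subgroup X := Subgroup.zpowers v with hZ
  letI instZ : CommGroup ↥Z :=
    { (inferInstance : Group ↥Z) with
      mul_comm := fun a b => by
        obtain ⟨i, hi⟩ := Subgroup.mem_zpowers_iff.1 a.2
        obtain ⟨j, hj⟩ := Subgroup.mem_zpowers_iff.1 b.2
        apply Subtype.ext
        show (a : X) * (b : X) = (b : X) * (a : X)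
        rw [← hi, ← hj]
        exact ((Commute.refl v).zpow_zpow i j).eq }
  haveI : Fintype ↥Z := Fintype.ofFinite _
  have hZcard : Fintype.card ↥Z = p := by
    rw [← Nat.card_eq_fintype_card, Nat.card_zpowers, hov]
  have hZV : Z ≤ V := Subgroup.zpowers_le.mpr hv
  -- the action of `C` on `V`
  let σ : ↥C →* MulAut ↥V := (MulAut.conjNormal (H := V)).comp C.subtype
  have hσ : ∀ (c : ↥C) (u : ↥V), ((σ c u : ↥V) : X) = (c : X) * (u : X) * (c : X)⁻¹ :=
    fun c u => MulAut.conjNormal_apply (c : X) u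
  have hcommV : ∀ x y : ↥V, x * y = y * x := fun x y => Subtype.ext (hVab x x.2 y y.2)
  have hexpV : ∀ u : ↥V, u ^ p = 1 := fun u => Subtype.ext (by
    rw [Subgroup.coe_pow, Subgroup.coe_one]; exact hVexp u u.2)
  have hGcard : Nat.card G = V.index := hGV.symm.index_eq_card.symm
  have hCcop : (Nat.card ↥C).Coprime p := by
    rw [Nat.coprime_comm, Nat.Prime.coprime_iff_not_dvd hp]
    intro h
    apply hidx
    rw [← hGcard]
    exact dvd_trans h (Subgroup.card_dvd_of_le inf_le_left)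
  have hcop : (Nat.card ↥C).Coprime (Nat.card ↥V) := by
    obtain ⟨k, hk⟩ := hVp.exists_card_eq
    rw [hk]
    exact Nat.Coprime.pow_right k hCcop
  obtain ⟨lK, hinf, hwt⟩ := exists_list hcommV p hexpV σ hcop
  have hker : kerOn σ ⊤ = ⊥ := by
    rw [eq_bot_iff]
    intro c hc
    rw [Subgroup.mem_bot]
    have h1 : (c : X) ∈ Subgroup.centralizer (V : Set X) := by
      rw [Subgroup.mem_centralizer_iff]
      intro u hu
      have h2 := hc ⟨u, hu⟩ (Subgroup.mem_top _)
      have h3 := congrArg Subtype.val h2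
      rw [hσ] at h3
      have h4 : (c : X) * u * (c : X)⁻¹ = u := h3
      have : (c : X) * u = u * (c : X) := by
        calc (c : X) * u = (c : X) * u * (c : X)⁻¹ * (c : X) := by group
          _ = u * (c : X) := by rw [h4]
      exact this.symm
    rw [hself] at h1
    have h5 := Subgroup.disjoint_def.1 hGV.disjoint h1 c.2.1
    exact Subtype.ext h5
  rw [hker] at hinf
  -- fixed points
  have hfixcard : ∀ c : ↥C, Nat.card ↥(fixSub σ c)
      = Nat.card ↥(V ⊓ Subgroup.centralizer ({(c : X)} : Set X)) := by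
    intro c
    apply Nat.card_congr
    refine
      { toFun := fun u => ⟨((u : ↥V) : X), (u : ↥V).2, ?_⟩
        invFun := fun w => ⟨⟨(w : X), w.2.1⟩, ?_⟩
        left_inv := fun u => rfl
        right_inv := fun w => rfl }
    · apply Subgroup.mem_centralizer_singleton_iff.2
      have h2 : σ c (u : ↥V) = (u : ↥V) := u.2
      have h3 := congrArg Subtype.val h2
      rw [hσ] at h3
      have : ((u : ↥V) : X) * (c : X) = (c : X) * ((u : ↥V) : X) := by
        nth_rewrite 1 [← h3]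
        group
      exact this
    · show σ c ⟨(w : X), w.2.1⟩ = ⟨(w : X), w.2.1⟩
      apply Subtype.ext
      rw [hσ]
      have h2 := Subgroup.mem_centralizer_singleton_iff.1 w.2.2
      show (c : X) * (w : X) * (c : X)⁻¹ = (w : X)
      rw [← h2]
      group
  have hfixpos : ∀ c : ↥C, (0 : ℝ) < (Nat.card ↥(fixSub σ c) : ℝ) := by
    intro c
    have : 0 < Nat.card ↥(fixSub σ c) := Nat.card_pos
    exact_mod_cast this
  set W : ↥C → ℝ := fun c => (Nat.card ↥V : ℝ) / (Nat.card ↥(fixSub σ c) : ℝ) with hWdef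
  have hW : ∀ c, wtK lK c ≤ W c := by
    intro c
    rw [hWdef, le_div_iff₀ (hfixpos c)]
    exact hwt c
  -- the vectors `D χ`
  let ιC : ↥C →* X := C.subtype
  let ιZ : ↥Z →* X := Z.subtype
  have hcommCZ : ∀ (c : ↥C) (t : ↥Z), Commute (ιC c) (ιZ t) := by
    intro c t
    have h1 : Commute (c : X) v := Subgroup.mem_centralizer_singleton_iff.1 c.2.2
    exact commute_of_mem_zpowers_right h1 t.2
  have hv1' : (⟨v, Subgroup.mem_zpowers v⟩ : ↥Z) ≠ 1 := by
    intro h
    exact hv1 (congrArg Subtype.val h)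
  have hp1 : (0 : ℝ) < (p : ℝ) - 1 := by
    have : 2 ≤ p := hp.two_le
    have : (2 : ℝ) ≤ (p : ℝ) := by exact_mod_cast this
    linarith
  have hCpos : (0 : ℝ) < (Fintype.card ↥C : ℝ) := by
    have := Fintype.card_pos (α := ↥C)
    exact_mod_cast this
  have hmain : ∀ χ : Cfsg.IrrCharacter X,
      ((p : ℝ) - 1) * (Fintype.card ↥C : ℝ) ^ 2
        ≤ ∑ c : ↥C, W c * ∑ t : {t : ↥Z // t ≠ 1},
            Complex.normSq ((χ : X → ℂ) (((t : ↥Z) : X) * (c : X))) := by
    intro χ
    have hχ : Cfsg.IsCharacter X (χ : X → ℂ) :=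
      Cfsg.Agent.Lib.Helper2.IsIrrCharacter.isCharacter χ.2
    let D : ↥C → {t : ↥Z // t ≠ 1} → ℂ :=
      fun c t => (χ : X → ℂ) (((t : ↥Z) : X) * (c : X))
    have hDL : ∀ φ : ↥C →* ℂˣ,
        (fun j => (Fintype.card ↥C : ℂ)⁻¹ * ∑ c, (((φ c)⁻¹ : ℂˣ) : ℂ) * D c j) ∈ valLattice ↥Z :=
      fun φ => coeff_mem_valLattice ιC ιZ hcommCZ hχ φ
    have hD0 : D ≠ 0 := by
      intro h
      have h1 := congrFun (congrFun h 1) ⟨⟨v, Subgroup.mem_zpowers v⟩, hv1'⟩
      have h2 : (χ : X → ℂ) (v * ((1 : ↥C) : X)) = 0 := h1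
      rw [Subgroup.coe_one, mul_one] at h2
      exact hne χ h2
    have hL : ∀ w ∈ valLattice ↥Z, w ≠ 0 → (p : ℝ) - 1 ≤ nsq w := by
      intro w hw hw0
      have h0 := le_nsq_of_mem_valLattice p hZcard w hw hw0
      convert h0 using 2
    have := knorr_ineq (C := ↥C) (J := {t : ↥Z // t ≠ 1}) lK hinf W hW (valLattice ↥Z)
      ((p : ℝ) - 1) hp1.le hL D hDL hD0
    have hnsq : ∀ c : ↥C, nsq (D c) = ∑ t : {t : ↥Z // t ≠ 1},
        Complex.normSq ((χ : X → ℂ) (((t : ↥Z) : X) * (c : X))) := fun c => rfl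
    rw [Finset.sum_congr rfl (fun c _ => by rw [hnsq c])] at this
    exact this
  -- summing over the characters
  have hcol : ∀ (c : ↥C) (t : {t : ↥Z // t ≠ 1}),
      ∑ χ : Cfsg.IrrCharacter X, Complex.normSq ((χ : X → ℂ) (((t : ↥Z) : X) * (c : X)))
        = (Nat.card ↥(fixSub σ c) : ℝ) * (Fintype.card ↥C : ℝ) := by
    intro c t
    have h1 := Cfsg.Agent.Lib.Helper7.sum_irr_norm_sq (X := X) (((t : ↥Z) : X) * (c : X))
    have h2 : ∀ χ : Cfsg.IrrCharacter X,
        Complex.normSq ((χ : X → ℂ) (((t : ↥Z) : X) * (c : X)))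
          = ‖(χ : X → ℂ) (((t : ↥Z) : X) * (c : X))‖ ^ 2 :=
      fun χ => Complex.normSq_eq_norm_sq _
    rw [Finset.sum_congr rfl (fun χ _ => h2 χ), h1]
    -- the generator property
    have htne : ((t : ↥Z) : X) ≠ 1 := by
      intro h
      apply t.2
      exact Subtype.ext h
    have hot : orderOf ((t : ↥Z) : X) = p := by
      apply orderOf_eq_prime _ htne
      exact hVexp _ (hZV (t : ↥Z).2)
    have hvt : v ∈ Subgroup.zpowers ((t : ↥Z) : X) := by
      have hle : Subgroup.zpowers ((t : ↥Z) : X) ≤ Z := Subgroup.zpowers_le.mpr (t : ↥Z).2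
      have hcard : Nat.card ↥Z ≤ Nat.card ↥(Subgroup.zpowers ((t : ↥Z) : X)) := by
        rw [Nat.card_zpowers, Nat.card_zpowers, hov, hot]
      rw [Subgroup.eq_of_le_of_card_ge hle hcard]
      exact Subgroup.mem_zpowers v
    have hcopo : (orderOf ((t : ↥Z) : X)).Coprime (orderOf (c : X)) := by
      rw [hot, Nat.Prime.coprime_iff_not_dvd hp]
      intro h
      have h3 : orderOf (c : X) ∣ Nat.card ↥C := by
        have := orderOf_dvd_natCard (c : ↥C)
        rwa [Subgroup.orderOf_coe] at *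
      exact (Nat.Prime.coprime_iff_not_dvd hp).1 hCcop.symm (dvd_trans h h3)
    rw [card_centralizer_mul V G hVab hGV hv (t : ↥Z).2 hvt c.2 hcopo hab, ← hfixcard c,
      Nat.card_eq_fintype_card (α := ↥C)]
    push_cast
    rfl
  have hJcard : (Fintype.card {t : ↥Z // t ≠ 1} : ℝ) = (p : ℝ) - 1 := by
    have h1 := Fintype.card_subtype_compl (fun t : ↥Z => t = 1)
    rw [Fintype.card_subtype_eq, hZcard] at h1
    have h2 : Fintype.card {t : ↥Z // t ≠ 1} = p - 1 := h1
    rw [h2, Nat.cast_sub hp.one_le, Nat.cast_one]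
  have hVpos : (0 : ℝ) < (Nat.card ↥V : ℝ) := by
    have : 0 < Nat.card ↥V := Nat.card_pos
    exact_mod_cast this
  have htotal : ∑ χ : Cfsg.IrrCharacter X, ∑ c : ↥C, W c * ∑ t : {t : ↥Z // t ≠ 1},
      Complex.normSq ((χ : X → ℂ) (((t : ↥Z) : X) * (c : X)))
      = (Fintype.card ↥C : ℝ) * (((p : ℝ) - 1) * (Nat.card ↥V : ℝ) * (Fintype.card ↥C : ℝ)) := by
    rw [Finset.sum_comm]
    have e1 : ∀ c : ↥C, ∑ χ : Cfsg.IrrCharacter X, W c * ∑ t : {t : ↥Z // t ≠ 1},
        Complex.normSq ((χ : X → ℂ) (((t : ↥Z) : X) * (c : X)))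
        = ((p : ℝ) - 1) * (Nat.card ↥V : ℝ) * (Fintype.card ↥C : ℝ) := by
      intro c
      rw [← Finset.mul_sum, Finset.sum_comm, Finset.sum_congr rfl (fun t _ => hcol c t),
        Finset.sum_const, Finset.card_univ, nsmul_eq_mul, hJcard, hWdef]
      have := (hfixpos c).ne'
      field_simp
    rw [Finset.sum_congr rfl (fun c _ => e1 c), Finset.sum_const, Finset.card_univ, nsmul_eq_mul]
  have hsum : (Fintype.card (Cfsg.IrrCharacter X) : ℝ) * (((p : ℝ) - 1) * (Fintype.card ↥C : ℝ) ^ 2)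
      ≤ (Fintype.card ↥C : ℝ) * (((p : ℝ) - 1) * (Nat.card ↥V : ℝ) * (Fintype.card ↥C : ℝ)) := by
    rw [← htotal]
    calc (Fintype.card (Cfsg.IrrCharacter X) : ℝ) * (((p : ℝ) - 1) * (Fintype.card ↥C : ℝ) ^ 2)
        = ∑ _χ : Cfsg.IrrCharacter X, (((p : ℝ) - 1) * (Fintype.card ↥C : ℝ) ^ 2) := by
          rw [Finset.sum_const, Finset.card_univ, nsmul_eq_mul]
      _ ≤ _ := Finset.sum_le_sum (fun χ _ => hmain χ)
  have hfinal : (Fintype.card (Cfsg.IrrCharacter X) : ℝ) ≤ (Nat.card ↥V : ℝ) := by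
    have hpos : (0 : ℝ) < ((p : ℝ) - 1) * (Fintype.card ↥C : ℝ) ^ 2 := by positivity
    have h1 : (Fintype.card ↥C : ℝ) * (((p : ℝ) - 1) * (Nat.card ↥V : ℝ) * (Fintype.card ↥C : ℝ))
        = (Nat.card ↥V : ℝ) * (((p : ℝ) - 1) * (Fintype.card ↥C : ℝ) ^ 2) := by ring
    rw [h1] at hsum
    exact le_of_mul_le_mul_right hsum hpos
  rw [← Cfsg.Agent.Lib.Helper2.card_irrCharacter, Nat.card_eq_fintype_card]
  exact_mod_cast hfinal

end Main

end Cfsg.Agent.Lib.Helper24.KGV
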