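import Mathlib

/-!
# A sign-reversing involution on normal chains of `p`-subgroups (helper24 library)

Let `X` be a nontrivial `p`-subgroup of the finite group `G`.  On the set of nonempty chains `s` of
nontrivial `p`-subgroups, each normal in the largest member, which are normalized by `X`, other
than the chain `{X}`, we construct an involution `tau X` changing the length by one and
preserving `C ⊓ N_G(s)` for every subgroup `C` normalizing `X`.  Consequence: the alternating
sum formula `alternating_sum`.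
-/

set_option autoImplicit false

namespace Cfsg.Agent.Lib.Helper24.KRChain

open Classical

section Normalizer

variable {G : Type*} [Group G]

theorem mem_normalizer_of_conj (S : Subgroup G) (c : G)
    (h1 : ∀ n ∈ S, c * n * c⁻¹ ∈ S) (h2 : ∀ n ∈ S, c⁻¹ * n * c ∈ S) :
    c ∈ Subgroup.normalizer (S : Set G) := by
  rw [Subgroup.mem_normalizer_iff]
  intro n
  constructor
  · exact h1 n
  · intro h
    have := h2 _ h
    have e : c⁻¹ * (c * n * c⁻¹) * c = n := by group
    rwa [e] at this

theorem conj_mem_of_mem_normalizer {S : Subgroup G} {c : G}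
    (hc : c ∈ Subgroup.normalizer (S : Set G)) {n : G} (hn : n ∈ S) : c * n * c⁻¹ ∈ S :=
  (Subgroup.mem_normalizer_iff.mp hc n).mp hn

theorem conj_inv_mem_of_mem_normalizer {S : Subgroup G} {c : G}
    (hc : c ∈ Subgroup.normalizer (S : Set G)) {n : G} (hn : n ∈ S) : c⁻¹ * n * c ∈ S := by
  have := conj_mem_of_mem_normalizer (Subgroup.inv_mem _ hc) hn
  simpa using this

theorem mem_normalizer_sup {A B : Subgroup G} {c : G}
    (hA : c ∈ Subgroup.normalizer (A : Set G)) (hB : c ∈ Subgroup.normalizer (B : Set G)) :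
    c ∈ Subgroup.normalizer ((A ⊔ B : Subgroup G) : Set G) := by
  rw [Subgroup.mem_normalizer_iff_map_conj_eq] at hA hB ⊢
  rw [Subgroup.map_sup, hA, hB]

theorem mem_normalizer_bot (c : G) : c ∈ Subgroup.normalizer (((⊥ : Subgroup G)) : Set G) := by
  rw [Subgroup.mem_normalizer_iff_map_conj_eq, Subgroup.map_bot]

theorem mem_normalizer_finset_sup (t : Finset (Subgroup G)) {c : G}
    (h : ∀ Q ∈ t, c ∈ Subgroup.normalizer ((Q : Subgroup G) : Set G)) :
    c ∈ Subgroup.normalizer ((t.sup id : Subgroup G) : Set G) := by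
  induction t using Finset.induction_on with
  | empty =>
    rw [Finset.sup_empty]
    exact mem_normalizer_bot c
  | insert a t ha ih =>
    rw [Finset.sup_insert]
    exact mem_normalizer_sup (h a (Finset.mem_insert_self _ _))
      (ih (fun Q hQ => h Q (Finset.mem_insert_of_mem hQ)))

/-- the smallest subgroup containing `A` and `X` that is normalized by `T` -/
def Wgen (A T X : Subgroup G) : Subgroup G :=
  sInf {N : Subgroup G | A ≤ N ∧ X ≤ N ∧ T ≤ Subgroup.normalizer (N : Set G)}

theorem le_Wgen_left (A T X : Subgroup G) : A ≤ Wgen A T X := le_sInf (fun _ hN => hN.1)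

theorem le_Wgen_right (A T X : Subgroup G) : X ≤ Wgen A T X := le_sInf (fun _ hN => hN.2.1)

theorem Wgen_le {A T X N : Subgroup G} (h1 : A ≤ N) (h2 : X ≤ N)
    (h3 : T ≤ Subgroup.normalizer (N : Set G)) : Wgen A T X ≤ N := sInf_le ⟨h1, h2, h3⟩

theorem le_normalizer_Wgen (A T X : Subgroup G) :
    T ≤ Subgroup.normalizer ((Wgen A T X : Subgroup G) : Set G) := by
  intro t ht
  apply mem_normalizer_of_conj
  · intro n hn
    unfold Wgen at hn ⊢
    rw [Subgroup.mem_sInf] at hn ⊢
    intro N hN
    exact conj_mem_of_mem_normalizer (hN.2.2 ht) (hn N hN)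
  · intro n hn
    unfold Wgen at hn ⊢
    rw [Subgroup.mem_sInf] at hn ⊢
    intro N hN
    exact conj_inv_mem_of_mem_normalizer (hN.2.2 ht) (hn N hN)

theorem conj_mem_Wgen {A T X : Subgroup G} {c : G}
    (hA : c ∈ Subgroup.normalizer (A : Set G)) (hT : c ∈ Subgroup.normalizer (T : Set G))
    (hX : c ∈ Subgroup.normalizer (X : Set G)) {n : G} (hn : n ∈ Wgen A T X) :
    c * n * c⁻¹ ∈ Wgen A T X := by
  unfold Wgen
  rw [Subgroup.mem_sInf]
  intro N hN
  have hN' : Wgen A T X ≤ N.comap (MulAut.conj c).toMonoidHom := by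
    apply Wgen_le
    · intro a ha
      show c * a * c⁻¹ ∈ N
      exact hN.1 (conj_mem_of_mem_normalizer hA ha)
    · intro a ha
      show c * a * c⁻¹ ∈ N
      exact hN.2.1 (conj_mem_of_mem_normalizer hX ha)
    · intro t ht
      have ht' : c * t * c⁻¹ ∈ T := conj_mem_of_mem_normalizer hT ht
      apply mem_normalizer_of_conj
      · intro m hm
        show c * (t * m * t⁻¹) * c⁻¹ ∈ N
        have hm' : c * m * c⁻¹ ∈ N := hm
        have := conj_mem_of_mem_normalizer (hN.2.2 ht') hm'
        have e : c * t * c⁻¹ * (c * m * c⁻¹) * (c * t * c⁻¹)⁻¹ = c * (t * m * t⁻¹) * c⁻¹ := by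
          group
        rwa [e] at this
      · intro m hm
        show c * (t⁻¹ * m * t) * c⁻¹ ∈ N
        have hm' : c * m * c⁻¹ ∈ N := hm
        have := conj_inv_mem_of_mem_normalizer (hN.2.2 ht') hm'
        have e : (c * t * c⁻¹)⁻¹ * (c * m * c⁻¹) * (c * t * c⁻¹) = c * (t⁻¹ * m * t) * c⁻¹ := by
          group
        rwa [e] at this
  exact hN' hn

theorem mem_normalizer_Wgen {A T X : Subgroup G} {c : G}
    (hA : c ∈ Subgroup.normalizer (A : Set G)) (hT : c ∈ Subgroup.normalizer (T : Set G))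
    (hX : c ∈ Subgroup.normalizer (X : Set G)) :
    c ∈ Subgroup.normalizer ((Wgen A T X : Subgroup G) : Set G) := by
  apply mem_normalizer_of_conj
  · intro n hn
    exact conj_mem_Wgen hA hT hX hn
  · intro n hn
    have := conj_mem_Wgen (Subgroup.inv_mem _ hA) (Subgroup.inv_mem _ hT)
      (Subgroup.inv_mem _ hX) hn
    simpa using this

theorem Wgen_self_sup (A X : Subgroup G) : Wgen A (A ⊔ X) X = A ⊔ X :=
  le_antisymm (Wgen_le le_sup_left le_sup_right Subgroup.le_normalizer)
    (sup_le (le_Wgen_left _ _ _) (le_Wgen_right _ _ _))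

/-- in a finite `p`-group a subgroup whose normal closure is everything is everything -/
theorem eq_of_normal_closure_eq [Finite G] (p : ℕ) [Fact p.Prime] {T Y : Subgroup G}
    (hT : IsPGroup p T) (hY : Y ≤ T)
    (h : ∀ N : Subgroup G, Y ≤ N → T ≤ Subgroup.normalizer (N : Set G) → T ≤ N) : Y = T := by
  by_contra hne
  have hlt : Y.subgroupOf T ≠ ⊤ := by
    intro htop
    rw [Subgroup.subgroupOf_eq_top] at htop
    exact hne (le_antisymm hY htop)
  obtain ⟨N', hN', hle⟩ := (eq_top_or_exists_le_coatom (Y.subgroupOf T)).resolve_left hlt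
  haveI : Group.IsNilpotent T := hT.isNilpotent
  have hnorm : N'.Normal :=
    Subgroup.NormalizerCondition.normal_of_coatom N' normalizerCondition_of_isNilpotent hN'
  have h1 : Y ≤ N'.map T.subtype := by
    intro y hy
    exact ⟨⟨y, hY hy⟩, hle (Subgroup.mem_subgroupOf.mpr hy), rfl⟩
  have h2 : T ≤ Subgroup.normalizer ((N'.map T.subtype : Subgroup G) : Set G) := by
    intro t ht
    apply mem_normalizer_of_conj
    · rintro _ ⟨n, hn, rfl⟩
      exact ⟨⟨t, ht⟩ * n * ⟨t, ht⟩⁻¹, hnorm.conj_mem n hn ⟨t, ht⟩, rfl⟩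
    · rintro _ ⟨n, hn, rfl⟩
      refine ⟨⟨t, ht⟩⁻¹ * n * ⟨t, ht⟩, ?_, rfl⟩
      have := hnorm.conj_mem n hn ⟨t, ht⟩⁻¹
      simpa using this
  have h3 := h _ h1 h2
  apply hN'.1
  rw [eq_top_iff]
  intro t _
  obtain ⟨n, hn, hnt⟩ := h3 t.2
  have : n = t := Subtype.ext hnt
  rwa [← this]

/-- the supremum of a nonempty finite chain is a member -/
theorem sup_mem_of_chain (t : Finset (Subgroup G)) (ht : t.Nonempty)
    (hc : ∀ Q ∈ t, ∀ R ∈ t, Q ≤ R ∨ R ≤ Q) : t.sup id ∈ t := by
  induction ht using Finset.Nonempty.cons_induction with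
  | singleton a =>
    rw [Finset.sup_singleton]
    exact Finset.mem_singleton_self _
  | cons a t ha htne ih =>
    have ih' := ih (fun Q hQ R hR => hc Q (Finset.mem_cons.mpr (Or.inr hQ)) R
      (Finset.mem_cons.mpr (Or.inr hR)))
    rw [Finset.sup_cons]
    rcases hc a (Finset.mem_cons_self _ _) (t.sup id) (Finset.mem_cons.mpr (Or.inr ih')) with h | h
    · have : id a ⊔ t.sup id = t.sup id := sup_eq_right.mpr h
      rw [this]
      exact Finset.mem_cons.mpr (Or.inr ih')
    · have : id a ⊔ t.sup id = a := sup_eq_left.mpr h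
      rw [this]
      exact Finset.mem_cons_self _ _

end Normalizer

section Chains

variable {G : Type*} [Group G]

/-- the chains of the Knörr–Robinson sum -/
def IsNormalChain (p : ℕ) (s : Finset (Subgroup G)) : Prop :=
  s.Nonempty ∧ (∀ Q ∈ s, ∀ R ∈ s, Q ≤ R ∨ R ≤ Q) ∧ (∀ Q ∈ s, Q ≠ ⊥ ∧ IsPGroup p Q) ∧
    ∃ T ∈ s, ∀ Q ∈ s, Q ≤ T ∧ T ≤ Subgroup.normalizer ((Q : Subgroup G) : Set G)

/-- the stabilizer of a chain -/
def stab (s : Finset (Subgroup G)) : Subgroup G :=
  ⨅ Q ∈ s, Subgroup.normalizer ((Q : Subgroup G) : Set G)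

theorem mem_stab_iff (s : Finset (Subgroup G)) (c : G) :
    c ∈ stab s ↔ ∀ Q ∈ s, c ∈ Subgroup.normalizer ((Q : Subgroup G) : Set G) := by
  unfold stab
  simp only [Subgroup.mem_iInf]

theorem le_stab_iff (s : Finset (Subgroup G)) (K : Subgroup G) :
    K ≤ stab s ↔ ∀ Q ∈ s, K ≤ Subgroup.normalizer ((Q : Subgroup G) : Set G) := by
  constructor
  · intro h Q hQ k hk
    exact (mem_stab_iff s k).mp (h hk) Q hQ
  · intro h k hk
    rw [mem_stab_iff]
    intro Q hQ
    exact h Q hQ hk

variable (X : Subgroup G)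

/-- the members of the chain not containing `X` -/
noncomputable def low (s : Finset (Subgroup G)) : Finset (Subgroup G) := s.filter (fun Q => ¬ X ≤ Q)

/-- the largest member not containing `X` (or `⊥`) -/
noncomputable def lowSup (s : Finset (Subgroup G)) : Subgroup G := (low X s).sup id

/-- the largest member -/
def top (s : Finset (Subgroup G)) : Subgroup G := s.sup id

/-- the subgroup to be inserted or deleted -/
noncomputable def W (s : Finset (Subgroup G)) : Subgroup G := Wgen (lowSup X s) (top s ⊔ X) X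

/-- the involution -/
noncomputable def tau (s : Finset (Subgroup G)) : Finset (Subgroup G) :=
  if W X s ∈ s then s.erase (W X s) else insert (W X s) s

theorem mem_low {s : Finset (Subgroup G)} {Q : Subgroup G} :
    Q ∈ low X s ↔ Q ∈ s ∧ ¬ X ≤ Q := by
  unfold low
  rw [Finset.mem_filter]

theorem lowSup_le_top (s : Finset (Subgroup G)) : lowSup X s ≤ top s :=
  Finset.sup_mono (Finset.filter_subset _ _)

theorem le_top {s : Finset (Subgroup G)} {Q : Subgroup G} (hQ : Q ∈ s) : Q ≤ top s :=
  Finset.le_sup (f := id) hQ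

theorem le_lowSup {s : Finset (Subgroup G)} {Q : Subgroup G} (hQ : Q ∈ s) (hXQ : ¬ X ≤ Q) :
    Q ≤ lowSup X s :=
  Finset.le_sup (f := id) ((mem_low X).mpr ⟨hQ, hXQ⟩)

theorem X_le_W (s : Finset (Subgroup G)) : X ≤ W X s := le_Wgen_right _ _ _

theorem lowSup_le_W (s : Finset (Subgroup G)) : lowSup X s ≤ W X s := le_Wgen_left _ _ _

theorem W_le_top_sup (s : Finset (Subgroup G)) : W X s ≤ top s ⊔ X :=
  Wgen_le ((lowSup_le_top X s).trans le_sup_left) le_sup_right Subgroup.le_normalizer

theorem top_sup_le_normalizer_W (s : Finset (Subgroup G)) :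
    top s ⊔ X ≤ Subgroup.normalizer ((W X s : Subgroup G) : Set G) := le_normalizer_Wgen _ _ _

/-- elements stabilizing the chain and normalizing `X` normalize `W` -/
theorem mem_normalizer_W (s : Finset (Subgroup G)) {c : G} (hc : c ∈ stab s)
    (hX : c ∈ Subgroup.normalizer (X : Set G)) :
    c ∈ Subgroup.normalizer ((W X s : Subgroup G) : Set G) := by
  rw [mem_stab_iff] at hc
  apply mem_normalizer_Wgen
  · exact mem_normalizer_finset_sup _ (fun Q hQ => hc Q ((mem_low X).mp hQ).1)
  · exact mem_normalizer_sup (mem_normalizer_finset_sup _ hc) hX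
  · exact hX

theorem low_insert (s : Finset (Subgroup G)) : low X (insert (W X s) s) = low X s := by
  unfold low
  rw [Finset.filter_insert, if_neg (not_not.mpr (X_le_W X s))]

theorem low_erase (s : Finset (Subgroup G)) : low X (s.erase (W X s)) = low X s := by
  ext Q
  rw [mem_low, mem_low, Finset.mem_erase]
  constructor
  · rintro ⟨⟨_, h2⟩, h3⟩
    exact ⟨h2, h3⟩
  · rintro ⟨h2, h3⟩
    refine ⟨⟨?_, h2⟩, h3⟩
    rintro rfl
    exact h3 (X_le_W X s)

theorem W_insert (s : Finset (Subgroup G)) : W X (insert (W X s) s) = W X s := by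
  have h1 : lowSup X (insert (W X s) s) = lowSup X s := by
    unfold lowSup
    rw [low_insert]
  have h2 : top (insert (W X s) s) ⊔ X = top s ⊔ X := by
    unfold top
    rw [Finset.sup_insert]
    apply le_antisymm
    · exact sup_le (sup_le (W_le_top_sup X s) le_sup_left) le_sup_right
    · exact sup_le (le_sup_left.trans' le_sup_right) le_sup_right
  show Wgen (lowSup X (insert (W X s) s)) (top (insert (W X s) s) ⊔ X) X
    = Wgen (lowSup X s) (top s ⊔ X) X
  rw [h1, h2]

end Chains

section Valid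

variable {G : Type*} [Group G] [Finite G] {p : ℕ} [Fact p.Prime] {X : Subgroup G}
  {s : Finset (Subgroup G)}

theorem top_spec (hs : IsNormalChain p s) :
    top s ∈ s ∧ ∀ Q ∈ s, Q ≤ top s ∧ top s ≤ Subgroup.normalizer ((Q : Subgroup G) : Set G) := by
  obtain ⟨T₀, hT₀, hall⟩ := hs.2.2.2
  have e : top s = T₀ :=
    le_antisymm (Finset.sup_le (fun Q hQ => (hall Q hQ).1)) (Finset.le_sup (f := id) hT₀)
  rw [e]
  exact ⟨hT₀, hall⟩

theorem lowSup_le_of_high (hs : IsNormalChain p s) {Q : Subgroup G} (hQ : Q ∈ s) (hXQ : X ≤ Q) :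
    lowSup X s ≤ Q := by
  apply Finset.sup_le
  intro R hR
  rw [mem_low] at hR
  rcases hs.2.1 R hR.1 Q hQ with h | h
  · exact h
  · exact absurd (hXQ.trans h) hR.2

theorem not_le_lowSup (hs : IsNormalChain p s) (hX1 : X ≠ ⊥) : ¬ X ≤ lowSup X s := by
  by_cases hne : (low X s).Nonempty
  · have hmem : lowSup X s ∈ low X s := sup_mem_of_chain _ hne (fun Q hQ R hR =>
      hs.2.1 Q ((mem_low X).mp hQ).1 R ((mem_low X).mp hR).1)
    exact ((mem_low X).mp hmem).2
  · rw [Finset.not_nonempty_iff_eq_empty] at hne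
    unfold lowSup
    rw [hne, Finset.sup_empty]
    intro h
    exact hX1 (le_bot_iff.mp h)

theorem top_sup_le_normalizer (hs : IsNormalChain p s) (hXs : X ≤ stab s) {Q : Subgroup G}
    (hQ : Q ∈ s) : top s ⊔ X ≤ Subgroup.normalizer ((Q : Subgroup G) : Set G) :=
  sup_le ((top_spec hs).2 Q hQ).2 ((le_stab_iff s X).mp hXs Q hQ)

theorem W_le_of_high (hs : IsNormalChain p s) (hXs : X ≤ stab s) {Q : Subgroup G} (hQ : Q ∈ s)
    (hXQ : X ≤ Q) : W X s ≤ Q :=
  Wgen_le (lowSup_le_of_high hs hQ hXQ) hXQ (top_sup_le_normalizer hs hXs hQ)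

theorem top_sup_isPGroup (hs : IsNormalChain p s) (hXs : X ≤ stab s) (hXp : IsPGroup p X) :
    IsPGroup p (top s ⊔ X : Subgroup G) :=
  IsPGroup.to_sup_of_normal_left' (hs.2.2.1 _ (top_spec hs).1).2 hXp
    ((le_stab_iff s X).mp hXs _ (top_spec hs).1)

theorem W_chain (hs : IsNormalChain p s) (hXs : X ≤ stab s) {Q : Subgroup G} (hQ : Q ∈ s) :
    Q ≤ W X s ∨ W X s ≤ Q := by
  by_cases hXQ : X ≤ Q
  · exact Or.inr (W_le_of_high hs hXs hQ hXQ)
  · exact Or.inl ((le_lowSup X hQ hXQ).trans (lowSup_le_W X s))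

/-- a criterion for normal chains -/
theorem isNormalChain_of (s' : Finset (Subgroup G)) (hne : s'.Nonempty)
    (hc : ∀ Q ∈ s', ∀ R ∈ s', Q ≤ R ∨ R ≤ Q) (hm : ∀ Q ∈ s', Q ≠ ⊥ ∧ IsPGroup p Q)
    (U : Subgroup G) (hU1 : ∀ Q ∈ s', Q ≤ U)
    (hU2 : ∀ Q ∈ s', U ≤ Subgroup.normalizer ((Q : Subgroup G) : Set G)) :
    IsNormalChain p s' := by
  refine ⟨hne, hc, hm, s'.sup id, sup_mem_of_chain s' hne hc, ?_⟩
  intro Q hQ
  refine ⟨Finset.le_sup (f := id) hQ, ?_⟩
  exact (Finset.sup_le (fun R hR => hU1 R hR)).trans (hU2 Q hQ)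

/-- in the deleting case with `W` the top, `W` is generated by `X` over the lower part -/
theorem lowSup_sup_eq_W (hs : IsNormalChain p s) (hXs : X ≤ stab s) (hXp : IsPGroup p X)
    (hWtop : W X s = top s) : lowSup X s ⊔ X = W X s := by
  have hXtop : X ≤ top s := hWtop ▸ X_le_W X s
  have htopX : top s ⊔ X = top s := sup_eq_left.mpr hXtop
  have hWp : IsPGroup p (W X s) := by
    rw [hWtop]
    exact hs.2.2.1 _ (top_spec hs).1 |>.2
  apply eq_of_normal_closure_eq p hWp (sup_le (lowSup_le_W X s) (X_le_W X s))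
  intro N hYN hWN
  apply Wgen_le (le_sup_left.trans hYN) (le_sup_right.trans hYN)
  rw [htopX, ← hWtop]
  exact hWN

theorem erase_eq_low (hs : IsNormalChain p s) (hXs : X ≤ stab s)
    (hWtop : W X s = top s) : s.erase (W X s) = low X s := by
  ext Q
  rw [Finset.mem_erase, mem_low]
  constructor
  · rintro ⟨hne, hQ⟩
    refine ⟨hQ, ?_⟩
    intro hXQ
    apply hne
    exact le_antisymm (hWtop ▸ le_top hQ) (W_le_of_high hs hXs hQ hXQ)
  · rintro ⟨hQ, hXQ⟩
    refine ⟨?_, hQ⟩
    rintro rfl
    exact hXQ (X_le_W X s)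

theorem W_erase (hs : IsNormalChain p s) (hXs : X ≤ stab s) (hXp : IsPGroup p X)
    (hW : W X s ∈ s) : W X (s.erase (W X s)) = W X s := by
  have h1 : lowSup X (s.erase (W X s)) = lowSup X s := by
    unfold lowSup
    rw [low_erase]
  by_cases hWtop : W X s = top s
  · have h2 : top (s.erase (W X s)) = lowSup X s := by
      unfold top lowSup
      rw [erase_eq_low hs hXs hWtop]
    have h3 : W X (s.erase (W X s)) = Wgen (lowSup X s) (lowSup X s ⊔ X) X := by
      show Wgen (lowSup X (s.erase (W X s))) (top (s.erase (W X s)) ⊔ X) X = _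
      rw [h1, h2]
    rw [h3, Wgen_self_sup, lowSup_sup_eq_W hs hXs hXp hWtop]
  · have h2 : top (s.erase (W X s)) = top s := by
      apply le_antisymm
      · exact Finset.sup_mono (Finset.erase_subset _ _)
      · apply Finset.le_sup (f := id)
        rw [Finset.mem_erase]
        exact ⟨fun h => hWtop h.symm, (top_spec hs).1⟩
    show Wgen (lowSup X (s.erase (W X s))) (top (s.erase (W X s)) ⊔ X) X
      = Wgen (lowSup X s) (top s ⊔ X) X
    rw [h1, h2]

theorem tau_tau (hs : IsNormalChain p s) (hXs : X ≤ stab s) (hXp : IsPGroup p X) :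
    tau X (tau X s) = s := by
  by_cases hW : W X s ∈ s
  · have e : tau X s = s.erase (W X s) := by unfold tau; rw [if_pos hW]
    rw [e]
    unfold tau
    rw [W_erase hs hXs hXp hW, if_neg (Finset.notMem_erase _ _), Finset.insert_erase hW]
  · have e : tau X s = insert (W X s) s := by unfold tau; rw [if_neg hW]
    rw [e]
    unfold tau
    rw [W_insert, if_pos (Finset.mem_insert_self _ _), Finset.erase_insert hW]

theorem W_ne_bot (hX1 : X ≠ ⊥) : W X s ≠ ⊥ := by
  intro h
  apply hX1
  rw [← le_bot_iff, ← h]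
  exact X_le_W X s

theorem tau_isNormalChain (hs : IsNormalChain p s) (hXs : X ≤ stab s) (hXp : IsPGroup p X)
    (hX1 : X ≠ ⊥) (hne : s ≠ {X}) : IsNormalChain p (tau X s) := by
  by_cases hW : W X s ∈ s
  · have e : tau X s = s.erase (W X s) := by unfold tau; rw [if_pos hW]
    rw [e]
    apply isNormalChain_of _ ?_ ?_ ?_ (top s) ?_ ?_
    · -- nonempty
      by_contra hempty
      rw [Finset.not_nonempty_iff_eq_empty] at hempty
      have hsub : s ⊆ {W X s} := by
        intro Q hQ
        rw [Finset.mem_singleton]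
        by_contra hQW
        have : Q ∈ s.erase (W X s) := Finset.mem_erase.mpr ⟨hQW, hQ⟩
        rw [hempty] at this
        exact absurd this (Finset.notMem_empty _)
      have hs_eq : s = {W X s} := by
        apply Finset.Subset.antisymm hsub
        intro Q hQ
        rw [Finset.mem_singleton] at hQ
        rw [hQ]; exact hW
      have htop : W X s = top s := by
        apply le_antisymm (le_top hW)
        apply Finset.sup_le
        intro Q hQ
        have := hsub hQ
        rw [Finset.mem_singleton] at this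
        rw [this]; rfl
      have hlow : lowSup X s = ⊥ := by
        unfold lowSup
        rw [← erase_eq_low hs hXs htop, hempty, Finset.sup_empty]
      have := lowSup_sup_eq_W hs hXs hXp htop
      rw [hlow, bot_sup_eq] at this
      apply hne
      rw [hs_eq, ← this]
    · intro Q hQ R hR
      exact hs.2.1 Q (Finset.mem_of_mem_erase hQ) R (Finset.mem_of_mem_erase hR)
    · intro Q hQ
      exact hs.2.2.1 Q (Finset.mem_of_mem_erase hQ)
    · intro Q hQ
      exact le_top (Finset.mem_of_mem_erase hQ)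
    · intro Q hQ
      exact ((top_spec hs).2 Q (Finset.mem_of_mem_erase hQ)).2
  · have e : tau X s = insert (W X s) s := by unfold tau; rw [if_neg hW]
    rw [e]
    apply isNormalChain_of _ (Finset.insert_nonempty _ _) ?_ ?_ (top s ⊔ X) ?_ ?_
    · intro Q hQ R hR
      rcases Finset.mem_insert.mp hQ with rfl | hQ
      · rcases Finset.mem_insert.mp hR with rfl | hR
        · exact Or.inl le_rfl
        · exact (W_chain hs hXs hR).symm
      · rcases Finset.mem_insert.mp hR with rfl | hR
        · exact W_chain hs hXs hQ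
        · exact hs.2.1 Q hQ R hR
    · intro Q hQ
      rcases Finset.mem_insert.mp hQ with rfl | hQ
      · exact ⟨W_ne_bot hX1, (top_sup_isPGroup hs hXs hXp).to_le (W_le_top_sup X s)⟩
      · exact hs.2.2.1 Q hQ
    · intro Q hQ
      rcases Finset.mem_insert.mp hQ with rfl | hQ
      · exact W_le_top_sup X s
      · exact (le_top hQ).trans le_sup_left
    · intro Q hQ
      rcases Finset.mem_insert.mp hQ with rfl | hQ
      · exact top_sup_le_normalizer_W X s
      · exact top_sup_le_normalizer hs hXs hQ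

theorem tau_ne_singleton (hs : IsNormalChain p s) (hXs : X ≤ stab s) :
    tau X s ≠ {X} := by
  by_cases hW : W X s ∈ s
  · have e : tau X s = s.erase (W X s) := by unfold tau; rw [if_pos hW]
    rw [e]
    intro h
    have hX : X ∈ s.erase (W X s) := by rw [h]; exact Finset.mem_singleton_self _
    rw [Finset.mem_erase] at hX
    apply hX.1
    exact le_antisymm (X_le_W X s) (W_le_of_high hs hXs hX.2 le_rfl)
  · have e : tau X s = insert (W X s) s := by unfold tau; rw [if_neg hW]
    rw [e]
    intro h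
    have hc := congrArg Finset.card h
    rw [Finset.card_insert_of_notMem hW, Finset.card_singleton] at hc
    have : 0 < s.card := Finset.card_pos.mpr hs.1
    omega

theorem stab_insert (s : Finset (Subgroup G)) (V : Subgroup G) :
    stab (insert V s) = Subgroup.normalizer ((V : Subgroup G) : Set G) ⊓ stab s := by
  unfold stab
  rw [Finset.iInf_insert]

/-- the part of the stabilizer normalizing `X` is preserved -/
theorem inf_stab_tau (hs : IsNormalChain p s) (hXs : X ≤ stab s) (hXp : IsPGroup p X)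
    (C : Subgroup G) (hC : C ≤ Subgroup.normalizer (X : Set G)) :
    C ⊓ stab (tau X s) = C ⊓ stab s := by
  by_cases hW : W X s ∈ s
  · have e : tau X s = s.erase (W X s) := by unfold tau; rw [if_pos hW]
    rw [e]
    have h1 : stab s = Subgroup.normalizer ((W X s : Subgroup G) : Set G)
        ⊓ stab (s.erase (W X s)) := by
      rw [← stab_insert, Finset.insert_erase hW]
    rw [h1]
    apply le_antisymm
    · intro c hc
      refine ⟨hc.1, ?_, hc.2⟩
      have := mem_normalizer_W X (s.erase (W X s)) hc.2 (hC hc.1)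
      rw [W_erase hs hXs hXp hW] at this
      exact this
    · intro c hc
      exact ⟨hc.1, hc.2.2⟩
  · have e : tau X s = insert (W X s) s := by unfold tau; rw [if_neg hW]
    rw [e, stab_insert]
    apply le_antisymm
    · intro c hc
      exact ⟨hc.1, hc.2.2⟩
    · intro c hc
      exact ⟨hc.1, mem_normalizer_W X s hc.2 (hC hc.1), hc.2⟩

theorem card_tau (hs : IsNormalChain p s) (hs' : (tau X s).Nonempty) :
    (tau X s).card - 1 + 1 = s.card - 1 ∨ (tau X s).card - 1 = s.card - 1 + 1 := by
  have hpos : 0 < s.card := Finset.card_pos.mpr hs.1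
  have hpos' : 0 < (tau X s).card := Finset.card_pos.mpr hs'
  by_cases hW : W X s ∈ s
  · have e : tau X s = s.erase (W X s) := by unfold tau; rw [if_pos hW]
    rw [e, Finset.card_erase_of_mem hW] at hpos' ⊢
    left; omega
  · have e : tau X s = insert (W X s) s := by unfold tau; rw [if_neg hW]
    rw [e, Finset.card_insert_of_notMem hW]
    right; omega

end Valid

section Sum

variable {G : Type*} [Group G] [Finite G] {p : ℕ} [Fact p.Prime]

theorem singleton_isNormalChain (X : Subgroup G) (hXp : IsPGroup p X) (hX1 : X ≠ ⊥) :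
    IsNormalChain p ({X} : Finset (Subgroup G)) := by
  refine ⟨Finset.singleton_nonempty _, ?_, ?_, X, Finset.mem_singleton_self _, ?_⟩
  · intro Q hQ R hR
    rw [Finset.mem_singleton] at hQ hR
    rw [hQ, hR]; exact Or.inl le_rfl
  · intro Q hQ
    rw [Finset.mem_singleton] at hQ
    rw [hQ]; exact ⟨hX1, hXp⟩
  · intro Q hQ
    rw [Finset.mem_singleton] at hQ
    rw [hQ]; exact ⟨le_rfl, Subgroup.le_normalizer⟩

theorem stab_singleton (X : Subgroup G) :
    stab ({X} : Finset (Subgroup G)) = Subgroup.normalizer ((X : Subgroup G) : Set G) := by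
  unfold stab
  simp

/-- **the alternating sum over normal chains collapses to the chain `{X}`** -/
theorem alternating_sum {R : Type*} [CommRing R] (X C : Subgroup G) (hXp : IsPGroup p X)
    (hX1 : X ≠ ⊥) (hC : C ≤ Subgroup.normalizer (X : Set G)) (g : G) (hg : g ∈ C)
    (hXg : ∀ K : Subgroup G, g ∈ K → X ≤ K)
    (𝒮 : Finset (Finset (Subgroup G))) (h𝒮 : ∀ s, s ∈ 𝒮 ↔ IsNormalChain p s ∧ g ∈ stab s)
    (f : Subgroup G → R) :
    ∑ s ∈ 𝒮, (-1 : R) ^ (s.card - 1) * f (C ⊓ stab s) = f (C ⊓ stab {X}) := by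
  have hX𝒮 : ({X} : Finset (Subgroup G)) ∈ 𝒮 := by
    rw [h𝒮]
    refine ⟨singleton_isNormalChain X hXp hX1, ?_⟩
    rw [stab_singleton]
    exact hC hg
  rw [← Finset.add_sum_erase 𝒮 _ hX𝒮]
  have hzero : ∑ s ∈ 𝒮.erase {X}, (-1 : R) ^ (s.card - 1) * f (C ⊓ stab s) = 0 := by
    have hmem : ∀ s ∈ 𝒮.erase {X},
        IsNormalChain p s ∧ X ≤ stab s ∧ g ∈ stab s ∧ s ≠ {X} := by
      intro s hs
      rw [Finset.mem_erase, h𝒮] at hs
      exact ⟨hs.2.1, hXg _ hs.2.2, hs.2.2, hs.1⟩
    apply Finset.sum_involution (fun s _ => tau X s)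
    · intro s hs
      obtain ⟨h1, h2, h3, h4⟩ := hmem s hs
      rw [inf_stab_tau h1 h2 hXp C hC]
      have hne := (tau_isNormalChain h1 h2 hXp hX1 h4).1
      rcases card_tau (X := X) h1 hne with h | h
      · rw [← h, pow_succ]; ring
      · rw [h, pow_succ]; ring
    · intro s hs _
      obtain ⟨h1, h2, h3, h4⟩ := hmem s hs
      intro heq
      have hne := (tau_isNormalChain h1 h2 hXp hX1 h4).1
      rcases card_tau (X := X) h1 hne with h | h
      · rw [heq] at h; omega
      · rw [heq] at h; omega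
    · intro s hs
      obtain ⟨h1, h2, h3, h4⟩ := hmem s hs
      rw [Finset.mem_erase, h𝒮]
      refine ⟨tau_ne_singleton h1 h2, tau_isNormalChain h1 h2 hXp hX1 h4, ?_⟩
      have : g ∈ C ⊓ stab (tau X s) := by
        rw [inf_stab_tau h1 h2 hXp C hC]
        exact ⟨hg, h3⟩
      exact this.2
    · intro s hs
      obtain ⟨h1, h2, h3, h4⟩ := hmem s hs
      exact tau_tau h1 h2 hXp
  rw [hzero, add_zero, Finset.card_singleton]
  simp

end Sum

end Cfsg.Agent.Lib.Helper24.KRChain
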