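import Mathlib
import Cfsg.Prelude.Def_Blocks
import Cfsg.Agent.Lib.Helper7.SectionOrtho
import Cfsg.Agent.Lib.Helper25.BlockKer

/-!
# Section orthogonality for a family of blocks (helper24 library)

Summing `section_block_orthogonality` (a consequence of Brauer's second main theorem) over the
blocks `β` of `H` satisfying a predicate `Pr`.
-/

set_option autoImplicit false

namespace Cfsg.Agent.Lib.Helper24.KRSection

open Cfsg.Agent.Lib.Helper7 Cfsg.Agent.Lib.Helper24 Cfsg.Agent.Lib.Helper2
open scoped ComplexConjugate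
open Classical

section

variable {H : Type*} [Group H] [Fintype H] {p : ℕ} [Fact p.Prime] {M : Ideal Cfsg.AlgInt}

/-- **section orthogonality summed over the blocks with a property** -/
theorem section_sum (hM : Cfsg.IsPModular p M) (z : H) (hz : ∃ k : ℕ, orderOf z = p ^ k)
    (Pr : Set (Cfsg.IrrCharacter H) → Prop)
    [Fintype (Cfsg.IrrCharacter H)]
    [Fintype (Cfsg.IrrCharacter (Subgroup.centralizer ({z} : Set H)))]
    (y : Subgroup.centralizer ({z} : Set H)) (hy : ¬ p ∣ orderOf y) :
    ∑ ζ : Cfsg.IrrCharacter H, (if Pr (Cfsg.blockOf M (ζ : H → ℂ)) then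
        (ζ : H → ℂ) (z * (y : H)) * conj ((ζ : H → ℂ) (z * (y : H))) else 0)
    = ∑ ψ : Cfsg.IrrCharacter (Subgroup.centralizer ({z} : Set H)),
        (if ∃ β : Set (Cfsg.IrrCharacter H), Pr β ∧
            Cfsg.IsInducedBlock M (Subgroup.centralizer ({z} : Set H))
              (Cfsg.blockOf M (ψ : Subgroup.centralizer ({z} : Set H) → ℂ)) β
          then (ψ : Subgroup.centralizer ({z} : Set H) → ℂ) y
            * conj ((ψ : Subgroup.centralizer ({z} : Set H) → ℂ) y) else 0) := by
  haveI : Fintype (Subgroup.centralizer ({z} : Set H)) := Fintype.ofFinite _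
  obtain ⟨Bl, hBl⟩ : ∃ Bl : Finset (Set (Cfsg.IrrCharacter H)),
      Bl = Finset.univ.image (fun ζ : Cfsg.IrrCharacter H => Cfsg.blockOf M (ζ : H → ℂ)) :=
    ⟨_, rfl⟩
  have hmemBl : ∀ β, β ∈ Bl ↔ Cfsg.IsPBlock M β := by
    intro β
    rw [hBl, Finset.mem_image]
    constructor
    · rintro ⟨ζ, _, rfl⟩
      exact ⟨ζ, rfl⟩
    · rintro ⟨ζ, rfl⟩
      exact ⟨ζ, Finset.mem_univ _, rfl⟩
  obtain ⟨F, hF⟩ : ∃ F : Cfsg.IrrCharacter H → ℂ, F = fun ζ : Cfsg.IrrCharacter H =>
      (ζ : H → ℂ) (z * (y : H)) * conj ((ζ : H → ℂ) (z * (y : H))) := ⟨_, rfl⟩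
  obtain ⟨F', hF'⟩ : ∃ F' : Cfsg.IrrCharacter (Subgroup.centralizer ({z} : Set H)) → ℂ,
      F' = fun ψ : Cfsg.IrrCharacter (Subgroup.centralizer ({z} : Set H)) => (ψ : Subgroup.centralizer ({z} : Set H) → ℂ) y
            * conj ((ψ : Subgroup.centralizer ({z} : Set H) → ℂ) y) := ⟨_, rfl⟩
  have hL : ∑ ζ : Cfsg.IrrCharacter H, (if Pr (Cfsg.blockOf M (ζ : H → ℂ)) then F ζ else 0)
      = ∑ β ∈ Bl, if Pr β then ∑ ζ : Cfsg.IrrCharacter H, (if ζ ∈ β then F ζ else 0) else 0 := by
    rw [← Finset.sum_fiberwise_of_maps_to (s := Finset.univ) (t := Bl)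
      (g := fun ζ : Cfsg.IrrCharacter H => Cfsg.blockOf M (ζ : H → ℂ))
      (fun ζ _ => by rw [hBl]; exact Finset.mem_image_of_mem _ (Finset.mem_univ ζ))]
    apply Finset.sum_congr rfl
    intro β hβ
    rw [Finset.sum_filter]
    by_cases hP : Pr β
    · rw [if_pos hP]
      apply Finset.sum_congr rfl
      intro ζ _
      by_cases hζ : ζ ∈ β
      · have : Cfsg.blockOf M (ζ : H → ℂ) = β :=
          (eq_blockOf_of_mem hM ((hmemBl β).mp hβ) hζ).symm
        rw [if_pos this, if_pos hζ, this, if_pos hP]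
      · have : Cfsg.blockOf M (ζ : H → ℂ) ≠ β := by
          rintro rfl
          exact hζ (mem_blockOf_self hM ζ)
        rw [if_neg this, if_neg hζ]
    · rw [if_neg hP]
      apply Finset.sum_eq_zero
      intro ζ _
      by_cases h : Cfsg.blockOf M (ζ : H → ℂ) = β
      · rw [if_pos h, h, if_neg hP]
      · rw [if_neg h]
  have hR : ∑ ψ : Cfsg.IrrCharacter (Subgroup.centralizer ({z} : Set H)),
        (if ∃ β : Set (Cfsg.IrrCharacter H), Pr β ∧
            Cfsg.IsInducedBlock M (Subgroup.centralizer ({z} : Set H))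
              (Cfsg.blockOf M (ψ : Subgroup.centralizer ({z} : Set H) → ℂ)) β
          then F' ψ else 0)
      = ∑ β ∈ Bl, if Pr β then
          ∑ ψ : Cfsg.IrrCharacter (Subgroup.centralizer ({z} : Set H)),
            (if Cfsg.IsInducedBlock M (Subgroup.centralizer ({z} : Set H))
              (Cfsg.blockOf M (ψ : Subgroup.centralizer ({z} : Set H) → ℂ)) β
              then F' ψ else 0) else 0 := by
    have h1 : ∀ ψ : Cfsg.IrrCharacter (Subgroup.centralizer ({z} : Set H)),
        (if ∃ β : Set (Cfsg.IrrCharacter H), Pr β ∧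
            Cfsg.IsInducedBlock M (Subgroup.centralizer ({z} : Set H))
              (Cfsg.blockOf M (ψ : Subgroup.centralizer ({z} : Set H) → ℂ)) β
          then F' ψ else 0)
        = ∑ β ∈ Bl, (if Pr β then
            (if Cfsg.IsInducedBlock M (Subgroup.centralizer ({z} : Set H))
              (Cfsg.blockOf M (ψ : Subgroup.centralizer ({z} : Set H) → ℂ)) β
              then F' ψ else 0) else 0) := by
      intro ψ
      by_cases hex : ∃ β : Set (Cfsg.IrrCharacter H), Pr β ∧
            Cfsg.IsInducedBlock M (Subgroup.centralizer ({z} : Set H))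
              (Cfsg.blockOf M (ψ : Subgroup.centralizer ({z} : Set H) → ℂ)) β
      · rw [if_pos hex]
        obtain ⟨β₀, hP₀, hI₀⟩ := hex
        rw [Finset.sum_eq_single β₀]
        · rw [if_pos hP₀, if_pos hI₀]
        · intro β _ hne
          by_cases hP : Pr β
          · rw [if_pos hP, if_neg]
            intro hI
            exact hne (Cfsg.Agent.Lib.Helper25.BlockKer.isInducedBlock_unique _ hM _ _ _ hI hI₀)
          · rw [if_neg hP]
        · intro h
          exact absurd ((hmemBl β₀).mpr hI₀.2.1) h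
      · rw [if_neg hex]
        symm
        apply Finset.sum_eq_zero
        intro β _
        by_cases hP : Pr β
        · rw [if_pos hP, if_neg (fun hI => hex ⟨β, hP, hI⟩)]
        · rw [if_neg hP]
    rw [Finset.sum_congr rfl (fun ψ _ => h1 ψ), Finset.sum_comm]
    apply Finset.sum_congr rfl
    intro β _
    by_cases hP : Pr β
    · simp only [if_pos hP]
    · simp only [if_neg hP, Finset.sum_const_zero]
  have hL' := hL
  have hR' := hR
  rw [hF] at hL'
  rw [hF'] at hR'
  rw [hL', hR']
  apply Finset.sum_congr rfl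
  intro β hβ
  by_cases hP : Pr β
  · rw [if_pos hP, if_pos hP]
    exact section_block_orthogonality hM z hz β ((hmemBl β).mp hβ) y y hy hy
  · rw [if_neg hP, if_neg hP]

end

end Cfsg.Agent.Lib.Helper24.KRSection
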