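import Mathlib
import Cfsg.Prelude.Def_BlockRank
import Cfsg.Agent.Lib.Helper7.BrauerCount2

/-!
# `k − l` of a union of blocks as a sum over the `p`-singular elements (helper24 library)

For a union `S` of `p`-blocks of the finite group `K`,
`|K| (k(S) − l(S)) = ∑_{h p-singular} ∑_{ψ ∈ S} |ψ(h)|²`.
-/

set_option autoImplicit false

namespace Cfsg.Agent.Lib.Helper24.KRTrace

open Cfsg.Agent.Lib.Helper7 Cfsg.Agent.Lib.Helper24 Cfsg.Agent.Lib.Helper2
open scoped ComplexConjugate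
open Classical

section

variable {K : Type*} [Group K] [Fintype K] {p : ℕ} [Fact p.Prime] {M : Ideal Cfsg.AlgInt}

/-- unions of blocks -/
def BlockClosed (M : Ideal Cfsg.AlgInt) (S : Set (Cfsg.IrrCharacter K)) : Prop :=
  ∀ ψ ψ' : Cfsg.IrrCharacter K, ψ ∈ S → ψ' ∈ Cfsg.blockOf M (ψ : K → ℂ) → ψ' ∈ S

theorem kernel_eq_zero_closed (hM : Cfsg.IsPModular p M) (S : Set (Cfsg.IrrCharacter K))
    (hS : BlockClosed M S) [Fintype (Cfsg.IrrCharacter K)] (g h : K) (hg : ¬ p ∣ orderOf g)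
    (hh : p ∣ orderOf h) :
    ∑ ψ : Cfsg.IrrCharacter K,
      (if ψ ∈ S then (ψ : K → ℂ) g * conj ((ψ : K → ℂ) h) else 0) = 0 ∧
    ∑ ψ : Cfsg.IrrCharacter K,
      (if ψ ∈ S then (ψ : K → ℂ) h * conj ((ψ : K → ℂ) g) else 0) = 0 := by
  constructor
  · apply sum_ite_eq_zero_of_block_sums M hM S hS
      (fun ψ => (ψ : K → ℂ) g * conj ((ψ : K → ℂ) h))
    intro ψ₀ _
    rw [finsum_mem_eq_sum_ite]
    exact (kernel_eq_zero_of_regular_singular hM _ ⟨ψ₀, rfl⟩ g h hg hh).1
  · apply sum_ite_eq_zero_of_block_sums M hM S hS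
      (fun ψ => (ψ : K → ℂ) h * conj ((ψ : K → ℂ) g))
    intro ψ₀ _
    rw [finsum_mem_eq_sum_ite]
    exact (kernel_eq_zero_of_regular_singular hM _ ⟨ψ₀, rfl⟩ g h hg hh).2

/-- the projection to a union of blocks commutes with the truncation to the `p`-regular
elements -/
theorem blockProj_setTrunc_closed (hM : Cfsg.IsPModular p M)
    (S : Set (Cfsg.IrrCharacter K)) (hS : BlockClosed M S) (f : K → ℂ) :
    blockProj S (setTrunc {g : K | ¬ p ∣ orderOf g} f)
      = setTrunc {g : K | ¬ p ∣ orderOf g} (blockProj S f) := by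
  haveI : Fintype (Cfsg.IrrCharacter K) := Fintype.ofFinite _
  funext g
  rw [setTrunc_apply, blockProj_kernel]
  by_cases hg : g ∈ {g : K | ¬ p ∣ orderOf g}
  · rw [if_pos hg, blockProj_kernel]
    congr 1
    apply Finset.sum_congr rfl
    intro h _
    rw [setTrunc_apply]
    by_cases hh : h ∈ {g : K | ¬ p ∣ orderOf g}
    · rw [if_pos hh]
    · rw [if_neg hh, zero_mul,
        (kernel_eq_zero_closed hM S hS g h hg (not_not.mp hh)).1, mul_zero]
  · rw [if_neg hg]
    have : ∀ h : K, setTrunc {g : K | ¬ p ∣ orderOf g} f h *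
        ∑ ψ : Cfsg.IrrCharacter K,
          (if ψ ∈ S then (ψ : K → ℂ) g * conj ((ψ : K → ℂ) h) else 0) = 0 := by
      intro h
      rw [setTrunc_apply]
      by_cases hh : h ∈ {g : K | ¬ p ∣ orderOf g}
      · rw [(kernel_eq_zero_closed hM S hS h g hh (not_not.mp hg)).2, mul_zero]
      · rw [if_neg hh, zero_mul]
    rw [Finset.sum_congr rfl (fun h _ => this h), Finset.sum_const_zero, mul_zero]

theorem trace_pi (Φ : (K → ℂ) →ₗ[ℂ] (K → ℂ)) :
    LinearMap.trace ℂ (K → ℂ) Φ = ∑ h : K, Φ (Pi.single h 1) h := by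
  rw [LinearMap.trace_eq_matrix_trace ℂ (Pi.basisFun ℂ K) Φ, Matrix.trace]
  apply Finset.sum_congr rfl
  intro h _
  rw [Matrix.diag_apply, LinearMap.toMatrix_apply, Pi.basisFun_apply, Pi.basisFun_repr]

theorem setTrunc_idem (A : Set K) (f : K → ℂ) : setTrunc A (setTrunc A f) = setTrunc A f := by
  funext g
  rw [setTrunc_apply]
  by_cases hg : g ∈ A
  · rw [if_pos hg, setTrunc_apply, if_pos hg]
  · rw [if_neg hg, setTrunc_apply, if_neg hg]

/-- **the rank of a union of blocks as a sum over the `p`-regular elements** -/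
theorem card_mul_blockRank (hM : Cfsg.IsPModular p M) (S : Set (Cfsg.IrrCharacter K))
    (hS : BlockClosed M S) [Fintype (Cfsg.IrrCharacter K)] :
    (Nat.card K : ℂ) * (Cfsg.blockRank p S : ℂ)
      = ∑ h : K, if ¬ p ∣ orderOf h then
          ∑ ψ : Cfsg.IrrCharacter K,
            (if ψ ∈ S then (ψ : K → ℂ) h * conj ((ψ : K → ℂ) h) else 0) else 0 := by
  have hK : (Nat.card K : ℂ) ≠ 0 := by exact_mod_cast Nat.card_pos.ne'
  obtain ⟨Φ, hΦ⟩ : ∃ Φ : (K → ℂ) →ₗ[ℂ] (K → ℂ),
      Φ = (blockProj S).comp (setTrunc {g : K | ¬ p ∣ orderOf g}) := ⟨_, rfl⟩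
  obtain ⟨W, hW⟩ : ∃ W : Submodule ℂ (K → ℂ), W = Submodule.span ℂ
      ((fun χ : Cfsg.IrrCharacter K => Cfsg.pRegularPart p (χ : K → ℂ)) '' S) := ⟨_, rfl⟩
  have hΦapp : ∀ f, Φ f = blockProj S (setTrunc {g : K | ¬ p ∣ orderOf g} f) := by
    intro f; rw [hΦ]; rfl
  have hproj : LinearMap.IsProj W Φ := by
    constructor
    · intro f
      rw [hΦapp, blockProj_setTrunc_closed hM S hS]
      have h1 : blockProj S f
          ∈ Submodule.span ℂ ((fun ζ : Cfsg.IrrCharacter K => (ζ : K → ℂ)) '' S) :=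
        blockProj_mem_span S f
      have h2 : Submodule.span ℂ ((fun ζ : Cfsg.IrrCharacter K => (ζ : K → ℂ)) '' S)
          ≤ W.comap (setTrunc {g : K | ¬ p ∣ orderOf g}) := by
        rw [Submodule.span_le]
        rintro _ ⟨ζ, hζ, rfl⟩
        show setTrunc {g : K | ¬ p ∣ orderOf g} (ζ : K → ℂ) ∈ W
        rw [hW, ← pRegularPart_eq_setTrunc]
        exact Submodule.subset_span ⟨ζ, hζ, rfl⟩
      exact h2 h1
    · intro w hw
      rw [hW] at hw
      induction hw using Submodule.span_induction with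
      | mem x hx =>
        obtain ⟨ζ, hζ, rfl⟩ := hx
        show Φ (Cfsg.pRegularPart p (ζ : K → ℂ)) = _
        rw [hΦapp, pRegularPart_eq_setTrunc, setTrunc_idem,
          blockProj_setTrunc_closed hM S hS, blockProj_irr, if_pos hζ]
        show _ = Cfsg.pRegularPart p (ζ : K → ℂ)
        rw [pRegularPart_eq_setTrunc]
      | zero => exact map_zero _
      | add x y _ _ hx hy => rw [map_add, hx, hy]
      | smul a x _ hx => rw [map_smul, hx]
  have htr := hproj.trace
  rw [trace_pi] at htr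
  have hrank : Cfsg.blockRank p S = Module.finrank ℂ W := by
    unfold Cfsg.blockRank
    rw [hW]
  rw [hrank, ← htr, Finset.mul_sum]
  apply Finset.sum_congr rfl
  intro h _
  rw [hΦapp, blockProj_kernel]
  rw [Finset.sum_eq_single h]
  · rw [setTrunc_apply]
    by_cases hh : ¬ p ∣ orderOf h
    · rw [if_pos (show h ∈ {g : K | ¬ p ∣ orderOf g} from hh), if_pos hh, Pi.single_eq_same,
        one_mul, ← mul_assoc, mul_inv_cancel₀ hK, one_mul]
    · rw [if_neg (show h ∉ {g : K | ¬ p ∣ orderOf g} from hh), if_neg hh, zero_mul, mul_zero,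
        mul_zero]
  · intro k _ hk
    rw [setTrunc_apply]
    by_cases hk' : k ∈ {g : K | ¬ p ∣ orderOf g}
    · rw [if_pos hk', Pi.single_eq_of_ne hk, zero_mul]
    · rw [if_neg hk', zero_mul]
  · intro hh
    exact absurd (Finset.mem_univ _) hh

/-- the number of characters in a set through the values -/
theorem card_mul_card (S : Set (Cfsg.IrrCharacter K)) [Fintype (Cfsg.IrrCharacter K)] :
    (Nat.card K : ℂ) * (Nat.card S : ℂ)
      = ∑ h : K, ∑ ψ : Cfsg.IrrCharacter K,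
            (if ψ ∈ S then (ψ : K → ℂ) h * conj ((ψ : K → ℂ) h) else 0) := by
  have hK : (Nat.card K : ℂ) ≠ 0 := by exact_mod_cast Nat.card_pos.ne'
  rw [Finset.sum_comm]
  have h1 : ∀ ψ : Cfsg.IrrCharacter K,
      ∑ h : K, (if ψ ∈ S then (ψ : K → ℂ) h * conj ((ψ : K → ℂ) h) else 0)
        = if ψ ∈ S then (Nat.card K : ℂ) else 0 := by
    intro ψ
    by_cases hψ : ψ ∈ S
    · simp only [if_pos hψ]
      have := classInner_irrCharacter_self ψ
      rw [classInner_def] at this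
      rw [← mul_one (Nat.card K : ℂ), ← this, ← mul_assoc, mul_inv_cancel₀ hK, one_mul]
    · simp only [if_neg hψ, Finset.sum_const_zero]
  rw [Finset.sum_congr rfl (fun ψ _ => h1 ψ)]
  rw [← Finset.sum_filter, Finset.sum_const, nsmul_eq_mul, mul_comm]
  congr 2
  rw [Nat.card_eq_fintype_card, Fintype.card_subtype]

/-- **`|K| (k(S) − l(S))` as a sum over the `p`-singular elements** -/
theorem card_mul_card_sub_blockRank (hM : Cfsg.IsPModular p M)
    (S : Set (Cfsg.IrrCharacter K)) (hS : BlockClosed M S) [Fintype (Cfsg.IrrCharacter K)] :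
    (Nat.card K : ℂ) * ((Nat.card S : ℂ) - (Cfsg.blockRank p S : ℂ))
      = ∑ h : K, if p ∣ orderOf h then
          ∑ ψ : Cfsg.IrrCharacter K,
            (if ψ ∈ S then (ψ : K → ℂ) h * conj ((ψ : K → ℂ) h) else 0) else 0 := by
  rw [mul_sub, card_mul_card S, card_mul_blockRank hM S hS, ← Finset.sum_sub_distrib]
  apply Finset.sum_congr rfl
  intro h _
  by_cases hh : p ∣ orderOf h
  · rw [if_pos hh, if_neg (not_not.mpr hh), sub_zero]
  · rw [if_neg hh, if_pos hh, sub_self]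

end

end Cfsg.Agent.Lib.Helper24.KRTrace
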