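import Mathlib
import Cfsg.Prelude.Def_BlockRank
import Cfsg.Agent.Lib.Helper24.KRTrace
import Cfsg.Agent.Lib.Helper24.KRSection
import Cfsg.Agent.Lib.Helper7.ExtFirstMain
import Cfsg.Agent.Lib.Helper7.RestrictMult
import Cfsg.Agent.Lib.Helper7.PPartFn
import Cfsg.Agent.Lib.Helper7.PPart2

/-!
# `k − l` of the blocks of a subgroup inducing a given block (helper24 library)

For a block `b` of `G` and a subgroup `K`, let `indSet M b K` be the union of the blocks of `K`
inducing `b`.  Then `|K| (k − l)(indSet M b K)` is the sum over the `p`-singular `g ∈ K`, with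
`p`-part `x` and `p'`-part `y`, of `∑ |ψ(y)|²` over `ψ ∈ indSet M b (C_G(x) ⊓ K)`.
-/

set_option autoImplicit false

namespace Cfsg.Agent.Lib.Helper24.KRLocal

open Cfsg.Agent.Lib.Helper7 Cfsg.Agent.Lib.Helper24 Cfsg.Agent.Lib.Helper2
open Cfsg.Agent.Lib.Helper24.KRTrace Cfsg.Agent.Lib.Helper24.KRSection
open scoped ComplexConjugate
open Classical

section Defs

variable {G : Type*} [Group G]

/-- the characters of `L` in the blocks inducing `b` -/
def indSet (M : Ideal Cfsg.AlgInt) (b : Set (Cfsg.IrrCharacter G)) (L : Subgroup G) :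
    Set (Cfsg.IrrCharacter L) :=
  {ψ | ∃ β : Set (Cfsg.IrrCharacter L), ψ ∈ β ∧ Cfsg.IsInducedBlock M L β b}

/-- the sum of `|ψ(y)|²` over the characters of `L` in blocks inducing `b` -/
noncomputable def kap (M : Ideal Cfsg.AlgInt) (b : Set (Cfsg.IrrCharacter G)) (L : Subgroup G)
    (y : G) : ℂ :=
  if hy : y ∈ L then ∑ᶠ ψ ∈ indSet M b L, (ψ : L → ℂ) ⟨y, hy⟩ * conj ((ψ : L → ℂ) ⟨y, hy⟩)
  else 0

variable {p : ℕ} {M : Ideal Cfsg.AlgInt}

theorem mem_indSet_iff [Finite G] (hM : Cfsg.IsPModular p M) (b : Set (Cfsg.IrrCharacter G))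
    (L : Subgroup G) (ψ : Cfsg.IrrCharacter L) :
    ψ ∈ indSet M b L ↔ Cfsg.IsInducedBlock M L (Cfsg.blockOf M (ψ : L → ℂ)) b := by
  constructor
  · rintro ⟨β, hψ, hind⟩
    rw [← eq_blockOf_of_mem hM hind.1 hψ]
    exact hind
  · intro h
    exact ⟨_, mem_blockOf_self hM ψ, h⟩

theorem indSet_blockClosed [Fintype G] (hM : Cfsg.IsPModular p M)
    (b : Set (Cfsg.IrrCharacter G)) (L : Subgroup G) [Fintype L] :
    BlockClosed M (indSet M b L) := by
  intro ψ ψ' hψ hψ'
  exact ⟨_, hψ', (mem_indSet_iff hM b L ψ).mp hψ⟩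

theorem isPGroup_zpowers (x : G) (hx : ∃ k : ℕ, orderOf x = p ^ k) :
    IsPGroup p (Subgroup.zpowers x) := by
  obtain ⟨k, hk⟩ := hx
  exact IsPGroup.of_card (n := k) (by rw [Nat.card_zpowers, hk])

theorem centralizer_le_normalizer_zpowers (x : G) :
    Subgroup.centralizer ({x} : Set G)
      ≤ Subgroup.normalizer ((Subgroup.zpowers x : Subgroup G) : Set G) := by
  intro c hc
  rw [Subgroup.mem_centralizer_singleton_iff] at hc
  have key : ∀ d : G, d * x = x * d → ∀ n ∈ Subgroup.zpowers x, d * n * d⁻¹ = n := by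
    intro d hd n hn
    have hcomm : Commute d x := hd
    obtain ⟨k, rfl⟩ := Subgroup.mem_zpowers_iff.mp hn
    have := (hcomm.zpow_right k).eq
    rw [this]; group
  have hc' : c⁻¹ * x = x * c⁻¹ := by
    have hcomm : Commute c x := hc
    exact hcomm.inv_left.eq
  rw [Subgroup.mem_normalizer_iff]
  intro n
  constructor
  · intro hn
    rw [key c hc n hn]; exact hn
  · intro hn
    have h2 := key c⁻¹ hc' _ hn
    have e : c⁻¹ * (c * n * c⁻¹) * c⁻¹⁻¹ = n := by group
    rw [e] at h2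
    rw [h2]; exact hn

end Defs

section Trans

variable {G : Type*} [Group G] [Finite G] {p : ℕ} [Fact p.Prime] {M : Ideal Cfsg.AlgInt}

/-- **transitivity of block induction through an intermediate local subgroup** -/
theorem trans_iff (hM : Cfsg.IsPModular p M) (K L : Subgroup G) (hLK : L ≤ K)
    (P : Subgroup G) (hP : IsPGroup p P) (hPL : P ≤ L)
    (hCL : Subgroup.centralizer (P : Set G) ⊓ K ≤ L)
    (hLN : L ≤ Subgroup.normalizer (P : Set G))
    (b : Set (Cfsg.IrrCharacter G)) (ψ : Cfsg.IrrCharacter (L.subgroupOf K)) :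
    (∃ β : Set (Cfsg.IrrCharacter K), Cfsg.IsInducedBlock M K β b ∧
        Cfsg.IsInducedBlock M (L.subgroupOf K)
          (Cfsg.blockOf M (ψ : L.subgroupOf K → ℂ)) β)
      ↔ irrMap (Subgroup.subgroupOfEquivOfLe hLK) ψ ∈ indSet M b L := by
  letI : Fintype G := Fintype.ofFinite G
  letI : Fintype K := Fintype.ofFinite K
  letI : Fintype L := Fintype.ofFinite L
  letI : Fintype (L.subgroupOf K) := Fintype.ofFinite _
  rw [mem_indSet_iff hM, blockOf_irrMap]
  constructor
  · rintro ⟨β, h1, h2⟩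
    refine ⟨isPBlock_image_irrMap _ ⟨ψ, rfl⟩, h1.2.1, ?_⟩
    rintro _ ⟨ξ, hξ, rfl⟩ χ hχ g
    obtain ⟨χ₁, hχ₁⟩ := isPBlock_nonempty hM h1.1
    have t1 := inducedCentralChar_trans hM L K hLK ξ χ₁ (fun n => h2.2.2 ξ hξ χ₁ hχ₁ n) g
    have t2 := h1.2.2 χ₁ hχ₁ χ hχ g
    have := memLocalIdeal_add hM t1 t2
    rwa [sub_add_sub_cancel] at this
  · intro h
    -- the induced block of `blockOf ψ` in `K` exists
    have hP' : IsPGroup p (P.subgroupOf K) :=
      hP.comap_of_injective _ (Subgroup.subtype_injective _)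
    have hPK : P ≤ K := hPL.trans hLK
    have h1 : P.subgroupOf K ≤ L.subgroupOf K := by
      intro k hk
      exact Subgroup.mem_subgroupOf.mpr (hPL (Subgroup.mem_subgroupOf.mp hk))
    have h2 : Subgroup.centralizer ((P.subgroupOf K : Subgroup K) : Set K) ≤ L.subgroupOf K := by
      intro k hk
      rw [Subgroup.mem_subgroupOf]
      apply hCL
      refine ⟨?_, k.2⟩
      show (k : G) ∈ Subgroup.centralizer (P : Set G)
      rw [Subgroup.mem_centralizer_iff]
      intro u hu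
      have := (Subgroup.mem_centralizer_iff.mp hk) ⟨u, hPK hu⟩ (Subgroup.mem_subgroupOf.mpr hu)
      exact congrArg (fun t : K => (t : G)) this
    have h3 : L.subgroupOf K ≤ Subgroup.normalizer ((P.subgroupOf K : Subgroup K) : Set K) := by
      intro k hk
      have hkN := hLN (Subgroup.mem_subgroupOf.mp hk)
      rw [Subgroup.mem_normalizer_iff] at hkN ⊢
      intro n
      rw [Subgroup.mem_subgroupOf, Subgroup.mem_subgroupOf]
      exact hkN (n : G)
    obtain ⟨β, hβ, _⟩ := isInducedBlock_of_normal (G := K) hM (L.subgroupOf K) (P.subgroupOf K)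
      hP' h1 h2 h3 (Cfsg.blockOf M (ψ : L.subgroupOf K → ℂ)) ⟨ψ, rfl⟩
    refine ⟨β, ⟨hβ.2.1, h.2.1, ?_⟩, hβ⟩
    intro χ₁ hχ₁ χ hχ g
    have t1 := inducedCentralChar_trans hM L K hLK ψ χ₁
      (fun n => hβ.2.2 ψ (mem_blockOf_self hM ψ) χ₁ hχ₁ n) g
    have t2 := h.2.2 _ ⟨ψ, mem_blockOf_self hM ψ, rfl⟩ χ hχ g
    have := memLocalIdeal_sub hM t2 t1
    rwa [sub_sub_sub_cancel_left] at this

/-- transport of irreducible characters as an equivalence -/
noncomputable def irrEquiv {A A' : Type*} [Group A] [Group A'] [Finite A] [Finite A']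
    (φ : A ≃* A') : Cfsg.IrrCharacter A ≃ Cfsg.IrrCharacter A' where
  toFun := irrMap φ
  invFun := irrMap φ.symm
  left_inv := irrMap_symm_irrMap φ
  right_inv := irrMap_irrMap_symm φ

/-- the sum over the blocks of `C_K(z)` inducing, through `K`, the block `b` -/
theorem sum_transport (hM : Cfsg.IsPModular p M) (K L : Subgroup G) (hLK : L ≤ K)
    (P : Subgroup G) (hP : IsPGroup p P) (hPL : P ≤ L)
    (hCL : Subgroup.centralizer (P : Set G) ⊓ K ≤ L)
    (hLN : L ≤ Subgroup.normalizer (P : Set G))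
    (b : Set (Cfsg.IrrCharacter G)) (C' : Subgroup K) (hC' : C' = L.subgroupOf K)
    [Fintype (Cfsg.IrrCharacter C')] (y : C') :
    ∑ ψ : Cfsg.IrrCharacter C',
      (if ∃ β : Set (Cfsg.IrrCharacter K), Cfsg.IsInducedBlock M K β b ∧
          Cfsg.IsInducedBlock M C' (Cfsg.blockOf M (ψ : C' → ℂ)) β
        then (ψ : C' → ℂ) y * conj ((ψ : C' → ℂ) y) else 0)
      = kap M b L ((y : K) : G) := by
  subst hC'
  haveI : Fintype (Cfsg.IrrCharacter L) := Fintype.ofFinite _
  have hyL : ((y : K) : G) ∈ L := Subgroup.mem_subgroupOf.mp y.2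
  unfold kap
  rw [dif_pos hyL, finsum_mem_eq_sum_ite]
  apply Fintype.sum_equiv (irrEquiv (Subgroup.subgroupOfEquivOfLe hLK))
  intro ψ
  have hiff := trans_iff hM K L hLK P hP hPL hCL hLN b ψ
  have hval : ((irrEquiv (Subgroup.subgroupOfEquivOfLe hLK) ψ : Cfsg.IrrCharacter L) : L → ℂ)
      ⟨((y : K) : G), hyL⟩ = (ψ : L.subgroupOf K → ℂ) y := by
    have := irrMap_apply_apply (Subgroup.subgroupOfEquivOfLe hLK) ψ y
    exact this
  by_cases hc : ∃ β : Set (Cfsg.IrrCharacter K), Cfsg.IsInducedBlock M K β b ∧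
          Cfsg.IsInducedBlock M (L.subgroupOf K) (Cfsg.blockOf M (ψ : L.subgroupOf K → ℂ)) β
  · rw [if_pos hc, if_pos (show irrEquiv (Subgroup.subgroupOfEquivOfLe hLK) ψ ∈ indSet M b L from
      hiff.mp hc), hval]
  · rw [if_neg hc, if_neg (show irrEquiv (Subgroup.subgroupOfEquivOfLe hLK) ψ ∉ indSet M b L from
      fun h => hc (hiff.mpr h))]

end Trans

section Main

variable {G : Type*} [Group G] [Fintype G] {p : ℕ} [Fact p.Prime] {M : Ideal Cfsg.AlgInt}

theorem centralizer_subgroupOf_eq (K : Subgroup G) (z : K) :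
    Subgroup.centralizer ({z} : Set K)
      = (Subgroup.centralizer ({(z : G)} : Set G) ⊓ K).subgroupOf K := by
  ext k
  rw [Subgroup.mem_centralizer_singleton_iff, Subgroup.mem_subgroupOf, Subgroup.mem_inf,
    Subgroup.mem_centralizer_singleton_iff]
  constructor
  · intro h
    exact ⟨congrArg (fun t : K => (t : G)) h, k.2⟩
  · intro h
    exact Subtype.ext h.1

/-- **the local formula** -/
theorem local_formula (hM : Cfsg.IsPModular p M) (b : Set (Cfsg.IrrCharacter G))
    (K : Subgroup G) :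
    (Nat.card K : ℂ) * ((Nat.card (indSet M b K) : ℂ) - (Cfsg.blockRank p (indSet M b K) : ℂ))
      = ∑ g : G, if p ∣ orderOf g ∧ g ∈ K then
          kap M b (Subgroup.centralizer ({pPt p g} : Set G) ⊓ K) (pRg p g) else 0 := by
  letI : Fintype K := Fintype.ofFinite K
  haveI : Fintype (Cfsg.IrrCharacter K) := Fintype.ofFinite _
  rw [card_mul_card_sub_blockRank hM (indSet M b K) (indSet_blockClosed hM b K)]
  obtain ⟨F, hF⟩ : ∃ F : G → ℂ, F = fun g => if p ∣ orderOf g then
      kap M b (Subgroup.centralizer ({pPt p g} : Set G) ⊓ K) (pRg p g) else 0 := ⟨_, rfl⟩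
  have hR : (∑ g : G, if p ∣ orderOf g ∧ g ∈ K then
          kap M b (Subgroup.centralizer ({pPt p g} : Set G) ⊓ K) (pRg p g) else 0)
      = ∑ h : K, F (h : G) := by
    have h1 : ∀ g : G, (if p ∣ orderOf g ∧ g ∈ K then
          kap M b (Subgroup.centralizer ({pPt p g} : Set G) ⊓ K) (pRg p g) else 0)
        = if g ∈ K then F g else 0 := by
      intro g
      have hFg : F g = if p ∣ orderOf g then
          kap M b (Subgroup.centralizer ({pPt p g} : Set G) ⊓ K) (pRg p g) else 0 := by rw [hF]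
      rw [hFg]
      by_cases h1 : g ∈ K
      · by_cases h2 : p ∣ orderOf g
        · rw [if_pos ⟨h2, h1⟩, if_pos h1, if_pos h2]
        · rw [if_neg (fun h => h2 h.1), if_pos h1, if_neg h2]
      · rw [if_neg (fun h => h1 h.2), if_neg h1]
    rw [Finset.sum_congr rfl (fun g _ => h1 g), ← Finset.sum_filter]
    exact Finset.sum_subtype (Finset.univ.filter (· ∈ K)) (p := (· ∈ K)) (by simp) F
  rw [hR]
  apply Finset.sum_congr rfl
  intro h _
  have hFh : F (h : G) = if p ∣ orderOf h then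
      kap M b (Subgroup.centralizer ({pPt p (h : G)} : Set G) ⊓ K) (pRg p (h : G)) else 0 := by
    rw [hF]
    simp only [Subgroup.orderOf_coe]
  rw [hFh]
  by_cases hsing : p ∣ orderOf h
  swap
  · rw [if_neg hsing, if_neg hsing]
  rw [if_pos hsing, if_pos hsing]
  -- the parts of `h`
  have hxz : pPt p (h : G) ∈ Subgroup.zpowers (h : G) := isPPart_mem_zpowers p (pPt_spec p (h : G))
  have hxK : pPt p (h : G) ∈ K := (Subgroup.zpowers_le.mpr h.2) hxz
  have hyK : pRg p (h : G) ∈ K := by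
    unfold pRg
    exact K.mul_mem (K.inv_mem hxK) h.2
  obtain ⟨z, hz⟩ : ∃ z : K, z = ⟨pPt p (h : G), hxK⟩ := ⟨_, rfl⟩
  obtain ⟨y, hy⟩ : ∃ y : K, y = ⟨pRg p (h : G), hyK⟩ := ⟨_, rfl⟩
  have hzG : (z : G) = pPt p (h : G) := by rw [hz]
  have hyG : (y : G) = pRg p (h : G) := by rw [hy]
  have hzy : z * y = h := by
    apply Subtype.ext
    rw [Subgroup.coe_mul, hzG, hyG]
    exact pPt_mul_pRg p (h : G)
  have hzord : ∃ k : ℕ, orderOf z = p ^ k := by
    rw [← Subgroup.orderOf_coe, hzG]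
    exact pPt_orderOf p (h : G)
  have hyC : y ∈ Subgroup.centralizer ({z} : Set K) := by
    rw [Subgroup.mem_centralizer_singleton_iff]
    apply Subtype.ext
    rw [Subgroup.coe_mul, Subgroup.coe_mul, hzG, hyG]
    exact (pPt_pRg_commute p (h : G)).symm
  have hyreg : ¬ p ∣ orderOf (⟨y, hyC⟩ : Subgroup.centralizer ({z} : Set K)) := by
    rw [Subgroup.orderOf_mk, ← Subgroup.orderOf_coe, hyG]
    exact pRg_regular p (h : G)
  haveI : Fintype (Cfsg.IrrCharacter (Subgroup.centralizer ({z} : Set K))) := Fintype.ofFinite _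
  have hsec := section_sum hM z hzord (fun β => Cfsg.IsInducedBlock M K β b) ⟨y, hyC⟩ hyreg
  have hL : (∑ ψ : Cfsg.IrrCharacter K,
      (if ψ ∈ indSet M b K then (ψ : K → ℂ) h * conj ((ψ : K → ℂ) h) else 0))
      = ∑ ζ : Cfsg.IrrCharacter K,
        (if (fun β => Cfsg.IsInducedBlock M K β b) (Cfsg.blockOf M (ζ : K → ℂ)) then
        (ζ : K → ℂ) (z * ((⟨y, hyC⟩ : Subgroup.centralizer ({z} : Set K)) : K))
          * conj ((ζ : K → ℂ) (z * ((⟨y, hyC⟩ : Subgroup.centralizer ({z} : Set K)) : K)))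
        else 0) := by
    apply Finset.sum_congr rfl
    intro ζ _
    have e : z * ((⟨y, hyC⟩ : Subgroup.centralizer ({z} : Set K)) : K) = h := hzy
    rw [e]
    by_cases hζ : ζ ∈ indSet M b K
    · rw [if_pos hζ, if_pos ((mem_indSet_iff hM b K ζ).mp hζ)]
    · rw [if_neg hζ, if_neg (fun hh => hζ ((mem_indSet_iff hM b K ζ).mpr hh))]
  rw [hL, hsec]
  have hX : ∃ k : ℕ, orderOf (pPt p (h : G)) = p ^ k := pPt_orderOf p (h : G)
  have htr := sum_transport hM K (Subgroup.centralizer ({pPt p (h : G)} : Set G) ⊓ K) inf_le_right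
    (Subgroup.zpowers (pPt p (h : G))) (isPGroup_zpowers _ hX)
    (by
      rw [Subgroup.zpowers_le]
      refine ⟨?_, hxK⟩
      show pPt p (h : G) ∈ Subgroup.centralizer ({pPt p (h : G)} : Set G)
      rw [Subgroup.mem_centralizer_singleton_iff])
    (by
      intro c hc
      refine ⟨?_, hc.2⟩
      exact Subgroup.centralizer_le (by
        intro u hu
        rw [Set.mem_singleton_iff] at hu
        rw [hu]
        exact Subgroup.mem_zpowers _) hc.1)
    (inf_le_left.trans (centralizer_le_normalizer_zpowers _))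
    b (Subgroup.centralizer ({z} : Set K))
    (by rw [centralizer_subgroupOf_eq, hzG]) ⟨y, hyC⟩
  rw [← hyG]
  convert htr

/-- **the global formula** -/
theorem global_formula (hM : Cfsg.IsPModular p M) (b : Set (Cfsg.IrrCharacter G))
    (hb : Cfsg.IsPBlock M b) :
    (Nat.card G : ℂ) * ((Nat.card b : ℂ) - (Cfsg.blockRank p b : ℂ))
      = ∑ g : G, if p ∣ orderOf g then
          kap M b (Subgroup.centralizer ({pPt p g} : Set G)) (pRg p g) else 0 := by
  haveI : Fintype (Cfsg.IrrCharacter G) := Fintype.ofFinite _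
  have hclosed : BlockClosed M b := by
    intro ψ ψ' hψ hψ'
    rw [eq_blockOf_of_mem hM hb hψ]
    exact hψ'
  rw [card_mul_card_sub_blockRank hM b hclosed]
  apply Finset.sum_congr rfl
  intro g _
  by_cases hsing : p ∣ orderOf g
  swap
  · rw [if_neg hsing, if_neg hsing]
  rw [if_pos hsing, if_pos hsing]
  have hx : ∃ k : ℕ, orderOf (pPt p g) = p ^ k := pPt_orderOf p g
  have hyC : pRg p g ∈ Subgroup.centralizer ({pPt p g} : Set G) := by
    rw [Subgroup.mem_centralizer_singleton_iff]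
    exact (pPt_pRg_commute p g).symm
  have hyreg : ¬ p ∣ orderOf (⟨pRg p g, hyC⟩ : Subgroup.centralizer ({pPt p g} : Set G)) := by
    rw [Subgroup.orderOf_mk]
    exact pRg_regular p g
  haveI : Fintype (Cfsg.IrrCharacter (Subgroup.centralizer ({pPt p g} : Set G))) :=
    Fintype.ofFinite _
  have hsec := section_block_orthogonality hM (pPt p g) hx b hb ⟨pRg p g, hyC⟩ ⟨pRg p g, hyC⟩
    hyreg hyreg
  have e : pPt p g * ((⟨pRg p g, hyC⟩ : Subgroup.centralizer ({pPt p g} : Set G)) : G) = g :=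
    pPt_mul_pRg p g
  rw [e] at hsec
  rw [hsec]
  unfold kap
  rw [dif_pos hyC, finsum_mem_eq_sum_ite]
  apply Finset.sum_congr rfl
  intro ψ _
  by_cases hψ : ψ ∈ indSet M b (Subgroup.centralizer ({pPt p g} : Set G))
  · rw [if_pos hψ, if_pos ((mem_indSet_iff hM b _ ψ).mp hψ)]
  · rw [if_neg hψ, if_neg (fun hh => hψ ((mem_indSet_iff hM b _ ψ).mpr hh))]

end Main

end Cfsg.Agent.Lib.Helper24.KRLocal
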