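import Mathlib

/-!
# S2047 piece [CEN] (helper24, for helper12): a normal subgroup `N` of a perfect group containing a
central subgroup `Z` with `|N| ≤ 2 |Z|` is central.
SPARE: declared as `Cfsg.Agent.Lib.Helper12.McLW.Helper24.normal_le_center_of_perfect` so that it can be
imported together with helper3's `Lib/Helper3/McLWCEN` (which carries the skeleton name).
-/

set_option autoImplicit false

namespace Cfsg.Agent.Lib.Helper12.McLW

universe u

namespace Helper24

/-- for `n ∈ N`, every commutator `k n k⁻¹ n⁻¹` lies in `Z` -/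
theorem comm_mem {Γ : Type u} [Group Γ]
    (N : Subgroup Γ) [N.Normal] [Finite N] (Z : Subgroup Γ) (hZ : Z ≤ Subgroup.center Γ) (hZN : Z ≤ N)
    (hcard : Nat.card N ≤ 2 * Nat.card Z) (n : Γ) (hn : n ∈ N) (k : Γ) :
    k * n * k⁻¹ * n⁻¹ ∈ Z := by
  classical
  haveI : Finite Z := Finite.of_injective (Subgroup.inclusion hZN) (Subgroup.inclusion_injective hZN)
  by_cases hnZ : n ∈ Z
  · have hc := Subgroup.mem_center_iff.mp (hZ hnZ) k
    have : k * n * k⁻¹ * n⁻¹ = 1 := by
      rw [hc]; group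
    rw [this]; exact Z.one_mem
  · -- `Z.subgroupOf N` has index 2 in `N`
    set Z' : Subgroup N := Z.subgroupOf N with hZ'
    have hcardZ' : Nat.card Z' = Nat.card Z := by
      rw [hZ']
      exact Nat.card_congr (Subgroup.subgroupOfEquivOfLe hZN).toEquiv
    have hmul : Nat.card Z' * Z'.index = Nat.card N := Subgroup.card_mul_index Z'
    have hZpos : 0 < Nat.card Z := Nat.card_pos
    have hidx_le : Z'.index ≤ 2 := by
      by_contra hlt
      push Not at hlt
      have : Nat.card Z' * 3 ≤ Nat.card Z' * Z'.index := Nat.mul_le_mul_left _ hlt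
      rw [hmul, hcardZ'] at this
      omega
    have hidx_ne0 : Z'.index ≠ 0 := Subgroup.index_ne_zero_of_finite
    have hidx_ne1 : Z'.index ≠ 1 := by
      intro h1
      rw [Subgroup.index_eq_one] at h1
      apply hnZ
      have : (⟨n, hn⟩ : N) ∈ Z' := by rw [h1]; trivial
      rw [hZ', Subgroup.mem_subgroupOf] at this
      exact this
    have hidx : Z'.index = 2 := by omega
    -- the conjugate `m = k n k⁻¹` lies in `N` but not in `Z`
    have hm : k * n * k⁻¹ ∈ N := Subgroup.Normal.conj_mem inferInstance n hn k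
    have hmZ : k * n * k⁻¹ ∉ Z := by
      intro h
      apply hnZ
      have hc := Subgroup.mem_center_iff.mp (hZ h) k
      -- k * (k n k⁻¹) = (k n k⁻¹) * k, so k n k⁻¹ = n
      have : k * n * k⁻¹ = n := by
        have h2 : k⁻¹ * (k * (k * n * k⁻¹)) * 1 = k⁻¹ * ((k * n * k⁻¹) * k) * 1 := by rw [hc]
        have h3 : k⁻¹ * (k * (k * n * k⁻¹)) * 1 = k * n * k⁻¹ := by group
        have h4 : k⁻¹ * ((k * n * k⁻¹) * k) * 1 = n := by group
        rw [h3, h4] at h2
        exact h2
      rw [this] at h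
      exact h
    -- index two: `n⁻¹ * m ∈ Z'`
    have h2 := Subgroup.mul_mem_iff_of_index_two hidx (a := (⟨n, hn⟩ : N)⁻¹) (b := ⟨k * n * k⁻¹, hm⟩)
    have hn' : (⟨n, hn⟩ : N)⁻¹ ∉ Z' := by
      intro h
      apply hnZ
      have := Z'.inv_mem h
      rw [inv_inv, hZ', Subgroup.mem_subgroupOf] at this
      exact this
    have hm' : (⟨k * n * k⁻¹, hm⟩ : N) ∉ Z' := by
      intro h
      apply hmZ
      rw [hZ', Subgroup.mem_subgroupOf] at h
      exact h
    have h3 : (⟨n, hn⟩ : N)⁻¹ * ⟨k * n * k⁻¹, hm⟩ ∈ Z' := by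
      rw [h2]
      exact ⟨fun h => absurd h hn', fun h => absurd h hm'⟩
    rw [hZ', Subgroup.mem_subgroupOf] at h3
    have h4 : n⁻¹ * (k * n * k⁻¹) ∈ Z := by
      simpa using h3
    -- conjugate by `n` (central elements are fixed)
    have hc := Subgroup.mem_center_iff.mp (hZ h4) n
    have : k * n * k⁻¹ * n⁻¹ = n⁻¹ * (k * n * k⁻¹) := by
      have e1 : k * n * k⁻¹ * n⁻¹ = n * (n⁻¹ * (k * n * k⁻¹)) * n⁻¹ := by group
      rw [e1, hc]; group
    rw [this]
    exact h4

/-- [CEN] (spare copy; helper3's `Lib/Helper3/McLWCEN` carries the wired name) a normal subgroup `N` of a perfect group which contains a central subgroup `Z` with `|N| ≤ 2 |Z|`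
is central (generic; `x ↦ k⁻¹ x k x⁻¹` is a homomorphism into `Z`) -/
theorem normal_le_center_of_perfect {Γ : Type u} [Group Γ] (hperf : commutator Γ = ⊤)
    (N : Subgroup Γ) [N.Normal] [Finite N] (Z : Subgroup Γ) (hZ : Z ≤ Subgroup.center Γ) (hZN : Z ≤ N)
    (hcard : Nat.card N ≤ 2 * Nat.card Z) : N ≤ Subgroup.center Γ := by
  classical
  intro n hn
  have key := comm_mem N Z hZ hZN hcard n hn
  -- the homomorphism `k ↦ k n k⁻¹ n⁻¹` into the centre
  let f : Γ →* Subgroup.center Γ :=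
    { toFun := fun k => ⟨k * n * k⁻¹ * n⁻¹, hZ (key k)⟩
      map_one' := by
        apply Subtype.ext
        show (1 : Γ) * n * 1⁻¹ * n⁻¹ = 1
        group
      map_mul' := by
        intro k k'
        apply Subtype.ext
        show k * k' * n * (k * k')⁻¹ * n⁻¹ = (k * n * k⁻¹ * n⁻¹) * (k' * n * k'⁻¹ * n⁻¹)
        have hc := Subgroup.mem_center_iff.mp (hZ (key k')) 
        -- z' := k' n k'⁻¹ n⁻¹ central
        have e1 : k * k' * n * (k * k')⁻¹ * n⁻¹ = k * ((k' * n * k'⁻¹ * n⁻¹) * n) * k⁻¹ * n⁻¹ := by group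
        rw [e1]
        have e2 : k * ((k' * n * k'⁻¹ * n⁻¹) * n) * k⁻¹ * n⁻¹
            = (k * (k' * n * k'⁻¹ * n⁻¹)) * (n * k⁻¹ * n⁻¹) := by group
        rw [e2, hc k, hc (k * n * k⁻¹ * n⁻¹)]
        group }
  have hk : ∀ k : Γ, f k = 1 := by
    intro k
    have hle : commutator Γ ≤ f.ker := by
      rw [commutator_eq_closure, Subgroup.closure_le]
      rintro x ⟨p, q, rfl⟩
      rw [SetLike.mem_coe, MonoidHom.mem_ker, map_commutatorElement,
        commutatorElement_eq_one_iff_commute]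
      apply Subtype.ext
      exact Subgroup.mem_center_iff.mp (f q).2 (f p : Γ)
    have : k ∈ f.ker := hle (by rw [hperf]; trivial)
    exact this
  rw [Subgroup.mem_center_iff]
  intro k
  have h1 : (f k : Γ) = 1 := by rw [hk k]; rfl
  have h2 : k * n * k⁻¹ * n⁻¹ = 1 := h1
  have : k * n = (k * n * k⁻¹ * n⁻¹) * (n * k) := by group
  rw [this, h2, one_mul]

end Helper24

end Cfsg.Agent.Lib.Helper12.McLW
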