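import Mathlib
import Cfsg.Agent.H5.TCkSound
import Cfsg.Agent.H5.StemTC
import Cfsg.Agent.Lib.Helper12.McLWData

/-!
# S2047 piece [T] (helper24, for helper12): the relators of `⟨a, b⟩` are exact when the kernel has odd order.
SPARE: declared as `Cfsg.Agent.Lib.Helper12.McLW.Helper24.tight_of_odd` so that it can be imported together
with helper3's `Lib/Helper3/McLWT` (which carries the skeleton name).
-/

set_option autoImplicit false

namespace Cfsg.Agent.Lib.Helper12.McLW

open Cfsg Cfsg.H5.TCk Cfsg.H5.StemTC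

universe u

namespace Helper24

/-- the value of a letter depends only on the generator it names -/
theorem gl_congr {Γ : Type*} [Group Γ] (γ γ' : ℕ → Γ) (t : ℕ) (h : ∀ i < t, γ i = γ' i) (l : ℕ)
    (hl : l < 2 * t) : gl γ l = gl γ' l := by
  unfold gl
  have : l / 2 < t := by omega
  rw [h _ this]

/-- the value of a word depends only on the generators it names -/
theorem ev_congr {Γ : Type*} [Group Γ] (γ γ' : ℕ → Γ) (t : ℕ) (h : ∀ i < t, γ i = γ' i) (w : List ℕ)
    (hw : w.all (fun l => decide (l < 2 * t)) = true) : ev γ w = ev γ' w := by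
  induction w with
  | nil => simp only [ev]
  | cons l w ih =>
    rw [List.all_cons, Bool.and_eq_true] at hw
    simp only [ev]
    rw [gl_congr γ γ' t h l (of_decide_eq_true hw.1), ih hw.2]

theorem relsAB_letters : ∀ r ∈ relsAB, r.all (fun l => decide (l < 2 * 2)) = true := by
  decide

/-- the image of the closure of the first two generators -/
theorem map_closure_two {G : Type*} {Γ : Type*} [Group G] [Group Γ] (σ : Γ →* G) (g : ℕ → G)
    (γh : ℕ → Γ) (hγ : ∀ i < 2, σ (γh i) = g i) :
    (Subgroup.closure (Set.range fun i : Fin 2 => γh i.val)).map σ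
      = Subgroup.closure (Set.range fun i : Fin 2 => g i.val) := by
  rw [MonoidHom.map_closure]
  congr 1
  ext x
  constructor
  · rintro ⟨y, ⟨i, rfl⟩, rfl⟩
    exact ⟨i, (hγ i.val i.isLt).symm⟩
  · rintro ⟨i, rfl⟩
    exact ⟨γh i.val, ⟨i, rfl⟩, hγ i.val i.isLt⟩

/-- [T] (spare copy; helper3's `Lib/Helper3/McLWT` carries the wired name) the relators of `⟨a, b⟩` are exact when the kernel has odd order (generic, [CAB] as hypothesis):
`T = ⟨γh 0, γh 1⟩` has order `≤ 336`, its image has order `≥ 168`, so `T ∩ ker σ` has order `≤ 2` -/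
theorem tight_of_odd
    (hCAB : ∀ {Δ : Type u} [Group Δ] (δ : ℕ → Δ), (∀ r ∈ relsAB, ev δ r = 1) →
      Subgroup.closure (Set.range fun i : Fin 2 => δ i.val) = ⊤ → Finite Δ ∧ Nat.card Δ ≤ 336)
    {G : Type u} {Γ : Type u} [Group G] [Group Γ] [Finite Γ] (σ : Γ →* G)
    (hodd : Odd (Nat.card σ.ker)) (g : ℕ → G) (γh : ℕ → Γ) (hγ : ∀ i < 2, σ (γh i) = g i)
    (h168 : 168 ≤ Nat.card (Subgroup.closure (Set.range fun i : Fin 2 => g i.val)))
    (hAB : ∀ r ∈ relsAB, ev γh r = 1) (w : List ℕ)
    (hw : w.all (fun l => decide (l < 2 * 2)) = true) (hgw : ev g w = 1) : ev γh w = 1 := by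
  classical
  set T : Subgroup Γ := Subgroup.closure (Set.range fun i : Fin 2 => γh i.val) with hT
  have hmemT : ∀ i < 2, γh i ∈ T := fun i hi =>
    Subgroup.subset_closure ⟨⟨i, hi⟩, rfl⟩
  -- the two generators inside `T`
  let δ : ℕ → T := fun i => if h : i < 2 then ⟨γh i, hmemT i h⟩ else 1
  have hδ : ∀ i < 2, (T.subtype (δ i)) = γh i := by
    intro i hi
    simp only [δ, dif_pos hi, Subgroup.coe_subtype]
  have hevδ : ∀ v : List ℕ, v.all (fun l => decide (l < 2 * 2)) = true →
      ((ev δ v : T) : Γ) = ev γh v := by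
    intro v hv
    have h1 : ((ev δ v : T) : Γ) = T.subtype (ev δ v) := rfl
    rw [h1, map_ev]
    exact ev_congr _ _ 2 hδ v hv
  have hrelδ : ∀ r ∈ relsAB, ev δ r = 1 := by
    intro r hr
    apply Subtype.ext
    rw [hevδ r (relsAB_letters r hr), hAB r hr]
    rfl
  have hgenδ : Subgroup.closure (Set.range fun i : Fin 2 => δ i.val) = ⊤ := by
    rw [eq_top_iff]
    rintro ⟨x, hx⟩ -
    -- induction on the closure
    have : ∀ y (hy : y ∈ T), (⟨y, hy⟩ : T) ∈ Subgroup.closure (Set.range fun i : Fin 2 => δ i.val) := by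
      intro y hy
      induction hy using Subgroup.closure_induction with
      | mem y hy =>
        obtain ⟨i, rfl⟩ := hy
        apply Subgroup.subset_closure
        refine ⟨i, ?_⟩
        apply Subtype.ext
        simp only [δ, dif_pos i.isLt]
      | one => exact Subgroup.one_mem _
      | mul a b ha hb iha ihb => exact Subgroup.mul_mem _ iha ihb
      | inv a ha iha => exact Subgroup.inv_mem _ iha
    exact this x hx
  obtain ⟨_, hcardT⟩ := hCAB δ hrelδ hgenδ
  -- the kernel of `σ` restricted to `T`
  set σT : T →* G := σ.comp T.subtype with hσT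
  have hrange : Nat.card σT.range = Nat.card (Subgroup.closure (Set.range fun i : Fin 2 => g i.val)) := by
    have : σT.range = T.map σ := by
      rw [hσT, MonoidHom.range_comp, Subgroup.range_subtype]
    rw [this, hT, map_closure_two σ g γh hγ]
  have hmul : Nat.card σT.ker * Nat.card σT.range = Nat.card T := by
    have h1 := Subgroup.card_mul_index σT.ker
    rw [Subgroup.index_ker] at h1
    exact h1
  have hkerle : Nat.card σT.ker ≤ 2 := by
    by_contra hlt
    push Not at hlt
    have h3 : 3 * 168 ≤ Nat.card σT.ker * Nat.card σT.range := by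
      rw [hrange]
      exact Nat.mul_le_mul hlt h168
    rw [hmul] at h3
    omega
  -- `σT.ker` embeds in `σ.ker`, so its order is odd
  have hdvd : Nat.card σT.ker ∣ Nat.card σ.ker := by
    let ι : σT.ker →* σ.ker :=
      { toFun := fun x => ⟨(x : T), by
          have := x.2
          rw [MonoidHom.mem_ker] at this ⊢
          exact this⟩
        map_one' := rfl
        map_mul' := fun _ _ => rfl }
    have hinj : Function.Injective ι := by
      intro x y hxy
      apply Subtype.ext
      apply Subtype.ext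
      have := congrArg (fun z : σ.ker => (z : Γ)) hxy
      exact this
    exact Subgroup.card_dvd_of_injective ι hinj
  have hkerodd : Odd (Nat.card σT.ker) := Odd.of_dvd_nat hodd hdvd
  have hpos : 0 < Nat.card σT.ker := Nat.card_pos
  have hker1 : Nat.card σT.ker = 1 := by
    rcases hkerodd with ⟨m, hm⟩
    omega
  have hbot : σT.ker = ⊥ := Subgroup.card_eq_one.mp hker1
  -- the word
  have hwT : ev δ w ∈ σT.ker := by
    rw [MonoidHom.mem_ker, hσT, MonoidHom.comp_apply]
    have h1 : T.subtype (ev δ w) = ev γh w := hevδ w hw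
    rw [h1, map_ev]
    have h2 : ev (fun i => σ (γh i)) w = ev g w := ev_congr _ _ 2 hγ w hw
    rw [h2, hgw]
  rw [hbot, Subgroup.mem_bot] at hwT
  rw [← hevδ w hw, hwT]
  rfl

end Helper24

end Cfsg.Agent.Lib.Helper12.McLW
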