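import Mathlib
import Cfsg.Agent.Lib.Helper24.SectionContrib
import Cfsg.Agent.Lib.Helper11.GaloisTwist

/-!
# Rationality of the contributions of a subsection (helper24 library)

The contributions `m^{(y,b)}_{χχ'}` lie in the field generated by the `p^a`-th roots of unity,
`p^a` the `p`-part of `|G|`.
-/

set_option autoImplicit false

namespace Cfsg.Agent.Lib.Helper24

open Cfsg.Agent.Lib.Helper2
open scoped ComplexConjugate
open Polynomial

/-- Galois descent inside cyclotomic fields -/
theorem mem_cycloSub_of_fixed (N q : ℕ) [NeZero N] (hq : q ∣ N) (x : ℂ) (hx : x ∈ cycloSub N)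
    (hfix : ∀ (k : ℕ), k.Coprime N → k % q = 1 % q → ∀ σ : ℂ ≃+* ℂ,
      (∀ z : ℂ, z ^ N = 1 → σ z = z ^ k) → σ x = x) :
    x ∈ cycloSub q := by
  classical
  haveI : IsCyclotomicExtension {N} ℚ (CyclotomicField N ℚ) :=
    CyclotomicField.isCyclotomicExtension N ℚ
  haveI : IsGalois ℚ (CyclotomicField N ℚ) := IsCyclotomicExtension.isGalois {N} ℚ _
  haveI : FiniteDimensional ℚ (CyclotomicField N ℚ) :=
    IsCyclotomicExtension.finiteDimensional {N} ℚ _
  set ζ0 : CyclotomicField N ℚ := IsCyclotomicExtension.zeta N ℚ (CyclotomicField N ℚ) with hζ0def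
  have hζ0 : IsPrimitiveRoot ζ0 N := IsCyclotomicExtension.zeta_spec N ℚ (CyclotomicField N ℚ)
  let emb : CyclotomicField N ℚ →ₐ[ℚ] ℂ := IsAlgClosed.lift
  have hinj : Function.Injective emb := emb.toRingHom.injective
  have hζ : IsPrimitiveRoot (emb ζ0) N := hζ0.map_of_injective hinj
  have hrange : cycloSub N ≤ emb.toRingHom.fieldRange := by
    apply Subfield.closure_le.mpr
    intro z hz
    obtain ⟨k, _, hk⟩ := hζ.eq_pow_of_pow_eq_one hz
    exact ⟨ζ0 ^ k, by rw [← hk]; exact map_pow emb ζ0 k⟩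
  obtain ⟨β, hβ⟩ := hrange hx
  have hβ' : emb β = x := hβ
  have hirr : Irreducible (cyclotomic N ℚ) := cyclotomic.irreducible_rat (NeZero.pos N)
  let e : (CyclotomicField N ℚ ≃ₐ[ℚ] CyclotomicField N ℚ) ≃* (ZMod N)ˣ :=
    IsCyclotomicExtension.autEquivPow (CyclotomicField N ℚ) hirr
  have hσ : ∀ σ : CyclotomicField N ℚ ≃ₐ[ℚ] CyclotomicField N ℚ,
      σ ζ0 = ζ0 ^ ((e σ : (ZMod N)ˣ) : ZMod N).val := by
    intro σ
    have h1 := IsPrimitiveRoot.autToPow_spec ℚ hζ0 σ
    rw [← h1]
    congr 2
  obtain ⟨r, hr⟩ := hq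
  have hr0 : 0 < r := by
    rcases Nat.eq_zero_or_pos r with h | h
    · exfalso
      apply NeZero.ne N
      rw [hr, h, mul_zero]
    · exact h
  obtain ⟨w, hwdef⟩ : ∃ w : CyclotomicField N ℚ, w = ζ0 ^ r := ⟨_, rfl⟩
  have hw : IsPrimitiveRoot w q := by
    rw [hwdef]
    exact hζ0.pow (NeZero.pos N) (by rw [hr, mul_comm])
  have hq0 : 0 < q := by
    rcases Nat.eq_zero_or_pos q with h | h
    · exfalso
      apply NeZero.ne N
      rw [hr, h, zero_mul]
    · exact h
  have hmem : β ∈ IntermediateField.adjoin ℚ ({w} : Set (CyclotomicField N ℚ)) := by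
    rw [← IsGalois.fixedField_fixingSubgroup
      (IntermediateField.adjoin ℚ ({w} : Set (CyclotomicField N ℚ)))]
    rw [IntermediateField.mem_fixedField_iff]
    intro τ hτ
    have hτw : τ w = w := by
      have := (IntermediateField.mem_fixingSubgroup_iff _ τ).mp hτ w
        (IntermediateField.mem_adjoin_simple_self ℚ w)
      exact this
    obtain ⟨k, hkdef⟩ : ∃ k : ℕ, k = ((e τ : (ZMod N)ˣ) : ZMod N).val := ⟨_, rfl⟩
    have hkcop : k.Coprime N := by
      rw [hkdef]
      exact ZMod.val_coe_unit_coprime (e τ)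
    have hτwk : τ w = w ^ k := by
      rw [hwdef, map_pow, hσ τ, ← hkdef, ← pow_mul, ← pow_mul, mul_comm]
    have hwk : w ^ k = w ^ 1 := by
      rw [pow_one, ← hτwk, hτw]
    have hkq : k % q = 1 % q := by
      have h1 := (hw.pow_inj (Nat.mod_lt k hq0) (Nat.mod_lt 1 hq0))
      apply h1
      rw [← pow_eq_pow_mod k hw.pow_eq_one, ← pow_eq_pow_mod 1 hw.pow_eq_one]
      exact hwk
    obtain ⟨σ, hσc⟩ := Cfsg.Agent.Lib.Helper11.exists_ringEquiv_complex_pow N k hkcop
    have hagree : ∀ β' : CyclotomicField N ℚ, σ (emb β') = emb (τ β') := by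
      intro β'
      have htop : β' ∈ Algebra.adjoin ℚ ({ζ0} : Set (CyclotomicField N ℚ)) := by
        rw [IsCyclotomicExtension.adjoin_primitive_root_eq_top hζ0]
        exact Algebra.mem_top
      induction htop using Algebra.adjoin_induction with
      | mem z hz =>
        rw [Set.mem_singleton_iff] at hz
        rw [hz, hσc _ hζ.pow_eq_one, hσ τ, ← hkdef, map_pow]
      | algebraMap c =>
        rw [AlgHom.commutes, AlgEquiv.commutes, AlgHom.commutes]
        exact map_ratCast σ c
      | add a b _ _ ha hb => rw [map_add, map_add, ha, hb, map_add, map_add]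
      | mul a b _ _ ha hb => rw [map_mul, map_mul, ha, hb, map_mul, map_mul]
    apply hinj
    rw [← hagree β, hβ']
    exact hfix k hkcop hkq σ hσc
  rw [← hβ']
  have hE : ∀ β' : CyclotomicField N ℚ,
      β' ∈ IntermediateField.adjoin ℚ ({w} : Set (CyclotomicField N ℚ)) →
      emb β' ∈ cycloSub q := by
    intro β' hmem'
    induction hmem' using IntermediateField.adjoin_induction with
    | mem z hz =>
      rw [Set.mem_singleton_iff] at hz
      apply mem_cycloSub_of_pow_eq_one
      rw [hz, ← map_pow, hw.pow_eq_one, map_one]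
    | algebraMap c =>
      rw [AlgHom.commutes]
      exact SubfieldClass.ratCast_mem _ c
    | add a b _ _ ha hb =>
      rw [map_add]
      exact Subfield.add_mem _ ha hb
    | inv a _ ha =>
      rw [map_inv₀]
      exact Subfield.inv_mem _ ha
    | mul a b _ _ ha hb =>
      rw [map_mul]
      exact Subfield.mul_mem _ ha hb
  exact hE β hmem

/-- automorphisms acting by `k`-th powers on roots of unity commute with complex conjugation on
the cyclotomic field -/
theorem ringEquiv_conj_comm (N k : ℕ) (σ : ℂ ≃+* ℂ) (hσ : ∀ z : ℂ, z ^ N = 1 → σ z = z ^ k)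
    {x : ℂ} (hx : x ∈ cycloSub N) : σ (conj x) = conj (σ x) := by
  unfold cycloSub at hx
  induction hx using Subfield.closure_induction with
  | mem z hz =>
    have hz' : z ^ N = 1 := hz
    have hcz : (conj z) ^ N = 1 := by rw [← map_pow, hz', map_one]
    rw [hσ _ hcz, hσ _ hz', map_pow]
  | one => rw [map_one, map_one, map_one]
  | add a b _ _ ha hb => rw [map_add, map_add, ha, hb, map_add, map_add]
  | neg a _ ha => rw [map_neg, map_neg, ha, map_neg, map_neg]
  | inv a _ ha => rw [map_inv₀, map_inv₀, ha, map_inv₀, map_inv₀]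
  | mul a b _ _ ha hb => rw [map_mul, map_mul, ha, hb, map_mul, map_mul]

/-- the Galois action on character values -/
theorem ringEquiv_character {K : Type*} [Group K] [Finite K] {χ : K → ℂ}
    (hχ : Cfsg.IsCharacter K χ) (N k : ℕ) (hN : Nat.card K ∣ N) (σ : ℂ ≃+* ℂ)
    (hσ : ∀ z : ℂ, z ^ N = 1 → σ z = z ^ k) (g : K) : σ (χ g) = χ (g ^ k) := by
  obtain ⟨m, ρ, rfl⟩ := hχ
  obtain ⟨μ, hμ, hsum, -⟩ := exists_eigenvalues ρ g
  have h1 := hsum 1
  rw [pow_one] at h1
  rw [h1, hsum k, map_sum]
  apply Finset.sum_congr rfl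
  intro i _
  rw [pow_one]
  apply hσ
  obtain ⟨c, hc⟩ := (orderOf_dvd_natCard g).trans hN
  rw [hc, pow_mul, hμ i, one_pow]

section Section

variable {G : Type*} [Group G] [Fintype G]

theorem secCoeff_mem_cycloSub (p : ℕ) (y : G)
    [Fintype (Subgroup.centralizer ({y} : Set G))]
    (ζ : Cfsg.IrrCharacter G) (ξ : Cfsg.IrrCharacter (Subgroup.centralizer ({y} : Set G))) :
    secCoeff p y (ζ : G → ℂ) (ξ : Subgroup.centralizer ({y} : Set G) → ℂ)
      ∈ cycloSub (Nat.card G) := by
  unfold secCoeff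
  rw [classInner_def]
  apply Subfield.mul_mem
  · apply Subfield.inv_mem
    exact _root_.natCast_mem (cycloSub (Nat.card G))
      (Nat.card (Subgroup.centralizer ({y} : Set G)))
  · apply Subfield.sum_mem
    intro c _
    apply Subfield.mul_mem
    · by_cases hc : p ∣ orderOf c
      · rw [pRegularPart_of_singular _ hc]
        exact Subfield.zero_mem _
      · rw [pRegularPart_of_regular _ hc]
        exact character_mem_cycloSub (IsIrrCharacter.isCharacter ζ.2) dvd_rfl _
    · apply conj_mem_cycloSub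
      exact character_mem_cycloSub (IsIrrCharacter.isCharacter ξ.2)
        (Subgroup.card_subgroup_dvd_card _) c

/-- the coefficients `c°_{χξ}` are fixed by the automorphisms fixing the `p`-power roots of
unity -/
theorem secCoeff_fixed (p : ℕ) (hp : p.Prime) (y : G) (hy : ∃ j : ℕ, orderOf y = p ^ j)
    [Fintype (Subgroup.centralizer ({y} : Set G))]
    (χ : Cfsg.IrrCharacter G) (ξ : Cfsg.IrrCharacter (Subgroup.centralizer ({y} : Set G)))
    (k : ℕ) (hk : k.Coprime (Nat.card G))
    (hk1 : k % p ^ (Nat.card G).factorization p = 1 % p ^ (Nat.card G).factorization p)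
    (σ : ℂ ≃+* ℂ) (hσ : ∀ z : ℂ, z ^ Nat.card G = 1 → σ z = z ^ k) :
    σ (secCoeff p y (χ : G → ℂ) (ξ : Subgroup.centralizer ({y} : Set G) → ℂ))
      = secCoeff p y (χ : G → ℂ) (ξ : Subgroup.centralizer ({y} : Set G) → ℂ) := by
  classical
  have hHG : Nat.card (Subgroup.centralizer ({y} : Set G)) ∣ Nat.card G :=
    Subgroup.card_subgroup_dvd_card _
  have hkH : (Nat.card (Subgroup.centralizer ({y} : Set G))).Coprime k :=
    (Nat.Coprime.coprime_dvd_right hHG hk).symm
  -- `y ^ k = y`
  have hyk : y ^ k = y := by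
    obtain ⟨j, hj⟩ := hy
    have h1 : y ^ k = y ^ 1 := by
      rw [pow_eq_pow_iff_modEq]
      have hdvd : orderOf y ∣ p ^ (Nat.card G).factorization p := by
        rw [hj]
        apply pow_dvd_pow
        rw [← Nat.Prime.pow_dvd_iff_le_factorization hp Nat.card_pos.ne', ← hj]
        exact orderOf_dvd_natCard y
      exact (Nat.ModEq.of_dvd hdvd hk1 : k ≡ 1 [MOD orderOf y])
    rw [h1, pow_one]
  unfold secCoeff
  rw [classInner_def, map_mul, map_inv₀, map_natCast, map_sum]
  congr 1
  have hterm : ∀ c : Subgroup.centralizer ({y} : Set G),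
      σ (Cfsg.pRegularPart p (fun c : Subgroup.centralizer ({y} : Set G) =>
          (χ : G → ℂ) (y * (c : G))) c
        * conj ((ξ : Subgroup.centralizer ({y} : Set G) → ℂ) c))
      = Cfsg.pRegularPart p (fun c : Subgroup.centralizer ({y} : Set G) =>
          (χ : G → ℂ) (y * (c : G))) (c ^ k)
        * conj ((ξ : Subgroup.centralizer ({y} : Set G) → ℂ) (c ^ k)) := by
    intro c
    have hord : orderOf (c ^ k) = orderOf c := by
      exact Nat.Coprime.orderOf_pow
        (Nat.Coprime.coprime_dvd_left (orderOf_dvd_natCard c) hkH)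
    rw [map_mul]
    have h2 : σ (conj ((ξ : Subgroup.centralizer ({y} : Set G) → ℂ) c))
        = conj ((ξ : Subgroup.centralizer ({y} : Set G) → ℂ) (c ^ k)) := by
      rw [ringEquiv_conj_comm (Nat.card G) k σ hσ
        (character_mem_cycloSub (IsIrrCharacter.isCharacter ξ.2) hHG c),
        ringEquiv_character (IsIrrCharacter.isCharacter ξ.2) (Nat.card G) k hHG σ hσ c]
    rw [h2]
    congr 1
    by_cases hc : p ∣ orderOf c
    · have hc' : p ∣ orderOf (c ^ k) := by rwa [hord]
      rw [pRegularPart_of_singular _ hc, pRegularPart_of_singular _ hc', map_zero]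
    · have hc' : ¬ p ∣ orderOf (c ^ k) := by rwa [hord]
      rw [pRegularPart_of_regular _ hc, pRegularPart_of_regular _ hc',
        ringEquiv_character (IsIrrCharacter.isCharacter χ.2) (Nat.card G) k dvd_rfl σ hσ]
      have hcomm : Commute y (c : G) :=
        (Subgroup.mem_centralizer_singleton_iff.mp c.2).symm
      rw [hcomm.mul_pow, hyk, Subgroup.coe_pow]
  rw [Finset.sum_congr rfl (fun c _ => hterm c)]
  exact Equiv.sum_comp (powCoprime hkH) (fun c : Subgroup.centralizer ({y} : Set G) =>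
    Cfsg.pRegularPart p (fun c : Subgroup.centralizer ({y} : Set G) =>
          (χ : G → ℂ) (y * (c : G))) c
        * conj ((ξ : Subgroup.centralizer ({y} : Set G) → ℂ) c))

/-- the contributions of a subsection lie in the field of `p^a`-th roots of unity -/
theorem secContrib_mem_cycloSub_pow (p : ℕ) (hp : p.Prime) (y : G)
    (hy : ∃ j : ℕ, orderOf y = p ^ j)
    [Fintype (Subgroup.centralizer ({y} : Set G))]
    (b : Set (Cfsg.IrrCharacter (Subgroup.centralizer ({y} : Set G))))
    [Fintype (Cfsg.IrrCharacter (Subgroup.centralizer ({y} : Set G)))]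
    [DecidablePred (· ∈ b)] (χ χ' : Cfsg.IrrCharacter G) :
    secContrib p y b (χ : G → ℂ) (χ' : G → ℂ)
      ∈ cycloSub (p ^ (Nat.card G).factorization p) := by
  haveI : NeZero (Nat.card G) := ⟨Nat.card_pos.ne'⟩
  apply mem_cycloSub_of_fixed (Nat.card G) _ (Nat.ordProj_dvd _ _) _
    (secContrib_mem_cycloSub p y b χ χ')
  intro k hk hk1 σ hσ
  unfold secContrib
  rw [map_sum]
  apply Finset.sum_congr rfl
  intro ξ _
  split_ifs
  · rw [map_mul, ringEquiv_conj_comm (Nat.card G) k σ hσ (secCoeff_mem_cycloSub p y χ' ξ),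
      secCoeff_fixed p hp y hy χ ξ k hk hk1 σ hσ, secCoeff_fixed p hp y hy χ' ξ k hk hk1 σ hσ]
  · rw [map_zero]

end Section

end Cfsg.Agent.Lib.Helper24
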