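import Mathlib
import Cfsg.Prelude.Def_Blocks
import Cfsg.Prelude.Def_BrauerPairs
import Cfsg.Agent.Lib.Helper24.Principal
import Cfsg.Agent.Lib.Helper24.PairTools
import Cfsg.Agent.Lib.Helper24.InducedDegree
import Cfsg.Agent.Lib.Helper24.SubTransport
import Cfsg.Agent.Lib.Helper24.CliffordGeneral
import Cfsg.Agent.Lib.Helper24.PrincipalPairs
import Cfsg.Agent.Lib.Helper25.AlperinDade1
import Cfsg.Agent.Lib.Helper7.QuotientBlock

/-!
# Characters of `p'`-degree in the principal block over subgroups containing a Sylow subgroup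
(helper24 library)

* `blockCoeff_principal_restrict_sub`: `Br_Q(e_{B₀(G)}) = e_{B₀(C_G(Q))}` coefficientwise;
* `sum_blockCoeff_principal_of_pcomplement`: the principal block idempotent of a group with a
  normal `p`-complement `K` is `|K|⁻¹ ∑_{k ∈ K} k`;
* `sum_blockCoeff_principal_not_memLocalIdeal`: for `H ≥ P ∈ Syl_p(G)`,
  `∑_{h ∈ H} e_{B₀(G)}(h)` is a unit of the local ring;
* `exists_pPrime_constituent_principal`: for `η ∈ Irr_{p'}(B₀(H))` there is
  `χ ∈ Irr_{p'}(B₀(G))` over `η`.
-/

set_option autoImplicit false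

namespace Cfsg.Agent.Lib.Helper24

open Cfsg.Agent.Lib.Helper2 Cfsg.Agent.Lib.Helper7
open scoped ComplexConjugate

section BrauerPrincipal

variable {G : Type*} [Group G] [Fintype G] {p : ℕ} {M : Ideal Cfsg.AlgInt}

/-- `Br_Q(e_{B₀(G)}) = e_{B₀(C_G(Q))}` coefficientwise modulo the local ideal -/
theorem blockCoeff_principal_restrict_sub [Fact p.Prime] (hM : Cfsg.IsPModular p M)
    (Q : Subgroup G) (hQ : IsPGroup p Q) (c : Subgroup.centralizer (Q : Set G)) :
    Cfsg.MemLocalIdeal M (Cfsg.blockCoeff (Cfsg.principalBlock M G) (c : G)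
      - Cfsg.blockCoeff (Cfsg.principalBlock M (Subgroup.centralizer (Q : Set G))) c) := by
  classical
  haveI : Fintype (Subgroup.centralizer (Q : Set G)) := Fintype.ofFinite _
  have hB := isPBlock_principalBlock (M := M) (G := G)
  have hβR : ∀ g, Cfsg.MemLocalRing M (Cfsg.blockCoeff (Cfsg.principalBlock M G) g) :=
    blockCoeff_memLocalRing hM _ hB
  have hβinv : ∀ u ∈ Q, ∀ g, Cfsg.blockCoeff (Cfsg.principalBlock M G) (u * g * u⁻¹)
      = Cfsg.blockCoeff (Cfsg.principalBlock M G) g :=
    fun u _ g => blockCoeff_isClassFunction _ g u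
  have hββ := conv_blockCoeff_self (Cfsg.principalBlock M G)
  obtain ⟨ε, hε⟩ : ∃ ε : Subgroup.centralizer (Q : Set G) → ℂ,
      ε = restrictTo (Subgroup.centralizer (Q : Set G))
        (Cfsg.blockCoeff (Cfsg.principalBlock M G)) := ⟨_, rfl⟩
  have hεcf : Cfsg.IsClassFunction (Subgroup.centralizer (Q : Set G)) ε := by
    rw [hε]
    exact restrictTo_isClassFunction _ _ (blockCoeff_isClassFunction _)
  have hεR : ∀ c, Cfsg.MemLocalRing M (ε c) := by
    intro c
    rw [hε]
    exact hβR c
  have hidem : ∀ c, Cfsg.MemLocalIdeal M (conv ε ε c - ε c) := by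
    intro c
    have := conv_restrict_sub_memLocalIdeal hM Q hQ _ _ hβR hβR hβinv hβinv c
    rw [hββ] at this
    have h2 := memLocalIdeal_neg this
    rw [neg_sub] at h2
    rw [hε]
    exact h2
  have hb := isPBlock_principalBlock (M := M) (G := Subgroup.centralizer (Q : Set G))
  have h₂ : IsRCF M (Cfsg.blockCoeff (Cfsg.principalBlock M (Subgroup.centralizer (Q : Set G)))) :=
    IsRCF.blockCoeff hM hb
  have hi₂ : ∀ c, Cfsg.MemLocalIdeal M
      (conv (Cfsg.blockCoeff (Cfsg.principalBlock M (Subgroup.centralizer (Q : Set G))))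
        (Cfsg.blockCoeff (Cfsg.principalBlock M (Subgroup.centralizer (Q : Set G)))) c
        - Cfsg.blockCoeff (Cfsg.principalBlock M (Subgroup.centralizer (Q : Set G))) c) := by
    intro c
    rw [conv_blockCoeff_self, sub_self]
    exact memLocalIdeal_zero hM
  have hω : ∀ ξ : Cfsg.IrrCharacter (Subgroup.centralizer (Q : Set G)),
      Cfsg.MemLocalIdeal M (omega (ξ : _ → ℂ) ε - omega (ξ : _ → ℂ)
        (Cfsg.blockCoeff (Cfsg.principalBlock M (Subgroup.centralizer (Q : Set G))))) := by
    intro ξ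
    rw [omega_blockCoeff]
    by_cases hξ : ξ ∈ Cfsg.principalBlock M (Subgroup.centralizer (Q : Set G))
    · rw [if_pos hξ]
      have := (isBrauerPairOf_principal hM Q hQ).2.2 ξ hξ
      rwa [brauerOmega_eq_omega, ← hε] at this
    · rw [if_neg hξ, sub_zero]
      have hwR : Cfsg.MemLocalRing M (omega (ξ : _ → ℂ) ε) :=
        omega_memLocalRing hM ξ ε hεcf hεR
      have h1 : Cfsg.MemLocalIdeal M
          (omega (ξ : _ → ℂ) ε * omega (ξ : _ → ℂ) ε - omega (ξ : _ → ℂ) ε) := by
        rw [← omega_conv ξ ε ε hεcf hεcf, ← omega_sub]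
        exact omega_memLocalIdeal_of_coeff hM ξ _
          (isClassFunction_sub (conv_isClassFunction _ _ hεcf hεcf) hεcf) hidem
      rcases memLocalIdeal_or_sub_one_of_idem hM hwR h1 with h | h
      · exact h
      · exfalso
        apply hξ
        have hpair : Cfsg.IsBrauerPairOf p M (Cfsg.principalBlock M G) Q
            (Cfsg.blockOf M (ξ : _ → ℂ)) := by
          refine ⟨⟨hQ, ⟨ξ, rfl⟩⟩, hB, ?_⟩
          intro ξ'' hξ''
          rw [brauerOmega_eq_omega, ← hε]
          have h1 := omega_sub_memLocalIdeal hM ξ ξ'' hξ'' ε hεcf hεR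
          have h2 := memLocalIdeal_sub hM h h1
          have e1 : omega (ξ : _ → ℂ) ε - 1 - (omega (ξ : _ → ℂ) ε - omega (ξ'' : _ → ℂ) ε)
              = omega (ξ'' : _ → ℂ) ε - 1 := by ring
          rw [e1] at h2
          exact h2
        have := eq_principalBlock_of_isBrauerPairOf hM Q _ hpair
        rw [← this]
        exact mem_blockOf_self hM ξ
  have := sub_memLocalIdeal_of_idem_of_omega hM ε _ ⟨hεcf, hεR⟩ h₂ hidem hi₂ hω c
  rwa [hε] at this

end BrauerPrincipal

section PComplement

variable {C : Type*} [Group C] [Fintype C] {p : ℕ} {M : Ideal Cfsg.AlgInt}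

/-- the principal block idempotent of a group with a normal `p`-complement `K` is
`|K|⁻¹ ∑_{k ∈ K} k` -/
theorem blockCoeff_principal_of_pcomplement [Fact p.Prime] (hM : Cfsg.IsPModular p M)
    (K : Subgroup C) [hKn : K.Normal] [DecidablePred (· ∈ K)] (hK : ¬ p ∣ Nat.card K)
    (hidx : ∃ k : ℕ, K.index = p ^ k) (c : C) :
    Cfsg.blockCoeff (Cfsg.principalBlock M C) c
      = if c ∈ K then (Nat.card K : ℂ)⁻¹ else 0 := by
  classical
  haveI : Fintype (Cfsg.IrrCharacter C) := Fintype.ofFinite _
  have hB := isPBlock_principalBlock (M := M) (G := C)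
  have hval : ∀ c : C, Cfsg.blockCoeff (Cfsg.principalBlock M C) c
      = if c ∈ K then Cfsg.blockCoeff (Cfsg.principalBlock M C) 1 else 0 := by
    intro c
    by_cases hc : c ∈ K
    · rw [if_pos hc, blockCoeff_eq_sum, blockCoeff_eq_sum]
      congr 1
      apply Finset.sum_congr rfl
      intro χ _
      by_cases hχ : χ ∈ Cfsg.principalBlock M C
      · rw [if_pos hχ, if_pos hχ]
        have hχ' : Cfsg.SameBlock M ((trivIrr C : Cfsg.IrrCharacter C) : C → ℂ) (χ : C → ℂ) := hχ
        rw [kernel_of_sameBlock K hM hK (trivIrr C) χ (fun n _ => rfl) hχ' c hc]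
      · rw [if_neg hχ, if_neg hχ]
    · rw [if_neg hc]
      exact blockCoeff_eq_zero_of_singular hM _ hB c (dvd_orderOf_of_notMem K hidx c hc)
  have hsum : ∑ c : C, Cfsg.blockCoeff (Cfsg.principalBlock M C) c = 1 := by
    rw [← omega_trivIrr, omega_blockCoeff, if_pos (trivIrr_mem_principalBlock hM)]
  have hsum2 : ∑ c : C, Cfsg.blockCoeff (Cfsg.principalBlock M C) c
      = (Nat.card K : ℂ) * Cfsg.blockCoeff (Cfsg.principalBlock M C) 1 := by
    rw [Finset.sum_congr rfl (fun c _ => hval c), Finset.sum_ite, Finset.sum_const,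
      Finset.sum_const_zero, add_zero, nsmul_eq_mul]
    congr 2
    rw [Nat.card_eq_fintype_card, Fintype.card_subtype]
  have hKne : (Nat.card K : ℂ) ≠ 0 := Nat.cast_ne_zero.mpr (Nat.card_pos (α := K)).ne'
  have h1 : Cfsg.blockCoeff (Cfsg.principalBlock M C) 1 = (Nat.card K : ℂ)⁻¹ := by
    rw [hsum2] at hsum
    exact eq_inv_of_mul_eq_one_right hsum
  rw [hval c, h1]

/-- for a group with a normal `p`-complement, the sum of the principal block idempotent
coefficients over any subgroup is a unit of the local ring -/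
theorem sum_ite_blockCoeff_principal_not_memLocalIdeal [Fact p.Prime]
    (hM : Cfsg.IsPModular p M) (K : Subgroup C) [hKn : K.Normal] (hK : ¬ p ∣ Nat.card K)
    (hidx : ∃ k : ℕ, K.index = p ^ k) (T : Subgroup C) [DecidablePred (· ∈ T)] :
    ¬ Cfsg.MemLocalIdeal M
      (∑ c : C, if c ∈ T then Cfsg.blockCoeff (Cfsg.principalBlock M C) c else 0) := by
  classical
  have hKne : (Nat.card K : ℂ) ≠ 0 := Nat.cast_ne_zero.mpr (Nat.card_pos (α := K)).ne'
  have hsum : ∑ c : C, (if c ∈ T then Cfsg.blockCoeff (Cfsg.principalBlock M C) c else 0)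
      = (Nat.card (T ⊓ K : Subgroup C) : ℂ) * (Nat.card K : ℂ)⁻¹ := by
    have h1 : ∀ c : C, (if c ∈ T then Cfsg.blockCoeff (Cfsg.principalBlock M C) c else 0)
        = if c ∈ (T ⊓ K : Subgroup C) then (Nat.card K : ℂ)⁻¹ else 0 := by
      intro c
      rw [blockCoeff_principal_of_pcomplement hM K hK hidx c]
      by_cases hcT : c ∈ T
      · by_cases hcK : c ∈ K
        · rw [if_pos hcT, if_pos hcK, if_pos (Subgroup.mem_inf.mpr ⟨hcT, hcK⟩)]
        · rw [if_pos hcT, if_neg hcK, if_neg (fun h => hcK (Subgroup.mem_inf.mp h).2)]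
      · rw [if_neg hcT, if_neg (fun h => hcT (Subgroup.mem_inf.mp h).1)]
    rw [Finset.sum_congr rfl (fun c _ => h1 c), Finset.sum_ite, Finset.sum_const,
      Finset.sum_const_zero, add_zero, nsmul_eq_mul]
    congr 2
    rw [Nat.card_eq_fintype_card, Fintype.card_subtype]
  rw [hsum]
  intro hI
  have h2 := memLocalIdeal_mul_right hM hI (memLocalRing_natCast hM (Nat.card K))
  rw [mul_assoc, inv_mul_cancel₀ hKne, mul_one, memLocalIdeal_natCast_iff hM] at h2
  exact hK (dvd_trans h2 (Subgroup.card_dvd_of_le inf_le_right))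

end PComplement

section CentralSylow

/-- Burnside: a group with a central Sylow `p`-subgroup has a normal `p`-complement -/
theorem exists_normal_pcomplement_of_central_sylow {C : Type*} [Group C] [Finite C] {p : ℕ}
    [Fact p.Prime] (S : Sylow p C) (hS : (S : Subgroup C) ≤ Subgroup.center C) :
    ∃ K : Subgroup C, K.Normal ∧ ¬ p ∣ Nat.card K ∧ ∃ k : ℕ, K.index = p ^ k := by
  have hP : Subgroup.normalizer ((S : Subgroup C) : Set C)
      ≤ Subgroup.centralizer ((S : Subgroup C) : Set C) := by
    intro x _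
    rw [Subgroup.mem_centralizer_iff]
    intro s hs
    exact ((Subgroup.mem_center_iff.mp (hS hs)) x).symm
  refine ⟨(MonoidHom.transferSylow S hP).ker, inferInstance,
    MonoidHom.not_dvd_card_ker_transferSylow S hP, ?_⟩
  have hc := MonoidHom.ker_transferSylow_isComplement' S hP
  rw [hc.symm.index_eq_card]
  exact IsPGroup.iff_card.mp S.2

/-- a Sylow `p`-subgroup of the centralizer of a Sylow `p`-subgroup is central there -/
theorem sylow_centralizer_le_center {G : Type*} [Group G] [Finite G] {p : ℕ} [Fact p.Prime]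
    (P : Sylow p G) (S : Sylow p (Subgroup.centralizer ((P : Subgroup G) : Set G))) :
    (S : Subgroup (Subgroup.centralizer ((P : Subgroup G) : Set G)))
      ≤ Subgroup.center (Subgroup.centralizer ((P : Subgroup G) : Set G)) := by
  obtain ⟨S', hS'⟩ : ∃ S' : Subgroup G, S' = (S : Subgroup _).map
      (Subgroup.centralizer ((P : Subgroup G) : Set G)).subtype := ⟨_, rfl⟩
  have hS'p : IsPGroup p S' := by
    rw [hS']
    exact S.2.map _
  have hS'C : S' ≤ Subgroup.centralizer ((P : Subgroup G) : Set G) := by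
    rw [hS']
    exact Subgroup.map_subtype_le _
  have hS'N : S' ≤ Subgroup.normalizer ((P : Subgroup G) : Set G) :=
    hS'C.trans (Subgroup.centralizer_le_normalizer _)
  have hsup : IsPGroup p (S' ⊔ (P : Subgroup G) : Subgroup G) :=
    IsPGroup.to_sup_of_normal_right' hS'p P.2 hS'N
  have hle : S' ≤ (P : Subgroup G) := by
    have := P.is_maximal' hsup le_sup_right
    rw [← this]
    exact le_sup_left
  intro s hs
  rw [Subgroup.mem_center_iff]
  intro x
  apply Subtype.ext
  show (x : G) * (s : G) = (s : G) * (x : G)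
  have hsP : (s : G) ∈ (P : Subgroup G) := by
    apply hle
    rw [hS']
    exact ⟨s, hs, rfl⟩
  exact ((Subgroup.mem_centralizer_iff.mp x.2) _ hsP).symm

end CentralSylow

section Main

variable {G : Type*} [Group G] [Fintype G] {p : ℕ} {M : Ideal Cfsg.AlgInt}

/-- for `H ≥ P ∈ Syl_p(G)`, the sum over `H` of the coefficients of the principal block
idempotent of `G` is a unit of the local ring -/
theorem sum_blockCoeff_principal_not_memLocalIdeal [Fact p.Prime] (hM : Cfsg.IsPModular p M)
    (P : Sylow p G) (H : Subgroup G) [Fintype H] (hPH : (P : Subgroup G) ≤ H) :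
    ¬ Cfsg.MemLocalIdeal M (∑ h : H, Cfsg.blockCoeff (Cfsg.principalBlock M G) (h : G)) := by
  classical
  haveI : Fintype (Subgroup.centralizer ((P : Subgroup G) : Set G)) := Fintype.ofFinite _
  have hB := isPBlock_principalBlock (M := M) (G := G)
  have hβR : ∀ g, Cfsg.MemLocalRing M (Cfsg.blockCoeff (Cfsg.principalBlock M G) g) :=
    blockCoeff_memLocalRing hM _ hB
  obtain ⟨f, hf⟩ : ∃ f : G → ℂ, f = fun g =>
      if g ∈ H then Cfsg.blockCoeff (Cfsg.principalBlock M G) g else 0 := ⟨_, rfl⟩
  have hfR : ∀ g, Cfsg.MemLocalRing M (f g) := by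
    intro g
    rw [hf]
    simp only
    split_ifs
    · exact hβR g
    · exact memLocalRing_zero hM
  have hfP : ∀ u ∈ (P : Subgroup G), ∀ g, f (u * g * u⁻¹) = f g := by
    intro u hu g
    rw [hf]
    simp only
    have huH : u ∈ H := hPH hu
    have hiff : u * g * u⁻¹ ∈ H ↔ g ∈ H := by
      constructor
      · intro h
        have := H.mul_mem (H.mul_mem (H.inv_mem huH) h) huH
        have e : u⁻¹ * (u * g * u⁻¹) * u = g := by group
        rwa [e] at this
      · intro h
        exact H.mul_mem (H.mul_mem huH h) (H.inv_mem huH)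
    by_cases hg : g ∈ H
    · rw [if_pos hg, if_pos (hiff.mpr hg), blockCoeff_isClassFunction _ g u]
    · rw [if_neg hg, if_neg (fun h => hg (hiff.mp h))]
  have h1 := sum_sub_sum_centralizer_memLocalIdeal hM (P : Subgroup G) P.2 f hfR hfP
  have hsum1 : ∑ g : G, f g = ∑ h : H, Cfsg.blockCoeff (Cfsg.principalBlock M G) (h : G) := by
    rw [hf]
    simp only
    rw [← Finset.sum_filter]
    exact Finset.sum_subtype _ (fun x => by simp) _
  obtain ⟨S⟩ : Nonempty (Sylow p (Subgroup.centralizer ((P : Subgroup G) : Set G))) :=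
    inferInstance
  obtain ⟨K, hKn, hK, hidx⟩ := exists_normal_pcomplement_of_central_sylow S
    (sylow_centralizer_le_center P S)
  have h2 : Cfsg.MemLocalIdeal M
      (∑ c : Subgroup.centralizer ((P : Subgroup G) : Set G), f c
        - ∑ c : Subgroup.centralizer ((P : Subgroup G) : Set G),
          if c ∈ H.subgroupOf (Subgroup.centralizer ((P : Subgroup G) : Set G)) then
            Cfsg.blockCoeff (Cfsg.principalBlock M
              (Subgroup.centralizer ((P : Subgroup G) : Set G))) c else 0) := by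
    rw [← Finset.sum_sub_distrib]
    apply memLocalIdeal_sum hM
    intro c _
    rw [hf]
    simp only
    by_cases hc : (c : G) ∈ H
    · rw [if_pos hc, if_pos (Subgroup.mem_subgroupOf.mpr hc)]
      exact blockCoeff_principal_restrict_sub hM (P : Subgroup G) P.2 c
    · rw [if_neg hc, if_neg (fun h => hc (Subgroup.mem_subgroupOf.mp h)), sub_zero]
      exact memLocalIdeal_zero hM
  intro hI
  apply sum_ite_blockCoeff_principal_not_memLocalIdeal hM K hK hidx
    (H.subgroupOf (Subgroup.centralizer ((P : Subgroup G) : Set G)))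
  rw [← hsum1] at hI
  have h3 := memLocalIdeal_sub hM (memLocalIdeal_sub hM hI h1) h2
  have e : ∑ g : G, f g
      - (∑ g : G, f g - ∑ c : Subgroup.centralizer ((P : Subgroup G) : Set G), f c)
      - (∑ c : Subgroup.centralizer ((P : Subgroup G) : Set G), f c
        - ∑ c : Subgroup.centralizer ((P : Subgroup G) : Set G),
          if c ∈ H.subgroupOf (Subgroup.centralizer ((P : Subgroup G) : Set G)) then
            Cfsg.blockCoeff (Cfsg.principalBlock M
              (Subgroup.centralizer ((P : Subgroup G) : Set G))) c else 0)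
      = ∑ c : Subgroup.centralizer ((P : Subgroup G) : Set G),
          if c ∈ H.subgroupOf (Subgroup.centralizer ((P : Subgroup G) : Set G)) then
            Cfsg.blockCoeff (Cfsg.principalBlock M
              (Subgroup.centralizer ((P : Subgroup G) : Set G))) c else 0 := by ring
  rw [e] at h3
  exact h3

/-- **characters of `p'`-degree in the principal block over a subgroup containing a Sylow
subgroup**: for `H ≥ P ∈ Syl_p(G)` and `η ∈ Irr_{p'}(B₀(H))` there is `χ ∈ Irr_{p'}(B₀(G))`
which is a constituent of `η^G` -/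
theorem exists_pPrime_constituent_principal [Fact p.Prime] (hM : Cfsg.IsPModular p M)
    (P : Sylow p G) (H : Subgroup G) [Fintype H] (hPH : (P : Subgroup G) ≤ H)
    (η : Cfsg.IrrCharacter H) (hη : η ∈ Cfsg.principalBlock M H)
    (hdeg : ¬ p ∣ Cfsg.charDegree (η : H → ℂ)) :
    ∃ χ : Cfsg.IrrCharacter G, χ ∈ Cfsg.principalBlock M G ∧
      ¬ p ∣ Cfsg.charDegree (χ : G → ℂ) ∧
      Cfsg.classInner (Cfsg.indFun H (η : H → ℂ)) (χ : G → ℂ) ≠ 0 := by
  classical
  haveI : Fintype (Cfsg.IrrCharacter G) := Fintype.ofFinite _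
  have hp : p.Prime := Fact.out
  have hB := isPBlock_principalBlock (M := M) (G := G)
  have hβR : ∀ g, Cfsg.MemLocalRing M (Cfsg.blockCoeff (Cfsg.principalBlock M G) g) :=
    blockCoeff_memLocalRing hM _ hB
  obtain ⟨m, hm, hbp⟩ := exists_nat_blockPart_indFun H (Cfsg.principalBlock M G) η
  have hw := blockPart_indFun_one_eq H (Cfsg.principalBlock M G) η
  rw [hbp] at hw
  have hcf : Cfsg.IsClassFunction H
      (fun h : H => Cfsg.blockCoeff (Cfsg.principalBlock M G) (h : G)) :=
    restrictTo_isClassFunction H _ (blockCoeff_isClassFunction _)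
  have h1 := omega_sub_memLocalIdeal hM η (trivIrr H) (sameBlock_symm hM hη)
    (fun h : H => Cfsg.blockCoeff (Cfsg.principalBlock M G) (h : G)) hcf (fun h => hβR h)
  rw [omega_trivIrr] at h1
  have hunit := sum_blockCoeff_principal_not_memLocalIdeal hM P H hPH
  have hωnot : ¬ Cfsg.MemLocalIdeal M (omega (η : H → ℂ)
      (fun h : H => Cfsg.blockCoeff (Cfsg.principalBlock M G) (h : G))) := by
    intro h
    apply hunit
    have := memLocalIdeal_sub hM h h1
    rwa [sub_sub_cancel] at this
  have hdegI : Cfsg.charDegree (Cfsg.indFun H (η : H → ℂ))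
      = H.index * Cfsg.charDegree (η : H → ℂ) :=
    charDegree_indFun (IsIrrCharacter.isCharacter η.2)
  have hidx : ¬ p ∣ H.index := fun h =>
    P.not_dvd_index (dvd_trans h (Subgroup.index_dvd_of_le hPH))
  have hdegp : ¬ p ∣ Cfsg.charDegree (Cfsg.indFun H (η : H → ℂ)) := by
    rw [hdegI]
    intro h
    rcases (Nat.Prime.dvd_mul hp).mp h with h | h
    · exact hidx h
    · exact hdeg h
  have hnp : ¬ p ∣ ∑ χ : Cfsg.IrrCharacter G,
      if χ ∈ Cfsg.principalBlock M G then m χ * Cfsg.charDegree (χ : G → ℂ) else 0 := by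
    intro hdvd
    apply hωnot
    have h2 := (memLocalIdeal_natCast_iff hM _).mpr hdvd
    rw [← hw] at h2
    have h3 := memLocalIdeal_mul_right hM h2 (memLocalRing_natCast_inv hM hdegp)
    have hne : (Cfsg.charDegree (Cfsg.indFun H (η : H → ℂ)) : ℂ) ≠ 0 := by
      intro h0
      apply hdegp
      rw [Nat.cast_eq_zero.mp h0]
      exact dvd_zero p
    rwa [mul_assoc, mul_inv_cancel₀ hne, mul_one] at h3
  have hex : ∃ χ : Cfsg.IrrCharacter G, ¬ p ∣
      (if χ ∈ Cfsg.principalBlock M G then m χ * Cfsg.charDegree (χ : G → ℂ) else 0) := by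
    by_contra hcon
    push Not at hcon
    exact hnp (Finset.dvd_sum (fun χ _ => hcon χ))
  obtain ⟨χ, hχ⟩ := hex
  have hχB : χ ∈ Cfsg.principalBlock M G := by
    by_contra h
    rw [if_neg h] at hχ
    exact hχ (dvd_zero p)
  rw [if_pos hχB] at hχ
  refine ⟨χ, hχB, fun h => hχ (Dvd.dvd.mul_left h _), ?_⟩
  rw [hm χ]
  intro h0
  apply hχ
  rw [Nat.cast_eq_zero.mp h0, zero_mul]
  exact dvd_zero p

end Main

section PIndex

variable {G : Type*} [Group G] [Fintype G] {p : ℕ} {M : Ideal Cfsg.AlgInt}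

/-- over a normal subgroup of `p`-power index, every character lying over a character of the
principal block lies in the principal block -/
theorem mem_principalBlock_of_over_pIndex [Fact p.Prime] (hM : Cfsg.IsPModular p M)
    (N : Subgroup G) [hN : N.Normal] [Fintype N] (hidx : ∃ k : ℕ, N.index = p ^ k)
    (θ : Cfsg.IrrCharacter N) (hθ : θ ∈ Cfsg.principalBlock M N) (η : Cfsg.IrrCharacter G)
    (hover : Cfsg.classInner (fun n : N => (η : G → ℂ) n) (θ : N → ℂ) ≠ 0) :
    η ∈ Cfsg.principalBlock M G := by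
  classical
  have hc := isPBlock_principalBlock (M := M) (G := N)
  have hst : ∀ x : G, Cfsg.StabilizesBlock N (Cfsg.principalBlock M N) x := by
    intro x
    apply stabilizesBlock_principalBlock
    rw [Subgroup.normalizer_eq_top]
    trivial
  obtain ⟨B, hB, hBc⟩ := exists_block_of_stable N hM hidx _ hc hst
  have hone : Cfsg.classInner (fun n : N => (trivIrr G : G → ℂ) n) (trivIrr N : N → ℂ) ≠ 0 := by
    have h1 : (fun n : N => (trivIrr G : G → ℂ) n) = (trivIrr N : N → ℂ) := rfl
    rw [h1, classInner_irrCharacter_self]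
    exact one_ne_zero
  have e1 := eq_of_covers_stable N hM _ hst B hB hBc (Cfsg.blockOf M (η : G → ℂ)) ⟨η, rfl⟩
    ⟨η, mem_blockOf_self hM η, θ, hθ, hover⟩
  have e2 := eq_of_covers_stable N hM _ hst B hB hBc (Cfsg.principalBlock M G)
    isPBlock_principalBlock
    ⟨trivIrr G, trivIrr_mem_principalBlock hM, trivIrr N, trivIrr_mem_principalBlock hM, hone⟩
  rw [e2, ← e1]
  exact mem_blockOf_self hM η

end PIndex

end Cfsg.Agent.Lib.Helper24
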