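import Mathlib
import Cfsg.Agent.Lib.Helper24.SylowOver
import Cfsg.Agent.Lib.Helper24.CentralProd
import Cfsg.Agent.Lib.Helper24.SectionRational
import Cfsg.Agent.Lib.Helper25.PResidualChars
import Cfsg.Agent.Lib.Helper25.PrincipalQuot
import Cfsg.Agent.Lib.Helper25.DetExt
import Cfsg.Agent.Lib.Helper11.GaloisTwist
import Cfsg.Agent.Lib.Helper17.PResidual
import Cfsg.Agent.S4455
import Cfsg.Agent.S0867

/-!
# Navarro–Tiep: counting `σ₁`-fixed `p'`-degree characters of the principal block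
(helper24 library)

`N = O^p(G)` with `G/N` cyclic and nontrivial, `σ₁` the Galois automorphism raising `p`-power
roots of unity to the power `1 + p` and fixing `p'`-roots of unity (realised by a power map
`g ↦ g ^ k`): the number of `σ₁`-fixed characters of `p'`-degree in `B₀(G)` is `p` times the
number of `P`-invariant `σ₁`-fixed characters of `p'`-degree in `B₀(N)`.
-/

set_option autoImplicit false
set_option linter.unusedSectionVars false
set_option linter.style.haveILetI false

namespace Cfsg.Agent.Lib.Helper24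

open Cfsg Cfsg.Agent.Lib.Helper2 Cfsg.Agent.Lib.Helper7 Cfsg.Agent.Lib.Helper11
  Cfsg.Agent.Lib.Helper25
open scoped ComplexConjugate

universe u

section DetPow

variable {G : Type u} [Group G] [Finite G]

/-- the determinantal character of a Galois twist by a power map -/
theorem detChar_pow_coprime (k : ℕ) (hk : k.Coprime (Nat.card G)) {χ : G → ℂ}
    (h : IsCharacter G χ) :
    detChar (fun g => χ (g ^ k)) = fun g => detChar χ g ^ k := by
  have hN : Nat.card G ≠ 0 := Nat.card_pos.ne'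
  haveI : NeZero (Nat.card G) := ⟨hN⟩
  obtain ⟨σ, hσ⟩ := exists_ringEquiv_complex_pow (Nat.card G) k hk
  have h1 : (fun g => χ (g ^ k)) = fun g => (σ : ℂ →+* ℂ) (χ g) := by
    funext g
    exact (ringEquiv_character h (Nat.card G) k dvd_rfl σ hσ g).symm
  obtain ⟨n, ρ, rfl⟩ := h
  have h2 : (fun g => (σ : ℂ →+* ℂ) (ρ.character g))
      = (Cfsg.Agent.Lib.Helper11.twistRep (σ : ℂ →+* ℂ) ρ).character := by
    funext g
    exact (Cfsg.Agent.Lib.Helper11.twistRep_character (σ : ℂ →+* ℂ) ρ g).symm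
  rw [h1, h2, detChar_eq_of_rep, detChar_eq_of_rep]
  funext g
  have h3 : LinearMap.det ((Cfsg.Agent.Lib.Helper11.twistRep (σ : ℂ →+* ℂ) ρ) g)
      = σ (LinearMap.det (ρ g)) := by
    show LinearMap.det (Matrix.toLin' ((LinearMap.toMatrix' (ρ g)).map (σ : ℂ →+* ℂ)))
      = σ (LinearMap.det (ρ g))
    rw [LinearMap.det_toLin', ← LinearMap.det_toMatrix' (ρ g)]
    exact (RingHom.map_det (σ : ℂ →+* ℂ) (LinearMap.toMatrix' (ρ g))).symm
  rw [h3]
  apply hσ
  rw [← map_pow, ← map_pow, pow_card_eq_one', map_one, map_one]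

theorem detHom_pow_coprime (k : ℕ) (hk : k.Coprime (Nat.card G)) {χ : G → ℂ}
    (h : IsCharacter G χ) :
    detHom (fun g => χ (g ^ k)) = detHom χ ^ k := by
  apply coeFunHom_injective
  rw [coe_detHom (isCharacter_pow_coprime k hk h), detChar_pow_coprime k hk h]
  funext g
  rw [coeFunHom_apply, MonoidHom.pow_apply, Units.val_pow_eq_pow_val, detHom_apply h]

theorem not_dvd_detOrder_pow_coprime (p : ℕ) (k : ℕ) (hk : k.Coprime (Nat.card G)) {χ : G → ℂ}
    (h : IsCharacter G χ) (hp : ¬ p ∣ detOrder χ) :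
    ¬ p ∣ detOrder (fun g => χ (g ^ k)) := by
  rw [Cfsg.Agent.S0867.detOrder_eq (isCharacter_pow_coprime k hk h), detHom_pow_coprime k hk h]
  rw [Cfsg.Agent.S0867.detOrder_eq h] at hp
  intro hdvd
  exact hp (hdvd.trans (orderOf_pow_dvd k))

end DetPow

section HomCount

variable {G : Type u} [Group G] [Finite G] (N : Subgroup G) [hN : N.Normal]

/-- the linear characters of `G/N` of order dividing `p` -/
def TorsHom (p : ℕ) : Type u := {β : G →* ℂˣ // (∀ n : N, β n = 1) ∧ β ^ p = 1}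

theorem card_torsHom (p : ℕ) [hp : Fact p.Prime] (hcyc : IsCyclic (G ⧸ N)) (hpi : p ∣ N.index) :
    Nat.card (TorsHom N p) = p := by
  classical
  haveI : NeZero p := ⟨hp.out.ne_zero⟩
  obtain ⟨q, hq⟩ := hcyc.exists_generator
  obtain ⟨u, rfl⟩ := QuotientGroup.mk_surjective q
  have hord : orderOf (u : G ⧸ N) = N.index := by
    rw [orderOf_eq_card_of_forall_mem_zpowers hq]
    rfl
  have hrep : ∀ g : G, ∃ j : ℤ, (u ^ j)⁻¹ * g ∈ N := by
    intro g
    obtain ⟨j, hj⟩ := Subgroup.mem_zpowers_iff.mp (hq (g : G ⧸ N))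
    refine ⟨j, ?_⟩
    rw [← QuotientGroup.eq, QuotientGroup.mk_zpow]
    exact hj
  let f : TorsHom N p → rootsOfUnity p ℂ := fun β => ⟨β.1 u, by
    rw [mem_rootsOfUnity]
    have := DFunLike.congr_fun β.2.2 u
    rw [MonoidHom.pow_apply] at this
    exact this⟩
  have hf : Function.Bijective f := by
    constructor
    · intro β β' h
      have h1 : β.1 u = β'.1 u := congrArg Subtype.val h
      apply Subtype.ext
      apply MonoidHom.ext
      intro g
      obtain ⟨j, hj⟩ := hrep g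
      have key : ∀ γ : TorsHom N p, γ.1 g = (γ.1 u) ^ j := by
        intro γ
        have h3 := γ.2.1 ⟨_, hj⟩
        simp only at h3
        calc γ.1 g = γ.1 (u ^ j * ((u ^ j)⁻¹ * g)) := by
              congr 1
              group
          _ = (γ.1 u) ^ j := by rw [map_mul, h3, mul_one, map_zpow]
      rw [key β, key β', h1]
    · intro z
      have hz : ((z : ℂˣ)) ^ p = 1 := (mem_rootsOfUnity p _).mp z.2
      have hdvd : orderOf (z : ℂˣ) ∣ orderOf (u : G ⧸ N) := by
        rw [hord]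
        exact (orderOf_dvd_of_pow_eq_one hz).trans hpi
      let φ : G ⧸ N →* ℂˣ := monoidHomOfForallMemZpowers hq hdvd
      have hφ : φ (u : G ⧸ N) = (z : ℂˣ) := monoidHomOfForallMemZpowers_apply_gen hq hdvd
      refine ⟨⟨φ.comp (QuotientGroup.mk' N), ?_, ?_⟩, ?_⟩
      · intro n
        rw [MonoidHom.comp_apply, QuotientGroup.mk'_apply,
          (QuotientGroup.eq_one_iff (n : G)).mpr n.2, map_one]
      · ext g
        rw [MonoidHom.pow_apply, MonoidHom.comp_apply, QuotientGroup.mk'_apply]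
        obtain ⟨j, hj⟩ := Subgroup.mem_zpowers_iff.mp (hq (g : G ⧸ N))
        rw [← hj, map_zpow, hφ, ← zpow_natCast, ← zpow_mul, mul_comm, zpow_mul, zpow_natCast, hz,
          one_zpow]
        rfl
      · apply Subtype.ext
        exact hφ
  rw [Nat.card_eq_of_bijective f hf, Complex.card_rootsOfUnity]

end HomCount

section TwistUnique

variable {G : Type u} [Group G] [Finite G] (N : Subgroup G) [hN : N.Normal]

/-- over a normal subgroup of `p`-power index, a character of `p'`-degree has pairwise distinct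
twists by linear characters of `G/N` -/
theorem hom_eq_of_mul_eq (p : ℕ) [hp : Fact p.Prime] {a : ℕ} (hidx : N.index = p ^ a)
    {χ : G → ℂ} (hχ : IsCharacter G χ) (d : ℕ) (hd : χ 1 = d) (hdp : ¬ p ∣ d)
    (β₁ β₂ : G →* ℂˣ) (h₁ : ∀ n : N, β₁ n = 1) (h₂ : ∀ n : N, β₂ n = 1)
    (heq : coeFunHom G β₁ * χ = coeFunHom G β₂ * χ) : β₁ = β₂ := by
  have e1 : detHom (coeFunHom G β₁ * χ) = β₁ ^ d * detHom χ := detHom_twist β₁ hχ d hd
  have e2 : detHom (coeFunHom G β₂ * χ) = β₂ ^ d * detHom χ := detHom_twist β₂ hχ d hd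
  rw [heq, e2] at e1
  have e3 : β₂ ^ d = β₁ ^ d := mul_right_cancel e1
  have hγd : (β₁ * β₂⁻¹) ^ d = 1 := by
    apply MonoidHom.ext
    intro g
    have e4 := DFunLike.congr_fun e3 g
    rw [MonoidHom.pow_apply, MonoidHom.pow_apply] at e4
    rw [MonoidHom.pow_apply, MonoidHom.mul_apply, MonoidHom.inv_apply, mul_pow, inv_pow, e4,
      mul_inv_cancel]
    rfl
  have hγN : ∀ n : N, (β₁ * β₂⁻¹) n = 1 := by
    intro n
    rw [MonoidHom.mul_apply, MonoidHom.inv_apply, h₁, h₂, inv_one, mul_one]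
  have hγi := hom_pow_index_eq_one N _ hγN
  have h6 : orderOf (β₁ * β₂⁻¹) ∣ Nat.gcd N.index d :=
    Nat.dvd_gcd (orderOf_dvd_of_pow_eq_one hγi) (orderOf_dvd_of_pow_eq_one hγd)
  have hcop : Nat.Coprime N.index d := by
    rw [hidx]
    exact Nat.Coprime.pow_left a ((Nat.Prime.coprime_iff_not_dvd hp.out).mpr hdp)
  rw [hcop.gcd_eq_one, Nat.dvd_one] at h6
  exact mul_inv_eq_one.mp (orderOf_eq_one_iff.mp h6)

end TwistUnique

section Main

variable {G : Type u} [Group G] [Fintype G] (p : ℕ) [hp : Fact p.Prime] {M : Ideal Cfsg.AlgInt}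

attribute [local instance] conjIrrAction

theorem navarro_tiep_count (hM : Cfsg.IsPModular p M) (P : Sylow p G) (N : Subgroup G)
    [hN : N.Normal] [Fintype N] (hNres : N = Cfsg.pResidual p G) (hcyc : IsCyclic (G ⧸ N))
    (hnt : N ≠ ⊤) (k : ℕ)
    (hk₁ : ∀ g : G, (∃ j : ℕ, orderOf g = p ^ j) → g ^ k = g ^ (1 + p))
    (hk₂ : ∀ g : G, Nat.Coprime (orderOf g) p → g ^ k = g) :
    Nat.card {χ : Cfsg.IrrCharacter G // χ ∈ Cfsg.principalBlock M G ∧
        ¬ p ∣ Cfsg.charDegree (χ : G → ℂ) ∧ ∀ g : G, (χ : G → ℂ) (g ^ k) = (χ : G → ℂ) g}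
      = p * Nat.card {θ : Cfsg.IrrCharacter ↥N // θ ∈ Cfsg.principalBlock M ↥N ∧
        ¬ p ∣ Cfsg.charDegree (θ : ↥N → ℂ) ∧
        (∀ x ∈ (P : Subgroup G), ∀ n : ↥N,
          (θ : ↥N → ℂ) ⟨x * n * x⁻¹, hN.conj_mem n n.2 x⟩ = (θ : ↥N → ℂ) n) ∧
        ∀ n : ↥N, (θ : ↥N → ℂ) (n ^ k) = (θ : ↥N → ℂ) n} := by
  classical
  -- basic facts
  have hPG : IsPGroup p (G ⧸ N) := by
    subst hNres
    exact Cfsg.Agent.Lib.Helper17.quotient_pResidual_isPGroup
  obtain ⟨a, ha⟩ := hPG.exists_card_eq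
  have hidx : N.index = p ^ a := by
    rw [Subgroup.index]
    exact ha
  have ha0 : a ≠ 0 := by
    intro h0
    apply hnt
    rw [h0, pow_zero] at hidx
    exact Subgroup.index_eq_one.mp hidx
  have hpi : p ∣ N.index := by
    rw [hidx]
    exact dvd_pow_self p ha0
  have hhom : ∀ δ : N →* ℂˣ, ¬ p ∣ orderOf δ := by
    subst hNres
    exact Cfsg.Agent.S4455.not_dvd_orderOf_hom p
  have hsup : (P : Subgroup G) ⊔ N = ⊤ := by
    subst hNres
    exact Cfsg.Agent.Lib.Helper17.sylow_sup_pResidual P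
  have hpG : p ∣ Nat.card G := hpi.trans (Subgroup.index_dvd_card N)
  -- `k` is prime to `|G|`
  have hkG : k.Coprime (Nat.card G) := by
    apply Nat.coprime_of_dvd
    intro q hq hqk hqG
    haveI : Fact q.Prime := ⟨hq⟩
    obtain ⟨g, hg⟩ := exists_prime_orderOf_dvd_card' q hqG
    have hgk : g ^ k = 1 := by
      obtain ⟨c, rfl⟩ := hqk
      rw [pow_mul, ← hg, pow_orderOf_eq_one, one_pow]
    have hg1 : g = 1 := by
      by_cases hqp : q = p
      · have h1 := hk₁ g ⟨1, by rw [hg, hqp, pow_one]⟩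
        rw [hgk, pow_add, pow_one, ← hqp, ← hg, pow_orderOf_eq_one, mul_one] at h1
        exact h1.symm
      · have h1 := hk₂ g (by rw [hg]; exact (Nat.coprime_primes hq hp.out).mpr hqp)
        rw [hgk] at h1
        exact h1.symm
    rw [hg1, orderOf_one] at hg
    exact hq.one_lt.ne hg
  have hkN : k.Coprime (Nat.card N) :=
    Nat.Coprime.coprime_dvd_right (Subgroup.card_subgroup_dvd_card N) hkG
  -- `k ≡ 1 mod p`
  have hk1 : ∀ z : ℂˣ, z ^ p = 1 → z ^ k = z := by
    obtain ⟨g, hg⟩ := exists_prime_orderOf_dvd_card' p hpG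
    have h1 := hk₁ g ⟨1, by rw [hg, pow_one]⟩
    have h2 : g ^ k = g ^ 1 := by
      rw [h1, pow_add, pow_one, ← hg, pow_orderOf_eq_one, mul_one]
    rw [pow_eq_pow_iff_modEq, hg] at h2
    intro z hz
    have h3 : k % p = 1 := by
      rw [h2, Nat.mod_eq_of_lt hp.out.one_lt]
    have h4 : k = p * (k / p) + 1 := by
      conv_lhs => rw [← Nat.div_add_mod k p, h3]
    rw [h4, pow_add, pow_mul, hz, one_pow, one_mul, pow_one]
  -- invariance
  have hGinv : ∀ θ : Cfsg.IrrCharacter N,
      (∀ x ∈ (P : Subgroup G), ∀ n : ↥N,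
        (θ : ↥N → ℂ) ⟨x * n * x⁻¹, hN.conj_mem n n.2 x⟩ = (θ : ↥N → ℂ) n) →
      ∀ (g : G) (n : N), (θ : N → ℂ) ⟨g * n * g⁻¹, hN.conj_mem (n : G) n.2 g⟩
        = (θ : N → ℂ) n := by
    intro θ hθP
    apply invariant_of_stabilizer_eq_top N θ
    rw [eq_top_iff, ← hsup, sup_le_iff]
    constructor
    · intro x hx
      rw [mem_stabilizer_conjIrr_iff]
      funext n
      rw [Cfsg.Agent.Lib.Helper2.conjFun_apply]
      exact hθP x hx n
    · intro x hx
      rw [mem_stabilizer_conjIrr_iff]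
      exact Cfsg.Agent.Lib.Helper2.conjFun_of_mem N
        (isClassFunction_of_char (isCharacter_of_irr θ.2)) hx
  -- the sets
  obtain ⟨SA, hSA⟩ : ∃ SA : Set (Cfsg.IrrCharacter G), SA = {χ | χ ∈ Cfsg.principalBlock M G ∧
      ¬ p ∣ Cfsg.charDegree (χ : G → ℂ) ∧ ∀ g : G, (χ : G → ℂ) (g ^ k) = (χ : G → ℂ) g} :=
    ⟨_, rfl⟩
  obtain ⟨SB, hSB⟩ : ∃ SB : Set (Cfsg.IrrCharacter N), SB = {θ | θ ∈ Cfsg.principalBlock M ↥N ∧
      ¬ p ∣ Cfsg.charDegree (θ : ↥N → ℂ) ∧
      (∀ x ∈ (P : Subgroup G), ∀ n : ↥N,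
        (θ : ↥N → ℂ) ⟨x * n * x⁻¹, hN.conj_mem n n.2 x⟩ = (θ : ↥N → ℂ) n) ∧
      ∀ n : ↥N, (θ : ↥N → ℂ) (n ^ k) = (θ : ↥N → ℂ) n} := ⟨_, rfl⟩
  obtain ⟨SA0, hSA0⟩ : ∃ SA0 : Set (Cfsg.IrrCharacter G),
      SA0 = {χ | χ ∈ SA ∧ ¬ p ∣ Cfsg.detOrder (χ : G → ℂ)} := ⟨_, rfl⟩
  have hgoal : Nat.card ↥SA = p * Nat.card ↥SB := by
    have hbij := resIrr_bijOn N p hidx hhom
    have hirr : ∀ χ : Cfsg.IrrCharacter G, ¬ p ∣ Cfsg.charDegree (χ : G → ℂ) →
        Cfsg.IsIrrCharacter N (fun n : N => (χ : G → ℂ) n) :=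
      fun χ hχ => restrict_irr_of_not_dvd N p hidx hhom χ hχ
    -- restriction maps `SA` into `SB`
    have hmapsA : ∀ χ ∈ SA, resIrr N χ ∈ SB := by
      intro χ hχ
      rw [hSA] at hχ
      obtain ⟨hχB, hχp, hχσ⟩ := hχ
      have h := hirr χ hχp
      have hco := resIrr_coe N h
      rw [hSB]
      refine ⟨?_, ?_, ?_, ?_⟩
      · apply mem_principalBlock_of_over N hM χ hχB (resIrr N χ)
        rw [← hco, classInner_irrCharacter_self]
        exact one_ne_zero
      · rw [hco, charDegree_restrict]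
        exact hχp
      · intro x _ n
        rw [hco]
        exact isClassFunction_of_char (isCharacter_of_irr χ.2) n x
      · intro n
        rw [hco]
        show (χ : G → ℂ) ((n ^ k : N) : G) = (χ : G → ℂ) n
        rw [Subgroup.coe_pow]
        exact hχσ n
    have hSA0sub : ∀ χ ∈ SA0, χ ∈ pPrimeDetSet (G := G) p := by
      intro χ hχ
      rw [hSA0] at hχ
      obtain ⟨hχA, hχd⟩ := hχ
      rw [hSA] at hχA
      exact ⟨hχA.2.1, hχd⟩
    -- restriction is a bijection `SA0 → SB`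
    have hB1 : Set.BijOn (resIrr N) SA0 SB := by
      refine ⟨?_, ?_, ?_⟩
      · intro χ hχ
        have hχ' := hχ
        rw [hSA0] at hχ'
        exact hmapsA χ hχ'.1
      · intro χ hχ χ' hχ' heq
        exact hbij.injOn (hSA0sub χ hχ) (hSA0sub χ' hχ') heq
      · intro θ hθ
        have hθ' := hθ
        rw [hSB] at hθ'
        obtain ⟨hθB, hθp, hθP, hθσ⟩ := hθ'
        have hθinv : θ ∈ invPPrimeSet N p := ⟨hGinv θ hθP, hθp⟩
        obtain ⟨χ, hχmem, hχθ⟩ := hbij.surjOn hθinv
        have h := hirr χ hχmem.1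
        have hco := resIrr_coe N h
        rw [hχθ] at hco
        have hχN : ∀ n : N, (χ : G → ℂ) n = (θ : N → ℂ) n := by
          intro n
          rw [hco]
        refine ⟨χ, ?_, hχθ⟩
        rw [hSA0]
        refine ⟨?_, hχmem.2⟩
        rw [hSA]
        refine ⟨?_, hχmem.1, ?_⟩
        · apply mem_principalBlock_of_over_pIndex hM N ⟨a, hidx⟩ θ hθB χ
          rw [← hco, classInner_irrCharacter_self]
          exact one_ne_zero
        · -- `σ`-invariance by uniqueness
          have hpow : powIrr k hkG χ ∈ pPrimeDetSet (G := G) p := by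
            refine ⟨?_, ?_⟩
            · have : Cfsg.charDegree (powIrr k hkG χ : G → ℂ) = Cfsg.charDegree (χ : G → ℂ) := by
                unfold Cfsg.charDegree
                rw [powIrr_apply, one_pow]
              rw [this]
              exact hχmem.1
            · exact not_dvd_detOrder_pow_coprime p k hkG (isCharacter_of_irr χ.2) hχmem.2
          have hpirr := hirr (powIrr k hkG χ) hpow.1
          have hpco := resIrr_coe N hpirr
          have heq : resIrr N (powIrr k hkG χ) = resIrr N χ := by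
            apply Subtype.ext
            rw [hpco, hχθ]
            funext n
            rw [powIrr_apply]
            have h1 := hχN (n ^ k)
            rw [Subgroup.coe_pow] at h1
            rw [h1, hθσ n]
          have h2 := hbij.injOn hpow hχmem heq
          intro g
          have h3 := congrArg (fun ψ : Cfsg.IrrCharacter G => (ψ : G → ℂ) g) h2
          simp only [powIrr_apply] at h3
          exact h3
    -- twisting by linear characters of order `p`
    have hirrΦ : ∀ (χ : Cfsg.IrrCharacter G) (β : G →* ℂˣ),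
        Cfsg.IsIrrCharacter G (coeFunHom G β * (χ : G → ℂ)) := fun χ β =>
      isIrrCharacter_linear_mul (isCharacter_coeFunHom β).1 (isCharacter_coeFunHom β).2 χ.2
    have hmemΦ : ∀ χ ∈ SA0, ∀ β : TorsHom N p,
        (⟨_, hirrΦ χ β.1⟩ : Cfsg.IrrCharacter G) ∈ SA := by
      intro χ hχ β
      have hχ' := hχ
      rw [hSA0] at hχ'
      have hχA := hχ'.1
      rw [hSA] at hχA
      obtain ⟨hχB, hχp, hχσ⟩ := hχA
      have hθ := hmapsA χ hχ'.1
      have h := hirr χ hχp
      have hco := resIrr_coe N h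
      rw [hSB] at hθ
      rw [hSA]
      refine ⟨?_, ?_, ?_⟩
      · apply mem_principalBlock_of_over_pIndex hM N ⟨a, hidx⟩ (resIrr N χ) hθ.1
        have h1 : (fun n : N => ((⟨_, hirrΦ χ β.1⟩ : Cfsg.IrrCharacter G) : G → ℂ) n)
            = (resIrr N χ : N → ℂ) := by
          funext n
          show coeFunHom G β.1 n * (χ : G → ℂ) n = _
          rw [coeFunHom_apply, β.2.1 n, Units.val_one, one_mul, hco]
        rw [h1, classInner_irrCharacter_self]
        exact one_ne_zero
      · have : Cfsg.charDegree ((⟨_, hirrΦ χ β.1⟩ : Cfsg.IrrCharacter G) : G → ℂ)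
            = Cfsg.charDegree (χ : G → ℂ) := by
          unfold Cfsg.charDegree
          show ⌊(coeFunHom G β.1 1 * (χ : G → ℂ) 1).re⌋₊ = _
          rw [coeFunHom_apply, map_one, Units.val_one, one_mul]
        rw [this]
        exact hχp
      · intro g
        show coeFunHom G β.1 (g ^ k) * (χ : G → ℂ) (g ^ k) = coeFunHom G β.1 g * (χ : G → ℂ) g
        rw [hχσ g, coeFunHom_apply, coeFunHom_apply, map_pow]
        have h2 : (β.1 g) ^ p = 1 := by
          have := DFunLike.congr_fun β.2.2 g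
          rw [MonoidHom.pow_apply] at this
          exact this
        rw [hk1 _ h2]
    obtain ⟨Φ, hΦ⟩ : ∃ Φ : ↥SA0 × TorsHom N p → ↥SA, ∀ x, ((Φ x : ↥SA) : Cfsg.IrrCharacter G)
        = ⟨_, hirrΦ x.1.1 x.2.1⟩ := ⟨fun x => ⟨⟨_, hirrΦ x.1.1 x.2.1⟩, hmemΦ x.1.1 x.1.2 x.2⟩,
          fun x => rfl⟩
    have hΦapp : ∀ (x : ↥SA0 × TorsHom N p) (g : G), (((Φ x : ↥SA) : Cfsg.IrrCharacter G) : G → ℂ) g
        = ((x.2.1 g : ℂˣ) : ℂ) * ((x.1 : Cfsg.IrrCharacter G) : G → ℂ) g := by
      intro x g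
      rw [hΦ x]
      rfl
    have hΦbij : Function.Bijective Φ := by
      constructor
      · rintro ⟨⟨χ, hχ⟩, β⟩ ⟨⟨χ', hχ'⟩, β'⟩ h
        have hfun : ∀ g : G, ((β.1 g : ℂˣ) : ℂ) * (χ : G → ℂ) g
            = ((β'.1 g : ℂˣ) : ℂ) * (χ' : G → ℂ) g := by
          intro g
          have h1 := hΦapp (⟨χ, hχ⟩, β) g
          have h2 := hΦapp (⟨χ', hχ'⟩, β') g
          rw [h] at h1
          rw [← h1, ← h2]
        have hp1 := (hSA0sub χ hχ).1
        have hp2 := (hSA0sub χ' hχ').1
        have hco1 := resIrr_coe N (hirr χ hp1)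
        have hco2 := resIrr_coe N (hirr χ' hp2)
        have hres : resIrr N χ = resIrr N χ' := by
          apply Subtype.ext
          rw [hco1, hco2]
          funext n
          have h1 := hfun n
          rw [β.2.1 n, β'.2.1 n, Units.val_one, one_mul, one_mul] at h1
          exact h1
        have hχχ' : χ = χ' := hB1.injOn hχ hχ' hres
        subst hχχ'
        have hββ' : β.1 = β'.1 := by
          apply hom_eq_of_mul_eq N p hidx (isCharacter_of_irr χ.2)
            (Cfsg.charDegree (χ : G → ℂ)) (char_one_eq_charDegree (isCharacter_of_irr χ.2)) hp1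
            β.1 β'.1 β.2.1 β'.2.1
          funext g
          exact hfun g
        have : β = β' := Subtype.ext hββ'
        rw [this]
      · rintro ⟨ψ, hψ⟩
        have hψ' := hψ
        rw [hSA] at hψ'
        obtain ⟨hψB, hψp, hψσ⟩ := hψ'
        have hθ := hmapsA ψ hψ
        obtain ⟨χ, hχ0, hχθ⟩ := hB1.surjOn hθ
        have hχp := (hSA0sub χ hχ0).1
        have hχσ : ∀ g : G, (χ : G → ℂ) (g ^ k) = (χ : G → ℂ) g := by
          have h1 := hχ0
          rw [hSA0] at h1
          have h2 := h1.1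
          rw [hSA] at h2
          exact h2.2.2
        have hco1 := resIrr_coe N (hirr χ hχp)
        have hco2 := resIrr_coe N (hirr ψ hψp)
        have hχN : ∀ n : N, (χ : G → ℂ) n = (resIrr N ψ : N → ℂ) n := by
          intro n
          rw [← hχθ, hco1]
        have hψN : ∀ n : N, (ψ : G → ℂ) n = (resIrr N ψ : N → ℂ) n := by
          intro n
          rw [hco2]
        obtain ⟨β, hβN, hβψ⟩ := exists_hom_of_two_extensions N (resIrr N ψ).2 χ.2 ψ.2 hχN hψN
        have hβapp : ∀ g : G, (ψ : G → ℂ) g = ((β g : ℂˣ) : ℂ) * (χ : G → ℂ) g := by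
          intro g
          rw [hβψ]
          rfl
        -- `β ^ k = β`
        have hβk : β ^ k = β := by
          apply hom_eq_of_mul_eq N p hidx (isCharacter_of_irr χ.2)
            (Cfsg.charDegree (χ : G → ℂ)) (char_one_eq_charDegree (isCharacter_of_irr χ.2)) hχp
            (β ^ k) β
          · intro n
            rw [MonoidHom.pow_apply, hβN n, one_pow]
          · exact hβN
          · funext g
            show ((((β ^ k) g : ℂˣ)) : ℂ) * (χ : G → ℂ) g = ((β g : ℂˣ) : ℂ) * (χ : G → ℂ) g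
            rw [MonoidHom.pow_apply, ← map_pow, ← hβapp g, ← hψσ g, hβapp (g ^ k), hχσ g]
        -- `β ^ p = 1`
        have hβP : ∀ x ∈ (P : Subgroup G), (β x) ^ p = 1 := by
          intro x hx
          obtain ⟨j, hj⟩ := IsPGroup.iff_orderOf.mp P.isPGroup' ⟨x, hx⟩
          rw [Subgroup.orderOf_mk] at hj
          have h1 := hk₁ x ⟨j, hj⟩
          have h2 : (β x) ^ k = β x := by
            have := DFunLike.congr_fun hβk x
            rw [MonoidHom.pow_apply] at this
            exact this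
          have h3 : (β x) ^ k = (β x) ^ (1 + p) := by
            rw [← map_pow, h1, map_pow]
          rw [h2, pow_add, pow_one] at h3
          exact (mul_eq_left.mp h3.symm)
        have hβp : β ^ p = 1 := by
          apply MonoidHom.ext
          intro g
          have hg : g ∈ (P : Subgroup G) ⊔ N := by
            rw [hsup]
            trivial
          obtain ⟨y, hy, z, hz, rfl⟩ := Subgroup.mem_sup_of_normal_right.mp hg
          rw [MonoidHom.pow_apply, map_mul, hβN ⟨z, hz⟩, mul_one, hβP y hy]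
          rfl
        refine ⟨(⟨χ, hχ0⟩, ⟨β, hβN, hβp⟩), ?_⟩
        apply Subtype.ext
        apply Subtype.ext
        funext g
        rw [hΦapp]
        exact (hβapp g).symm
    rw [← Nat.card_eq_of_bijective Φ hΦbij, Nat.card_prod, card_torsHom N p hcyc hpi,
      Nat.card_congr (hB1.equiv _), mul_comm]
  rw [hSA, hSB] at hgoal
  exact hgoal

end Main

end Cfsg.Agent.Lib.Helper24
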