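import Mathlib
import Cfsg.Agent.Lib.Helper24.SectionContrib

/-!
# The contribution matrix of a subsection is an idempotent (helper24 library)

`∑_{ψ ∈ B} m_{χψ} conj m_{χ'ψ} = m_{χχ'}` and `∑_{χ ∈ B} m_{χχ} = l(b)`.
-/

set_option autoImplicit false

namespace Cfsg.Agent.Lib.Helper24

open Cfsg.Agent.Lib.Helper2
open scoped ComplexConjugate

section

variable {G : Type*} [Group G] [Fintype G] {p : ℕ} [Fact p.Prime] {M : Ideal Cfsg.AlgInt}

/-- `D N = D` -/
theorem sum_secCoeff_mul_regInner (hM : Cfsg.IsPModular p M) (y : G)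
    [Fintype (Subgroup.centralizer ({y} : Set G))]
    (b : Set (Cfsg.IrrCharacter (Subgroup.centralizer ({y} : Set G))))
    (hb : Cfsg.IsPBlock M b)
    [Fintype (Cfsg.IrrCharacter (Subgroup.centralizer ({y} : Set G)))]
    [DecidablePred (· ∈ b)] (χ : Cfsg.IrrCharacter G)
    (ψ' : Cfsg.IrrCharacter (Subgroup.centralizer ({y} : Set G))) :
    ∑ ξ : Cfsg.IrrCharacter (Subgroup.centralizer ({y} : Set G)), (if ξ ∈ b then
        secCoeff p y (χ : G → ℂ) (ξ : Subgroup.centralizer ({y} : Set G) → ℂ)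
          * Cfsg.classInner (Cfsg.pRegularPart p (ξ : Subgroup.centralizer ({y} : Set G) → ℂ))
              (ψ' : Subgroup.centralizer ({y} : Set G) → ℂ) else 0)
      = if ψ' ∈ b then
        secCoeff p y (χ : G → ℂ) (ψ' : Subgroup.centralizer ({y} : Set G) → ℂ) else 0 := by
  classical
  have hcf := Cfsg.Agent.Lib.Helper7.isClassFunction_shift χ y
  by_cases hψ' : ψ' ∈ b
  · rw [if_pos hψ']
    have h1 := classInner_pRegularPart_expand (p := p) (Cfsg.pRegularPart p
      (fun c : Subgroup.centralizer ({y} : Set G) => (χ : G → ℂ) (y * (c : G))))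
      (pRegularPart_isClassFunction _ hcf)
      (ψ' : Subgroup.centralizer ({y} : Set G) → ℂ)
    rw [pRegularPart_pRegularPart] at h1
    unfold secCoeff
    rw [h1]
    apply Finset.sum_congr rfl
    intro ξ _
    by_cases hξ : ξ ∈ b
    · rw [if_pos hξ]
    · rw [if_neg hξ, classInner_pRegularPart_symm ξ ψ',
        classInner_pRegularPart_eq_zero hM b hb ψ' ξ hψ' hξ, mul_zero]
  · rw [if_neg hψ']
    apply Finset.sum_eq_zero
    intro ξ _
    by_cases hξ : ξ ∈ b
    · rw [if_pos hξ, classInner_pRegularPart_eq_zero hM b hb ξ ψ' hξ hψ', mul_zero]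
    · rw [if_neg hξ]

open scoped Matrix in
/-- `M² = M` -/
theorem sum_secContrib_mul_conj_row (hM : Cfsg.IsPModular p M) (y : G)
    (hy : ∃ k : ℕ, orderOf y = p ^ k) [Fintype (Subgroup.centralizer ({y} : Set G))]
    (B : Set (Cfsg.IrrCharacter G))
    (b : Set (Cfsg.IrrCharacter (Subgroup.centralizer ({y} : Set G))))
    (hind : Cfsg.IsInducedBlock M (Subgroup.centralizer ({y} : Set G)) b B)
    [Fintype (Cfsg.IrrCharacter G)]
    [Fintype (Cfsg.IrrCharacter (Subgroup.centralizer ({y} : Set G)))]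
    [DecidablePred (· ∈ B)] [DecidablePred (· ∈ b)] (χ χ' : Cfsg.IrrCharacter G) :
    ∑ ψ : Cfsg.IrrCharacter G, (if ψ ∈ B then
        secContrib p y b (χ : G → ℂ) (ψ : G → ℂ)
          * conj (secContrib p y b (χ' : G → ℂ) (ψ : G → ℂ)) else 0)
      = secContrib p y b (χ : G → ℂ) (χ' : G → ℂ) := by
  classical
  have hb : Cfsg.IsPBlock M b := hind.1
  obtain ⟨D, hD⟩ : ∃ D : Matrix (Cfsg.IrrCharacter G)
      (Cfsg.IrrCharacter (Subgroup.centralizer ({y} : Set G))) ℂ,
      D = fun (χ : Cfsg.IrrCharacter G)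
        (ξ : Cfsg.IrrCharacter (Subgroup.centralizer ({y} : Set G))) => if ξ ∈ b then
        secCoeff p y (χ : G → ℂ) (ξ : Subgroup.centralizer ({y} : Set G) → ℂ) else 0 := ⟨_, rfl⟩
  have hD0 : ∀ χ ξ, ξ ∉ b → D χ ξ = 0 := by
    intro χ ξ h
    rw [hD]
    exact if_neg h
  have hD1 : ∀ χ ξ, ξ ∈ b → D χ ξ
      = secCoeff p y (χ : G → ℂ) (ξ : Subgroup.centralizer ({y} : Set G) → ℂ) := by
    intro χ ξ h
    rw [hD]
    exact if_pos h
  obtain ⟨P, hP⟩ : ∃ P : Cfsg.IrrCharacter G → ℂ, P = fun χ => if χ ∈ B then 1 else 0 :=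
    ⟨_, rfl⟩
  obtain ⟨Nb, hNb⟩ : ∃ Nb : Matrix (Cfsg.IrrCharacter (Subgroup.centralizer ({y} : Set G)))
      (Cfsg.IrrCharacter (Subgroup.centralizer ({y} : Set G))) ℂ,
      Nb = fun ξ ξ' => if ξ ∈ b ∧ ξ' ∈ b then
        Cfsg.classInner (Cfsg.pRegularPart p (ξ : Subgroup.centralizer ({y} : Set G) → ℂ))
          (ξ' : Subgroup.centralizer ({y} : Set G) → ℂ) else 0 := ⟨_, rfl⟩
  -- `M₀ = D Dᴴ`
  have hMM : ∀ χ χ' : Cfsg.IrrCharacter G,
      (D * Dᴴ) χ χ' = secContrib p y b (χ : G → ℂ) (χ' : G → ℂ) := by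
    intro χ χ'
    rw [Matrix.mul_apply]
    unfold secContrib
    apply Finset.sum_congr rfl
    intro ξ _
    rw [Matrix.conjTranspose_apply]
    by_cases hξ : ξ ∈ b
    · rw [hD1 χ ξ hξ, hD1 χ' ξ hξ, if_pos hξ]
      rfl
    · rw [hD0 χ ξ hξ, zero_mul, if_neg hξ]
  -- `Dᴴ P D = Nb`
  have h1 : Dᴴ * Matrix.diagonal P * D = Nb := by
    ext ξ ξ'
    rw [Matrix.mul_apply, hNb]
    by_cases h : ξ ∈ b ∧ ξ' ∈ b
    · simp only [if_pos h]
      rw [← sum_conj_secCoeff_mul hM y hy B b hind ξ ξ' h.1]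
      apply Finset.sum_congr rfl
      intro χ _
      rw [Matrix.mul_diagonal, Matrix.conjTranspose_apply, hD1 χ ξ h.1, hD1 χ ξ' h.2, hP]
      by_cases hχ : χ ∈ B
      · simp only [if_pos hχ, mul_one]
        rfl
      · simp only [if_neg hχ, mul_zero, zero_mul]
    · simp only [if_neg h]
      apply Finset.sum_eq_zero
      intro χ _
      rw [Matrix.mul_diagonal, Matrix.conjTranspose_apply]
      by_cases h1 : ξ ∈ b
      · have h2 : ξ' ∉ b := fun h2 => h ⟨h1, h2⟩
        rw [hD0 χ ξ' h2, mul_zero]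
      · rw [hD0 χ ξ h1, star_zero, zero_mul, zero_mul]
  -- `D Nb = D`
  have h2 : D * Nb = D := by
    ext χ ψ'
    rw [Matrix.mul_apply]
    by_cases hψ' : ψ' ∈ b
    · rw [hD1 χ ψ' hψ']
      have h3 := sum_secCoeff_mul_regInner hM y b hb χ ψ'
      rw [if_pos hψ'] at h3
      rw [← h3]
      apply Finset.sum_congr rfl
      intro ξ _
      rw [hNb]
      by_cases hξ : ξ ∈ b
      · rw [hD1 χ ξ hξ, if_pos hξ]
        simp only [if_pos (And.intro hξ hψ')]
      · rw [hD0 χ ξ hξ, zero_mul, if_neg hξ]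
    · rw [hD0 χ ψ' hψ']
      apply Finset.sum_eq_zero
      intro ξ _
      rw [hNb]
      simp only [if_neg (fun hh : ξ ∈ b ∧ ψ' ∈ b => hψ' hh.2), mul_zero]
  have key : (D * Dᴴ) * Matrix.diagonal P * (D * Dᴴ) = D * Dᴴ := by
    calc (D * Dᴴ) * Matrix.diagonal P * (D * Dᴴ)
        = D * (Dᴴ * Matrix.diagonal P * D) * Dᴴ := by
          simp only [Matrix.mul_assoc]
      _ = D * Dᴴ := by rw [h1, h2]
  have h3 := congrFun (congrFun key χ) χ'
  rw [hMM] at h3
  rw [← h3, Matrix.mul_apply]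
  apply Finset.sum_congr rfl
  intro ψ _
  rw [Matrix.mul_diagonal, hMM, hP]
  have hherm : (D * Dᴴ) ψ χ' = conj (secContrib p y b (χ' : G → ℂ) (ψ : G → ℂ)) := by
    rw [← hMM χ' ψ]
    have : (D * Dᴴ)ᴴ = D * Dᴴ := by
      rw [Matrix.conjTranspose_mul, Matrix.conjTranspose_conjTranspose]
    conv_lhs => rw [← this]
    rw [Matrix.conjTranspose_apply]
    rfl
  rw [hherm]
  by_cases hψ : ψ ∈ B
  · simp only [if_pos hψ, mul_one]
  · simp only [if_neg hψ, mul_zero, zero_mul]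

/-- `tr M = l(b)` -/
theorem sum_secContrib_self (hM : Cfsg.IsPModular p M) (y : G)
    (hy : ∃ k : ℕ, orderOf y = p ^ k) [Fintype (Subgroup.centralizer ({y} : Set G))]
    (B : Set (Cfsg.IrrCharacter G))
    (b : Set (Cfsg.IrrCharacter (Subgroup.centralizer ({y} : Set G))))
    (hind : Cfsg.IsInducedBlock M (Subgroup.centralizer ({y} : Set G)) b B)
    [Fintype (Cfsg.IrrCharacter G)]
    [Fintype (Cfsg.IrrCharacter (Subgroup.centralizer ({y} : Set G)))]
    [DecidablePred (· ∈ B)] [DecidablePred (· ∈ b)] :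
    ∑ χ : Cfsg.IrrCharacter G, (if χ ∈ B then
        secContrib p y b (χ : G → ℂ) (χ : G → ℂ) else 0)
      = (Cfsg.blockRank p b : ℂ) := by
  rw [← sum_secContrib_mul_conj hM y hy B b hind]
  apply Finset.sum_congr rfl
  intro χ _
  by_cases hχ : χ ∈ B
  · rw [if_pos hχ, ← sum_secContrib_mul_conj_row hM y hy B b hind χ χ]
    apply Finset.sum_congr rfl
    intro ψ _
    by_cases hψ : ψ ∈ B
    · rw [if_pos hψ, if_pos ⟨hχ, hψ⟩]
    · rw [if_neg hψ, if_neg (fun hh => hψ hh.2)]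
  · rw [if_neg hχ]
    symm
    apply Finset.sum_eq_zero
    intro ψ _
    rw [if_neg (fun hh => hχ hh.1)]

/-- `p^{d(b)} m_{χχ'}` is an algebraic integer (no condition on heights) -/
theorem secContrib_isIntegral (hM : Cfsg.IsPModular p M) (y : G)
    (hy : ∃ k : ℕ, orderOf y = p ^ k)
    [Fintype (Subgroup.centralizer ({y} : Set G))]
    (b : Set (Cfsg.IrrCharacter (Subgroup.centralizer ({y} : Set G))))
    (hb : Cfsg.IsPBlock M b)
    [Fintype (Cfsg.IrrCharacter (Subgroup.centralizer ({y} : Set G)))]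
    [DecidablePred (· ∈ b)] (χ χ' : Cfsg.IrrCharacter G) :
    IsIntegral ℤ ((p : ℂ) ^ Cfsg.blockDefect p b
        * secContrib p y b (χ : G → ℂ) (χ' : G → ℂ)) := by
  classical
  have hp : p.Prime := hM.1
  obtain ⟨ε, k, hε1, hεF⟩ := exists_shift_scalars (p := p) y hy
  have hpk : 0 < p ^ k := pow_pos hp.pos k
  have hχH : Cfsg.IsCharacter (Subgroup.centralizer ({y} : Set G))
      (fun c : Subgroup.centralizer ({y} : Set G) => (χ : G → ℂ) c) :=
    IsCharacter.restrict (IsIrrCharacter.isCharacter χ.2) _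
  have hχ'H : Cfsg.IsCharacter (Subgroup.centralizer ({y} : Set G))
      (fun c : Subgroup.centralizer ({y} : Set G) => (χ' : G → ℂ) c) :=
    IsCharacter.restrict (IsIrrCharacter.isCharacter χ'.2) _
  choose a ha using fun ψ : Cfsg.IrrCharacter (Subgroup.centralizer ({y} : Set G)) =>
    classInner_isCharacter_nat hχH (IsIrrCharacter.isCharacter ψ.2)
  choose a' ha' using fun ψ : Cfsg.IrrCharacter (Subgroup.centralizer ({y} : Set G)) =>
    classInner_isCharacter_nat hχ'H (IsIrrCharacter.isCharacter ψ.2)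
  have hform : (p : ℂ) ^ Cfsg.blockDefect p b * secContrib p y b (χ : G → ℂ) (χ' : G → ℂ)
      = ∑ ψ' : Cfsg.IrrCharacter (Subgroup.centralizer ({y} : Set G)),
        ∑ ψ : Cfsg.IrrCharacter (Subgroup.centralizer ({y} : Set G)),
          if ψ' ∈ b ∧ ψ ∈ b then (conj (ε ψ') * (a' ψ' : ℂ)) * (ε ψ * (a ψ : ℂ))
            * ((p : ℂ) ^ Cfsg.blockDefect p b * Cfsg.classInner
              (Cfsg.pRegularPart p (ψ : Subgroup.centralizer ({y} : Set G) → ℂ))
              (ψ' : Subgroup.centralizer ({y} : Set G) → ℂ)) else 0 := by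
    rw [secContrib_eq_sum hM y b hb χ χ', Finset.mul_sum]
    apply Finset.sum_congr rfl
    intro ψ' _
    by_cases hψ' : ψ' ∈ b
    · rw [if_pos hψ', Finset.mul_sum, Finset.mul_sum]
      apply Finset.sum_congr rfl
      intro ψ _
      by_cases hψ : ψ ∈ b
      · rw [if_pos hψ, if_pos ⟨hψ', hψ⟩, hεF χ' ψ', hεF χ ψ, ha, ha', map_mul,
          Complex.conj_natCast]
        ring
      · rw [if_neg hψ, if_neg (fun hh => hψ hh.2), mul_zero, mul_zero]
    · rw [if_neg hψ', mul_zero]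
      symm
      apply Finset.sum_eq_zero
      intro ψ _
      rw [if_neg (fun hh => hψ' hh.1)]
  rw [hform]
  apply IsIntegral.sum
  intro ψ' _
  apply IsIntegral.sum
  intro ψ _
  split_ifs with h
  · obtain ⟨c, hc⟩ := exists_int_pow_defect_mul_classInner hM b ψ ψ' h.2
    rw [hc]
    have hε' : IsIntegral ℤ (conj (ε ψ')) := by
      apply isIntegral_of_pow_eq_one hpk
      rw [← map_pow, hε1, map_one]
    have hεi : IsIntegral ℤ (ε ψ) := isIntegral_of_pow_eq_one hpk (hε1 ψ)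
    have hnat : ∀ n : ℕ, IsIntegral ℤ (n : ℂ) := fun n => by
      simpa using isIntegral_algebraMap (R := ℤ) (A := ℂ) (x := (n : ℤ))
    have hintc : IsIntegral ℤ (c : ℂ) := by
      simpa using isIntegral_algebraMap (R := ℤ) (A := ℂ) (x := c)
    exact ((hε'.mul (hnat _)).mul (hεi.mul (hnat _))).mul hintc
  · exact isIntegral_zero

omit [Fact p.Prime] in
/-- the diagonal contributions are real -/
theorem conj_secContrib_self (y : G)
    [Fintype (Subgroup.centralizer ({y} : Set G))]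
    (b : Set (Cfsg.IrrCharacter (Subgroup.centralizer ({y} : Set G))))
    [Fintype (Cfsg.IrrCharacter (Subgroup.centralizer ({y} : Set G)))]
    [DecidablePred (· ∈ b)] (χ : G → ℂ) :
    conj (secContrib p y b χ χ) = secContrib p y b χ χ := by
  unfold secContrib
  rw [map_sum]
  apply Finset.sum_congr rfl
  intro ξ _
  split_ifs
  · rw [map_mul, Complex.conj_conj, mul_comm]
  · rw [map_zero]

end

end Cfsg.Agent.Lib.Helper24
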