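import Mathlib
import Cfsg.Prelude.Def_Blocks
import Cfsg.Prelude.Def_BlockLocal
import Cfsg.Prelude.Def_BlockRank
import Cfsg.Prelude.Def_BrauerPairs
import Cfsg.Agent.Lib.Helper7.KleinCount
import Cfsg.Agent.Lib.Helper24.AbelianFree
import Cfsg.Agent.S4539
import Cfsg.Agent.S4669
import Cfsg.Agent.S4717

/-!
# Blocks with abelian defect group and trivial inertial quotient (helper24 library)

* `one_le_blockRank` : a block has `l(b) ≥ 1`.
* `card_sub_one_le_sum_card_pairs` : if `(P, e)` is a maximal `B`-pair with `P` abelian and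
  `N_G(P, e) ≤ C_G(P)`, there are at least `|P| - 1` classes of subsections at nonidentity elements.
* `card_pairs_le_finrank` : the local rank at a `p`-element is at least the number of pairs there.
* `blockRank_eq_one_of_stab_le` : if moreover `k(B) ≤ |P|` then `l(B) = 1`.
-/

set_option autoImplicit false

namespace Cfsg.Agent.Lib.Helper24

open Cfsg.Agent.Lib.Helper2 Cfsg.Agent.Lib.Helper7 Cfsg.Agent.Lib.Helper25
open scoped ComplexConjugate

section RankPos

variable {G : Type*} [Group G] [Fintype G] {p : ℕ} [Fact p.Prime] {M : Ideal Cfsg.AlgInt}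

/-- a block has at least one "Brauer character" -/
theorem one_le_blockRank (hM : Cfsg.IsPModular p M) (b : Set (Cfsg.IrrCharacter G))
    (hb : Cfsg.IsPBlock M b) : 1 ≤ Cfsg.blockRank p b := by
  classical
  obtain ⟨ψ, hψ⟩ := isPBlock_nonempty hM hb
  unfold Cfsg.blockRank
  rw [Nat.succ_le_iff, Module.finrank_pos_iff_exists_ne_zero]
  refine ⟨⟨Cfsg.pRegularPart p (ψ : G → ℂ), Submodule.subset_span ⟨ψ, hψ, rfl⟩⟩, ?_⟩
  intro h0
  have h1 : Cfsg.pRegularPart p (ψ : G → ℂ) = 0 := congrArg Subtype.val h0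
  have h2 := congrFun h1 1
  have hp : p.Prime := Fact.out
  have h3 : ¬ p ∣ orderOf (1 : G) := by
    rw [orderOf_one]
    intro h3
    exact hp.one_lt.ne' (Nat.dvd_one.mp h3)
  rw [Cfsg.Agent.Lib.Helper7.pRegularPart_of_regular p _ 1 h3] at h2
  exact Cfsg.Agent.Lib.Helper25.irr_one_ne_zero ψ.2 h2

end RankPos

section Count

variable {G : Type*} [Group G] [Fintype G] {p : ℕ} [Fact p.Prime] {M : Ideal Cfsg.AlgInt}

/-- trivial inertial quotient, abelian defect group: at least `|P| - 1` classes of subsections at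
nonidentity elements -/
theorem card_sub_one_le_sum_card_pairs (hM : Cfsg.IsPModular p M) (B : Set (Cfsg.IrrCharacter G))
    (P : Subgroup G) (e : Set (Cfsg.IrrCharacter (Subgroup.centralizer (P : Set G))))
    (hmax : Cfsg.IsMaximalBrauerPair p M B P e) (hab : ∀ x ∈ P, ∀ y ∈ P, x * y = y * x)
    (hT1 : stabSubgroup P e ≤ Subgroup.centralizer (P : Set G))
    (X : Finset G)
    (hXrep : ∀ g : G, (∃ k : ℕ, orderOf g = p ^ k) → g ≠ 1 → ∃! x, x ∈ X ∧ IsConj g x) :
    Nat.card P - 1 ≤ ∑ x ∈ X, Nat.card {f : Set (Cfsg.IrrCharacter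
        (Subgroup.centralizer ((Subgroup.zpowers x : Subgroup G) : Set G))) |
        Cfsg.IsBrauerPairOf p M B (Subgroup.zpowers x) f} := by
  classical
  haveI : Fintype P := Fintype.ofFinite _
  have hPe := hmax.1.1
  have hB := hmax.1.2.1
  have hsum : ∑ x ∈ X, Nat.card {f : Set (Cfsg.IrrCharacter
        (Subgroup.centralizer ((Subgroup.zpowers x : Subgroup G) : Set G))) |
        Cfsg.IsBrauerPairOf p M B (Subgroup.zpowers x) f}
      = Nat.card (Σ x : {x // x ∈ X}, {f : Set (Cfsg.IrrCharacter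
        (Subgroup.centralizer ((Subgroup.zpowers (x : G) : Subgroup G) : Set G))) //
        Cfsg.IsBrauerPairOf p M B (Subgroup.zpowers (x : G)) f}) := by
    rw [Nat.card_sigma, ← Finset.sum_coe_sort]
    rfl
  rw [hsum]
  have hcard3 : Nat.card {u : P // u ≠ 1} = Nat.card P - 1 := by
    rw [Nat.card_eq_fintype_card, Fintype.card_subtype_compl (fun v : P => v = 1),
      Fintype.card_subtype_eq, ← Nat.card_eq_fintype_card]
  have hex : ∀ u : {u : P // u ≠ 1}, ∃ (a : Σ x : {x // x ∈ X}, {f : Set (Cfsg.IrrCharacter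
        (Subgroup.centralizer ((Subgroup.zpowers (x : G) : Subgroup G) : Set G))) //
        Cfsg.IsBrauerPairOf p M B (Subgroup.zpowers (x : G)) f}) (g : G)
      (fu : Set (Cfsg.IrrCharacter
        (Subgroup.centralizer ((Subgroup.zpowers ((u : P) : G) : Subgroup G) : Set G)))),
      Cfsg.IsPBlock M fu ∧ Cfsg.SubpairLE p M (Subgroup.zpowers ((u : P) : G)) fu P e ∧
        g * ((u : P) : G) * g⁻¹ = (a.1 : G) ∧
        conjIdx g ⟨Subgroup.zpowers ((u : P) : G), fu⟩
          = ⟨Subgroup.zpowers (a.1 : G), a.2.1⟩ := by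
    rintro ⟨u, hu⟩
    have hu1 : (u : G) ≠ 1 := fun h => hu (Subtype.ext h)
    have hu2 : ∃ k : ℕ, orderOf (u : G) = p ^ k := by
      obtain ⟨k, hk⟩ := (IsPGroup.iff_orderOf.mp hPe.1) u
      exact ⟨k, by rw [Subgroup.orderOf_coe, hk]⟩
    obtain ⟨x, ⟨hxX, hux⟩, _⟩ := hXrep u hu2 hu1
    obtain ⟨g, hg⟩ := isConj_iff.mp hux
    have hQP : Subgroup.zpowers (u : G) ≤ P := by
      rw [Subgroup.zpowers_le]; exact u.2
    obtain ⟨fu, hfu, hle⟩ := exists_subpairLE hM P e hPe (Subgroup.zpowers (u : G)) hQP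
    have hpairu : Cfsg.IsBrauerPairOf p M B (Subgroup.zpowers (u : G)) fu :=
      (isBrauerPairOf_iff_of_subpairLE hM hPe ⟨hPe.1.to_le hQP, hfu⟩ hle B hB).mp hmax.1
    have hconjpair := isBrauerPairOf_conj (p := p) (M := M) g hpairu
    have hQeq : (Subgroup.zpowers (u : G)).map (MulAut.conj g).toMonoidHom
        = Subgroup.zpowers x := by
      rw [map_conj_zpowers, hg]
    obtain ⟨f', hf'⟩ := exists_idx_eq hQeq (Cfsg.conjBlock (Subgroup.zpowers (u : G)) g fu)
    have hf'pair : Cfsg.IsBrauerPairOf p M B (Subgroup.zpowers x) f' := by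
      have h0 : Cfsg.IsBrauerPairOf p M B
          (⟨Subgroup.zpowers x, f'⟩ : Cfsg.BrauerPairIdx G).1
          (⟨Subgroup.zpowers x, f'⟩ : Cfsg.BrauerPairIdx G).2 := hf' ▸ hconjpair
      exact h0
    exact ⟨⟨⟨x, hxX⟩, ⟨f', hf'pair⟩⟩, g, fu, hfu, hle, hg, hf'⟩
  choose Φ gΦ fΦ h1 h2 h3 h4 using hex
  have hinj : Function.Injective Φ := by
    intro u u' huu
    have hx : ((Φ u).1 : G) = ((Φ u').1 : G) := by rw [huu]
    have hidx : (⟨Subgroup.zpowers ((Φ u).1 : G), (Φ u).2.1⟩ : Cfsg.BrauerPairIdx G)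
        = ⟨Subgroup.zpowers ((Φ u').1 : G), (Φ u').2.1⟩ := by rw [huu]
    have hconj : conjIdx (gΦ u) ⟨Subgroup.zpowers ((u : P) : G), fΦ u⟩
        = conjIdx (gΦ u') ⟨Subgroup.zpowers ((u' : P) : G), fΦ u'⟩ := by
      rw [h4 u, h4 u', hidx]
    have hel : gΦ u * ((u : P) : G) * (gΦ u)⁻¹ = gΦ u' * ((u' : P) : G) * (gΦ u')⁻¹ := by
      rw [h3 u, h3 u', hx]
    have := eq_of_conjIdx_eq_of_stab_le hM B P e hmax hab hT1 _ _ (u : P).2 (u' : P).2
      (fΦ u) (fΦ u') (h2 u) (h2 u') (h1 u') (gΦ u) (gΦ u') hconj hel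
    exact Subtype.ext (Subtype.ext this)
  rw [← hcard3]
  exact Nat.card_le_card_of_injective Φ hinj

/-- the local rank at a `p`-element is at least the number of Brauer pairs at the element -/
theorem card_pairs_le_finrank (hM : Cfsg.IsPModular p M) (B : Set (Cfsg.IrrCharacter G))
    (x : G) (hx2 : ∃ k : ℕ, orderOf x = p ^ k) :
    Nat.card {f : Set (Cfsg.IrrCharacter
        (Subgroup.centralizer ((Subgroup.zpowers x : Subgroup G) : Set G))) |
        Cfsg.IsBrauerPairOf p M B (Subgroup.zpowers x) f}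
    ≤ Module.finrank ℂ (Submodule.span ℂ
      ((fun ψ : Cfsg.IrrCharacter (Subgroup.centralizer ({x} : Set G)) =>
          Cfsg.pRegularPart p (ψ : Subgroup.centralizer ({x} : Set G) → ℂ)) ''
        {ψ | Cfsg.IsInducedBlock M (Subgroup.centralizer ({x} : Set G))
          (Cfsg.blockOf M (ψ : Subgroup.centralizer ({x} : Set G) → ℂ)) B})) := by
  classical
  rw [finrank_induced_congr p B _ _ (centralizer_zpowers_eq x)]
  haveI : Fintype (Subgroup.centralizer ((Subgroup.zpowers x : Subgroup G) : Set G)) :=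
    Fintype.ofFinite _
  haveI : Fintype (Cfsg.IrrCharacter
    (Subgroup.centralizer ((Subgroup.zpowers x : Subgroup G) : Set G))) := Fintype.ofFinite _
  obtain ⟨𝔅, h𝔅⟩ : ∃ 𝔅 : Set (Set (Cfsg.IrrCharacter
      (Subgroup.centralizer ((Subgroup.zpowers x : Subgroup G) : Set G)))),
      𝔅 = {f | Cfsg.IsBrauerPairOf p M B (Subgroup.zpowers x) f} := ⟨_, rfl⟩
  rw [← h𝔅]
  obtain ⟨S, hS⟩ : ∃ S : Finset (Set (Cfsg.IrrCharacter
      (Subgroup.centralizer ((Subgroup.zpowers x : Subgroup G) : Set G)))), (S : Set _) = 𝔅 :=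
    ⟨(Set.toFinite 𝔅).toFinset, by simp⟩
  have hmemS : ∀ f, f ∈ S ↔ Cfsg.IsBrauerPairOf p M B (Subgroup.zpowers x) f := by
    intro f
    have : f ∈ S ↔ f ∈ (S : Set _) := Iff.rfl
    rw [this, hS, h𝔅]
    rfl
  have hset : {ψ : Cfsg.IrrCharacter
      (Subgroup.centralizer ((Subgroup.zpowers x : Subgroup G) : Set G)) |
      Cfsg.IsInducedBlock M (Subgroup.centralizer ((Subgroup.zpowers x : Subgroup G) : Set G))
        (Cfsg.blockOf M (ψ : _ → ℂ)) B}
      = {ψ : Cfsg.IrrCharacter
          (Subgroup.centralizer ((Subgroup.zpowers x : Subgroup G) : Set G)) |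
        Cfsg.blockOf M (ψ : _ → ℂ) ∈ S} := by
    ext ψ
    simp only [Set.mem_ofPred_eq]
    rw [hmemS, isBrauerPairOf_zpowers_iff p hM B x hx2]
  rw [hset, finrank_span_pRegularPart_blocks hM S (fun b hb => ((hmemS b).mp hb).1.2)]
  have hone : ∀ b ∈ S, 1 ≤ Cfsg.blockRank p b := by
    intro b hb
    exact one_le_blockRank hM b ((hmemS b).mp hb).1.2
  calc Nat.card ↥𝔅 = ∑ b ∈ S, 1 := by
        rw [Finset.sum_const, smul_eq_mul, mul_one, ← hS, Nat.card_coe_set_eq,
          Set.ncard_coe_finset]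
    _ ≤ ∑ b ∈ S, Cfsg.blockRank p b := Finset.sum_le_sum hone

/-- **abelian defect group, trivial inertial quotient and `k(B) ≤ |P|` force `l(B) = 1`** -/
theorem blockRank_eq_one_of_stab_le (hM : Cfsg.IsPModular p M) (B : Set (Cfsg.IrrCharacter G))
    (P : Subgroup G) (e : Set (Cfsg.IrrCharacter (Subgroup.centralizer (P : Set G))))
    (hmax : Cfsg.IsMaximalBrauerPair p M B P e) (hab : ∀ x ∈ P, ∀ y ∈ P, x * y = y * x)
    (hT1 : stabSubgroup P e ≤ Subgroup.centralizer (P : Set G))
    (hk : Nat.card B ≤ Nat.card P) : Cfsg.blockRank p B = 1 := by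
  classical
  have hB : Cfsg.IsPBlock M B := hmax.1.2.1
  obtain ⟨X, h1X, hX, hXrep⟩ := exists_pElement_reps (G := G) p
  have hcount := card_eq_blockRank_add hM B hB X h1X hX hXrep
  have h2 := card_sub_one_le_sum_card_pairs hM B P e hmax hab hT1 X hXrep
  have h3 : ∑ x ∈ X, Nat.card {f : Set (Cfsg.IrrCharacter
        (Subgroup.centralizer ((Subgroup.zpowers x : Subgroup G) : Set G))) |
        Cfsg.IsBrauerPairOf p M B (Subgroup.zpowers x) f}
      ≤ ∑ x ∈ X, Module.finrank ℂ (Submodule.span ℂ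
      ((fun ψ : Cfsg.IrrCharacter (Subgroup.centralizer ({x} : Set G)) =>
          Cfsg.pRegularPart p (ψ : Subgroup.centralizer ({x} : Set G) → ℂ)) ''
          {ψ | Cfsg.IsInducedBlock M (Subgroup.centralizer ({x} : Set G))
            (Cfsg.blockOf M (ψ : Subgroup.centralizer ({x} : Set G) → ℂ)) B})) :=
    Finset.sum_le_sum (fun x hx => card_pairs_le_finrank hM B x (hX x hx))
  have h4 := one_le_blockRank hM B hB
  have h5 : 0 < Nat.card P := Nat.card_pos
  omega

end Count

section Central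

variable {G : Type*} [Group G] [Fintype G] {p : ℕ} [Fact p.Prime] {M : Ideal Cfsg.AlgInt}

/-- for a maximal pair `(P, e)` with `P` abelian, `P` is a defect group of `e` in `C_G(P)` -/
theorem isDefectGroup_subgroupOf_centralizer (hM : Cfsg.IsPModular p M)
    (B : Set (Cfsg.IrrCharacter G)) (P : Subgroup G)
    (e : Set (Cfsg.IrrCharacter (Subgroup.centralizer (P : Set G))))
    (hmax : Cfsg.IsMaximalBrauerPair p M B P e) (hab : ∀ x ∈ P, ∀ y ∈ P, x * y = y * x) :
    Cfsg.IsDefectGroup p M e (P.subgroupOf (Subgroup.centralizer (P : Set G))) ∧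
      Cfsg.blockDefect p e = Cfsg.blockDefect p B := by
  classical
  haveI : Fintype (Subgroup.centralizer (P : Set G)) := Fintype.ofFinite _
  have hp : p.Prime := Fact.out
  have hP : IsPGroup p P := hmax.1.1.1
  have he : Cfsg.IsPBlock M e := hmax.1.1.2
  have hB : Cfsg.IsPBlock M B := hmax.1.2.1
  have hind : Cfsg.IsInducedBlock M (Subgroup.centralizer (P : Set G)) e B :=
    (isInducedBlock_centralizer_iff hM P hP e B).mpr hmax.1
  have hle := Cfsg.Agent.S4717.blockDefect_le_of_isInducedBlock hM _ e B hind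
  have hPD : Cfsg.IsDefectGroup p M B P := isDefectGroup_of_isMaximalBrauerPair P e hM B hmax
  have hcardP := card_of_isDefectGroup hM B hB P hPD
  obtain ⟨g, hg⟩ := exists_isDefectClass (G := Subgroup.centralizer (P : Set G)) hM e he
  have hde := blockDefect_eq_of_isDefectClass (G := Subgroup.centralizer (P : Set G)) hM e he g hg
  have hPK : P ≤ Subgroup.centralizer (P : Set G) := le_centralizer_of_abelian P P le_rfl hab
  have hcard'' : Nat.card (P.subgroupOf (Subgroup.centralizer (P : Set G))) = Nat.card P :=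
    Nat.card_congr (Subgroup.subgroupOfEquivOfLe hPK).toEquiv
  have hS : P.subgroupOf (Subgroup.centralizer (P : Set G))
      ≤ Subgroup.centralizer ({g} : Set (Subgroup.centralizer (P : Set G))) := by
    intro x hx
    rw [Subgroup.mem_centralizer_singleton_iff]
    apply Subtype.ext
    have h1 := Subgroup.mem_centralizer_iff.mp g.2 (x : G) (Subgroup.mem_subgroupOf.mp hx)
    show (x : G) * (g : G) = (g : G) * (x : G)
    exact h1
  have hdvd : p ^ Cfsg.blockDefect p B
      ∣ Nat.card (Subgroup.centralizer ({g} : Set (Subgroup.centralizer (P : Set G)))) := by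
    rw [← hcardP, ← hcard'']
    exact Subgroup.card_dvd_of_le hS
  have hge : Cfsg.blockDefect p B ≤ Cfsg.blockDefect p e := by
    rw [hde]
    exact (Nat.Prime.pow_dvd_iff_le_factorization hp Nat.card_pos.ne').mp hdvd
  have heq : Cfsg.blockDefect p e = Cfsg.blockDefect p B := le_antisymm hle hge
  refine ⟨?_, heq⟩
  apply isDefectGroup_of_le_centralizer hg _ hS
  rw [hcard'', hcardP, ← heq, hde]

/-- for a maximal pair `(P, e)` with `P` abelian, `l(e) = 1` -/
theorem blockRank_eq_one_of_maximal_abelian (hM : Cfsg.IsPModular p M)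
    (B : Set (Cfsg.IrrCharacter G)) (P : Subgroup G)
    (e : Set (Cfsg.IrrCharacter (Subgroup.centralizer (P : Set G))))
    (hmax : Cfsg.IsMaximalBrauerPair p M B P e) (hab : ∀ x ∈ P, ∀ y ∈ P, x * y = y * x) :
    Cfsg.blockRank p e = 1 := by
  classical
  haveI : Fintype (Subgroup.centralizer (P : Set G)) := Fintype.ofFinite _
  have hD := (isDefectGroup_subgroupOf_centralizer hM B P e hmax hab).1
  apply Cfsg.Agent.S4669.result p M hM e hmax.1.1.2 _ hD
  intro x hx
  rw [Subgroup.mem_center_iff]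
  intro k
  apply Subtype.ext
  show (k : G) * (x : G) = (x : G) * (k : G)
  exact (Subgroup.mem_centralizer_iff.mp k.2 (x : G) (Subgroup.mem_subgroupOf.mp hx)).symm

/-- a block with cyclic defect group `P` has at most `|P|` irreducible characters -/
theorem card_le_card_of_isCyclic (hM : Cfsg.IsPModular p M)
    (B : Set (Cfsg.IrrCharacter G)) (P : Subgroup G)
    (e : Set (Cfsg.IrrCharacter (Subgroup.centralizer (P : Set G))))
    (hmax : Cfsg.IsMaximalBrauerPair p M B P e) (hcyc : IsCyclic P) :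
    Nat.card B ≤ Nat.card P := by
  classical
  haveI : Fintype (Subgroup.centralizer (P : Set G)) := Fintype.ofFinite _
  have hP : IsPGroup p P := hmax.1.1.1
  have he : Cfsg.IsPBlock M e := hmax.1.1.2
  have hB : Cfsg.IsPBlock M B := hmax.1.2.1
  obtain ⟨z, hz⟩ := IsCyclic.exists_generator (α := P)
  have hab : ∀ x ∈ P, ∀ y ∈ P, x * y = y * x := by
    intro x hx y hy
    obtain ⟨i, hi⟩ := Subgroup.mem_zpowers_iff.mp (hz ⟨x, hx⟩)
    obtain ⟨j, hj⟩ := Subgroup.mem_zpowers_iff.mp (hz ⟨y, hy⟩)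
    have hxi : x = (z : G) ^ i := by
      have := congrArg (fun t : P => (t : G)) hi
      simpa using this.symm
    have hyj : y = (z : G) ^ j := by
      have := congrArg (fun t : P => (t : G)) hj
      simpa using this.symm
    rw [hxi, hyj, ← zpow_add, ← zpow_add, add_comm]
  have hPz : P = Subgroup.zpowers (z : G) := by
    apply le_antisymm
    · intro x hx
      obtain ⟨i, hi⟩ := Subgroup.mem_zpowers_iff.mp (hz ⟨x, hx⟩)
      rw [Subgroup.mem_zpowers_iff]
      refine ⟨i, ?_⟩
      have := congrArg (fun t : P => (t : G)) hi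
      simpa using this
    · rw [Subgroup.zpowers_le]
      exact z.2
  have hH : Subgroup.centralizer (P : Set G) = Subgroup.centralizer ({(z : G)} : Set G) := by
    conv_lhs => rw [hPz]
    exact (centralizer_zpowers_eq (z : G)).symm
  obtain ⟨n, hn⟩ := (IsPGroup.iff_orderOf.mp hP) z
  have hzn : orderOf (z : G) = p ^ n := by rw [Subgroup.orderOf_coe, hn]
  have hind : Cfsg.IsInducedBlock M (Subgroup.centralizer (P : Set G)) e B :=
    (isInducedBlock_centralizer_iff hM P hP e B).mpr hmax.1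
  have hdef := (isDefectGroup_subgroupOf_centralizer hM B P e hmax hab).2
  have hl : Cfsg.blockRank p e ≤ 2 := by
    rw [blockRank_eq_one_of_maximal_abelian hM B P e hmax hab]
    norm_num
  have h1 := Cfsg.Agent.S4539.main_aux p M hM B (z : G) n hzn
    (Subgroup.centralizer (P : Set G)) hH e hind hdef hl
  have hPD : Cfsg.IsDefectGroup p M B P := isDefectGroup_of_isMaximalBrauerPair P e hM B hmax
  rw [card_of_isDefectGroup hM B hB P hPD]
  exact h1

/-- **a block with cyclic defect group and trivial inertial quotient has `l(B) = 1`** -/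
theorem blockRank_eq_one_of_isCyclic (hM : Cfsg.IsPModular p M)
    (B : Set (Cfsg.IrrCharacter G)) (P : Subgroup G)
    (e : Set (Cfsg.IrrCharacter (Subgroup.centralizer (P : Set G))))
    (hmax : Cfsg.IsMaximalBrauerPair p M B P e) (hcyc : IsCyclic P)
    (hT1 : stabSubgroup P e ≤ Subgroup.centralizer (P : Set G)) : Cfsg.blockRank p B = 1 := by
  have hab : ∀ x ∈ P, ∀ y ∈ P, x * y = y * x := by
    intro x hx y hy
    obtain ⟨z, hz⟩ := IsCyclic.exists_generator (α := P)
    obtain ⟨i, hi⟩ := Subgroup.mem_zpowers_iff.mp (hz ⟨x, hx⟩)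
    obtain ⟨j, hj⟩ := Subgroup.mem_zpowers_iff.mp (hz ⟨y, hy⟩)
    have hxi : x = (z : G) ^ i := by
      have := congrArg (fun t : P => (t : G)) hi
      simpa using this.symm
    have hyj : y = (z : G) ^ j := by
      have := congrArg (fun t : P => (t : G)) hj
      simpa using this.symm
    rw [hxi, hyj, ← zpow_add, ← zpow_add, add_comm]
  exact blockRank_eq_one_of_stab_le hM B P e hmax hab hT1
    (card_le_card_of_isCyclic hM B P e hmax hcyc)

end Central

end Cfsg.Agent.Lib.Helper24
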