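import Mathlib
import Cfsg.Prelude
import Cfsg.Agent.Lib.Helper24.FrobSchur

/-!
# The degenerate case `PΩ⁺_2(q) = 1` (helper24 library, for helper1's S2548)

The isometry group of the hyperbolic plane `x y` consists of the diagonal matrices `diag(a, a⁻¹)` and the
antidiagonal ones; its commutator subgroup consists of diagonal matrices, hence is abelian, and
`PΩ⁺_2(F)` is the trivial group.  The Steinberg character is the trivial character.
-/

set_option autoImplicit false

namespace Cfsg.Agent.Lib.Helper24.OPlusOne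

open Cfsg
open scoped Matrix

variable {F : Type*} [Field F]

local notation "e₀" => (Sum.inl (0 : Fin 1) : Fin 1 ⊕ Fin 1)
local notation "f₀" => (Sum.inr (0 : Fin 1) : Fin 1 ⊕ Fin 1)

/-- the matrix of an isometry -/
noncomputable def mat (g : isometryGroup F (quadFormPlus 1 F)) : Matrix (Fin 1 ⊕ Fin 1) (Fin 1 ⊕ Fin 1) F :=
  ((g : Matrix.GeneralLinearGroup (Fin 1 ⊕ Fin 1) F) : Matrix (Fin 1 ⊕ Fin 1) (Fin 1 ⊕ Fin 1) F)

theorem quad_apply (v : Fin 1 ⊕ Fin 1 → F) : quadFormPlus 1 F v = v e₀ * v f₀ := by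
  unfold quadFormPlus
  simp

theorem mulVec_e (M : Matrix (Fin 1 ⊕ Fin 1) (Fin 1 ⊕ Fin 1) F) (v : Fin 1 ⊕ Fin 1 → F) :
    (M *ᵥ v) e₀ = M e₀ e₀ * v e₀ + M e₀ f₀ * v f₀ := by
  simp [Matrix.mulVec, dotProduct, Fintype.sum_sum_type]

theorem mulVec_f (M : Matrix (Fin 1 ⊕ Fin 1) (Fin 1 ⊕ Fin 1) F) (v : Fin 1 ⊕ Fin 1 → F) :
    (M *ᵥ v) f₀ = M f₀ e₀ * v e₀ + M f₀ f₀ * v f₀ := by
  simp [Matrix.mulVec, dotProduct, Fintype.sum_sum_type]

theorem mat_preserves (g : isometryGroup F (quadFormPlus 1 F)) (v : Fin 1 ⊕ Fin 1 → F) :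
    quadFormPlus 1 F (mat g *ᵥ v) = quadFormPlus 1 F v :=
  g.2 v v

theorem mat_mul (g h : isometryGroup F (quadFormPlus 1 F)) : mat (g * h) = mat g * mat h := by
  unfold mat
  simp

theorem mat_one : mat (1 : isometryGroup F (quadFormPlus 1 F)) = 1 := by
  unfold mat
  simp

theorem mul_entry (M N : Matrix (Fin 1 ⊕ Fin 1) (Fin 1 ⊕ Fin 1) F) (i j : Fin 1 ⊕ Fin 1) :
    (M * N) i j = M i e₀ * N e₀ j + M i f₀ * N f₀ j := by
  simp [Matrix.mul_apply, Fintype.sum_sum_type]

theorem field_cases (a b c d : F) (h1 : a = 0 ∨ c = 0) (h2 : b = 0 ∨ d = 0)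
    (h3 : (a + b) * (c + d) = 1) :
    (b = 0 ∧ c = 0 ∧ a * d = 1) ∨ (a = 0 ∧ d = 0 ∧ b * c = 1) := by
  have hac : a * c = 0 := by rcases h1 with h | h <;> simp [h]
  have hbd : b * d = 0 := by rcases h2 with h | h <;> simp [h]
  have h4 : a * d + b * c = 1 := by
    have : (a + b) * (c + d) = a * c + b * d + (a * d + b * c) := by ring
    rw [this, hac, hbd, zero_add, zero_add] at h3
    exact h3
  rcases h1 with h1 | h1
  · -- `a = 0`
    right
    have h5 : b * c = 1 := by rw [h1, zero_mul, zero_add] at h4; exact h4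
    have hb0 : b ≠ 0 := left_ne_zero_of_mul_eq_one h5
    rcases h2 with h2 | h2
    · exact absurd h2 hb0
    · exact ⟨h1, h2, h5⟩
  · -- `c = 0`
    left
    have h5 : a * d = 1 := by rw [h1, mul_zero, add_zero] at h4; exact h4
    have hd0 : d ≠ 0 := right_ne_zero_of_mul_eq_one h5
    rcases h2 with h2 | h2
    · exact ⟨h2, h1, h5⟩
    · exact absurd h2 hd0

/-- the shape of an isometry: diagonal or antidiagonal -/
theorem entries (g : isometryGroup F (quadFormPlus 1 F)) :
    (mat g e₀ f₀ = 0 ∧ mat g f₀ e₀ = 0 ∧ mat g e₀ e₀ * mat g f₀ f₀ = 1) ∨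
      (mat g e₀ e₀ = 0 ∧ mat g f₀ f₀ = 0 ∧ mat g e₀ f₀ * mat g f₀ e₀ = 1) := by
  classical
  have h1 := mat_preserves g (fun i => if i = e₀ then 1 else 0)
  have h2 := mat_preserves g (fun i => if i = f₀ then 1 else 0)
  have h3 := mat_preserves g (fun _ => 1)
  rw [quad_apply, quad_apply, mulVec_e, mulVec_f] at h1 h2 h3
  simp at h1 h2 h3
  exact field_cases _ _ _ _ h1 h2 h3

/-- diagonal isometries -/
def IsD (g : isometryGroup F (quadFormPlus 1 F)) : Prop := mat g e₀ f₀ = 0

theorem isD_one : IsD (1 : isometryGroup F (quadFormPlus 1 F)) := by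
  unfold IsD
  rw [mat_one]
  simp

theorem isD_mul (g h : isometryGroup F (quadFormPlus 1 F)) : IsD (g * h) ↔ (IsD g ↔ IsD h) := by
  unfold IsD
  rw [mat_mul, mul_entry]
  rcases entries g with ⟨g1, g2, g3⟩ | ⟨g1, g2, g3⟩ <;>
    rcases entries h with ⟨h1, h2, h3⟩ | ⟨h1, h2, h3⟩
  · simp [g1, h1]
  · have hb : mat h e₀ f₀ ≠ 0 := left_ne_zero_of_mul_eq_one h3
    have ha : mat g e₀ e₀ ≠ 0 := left_ne_zero_of_mul_eq_one g3
    simp [g1, h2, hb, ha]
  · have hb : mat g e₀ f₀ ≠ 0 := left_ne_zero_of_mul_eq_one g3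
    have hd : mat h f₀ f₀ ≠ 0 := right_ne_zero_of_mul_eq_one h3
    simp [g1, h1, hb, hd]
  · have hb : mat g e₀ f₀ ≠ 0 := left_ne_zero_of_mul_eq_one g3
    have hb' : mat h e₀ f₀ ≠ 0 := left_ne_zero_of_mul_eq_one h3
    simp [g1, h2, hb, hb']

/-- the parity homomorphism -/
noncomputable def par : isometryGroup F (quadFormPlus 1 F) →* ℤˣ := by
  classical
  exact
  { toFun := fun g => if IsD g then 1 else -1
    map_one' := by rw [if_pos isD_one]
    map_mul' := by
      intro g h
      by_cases hg : IsD g <;> by_cases hh : IsD h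
      · rw [if_pos hg, if_pos hh, if_pos ((isD_mul g h).mpr ⟨fun _ => hh, fun _ => hg⟩)]
        simp
      · rw [if_pos hg, if_neg hh, if_neg (fun h' => hh ((isD_mul g h).mp h' |>.mp hg))]
        simp
      · rw [if_neg hg, if_pos hh, if_neg (fun h' => hg ((isD_mul g h).mp h' |>.mpr hh))]
        simp
      · rw [if_neg hg, if_neg hh,
          if_pos ((isD_mul g h).mpr ⟨fun h' => absurd h' hg, fun h' => absurd h' hh⟩)]
        simp }

theorem isD_of_mem_commutator (g : isometryGroup F (quadFormPlus 1 F))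
    (hg : g ∈ commutator (isometryGroup F (quadFormPlus 1 F))) : IsD g := by
  classical
  have h1 := Abelianization.commutator_subset_ker par hg
  rw [MonoidHom.mem_ker] at h1
  by_contra h
  have h2 : par g = -1 := by
    show (if IsD g then (1 : ℤˣ) else -1) = -1
    rw [if_neg h]
  rw [h2] at h1
  exact absurd h1 (by decide)

theorem commute_of_isD (g h : isometryGroup F (quadFormPlus 1 F)) (hg : IsD g) (hh : IsD h) :
    g * h = h * g := by
  have key : mat (g * h) = mat (h * g) := by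
    rw [mat_mul, mat_mul]
    unfold IsD at hg hh
    have g2 : mat g f₀ e₀ = 0 := by
      rcases entries g with ⟨_, g2, _⟩ | ⟨_, _, g3⟩
      · exact g2
      · rw [hg, zero_mul] at g3; exact absurd g3 zero_ne_one
    have h2 : mat h f₀ e₀ = 0 := by
      rcases entries h with ⟨_, h2, _⟩ | ⟨_, _, h3⟩
      · exact h2
      · rw [hh, zero_mul] at h3; exact absurd h3 zero_ne_one
    ext i j
    rw [mul_entry, mul_entry]
    rcases i with i | i <;> rcases j with j | j <;>
      (have hi := Subsingleton.elim i 0; have hj := Subsingleton.elim j 0; subst hi; subst hj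
       simp [hg, hh, g2, h2, mul_comm])
  apply Subtype.ext
  apply Units.ext
  exact key

instance : Subsingleton (POmega F (quadFormPlus 1 F)) := by
  have hcomm : ∀ x y : Omega F (quadFormPlus 1 F), x * y = y * x := by
    intro x y
    apply Subtype.ext
    exact commute_of_isD x.1 y.1 (isD_of_mem_commutator _ x.2) (isD_of_mem_commutator _ y.2)
  have hc : Subgroup.center (Omega F (quadFormPlus 1 F)) = ⊤ := by
    rw [eq_top_iff]
    intro x _
    rw [Subgroup.mem_center_iff]
    intro y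
    exact hcomm y x
  constructor
  intro a b
  induction a using QuotientGroup.induction_on with | _ a =>
  induction b using QuotientGroup.induction_on with | _ b =>
  apply QuotientGroup.eq.mpr
  rw [hc]
  exact Subgroup.mem_top _

/-- **S2548, degenerate case `m = 1`.** -/
theorem steinberg_plus_one {F : Type*} [Field F] [Fintype F] (p : ℕ) [Fact p.Prime] [CharP F p] :
    ∃ χ : Cfsg.POmega F (Cfsg.quadFormPlus 1 F) → ℂ,
      Cfsg.IsIrrCharacter (Cfsg.POmega F (Cfsg.quadFormPlus 1 F)) χ ∧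
      ∀ P : Sylow p (Cfsg.POmega F (Cfsg.quadFormPlus 1 F)),
        χ 1 = Nat.card P ∧
          ∀ x : Cfsg.POmega F (Cfsg.quadFormPlus 1 F), x ∈ P → x ≠ 1 → χ x = 0 := by
  refine ⟨fun _ => 1, Cfsg.Agent.Lib.Helper24.isIrrCharacter_one _, ?_⟩
  intro P
  constructor
  · have : Nat.card P = 1 := by
      rw [Nat.card_eq_one_iff_unique]
      exact ⟨inferInstance, ⟨1⟩⟩
    rw [this]
    simp
  · intro x _ hx
    exact absurd (Subsingleton.elim x 1) hx

end Cfsg.Agent.Lib.Helper24.OPlusOne
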