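import Mathlib

set_option autoImplicit false

/-!
# Order types: basic counting lemmas

`F G n` is the number of solutions of `g ^ n = 1` in `G`.  It is multiplicative over products,
and two finite groups with the same `F` have the same number of elements of each order.
-/

namespace Cfsg.Agent.Lib.Helper24.OT

/-- number of solutions of `g ^ n = 1` -/
noncomputable def F (G : Type*) [Monoid G] (n : ℕ) : ℕ := Nat.card {g : G // g ^ n = 1}

/-- number of elements of order `n` -/
noncomputable def ordCount (G : Type*) [Monoid G] (n : ℕ) : ℕ := Nat.card {g : G // orderOf g = n}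

theorem F_prod (G H : Type*) [Monoid G] [Monoid H] (n : ℕ) :
    F (G × H) n = F G n * F H n := by
  unfold F
  rw [← Nat.card_prod]
  apply Nat.card_congr
  refine (Equiv.subtypeEquivRight ?_).trans
    (Equiv.subtypeProdEquivProd (p := fun g : G => g ^ n = 1) (q := fun h : H => h ^ n = 1))
  intro x
  simp [Prod.ext_iff]

theorem F_pi {ι : Type*} [Fintype ι] (X : ι → Type*) [∀ i, Monoid (X i)] (n : ℕ) :
    F (∀ i, X i) n = ∏ i, F (X i) n := by
  unfold F
  rw [← Nat.card_pi]
  apply Nat.card_congr
  refine (Equiv.subtypeEquivRight ?_).trans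
    (Equiv.subtypePiEquivPi (p := fun i (x : X i) => x ^ n = 1))
  intro x
  simp [funext_iff]

theorem F_pow (k : ℕ) (X : Type*) [Monoid X] (n : ℕ) :
    F (Fin k → X) n = (F X n) ^ k := by
  rw [F_pi]; simp

theorem F_congr {G H : Type*} [Monoid G] [Monoid H] (e : G ≃* H) (n : ℕ) : F G n = F H n := by
  unfold F
  apply Nat.card_congr
  refine e.toEquiv.subtypeEquiv ?_
  intro g
  constructor
  · intro h; simp [← map_pow, h]
  · intro h
    have : e (g ^ n) = e 1 := by simpa [map_pow] using h
    exact e.injective this

theorem F_gcd {G : Type*} [Monoid G] {E : ℕ} (hE : ∀ g : G, g ^ E = 1) (n : ℕ) :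
    F G n = F G (Nat.gcd n E) := by
  unfold F
  apply Nat.card_congr
  refine Equiv.subtypeEquivRight ?_
  intro g
  constructor
  · intro h; exact pow_gcd_eq_one.mpr ⟨h, hE g⟩
  · intro h; exact (pow_gcd_eq_one.mp h).1

/-- if `F G E = card G` then every element satisfies `g ^ E = 1` -/
theorem pow_eq_one_of_F_eq_card {G : Type*} [Monoid G] [Finite G] {E : ℕ}
    (h : F G E = Nat.card G) (g : G) : g ^ E = 1 := by
  classical
  have := Fintype.ofFinite G
  unfold F at h
  rw [Nat.card_eq_fintype_card, Nat.card_eq_fintype_card, Fintype.card_subtype] at h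
  have h2 : (Finset.univ.filter (fun g : G => g ^ E = 1)) = Finset.univ := by
    apply Finset.eq_univ_of_card
    exact h
  have : g ∈ Finset.univ.filter (fun g : G => g ^ E = 1) := by rw [h2]; exact Finset.mem_univ g
  exact (Finset.mem_filter.mp this).2

theorem F_eq_sum_ordCount (G : Type*) [Group G] [Finite G] {n : ℕ} (hn : 0 < n) :
    F G n = ∑ d ∈ n.divisors, ordCount G d := by
  classical
  have := Fintype.ofFinite G
  unfold F ordCount
  rw [Nat.card_eq_fintype_card, Fintype.card_subtype]
  have h1 : ∀ d : ℕ, Nat.card {g : G // orderOf g = d}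
      = (Finset.univ.filter (fun g : G => orderOf g = d)).card := by
    intro d
    rw [Nat.card_eq_fintype_card, Fintype.card_subtype]
  simp_rw [h1]
  rw [Finset.card_eq_sum_card_fiberwise (f := fun g : G => orderOf g) (t := n.divisors)]
  · apply Finset.sum_congr rfl
    intro d hd
    congr 1
    ext g
    simp only [Finset.mem_filter, Finset.mem_univ, true_and]
    constructor
    · rintro ⟨_, h⟩; exact h
    · intro h
      refine ⟨?_, h⟩
      rw [← h] at hd
      exact orderOf_dvd_iff_pow_eq_one.mp (Nat.dvd_of_mem_divisors hd)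
  · intro g hg
    have hg' : g ^ n = 1 := by simpa using hg
    have : orderOf g ∈ n.divisors := Nat.mem_divisors.mpr ⟨orderOf_dvd_of_pow_eq_one hg', hn.ne'⟩
    exact Finset.mem_coe.mpr this

theorem ordCount_eq_of_F_eq (G H : Type*) [Group G] [Group H] [Finite G] [Finite H]
    (h : ∀ n, F G n = F H n) (n : ℕ) : ordCount G n = ordCount H n := by
  induction n using Nat.strong_induction_on with
  | _ n ih =>
    rcases Nat.eq_zero_or_pos n with rfl | hn
    · unfold ordCount
      have hG : IsEmpty {g : G // orderOf g = 0} :=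
        ⟨fun x => (orderOf_pos x.1).ne' x.2⟩
      have hH : IsEmpty {g : H // orderOf g = 0} :=
        ⟨fun x => (orderOf_pos x.1).ne' x.2⟩
      rw [Nat.card_of_isEmpty, Nat.card_of_isEmpty]
    · have hG := F_eq_sum_ordCount G hn
      have hH := F_eq_sum_ordCount H hn
      rw [← Nat.cons_self_properDivisors hn.ne', Finset.sum_cons] at hG hH
      have hs : ∑ d ∈ n.properDivisors, ordCount G d = ∑ d ∈ n.properDivisors, ordCount H d := by
        apply Finset.sum_congr rfl
        intro d hd
        exact ih d (Nat.mem_properDivisors.mp hd).2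
      have := h n
      omega

/-! ### solvability of finite products -/

theorem derivedSeries_pi_le {ι : Type*} (X : ι → Type*) [∀ i, Group (X i)] (k : ℕ) :
    derivedSeries (∀ i, X i) k ≤ Subgroup.pi Set.univ (fun i => derivedSeries (X i) k) := by
  induction k with
  | zero => simp [Subgroup.pi_top]
  | succ k ih =>
    rw [derivedSeries_succ]
    refine (Subgroup.commutator_mono ih ih).trans ?_
    refine (Subgroup.commutator_pi_pi_le _ _).trans ?_
    exact le_of_eq rfl

theorem derivedSeries_antitone' (G : Type*) [Group G] : Antitone (derivedSeries G) := by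
  apply antitone_nat_of_succ_le
  intro n
  rw [derivedSeries_succ]
  exact Subgroup.commutator_le_left _ _

theorem isSolvable_pi {ι : Type*} [Finite ι] (X : ι → Type*) [∀ i, Group (X i)]
    [h : ∀ i, Group.IsSolvable (X i)] : Group.IsSolvable (∀ i, X i) := by
  classical
  have := Fintype.ofFinite ι
  choose m hm using fun i => (h i).solvable
  refine ⟨⟨Finset.univ.sup m, ?_⟩⟩
  rw [eq_bot_iff]
  refine (derivedSeries_pi_le X _).trans ?_
  intro x hx
  rw [Subgroup.mem_bot]
  funext i
  have := hx i (Set.mem_univ i)
  have h2 : derivedSeries (X i) (Finset.univ.sup m) ≤ derivedSeries (X i) (m i) :=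
    derivedSeries_antitone' (X i) (Finset.le_sup (Finset.mem_univ i))
  have h3 := h2 this
  rw [hm i, Subgroup.mem_bot] at h3
  exact h3

end Cfsg.Agent.Lib.Helper24.OT
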