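import Cfsg.Agent.Lib.Helper24.OTDiagC

set_option autoImplicit false

/-!
# The list of diagonal groups used in the construction
-/

namespace Cfsg.Agent.Lib.Helper24.OT

/-- diagonal group number 0, of order 2 -/
def dg0 : DgData where
  r := 0
  q := ![]
  c := ![]
  d := ![]
  m1 := 2
  m2 := 1
  hq := by decide
  hm1 := by decide
  hm2 := by decide
  hc := by decide
  hd := by decide

/-- diagonal group number 1, of order 6 -/
def dg1 : DgData where
  r := 1
  q := ![3]
  c := ![1]
  d := ![1]
  m1 := 2
  m2 := 1
  hq := by decide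
  hm1 := by decide
  hm2 := by decide
  hc := by decide
  hd := by decide

/-- diagonal group number 2, of order 6 -/
def dg2 : DgData where
  r := 1
  q := ![3]
  c := ![2]
  d := ![1]
  m1 := 2
  m2 := 1
  hq := by decide
  hm1 := by decide
  hm2 := by decide
  hc := by decide
  hd := by decide

/-- diagonal group number 3, of order 8 -/
def dg3 : DgData where
  r := 1
  q := ![4]
  c := ![1]
  d := ![1]
  m1 := 2
  m2 := 1
  hq := by decide
  hm1 := by decide
  hm2 := by decide
  hc := by decide
  hd := by decide

/-- diagonal group number 4, of order 8 -/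
def dg4 : DgData where
  r := 1
  q := ![4]
  c := ![3]
  d := ![1]
  m1 := 2
  m2 := 1
  hq := by decide
  hm1 := by decide
  hm2 := by decide
  hc := by decide
  hd := by decide

/-- diagonal group number 5, of order 12 -/
def dg5 : DgData where
  r := 1
  q := ![3]
  c := ![2]
  d := ![1]
  m1 := 4
  m2 := 1
  hq := by decide
  hm1 := by decide
  hm2 := by decide
  hc := by decide
  hd := by decide

/-- diagonal group number 6, of order 14 -/
def dg6 : DgData where
  r := 1
  q := ![7]
  c := ![1]
  d := ![1]
  m1 := 2
  m2 := 1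
  hq := by decide
  hm1 := by decide
  hm2 := by decide
  hc := by decide
  hd := by decide

/-- diagonal group number 7, of order 18 -/
def dg7 : DgData where
  r := 2
  q := ![3, 3]
  c := ![2, 2]
  d := ![1, 1]
  m1 := 2
  m2 := 1
  hq := by decide
  hm1 := by decide
  hm2 := by decide
  hc := by decide
  hd := by decide

/-- diagonal group number 8, of order 21 -/
def dg8 : DgData where
  r := 1
  q := ![7]
  c := ![2]
  d := ![1]
  m1 := 3
  m2 := 1
  hq := by decide
  hm1 := by decide
  hm2 := by decide
  hc := by decide
  hd := by decide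

/-- diagonal group number 9, of order 24 -/
def dg9 : DgData where
  r := 2
  q := ![3, 4]
  c := ![2, 3]
  d := ![1, 1]
  m1 := 2
  m2 := 1
  hq := by decide
  hm1 := by decide
  hm2 := by decide
  hc := by decide
  hd := by decide

/-- diagonal group number 10, of order 28 -/
def dg10 : DgData where
  r := 1
  q := ![7]
  c := ![6]
  d := ![1]
  m1 := 4
  m2 := 1
  hq := by decide
  hm1 := by decide
  hm2 := by decide
  hc := by decide
  hd := by decide

/-- diagonal group number 11, of order 36 -/
def dg11 : DgData where
  r := 2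
  q := ![3, 3]
  c := ![2, 2]
  d := ![1, 1]
  m1 := 4
  m2 := 1
  hq := by decide
  hm1 := by decide
  hm2 := by decide
  hc := by decide
  hd := by decide

/-- diagonal group number 12, of order 42 -/
def dg12 : DgData where
  r := 1
  q := ![7]
  c := ![3]
  d := ![1]
  m1 := 6
  m2 := 1
  hq := by decide
  hm1 := by decide
  hm2 := by decide
  hc := by decide
  hd := by decide

/-- diagonal group number 13, of order 54 -/
def dg13 : DgData where
  r := 3
  q := ![3, 3, 3]
  c := ![2, 2, 2]
  d := ![1, 1, 1]
  m1 := 2
  m2 := 1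
  hq := by decide
  hm1 := by decide
  hm2 := by decide
  hc := by decide
  hd := by decide

/-- diagonal group number 14, of order 56 -/
def dg14 : DgData where
  r := 2
  q := ![4, 7]
  c := ![3, 6]
  d := ![1, 1]
  m1 := 2
  m2 := 1
  hq := by decide
  hm1 := by decide
  hm2 := by decide
  hc := by decide
  hd := by decide

/-- diagonal group number 15, of order 98 -/
def dg15 : DgData where
  r := 2
  q := ![7, 7]
  c := ![6, 6]
  d := ![1, 1]
  m1 := 2
  m2 := 1
  hq := by decide
  hm1 := by decide
  hm2 := by decide
  hc := by decide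
  hd := by decide

/-- diagonal group number 16, of order 108 -/
def dg16 : DgData where
  r := 3
  q := ![3, 3, 3]
  c := ![2, 2, 2]
  d := ![1, 1, 1]
  m1 := 4
  m2 := 1
  hq := by decide
  hm1 := by decide
  hm2 := by decide
  hc := by decide
  hd := by decide

/-- diagonal group number 17, of order 126 -/
def dg17 : DgData where
  r := 3
  q := ![3, 3, 7]
  c := ![2, 2, 6]
  d := ![1, 1, 1]
  m1 := 2
  m2 := 1
  hq := by decide
  hm1 := by decide
  hm2 := by decide
  hc := by decide
  hd := by decide

/-- diagonal group number 18, of order 252 -/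
def dg18 : DgData where
  r := 3
  q := ![3, 3, 7]
  c := ![2, 2, 6]
  d := ![1, 1, 1]
  m1 := 4
  m2 := 1
  hq := by decide
  hm1 := by decide
  hm2 := by decide
  hc := by decide
  hd := by decide

/-- diagonal group number 19, of order 252 -/
def dg19 : DgData where
  r := 3
  q := ![3, 3, 7]
  c := ![1, 2, 6]
  d := ![2, 1, 6]
  m1 := 2
  m2 := 2
  hq := by decide
  hm1 := by decide
  hm2 := by decide
  hc := by decide
  hd := by decide

/-- diagonal group number 20, of order 294 -/
def dg20 : DgData where
  r := 2
  q := ![7, 7]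
  c := ![3, 6]
  d := ![1, 1]
  m1 := 6
  m2 := 1
  hq := by decide
  hm1 := by decide
  hm2 := by decide
  hc := by decide
  hd := by decide

/-- diagonal group number 21, of order 504 -/
def dg21 : DgData where
  r := 3
  q := ![3, 3, 7]
  c := ![1, 2, 6]
  d := ![2, 1, 6]
  m1 := 4
  m2 := 2
  hq := by decide
  hm1 := by decide
  hm2 := by decide
  hc := by decide
  hd := by decide

/-- diagonal group number 22, of order 588 -/
def dg22 : DgData where
  r := 2
  q := ![7, 7]
  c := ![3, 6]
  d := ![1, 1]
  m1 := 12
  m2 := 1
  hq := by decide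
  hm1 := by decide
  hm2 := by decide
  hc := by decide
  hd := by decide

/-- diagonal group number 23, of order 784 -/
def dg23 : DgData where
  r := 3
  q := ![4, 7, 7]
  c := ![1, 6, 6]
  d := ![3, 1, 6]
  m1 := 2
  m2 := 2
  hq := by decide
  hm1 := by decide
  hm2 := by decide
  hc := by decide
  hd := by decide

/-- the list of diagonal groups -/
def dgList : Fin 24 → DgData := ![dg0, dg1, dg2, dg3, dg4, dg5, dg6, dg7, dg8, dg9, dg10, dg11, dg12, dg13, dg14, dg15, dg16, dg17, dg18, dg19, dg20, dg21, dg22, dg23]

/-- multiplicities on the solvable side -/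
def mulA : Fin 24 → ℕ := ![0, 0, 6, 7, 1, 0, 1, 6, 0, 3, 0, 0, 6, 0, 0, 2, 3, 0, 3, 0, 0, 3, 1, 3]

/-- multiplicities on the non-solvable side -/
def mulB : Fin 24 → ℕ := ![25, 3, 0, 0, 0, 6, 0, 0, 4, 0, 5, 6, 0, 3, 4, 0, 0, 3, 0, 3, 3, 0, 0, 0]

end Cfsg.Agent.Lib.Helper24.OT
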