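import Cfsg.Agent.Lib.Helper24.OTSemi

set_option autoImplicit false

/-!
# Helper lemmas for the diagonal family
-/

namespace Cfsg.Agent.Lib.Helper24.OT

/-- the homomorphism `j ↦ h ^ j` from a cyclic group of order `m` when `h ^ m = 1` -/
def powHom {H : Type*} [Group H] (m : ℕ) [NeZero m] (h : H) (hh : h ^ m = 1) :
    Multiplicative (ZMod m) →* H where
  toFun j := h ^ (Multiplicative.toAdd j).val
  map_one' := by simp
  map_mul' a b := by
    rw [← pow_add, toAdd_mul, ZMod.val_add, ← pow_eq_pow_mod _ hh]

@[simp] theorem powHom_apply {H : Type*} [Group H] (m : ℕ) [NeZero m] (h : H) (hh : h ^ m = 1)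
    (j : Multiplicative (ZMod m)) : powHom m h hh j = h ^ (Multiplicative.toAdd j).val := rfl

/-- a distributive action by a group gives multiplicative automorphisms of `Multiplicative V` -/
def smulAut (U V : Type*) [Group U] [AddCommGroup V] [DistribMulAction U V] :
    U →* MulAut (Multiplicative V) where
  toFun u :=
    { toFun := fun v => Multiplicative.ofAdd (u • Multiplicative.toAdd v)
      invFun := fun v => Multiplicative.ofAdd (u⁻¹ • Multiplicative.toAdd v)
      left_inv := fun v => by simp
      right_inv := fun v => by simp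
      map_mul' := fun a b => by simp [smul_add] }
  map_one' := by ext v; simp
  map_mul' a b := by ext v; simp [mul_smul]

@[simp] theorem smulAut_apply (U V : Type*) [Group U] [AddCommGroup V] [DistribMulAction U V]
    (u : U) (v : Multiplicative V) :
    smulAut U V u v = Multiplicative.ofAdd (u • Multiplicative.toAdd v) := rfl

/-- the number of solutions of `s * x = 0` in `ZMod q` -/
theorem card_mul_eq_zero (q : ℕ) [NeZero q] (s : ZMod q) :
    Nat.card {x : ZMod q // s * x = 0} = Nat.gcd q s.val := by
  let f : ZMod q →+ ZMod q := AddMonoidHom.mulLeft s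
  have hker : Nat.card {x : ZMod q // s * x = 0} = Nat.card f.ker := by
    apply Nat.card_congr
    exact Equiv.subtypeEquivRight (fun x => by simp [f, AddMonoidHom.mem_ker])
  have hrange : f.range = AddSubgroup.zmultiples s := by
    ext y
    rw [AddMonoidHom.mem_range, AddSubgroup.mem_zmultiples_iff]
    constructor
    · rintro ⟨x, rfl⟩
      refine ⟨(x.val : ℤ), ?_⟩
      simp [f, mul_comm]
    · rintro ⟨k, rfl⟩
      refine ⟨(k : ZMod q), ?_⟩
      simp [f, mul_comm]
  have h1 := AddSubgroup.card_mul_index f.ker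
  rw [AddSubgroup.index_ker, hrange, Nat.card_zmultiples] at h1
  have h2 : addOrderOf s = q / Nat.gcd q s.val := by
    conv_lhs => rw [← ZMod.natCast_zmod_val s]
    exact ZMod.addOrderOf_coe s.val (NeZero.ne q)
  rw [h2, Nat.card_zmod] at h1
  rw [hker]
  have hg : Nat.gcd q s.val ∣ q := Nat.gcd_dvd_left _ _
  have hpos : 0 < q / Nat.gcd q s.val :=
    Nat.div_pos (Nat.le_of_dvd (Nat.pos_of_ne_zero (NeZero.ne q)) hg)
      (Nat.gcd_pos_of_pos_left _ (Nat.pos_of_ne_zero (NeZero.ne q)))
  have h3 : Nat.gcd q s.val * (q / Nat.gcd q s.val) = q := Nat.mul_div_cancel' hg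
  exact Nat.eq_of_mul_eq_mul_right hpos (h1.trans h3.symm)

/-- sums over `ZMod m` as sums over `range m` -/
theorem sum_zmod_eq_sum_range (m : ℕ) [NeZero m] (f : ℕ → ℕ) :
    ∑ j : ZMod m, f j.val = ∑ j ∈ Finset.range m, f j := by
  cases m with
  | zero => exact absurd rfl (NeZero.ne 0)
  | succ k => exact Fin.sum_univ_eq_sum_range f (k + 1)

end Cfsg.Agent.Lib.Helper24.OT
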