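import Cfsg.Agent.Lib.Helper24.OTDiagA

set_option autoImplicit false

/-!
# The diagonal family of metabelian groups

`(∏ i, ZMod (q i)) ⋊ (C_{m1} × C_{m2})`, the generators of the two cyclic groups acting on the
`i`-th coordinate by multiplication with `c i` and `d i`.
-/

namespace Cfsg.Agent.Lib.Helper24.OT

/-- data of a group in the diagonal family -/
structure DgData where
  r : ℕ
  q : Fin r → ℕ
  c : Fin r → ℕ
  d : Fin r → ℕ
  m1 : ℕ
  m2 : ℕ
  hq : ∀ i, 0 < q i
  hm1 : 0 < m1
  hm2 : 0 < m2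
  hc : ∀ i, (c i) ^ m1 % q i = 1 % q i
  hd : ∀ i, (d i) ^ m2 % q i = 1 % q i

namespace DgData

variable (D : DgData)

instance instNeZeroQ (i : Fin D.r) : NeZero (D.q i) := ⟨(D.hq i).ne'⟩
instance instNeZeroM1 : NeZero D.m1 := ⟨D.hm1.ne'⟩
instance instNeZeroM2 : NeZero D.m2 := ⟨D.hm2.ne'⟩

/-- the abelian normal subgroup (additively) -/
abbrev V : Type := ∀ i : Fin D.r, ZMod (D.q i)

/-- the group of units acting -/
abbrev U : Type := ∀ i : Fin D.r, (ZMod (D.q i))ˣ

/-- the top group -/
abbrev K : Type := Multiplicative (ZMod D.m1) × Multiplicative (ZMod D.m2)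

theorem c_pow (i : Fin D.r) : (D.c i : ZMod (D.q i)) ^ D.m1 = 1 := by
  have := D.hc i
  rw [← Nat.cast_pow, ← Nat.cast_one (R := ZMod (D.q i)), ZMod.natCast_eq_natCast_iff']
  exact this

theorem d_pow (i : Fin D.r) : (D.d i : ZMod (D.q i)) ^ D.m2 = 1 := by
  have := D.hd i
  rw [← Nat.cast_pow, ← Nat.cast_one (R := ZMod (D.q i)), ZMod.natCast_eq_natCast_iff']
  exact this

/-- the units `c i` -/
def uc : D.U := fun i => Units.ofPowEqOne (D.c i : ZMod (D.q i)) D.m1 (D.c_pow i) D.hm1.ne'

/-- the units `d i` -/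
def ud : D.U := fun i => Units.ofPowEqOne (D.d i : ZMod (D.q i)) D.m2 (D.d_pow i) D.hm2.ne'

theorem uc_pow : D.uc ^ D.m1 = 1 := by
  funext i
  exact Units.pow_ofPowEqOne _ _

theorem ud_pow : D.ud ^ D.m2 = 1 := by
  funext i
  exact Units.pow_ofPowEqOne _ _

/-- the character of the top group -/
def chi : D.K →* D.U := (powHom D.m1 D.uc D.uc_pow).coprod (powHom D.m2 D.ud D.ud_pow)

theorem chi_apply (k : D.K) (i : Fin D.r) :
    ((D.chi k i : (ZMod (D.q i))ˣ) : ZMod (D.q i))
      = ((D.c i ^ (Multiplicative.toAdd k.1).val * D.d i ^ (Multiplicative.toAdd k.2).val : ℕ) :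
          ZMod (D.q i)) := by
  simp [chi, uc, ud, MonoidHom.coprod_apply]

/-- the action -/
def phi : D.K →* MulAut (Multiplicative D.V) := (smulAut D.U D.V).comp D.chi

/-- the group -/
abbrev Grp : Type := Multiplicative D.V ⋊[D.phi] D.K

instance : Finite D.Grp := Finite.of_equiv _ (SemidirectProduct.equivProd (φ := D.phi)).symm

instance : Group.IsSolvable D.Grp :=
  Group.isSolvable_of_ker_le_range (SemidirectProduct.inl (φ := D.phi))
    (SemidirectProduct.rightHom (φ := D.phi)) (le_of_eq SemidirectProduct.range_inl_eq_ker_rightHom.symm)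

theorem card_Grp : Nat.card D.Grp = (∏ i, D.q i) * (D.m1 * D.m2) := by
  rw [Nat.card_congr (SemidirectProduct.equivProd (φ := D.phi)), Nat.card_prod, Nat.card_prod]
  simp [Nat.card_pi]

/-- the twisted norm in coordinates -/
theorem toAdd_nrm (k : D.K) (n : ℕ) (a : Multiplicative D.V) (i : Fin D.r) :
    Multiplicative.toAdd (nrm D.phi k n a) i
      = (∑ t ∈ Finset.range n, ((D.chi k i : (ZMod (D.q i))ˣ) : ZMod (D.q i)) ^ t)
          * Multiplicative.toAdd a i := by
  induction n with
  | zero => simp [nrm]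
  | succ n ih =>
    have : nrm D.phi k (n + 1) a = nrm D.phi k n a * D.phi (k ^ n) a := by
      simp [nrm, Finset.prod_range_succ]
    rw [this, toAdd_mul, Pi.add_apply, ih, Finset.sum_range_succ, add_mul]
    congr 1
    have h2 : D.phi (k ^ n) a = Multiplicative.ofAdd ((D.chi k) ^ n • Multiplicative.toAdd a) := by
      rw [phi, MonoidHom.comp_apply, map_pow, smulAut_apply]
    rw [h2, toAdd_ofAdd, Pi.smul_apply', Pi.pow_apply, Units.smul_def, Units.val_pow_eq_pow_val,
      smul_eq_mul]

/-- kernel count for one top element -/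
theorem card_nrm (k : D.K) (n : ℕ) :
    Nat.card {a : Multiplicative D.V // nrm D.phi k n a = 1}
      = ∏ i, Nat.gcd (D.q i)
          (∑ t ∈ Finset.range n,
            (D.c i ^ (Multiplicative.toAdd k.1).val * D.d i ^ (Multiplicative.toAdd k.2).val) ^ t) := by
  have e : {a : Multiplicative D.V // nrm D.phi k n a = 1} ≃
      ∀ i, {x : ZMod (D.q i) //
        (∑ t ∈ Finset.range n, ((D.chi k i : (ZMod (D.q i))ˣ) : ZMod (D.q i)) ^ t) * x = 0} := by
    refine (Equiv.subtypeEquiv Multiplicative.toAdd ?_).trans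
      (Equiv.subtypePiEquivPi (p := fun i (x : ZMod (D.q i)) =>
        (∑ t ∈ Finset.range n, ((D.chi k i : (ZMod (D.q i))ˣ) : ZMod (D.q i)) ^ t) * x = 0))
    intro a
    constructor
    · intro h i
      have := D.toAdd_nrm k n a i
      rw [h] at this
      simpa using this.symm
    · intro h
      apply Multiplicative.toAdd.injective
      funext i
      rw [D.toAdd_nrm k n a i]
      simpa using h i
  rw [Nat.card_congr e, Nat.card_pi]
  apply Finset.prod_congr rfl
  intro i _
  rw [card_mul_eq_zero, D.chi_apply k i]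
  simp_rw [← Nat.cast_pow]
  rw [← Nat.cast_sum, ZMod.val_natCast]
  generalize (∑ t ∈ Finset.range n,
    (D.c i ^ (Multiplicative.toAdd k.1).val * D.d i ^ (Multiplicative.toAdd k.2).val) ^ t) = x
  conv_rhs => rw [← Nat.mod_add_div x (D.q i)]
  rw [Nat.gcd_add_mul_left_right]

end DgData

end Cfsg.Agent.Lib.Helper24.OT
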