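import Cfsg.Agent.Lib.Helper24.OTDiagB

set_option autoImplicit false

/-!
# The counting function of the diagonal family is computable
-/

namespace Cfsg.Agent.Lib.Helper24.OT

theorem mult_zmod_pow_eq_one_iff (m : ℕ) [NeZero m] (k : Multiplicative (ZMod m)) (n : ℕ) :
    k ^ n = 1 ↔ m ∣ n * (Multiplicative.toAdd k).val := by
  rw [← ZMod.natCast_eq_zero_iff, Nat.cast_mul, ZMod.natCast_zmod_val]
  constructor
  · intro h
    have := congrArg Multiplicative.toAdd h
    simpa using this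
  · intro h
    apply Multiplicative.toAdd.injective
    simpa using h

theorem sum_mult_zmod (m : ℕ) [NeZero m] (f : ℕ → ℕ) :
    ∑ k : Multiplicative (ZMod m), f (Multiplicative.toAdd k).val = ∑ j ∈ Finset.range m, f j := by
  rw [← sum_zmod_eq_sum_range m f]
  exact Fintype.sum_equiv Multiplicative.toAdd _ _ (fun _ => rfl)

namespace DgData

variable (D : DgData)

/-- the computable count of solutions of `x ^ n = 1` -/
def eval (n : ℕ) : ℕ :=
  ∑ j1 ∈ Finset.range D.m1, ∑ j2 ∈ Finset.range D.m2,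
    if D.m1 ∣ n * j1 ∧ D.m2 ∣ n * j2 then
      ∏ i, Nat.gcd (D.q i) (∑ t ∈ Finset.range n, (D.c i ^ j1 * D.d i ^ j2) ^ t)
    else 0

theorem F_Grp (n : ℕ) : F D.Grp n = D.eval n := by
  classical
  rw [F_semidirect]
  simp_rw [D.card_nrm]
  rw [Finset.sum_filter, Fintype.sum_prod_type]
  unfold eval
  rw [← sum_mult_zmod D.m1]
  apply Finset.sum_congr rfl
  intro k1 _
  rw [← sum_mult_zmod D.m2]
  apply Finset.sum_congr rfl
  intro k2 _
  have hiff : ((k1, k2) : D.K) ^ n = 1 ↔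
      D.m1 ∣ n * (Multiplicative.toAdd k1).val ∧ D.m2 ∣ n * (Multiplicative.toAdd k2).val := by
    rw [← mult_zmod_pow_eq_one_iff, ← mult_zmod_pow_eq_one_iff, Prod.ext_iff]
    simp
  by_cases h : ((k1, k2) : D.K) ^ n = 1
  · rw [if_pos h, if_pos (hiff.mp h)]
  · rw [if_neg h, if_neg (fun h' => h (hiff.mpr h'))]

theorem pow_eq_one_of_eval {E : ℕ} (h : D.eval E = (∏ i, D.q i) * (D.m1 * D.m2)) (g : D.Grp) :
    g ^ E = 1 := by
  apply pow_eq_one_of_F_eq_card
  rw [D.F_Grp, h, D.card_Grp]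

end DgData

end Cfsg.Agent.Lib.Helper24.OT
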