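import Cfsg.Agent.Lib.Helper24.OTDiagA

set_option autoImplicit false

/-!
# The group `AΓL(1,8) = 2^3 : (7 : 3)` of order 168
-/

namespace Cfsg.Agent.Lib.Helper24.OT

instance sdFintype {N G : Type*} [Group N] [Group G] (φ : G →* MulAut N) [Fintype N] [Fintype G] :
    Fintype (N ⋊[φ] G) :=
  Fintype.ofEquiv (N × G) SemidirectProduct.equivProd.symm

theorem sd_isSolvable {N G : Type*} [Group N] [Group G] (φ : G →* MulAut N)
    [Group.IsSolvable N] [Group.IsSolvable G] : Group.IsSolvable (N ⋊[φ] G) :=
  Group.isSolvable_of_ker_le_range (SemidirectProduct.inl (φ := φ))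
    (SemidirectProduct.rightHom (φ := φ))
    (le_of_eq SemidirectProduct.range_inl_eq_ker_rightHom.symm)

/-- the additive group of the field with 8 elements, basis `1, α, α^2` with `α^3 = α + 1` -/
abbrev V8 : Type := ZMod 2 × ZMod 2 × ZMod 2

/-- multiplication by `α` -/
def mA : V8 ≃+ V8 where
  toFun v := (v.2.2, v.1 + v.2.2, v.2.1)
  invFun v := (v.1 + v.2.1, v.2.2, v.1)
  left_inv := by decide
  right_inv := by decide
  map_add' := by decide

/-- the Frobenius map -/
def mF : V8 ≃+ V8 where
  toFun v := (v.1, v.2.2, v.2.1 + v.2.2)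
  invFun v := (v.1, v.2.1 + v.2.2, v.2.1)
  left_inv := by decide
  right_inv := by decide
  map_add' := by decide

/-- multiplication by 2 on `ZMod 7` -/
def mul2 : ZMod 7 ≃+ ZMod 7 where
  toFun x := 2 * x
  invFun x := 4 * x
  left_inv := by decide
  right_inv := by decide
  map_add' := by decide

/-- `mA` as a multiplicative automorphism -/
def mA' : MulAut (Multiplicative V8) := AddEquiv.toMultiplicative mA
/-- `mF` as a multiplicative automorphism -/
def mF' : MulAut (Multiplicative V8) := AddEquiv.toMultiplicative mF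
/-- `mul2` as a multiplicative automorphism -/
def mul2' : MulAut (Multiplicative (ZMod 7)) := AddEquiv.toMultiplicative mul2

theorem mA'_pow : mA' ^ 7 = 1 := by
  apply MulEquiv.ext; decide

theorem mF'_pow : mF' ^ 3 = 1 := by
  apply MulEquiv.ext; decide

theorem mul2'_pow : mul2' ^ 3 = 1 := by
  apply MulEquiv.ext; decide

/-- the action of `C_3` on `C_7` -/
def psi21 : Multiplicative (ZMod 3) →* MulAut (Multiplicative (ZMod 7)) := powHom 3 mul2' mul2'_pow

/-- the Frobenius group of order 21 -/
abbrev F21 : Type := Multiplicative (ZMod 7) ⋊[psi21] Multiplicative (ZMod 3)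

/-- the action of `C_7` on `V8` -/
def f1 : Multiplicative (ZMod 7) →* MulAut (Multiplicative V8) := powHom 7 mA' mA'_pow
/-- the action of `C_3` on `V8` -/
def f2 : Multiplicative (ZMod 3) →* MulAut (Multiplicative V8) := powHom 3 mF' mF'_pow

theorem f_compat (g : Multiplicative (ZMod 3)) :
    f1.comp (psi21 g).toMonoidHom = (MulAut.conj (f2 g)).toMonoidHom.comp f1 := by
  apply MonoidHom.ext
  intro x
  apply MulEquiv.ext
  intro v
  revert g x v
  decide

/-- the action of `F21` on `V8` -/
def phiG : F21 →* MulAut (Multiplicative V8) := SemidirectProduct.lift f1 f2 f_compat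

/-- `AΓL(1,8)` -/
abbrev G168 : Type := Multiplicative V8 ⋊[phiG] F21

instance : Group.IsSolvable F21 := sd_isSolvable _
instance : Group.IsSolvable G168 := sd_isSolvable _

theorem G168_card : Fintype.card G168 = 168 := by decide +kernel

end Cfsg.Agent.Lib.Helper24.OT
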