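import Cfsg.Agent.Lib.Helper24.OTGa

set_option autoImplicit false

/-!
# Order statistics of `AΓL(1,8)`
-/

namespace Cfsg.Agent.Lib.Helper24.OT

theorem G168_card_pow2 : Fintype.card {g : G168 // g ^ 2 = 1} = 8 := by decide +kernel
theorem G168_card_pow3 : Fintype.card {g : G168 // g ^ 3 = 1} = 57 := by decide +kernel
theorem G168_card_pow4 : Fintype.card {g : G168 // g ^ 4 = 1} = 8 := by decide +kernel
theorem G168_card_pow6 : Fintype.card {g : G168 // g ^ 6 = 1} = 120 := by decide +kernel
theorem G168_card_pow7 : Fintype.card {g : G168 // g ^ 7 = 1} = 49 := by decide +kernel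
theorem G168_card_pow12 : Fintype.card {g : G168 // (g ^ 4) ^ 3 = 1} = 120 := by decide +kernel
theorem G168_card_pow14 : Fintype.card {g : G168 // (g ^ 2) ^ 7 = 1} = 56 := by decide +kernel
theorem G168_card_pow21 : Fintype.card {g : G168 // (g ^ 3) ^ 7 = 1} = 105 := by decide +kernel
theorem G168_card_pow28 : Fintype.card {g : G168 // (g ^ 4) ^ 7 = 1} = 56 := by decide +kernel
theorem G168_card_pow42 : Fintype.card {g : G168 // ((g ^ 2) ^ 3) ^ 7 = 1} = 168 := by
  decide +kernel
theorem G168_card_pow84 : Fintype.card {g : G168 // ((g ^ 4) ^ 3) ^ 7 = 1} = 168 := by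
  decide +kernel

/-- the values of `F` on `G168` -/
def fG : ℕ → ℕ
  | 1 => 1 | 2 => 8 | 3 => 57 | 4 => 8 | 6 => 120 | 7 => 49 | 12 => 120 | 14 => 56
  | 21 => 105 | 28 => 56 | 42 => 168 | 84 => 168 | _ => 0

theorem F_G168 (d : ℕ) (hd : d ∈ Nat.divisors 84) : F G168 d = fG d := by
  have hdiv : Nat.divisors 84 = {1, 2, 3, 4, 6, 7, 12, 14, 21, 28, 42, 84} := by decide
  rw [hdiv] at hd
  simp only [Finset.mem_insert, Finset.mem_singleton] at hd
  unfold F
  rw [Nat.card_eq_fintype_card]
  rcases hd with rfl | rfl | rfl | rfl | rfl | rfl | rfl | rfl | rfl | rfl | rfl | rfl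
  · simp [fG]
  · exact G168_card_pow2
  · exact G168_card_pow3
  · exact G168_card_pow4
  · exact G168_card_pow6
  · exact G168_card_pow7
  · have h := G168_card_pow12
    simp only [← pow_mul, Nat.reduceMul] at h
    exact h
  · have h := G168_card_pow14
    simp only [← pow_mul, Nat.reduceMul] at h
    exact h
  · have h := G168_card_pow21
    simp only [← pow_mul, Nat.reduceMul] at h
    exact h
  · have h := G168_card_pow28
    simp only [← pow_mul, Nat.reduceMul] at h
    exact h
  · have h := G168_card_pow42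
    simp only [← pow_mul, Nat.reduceMul] at h
    exact h
  · have h := G168_card_pow84
    simp only [← pow_mul, Nat.reduceMul] at h
    exact h

theorem G168_pow_84 (g : G168) : g ^ 84 = 1 := by
  apply pow_eq_one_of_F_eq_card
  rw [F_G168 84 (by decide), Nat.card_eq_fintype_card, G168_card]
  rfl

end Cfsg.Agent.Lib.Helper24.OT
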