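import Cfsg.Agent.Lib.Helper24.OTBasic

set_option autoImplicit false

/-!
# The simple group of order 168 as `SL(3, 2)`: order statistics and non-solvability
-/

namespace Cfsg.Agent.Lib.Helper24.OT

/-- `SL(3,2) ≅ PSL(2,7)` -/
abbrev L168 : Type := Matrix.SpecialLinearGroup (Fin 3) (ZMod 2)

theorem L168_card : Fintype.card L168 = 168 := by decide +kernel
theorem L168_card_pow2 : Fintype.card {g : L168 // g ^ 2 = 1} = 22 := by decide +kernel
theorem L168_card_pow3 : Fintype.card {g : L168 // g ^ 3 = 1} = 57 := by decide +kernel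
theorem L168_card_pow4 : Fintype.card {g : L168 // g ^ 4 = 1} = 64 := by decide +kernel
theorem L168_card_pow6 : Fintype.card {g : L168 // g ^ 6 = 1} = 78 := by decide +kernel
theorem L168_card_pow7 : Fintype.card {g : L168 // g ^ 7 = 1} = 49 := by decide +kernel
theorem L168_card_pow12 : Fintype.card {g : L168 // (g ^ 4) ^ 3 = 1} = 120 := by decide +kernel
theorem L168_card_pow14 : Fintype.card {g : L168 // (g ^ 2) ^ 7 = 1} = 70 := by decide +kernel
theorem L168_card_pow21 : Fintype.card {g : L168 // (g ^ 3) ^ 7 = 1} = 105 := by decide +kernel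
theorem L168_card_pow28 : Fintype.card {g : L168 // (g ^ 4) ^ 7 = 1} = 112 := by decide +kernel
theorem L168_card_pow42 : Fintype.card {g : L168 // ((g ^ 2) ^ 3) ^ 7 = 1} = 126 := by
  decide +kernel
theorem L168_card_pow84 : Fintype.card {g : L168 // ((g ^ 4) ^ 3) ^ 7 = 1} = 168 := by
  decide +kernel

end Cfsg.Agent.Lib.Helper24.OT
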