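import Cfsg.Agent.Lib.Helper24.OTBasic

set_option autoImplicit false

/-!
# Counting solutions of `x ^ n = 1` in a semidirect product with abelian kernel
-/

namespace Cfsg.Agent.Lib.Helper24.OT

open SemidirectProduct

variable {N K : Type*} [CommGroup N] [Group K] (φ : K →* MulAut N)

/-- twisted norm `a * φ k a * φ (k^2) a * ... * φ (k^(n-1)) a` -/
def nrm (k : K) (n : ℕ) (a : N) : N := ∏ t ∈ Finset.range n, φ (k ^ t) a

theorem sd_pow_right (x : N ⋊[φ] K) (n : ℕ) : (x ^ n).right = x.right ^ n := by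
  have := map_pow (SemidirectProduct.rightHom (φ := φ)) x n
  simpa using this

theorem sd_pow_left (x : N ⋊[φ] K) (n : ℕ) : (x ^ n).left = nrm φ x.right n x.left := by
  induction n with
  | zero => simp [nrm]
  | succ n ih =>
    rw [pow_succ, SemidirectProduct.mul_left, ih, sd_pow_right, nrm, nrm, Finset.prod_range_succ]

theorem sd_pow_eq_one_iff (x : N ⋊[φ] K) (n : ℕ) :
    x ^ n = 1 ↔ x.right ^ n = 1 ∧ nrm φ x.right n x.left = 1 := by
  rw [SemidirectProduct.ext_iff, sd_pow_left, sd_pow_right]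
  simp [and_comm]

theorem F_semidirect [Fintype K] [DecidableEq K] [Finite N] (n : ℕ) :
    F (N ⋊[φ] K) n
      = ∑ k ∈ Finset.univ.filter (fun k : K => k ^ n = 1), Nat.card {a : N // nrm φ k n a = 1} := by
  classical
  have e : {x : N ⋊[φ] K // x ^ n = 1} ≃
      Σ k : {k : K // k ^ n = 1}, {a : N // nrm φ k.1 n a = 1} :=
    { toFun := fun x => ⟨⟨x.1.right, ((sd_pow_eq_one_iff φ x.1 n).mp x.2).1⟩,
        ⟨x.1.left, ((sd_pow_eq_one_iff φ x.1 n).mp x.2).2⟩⟩
      invFun := fun s => ⟨⟨s.2.1, s.1.1⟩, (sd_pow_eq_one_iff φ _ n).mpr ⟨s.1.2, s.2.2⟩⟩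
      left_inv := fun x => by rfl
      right_inv := fun s => by rfl }
  unfold F
  rw [Nat.card_congr e, Nat.card_sigma]
  rw [Finset.sum_subtype (p := fun k : K => k ^ n = 1)
    (Finset.univ.filter (fun k : K => k ^ n = 1)) (by simp)
    (fun k => Nat.card {a : N // nrm φ k n a = 1})]

end Cfsg.Agent.Lib.Helper24.OT
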