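import Mathlib
import Cfsg.Agent.Lib.Helper2.MGroup
import Cfsg.Agent.Lib.Helper2.Ito
import Cfsg.Agent.Lib.Helper1.Frattini
import Cfsg.Agent.Lib.Helper24.CanonInd

/-!
# Characters of `p`-groups induced from a maximal subgroup (helper24 library)

A nonlinear irreducible character of a finite `p`-group is induced from an irreducible character
of a (normal) maximal subgroup; the restriction to the maximal subgroup in terms of the conjugates.
-/

set_option autoImplicit false
set_option linter.unusedSectionVars false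
set_option linter.style.haveILetI false
set_option linter.unusedVariables false

namespace Cfsg.Agent.Lib.Helper24.PGroupStep

open Cfsg Cfsg.Agent.Lib Cfsg.Agent.Lib.Helper2
open scoped ComplexConjugate

section Normal

variable {P : Type*} [Group P] [Fintype P] (M : Subgroup P) [hM : M.Normal]

/-- values on `M` of a function induced from the normal subgroup `M` -/
theorem card_mul_indFun_apply (θ : M → ℂ) (m : M) :
    (Nat.card M : ℂ) * Cfsg.indFun M θ m
      = (Nat.card (Helper2.inertia M θ) : ℂ) * ∑ ψ ∈ CanonInd.conjSet M θ, ψ m := by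
  rw [Helper2.indFun_apply_mem M θ m, ← mul_assoc,
    mul_inv_cancel₀ (Helper2.card_subgroup_ne_zero M), one_mul, CanonInd.sum_conjFun_eq]

theorem conjSet_apply_one {θ ψ : M → ℂ} (h : ψ ∈ CanonInd.conjSet M θ) : ψ 1 = θ 1 := by
  obtain ⟨g, rfl⟩ := (CanonInd.mem_conjSet M).1 h
  rw [Helper2.conjFun_apply]
  congr 1
  apply Subtype.ext
  simp

theorem isCharacter_conjFun (g : P) {θ : M → ℂ} (hθ : IsCharacter M θ) :
    IsCharacter M (Helper2.conjFun M g θ) := by
  rw [Helper2.conjFun_eq_comp]
  exact Helper2.IsCharacter.comp hθ (MulAut.conjNormal (H := M) g).toMonoidHom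

theorem isCharacter_of_mem_conjSet {θ ψ : M → ℂ} (hθ : IsCharacter M θ)
    (h : ψ ∈ CanonInd.conjSet M θ) : IsCharacter M ψ := by
  obtain ⟨g, rfl⟩ := (CanonInd.mem_conjSet M).1 h
  exact isCharacter_conjFun M g hθ

theorem isIrrCharacter_of_mem_conjSet {θ ψ : M → ℂ} (hθ : IsIrrCharacter M θ)
    (h : ψ ∈ CanonInd.conjSet M θ) : IsIrrCharacter M ψ := by
  obtain ⟨g, rfl⟩ := (CanonInd.mem_conjSet M).1 h
  exact Helper2.isIrrCharacter_conjFun M g hθ

/-- the number of conjugates is at most the index -/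
theorem card_conjSet_le {θ : M → ℂ} (hθ1 : θ 1 ≠ 0) (hθc : IsClassFunction M θ) :
    (CanonInd.conjSet M θ).card ≤ M.index := by
  have h := card_mul_indFun_apply M θ 1
  rw [OneMemClass.coe_one, Helper2.indFun_apply_one,
    Finset.sum_congr rfl (fun ψ hψ => conjSet_apply_one M hψ), Finset.sum_const,
    nsmul_eq_mul] at h
  have h2 : (Nat.card M : ℂ) * (M.index : ℂ)
      = (Nat.card (Helper2.inertia M θ) : ℂ) * ((CanonInd.conjSet M θ).card : ℂ) := by
    apply mul_right_cancel₀ hθ1
    linear_combination h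
  have h3 : Nat.card M * M.index
      = Nat.card (Helper2.inertia M θ) * (CanonInd.conjSet M θ).card := by
    exact_mod_cast h2
  have h4 : Nat.card M ≤ Nat.card (Helper2.inertia M θ) :=
    Subgroup.card_le_of_le (Helper2.le_inertia M hθc)
  by_contra hlt
  rw [not_le] at hlt
  have h5 : Nat.card M * M.index < Nat.card (Helper2.inertia M θ) * (CanonInd.conjSet M θ).card :=
    calc Nat.card M * M.index < Nat.card M * (CanonInd.conjSet M θ).card :=
          Nat.mul_lt_mul_of_pos_left hlt Nat.card_pos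
      _ ≤ Nat.card (Helper2.inertia M θ) * (CanonInd.conjSet M θ).card :=
          Nat.mul_le_mul_right _ h4
  omega

/-- the kernel of the induced character on `M` is the intersection of the kernels of the
conjugates -/
theorem indFun_apply_eq_one_iff {θ : M → ℂ} (hθ : IsCharacter M θ) (m : M) :
    Cfsg.indFun M θ m = Cfsg.indFun M θ 1 ↔ ∀ ψ ∈ CanonInd.conjSet M θ, ψ m = ψ 1 := by
  have h1 := card_mul_indFun_apply M θ m
  have h2 := card_mul_indFun_apply M θ 1
  rw [OneMemClass.coe_one] at h2
  have hT : (Nat.card (Helper2.inertia M θ) : ℂ) ≠ 0 :=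
    Nat.cast_ne_zero.2 Nat.card_pos.ne'
  have hMne : (Nat.card M : ℂ) ≠ 0 := Helper2.card_subgroup_ne_zero M
  constructor
  · intro h
    rw [h, h2] at h1
    have h3 := mul_left_cancel₀ hT h1
    exact CanonInd.eq_of_sum_eq _ (fun ψ => ψ) (fun ψ hψ => isCharacter_of_mem_conjSet M hθ hψ)
      m h3.symm
  · intro h
    have h3 : ∑ ψ ∈ CanonInd.conjSet M θ, ψ m = ∑ ψ ∈ CanonInd.conjSet M θ, ψ 1 :=
      Finset.sum_congr rfl h
    rw [h3, ← h2] at h1
    exact mul_left_cancel₀ hMne h1

/-- irreducible constituents of the restriction of the induced character are conjugates -/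
theorem mem_conjSet_of_classInner_ne_zero {θ η : M → ℂ} (hθ : IsIrrCharacter M θ)
    (hη : IsIrrCharacter M η) [Fintype M]
    (h : classInner (fun m : M => Cfsg.indFun M θ m) η ≠ 0) : η ∈ CanonInd.conjSet M θ := by
  classical
  by_contra hnot
  apply h
  have hMne : (Nat.card M : ℂ) ≠ 0 := Helper2.card_subgroup_ne_zero M
  have hfun : (fun m : M => Cfsg.indFun M θ m)
      = ((Nat.card M : ℂ)⁻¹ * (Nat.card (Helper2.inertia M θ) : ℂ))
        • ∑ ψ ∈ CanonInd.conjSet M θ, ψ := by
    funext m
    rw [Pi.smul_apply, Finset.sum_apply, smul_eq_mul, mul_assoc, ← card_mul_indFun_apply M θ m,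
      ← mul_assoc, inv_mul_cancel₀ hMne, one_mul]
  rw [hfun, Helper2.classInner_smul_left, Helper2.classInner_sum_left]
  have h0 : ∀ ψ ∈ CanonInd.conjSet M θ, classInner ψ η = 0 := by
    intro ψ hψ
    rw [Helper25.irr_classInner (isIrrCharacter_of_mem_conjSet M hθ hψ) hη, if_neg]
    rintro rfl
    exact hnot hψ
  rw [Finset.sum_eq_zero h0, mul_zero]

/-- if the function induced from a character `θ ≠ 0` of a normal subgroup is an irreducible
character, then `θ` is irreducible -/
theorem isIrrCharacter_of_indFun {θ : M → ℂ} (hθc : IsCharacter M θ)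
    (hχ : IsIrrCharacter P (Cfsg.indFun M θ)) : IsIrrCharacter M θ := by
  classical
  haveI : Fintype M := Fintype.ofFinite M
  have hχc := Helper25.isCharacter_of_irr hχ
  have hχcf := Helper25.isClassFunction_of_char hχc
  have hθcf := Helper25.isClassFunction_of_char hθc
  have hMne : (Nat.card M : ℂ) ≠ 0 := Helper2.card_subgroup_ne_zero M
  have hnorm : classInner (Cfsg.indFun M θ) (Cfsg.indFun M θ) = 1 :=
    Helper2.classInner_irrCharacter_self (⟨_, hχ⟩ : IrrCharacter P)
  rw [Helper2.frobenius_reciprocity M θ _ hχcf] at hnorm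
  have hfun : (fun m : M => Cfsg.indFun M θ m)
      = (Nat.card M : ℂ)⁻¹ • ∑ x : P, Helper2.conjFun M x θ := by
    funext m
    rw [Pi.smul_apply, Finset.sum_apply, smul_eq_mul]
    exact Helper2.indFun_apply_mem M θ m
  rw [hfun, Helper2.classInner_smul_right, Helper2.classInner_sum_right, map_inv₀,
    map_natCast] at hnorm
  have hnat : ∀ x : P, ∃ n : ℕ, classInner θ (Helper2.conjFun M x θ) = (n : ℂ) :=
    fun x => Helper2.classInner_isCharacter_nat hθc (isCharacter_conjFun M x hθc)
  choose n hn using hnat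
  obtain ⟨c, hc⟩ := Helper2.classInner_isCharacter_nat hθc hθc
  have hnM : ∀ x : P, x ∈ M → n x = c := by
    intro x hx
    have h1 := hn x
    rw [Helper2.conjFun_of_mem M hθcf hx, hc] at h1
    exact_mod_cast h1.symm
  rw [Finset.sum_congr rfl (fun x _ => hn x)] at hnorm
  have hsum : (∑ x : P, n x : ℕ) = Nat.card M := by
    have h1 : ((∑ x : P, n x : ℕ) : ℂ) = (Nat.card M : ℂ) := by
      push_cast
      field_simp at hnorm
      exact hnorm
    exact_mod_cast h1
  have hge : Nat.card M * c ≤ ∑ x : P, n x := by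
    calc Nat.card M * c = ∑ x ∈ Finset.univ.filter (fun x : P => x ∈ M), c := by
          rw [Finset.sum_const, smul_eq_mul, Nat.card_eq_fintype_card, Fintype.card_subtype]
      _ = ∑ x ∈ Finset.univ.filter (fun x : P => x ∈ M), n x := by
          apply Finset.sum_congr rfl
          intro x hx
          exact (hnM x (Finset.mem_filter.1 hx).2).symm
      _ ≤ ∑ x : P, n x := Finset.sum_le_sum_of_subset (Finset.filter_subset _ _)
  have hc1 : c ≤ 1 := by
    rw [hsum] at hge
    have hpos : 0 < Nat.card M := Nat.card_pos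
    nlinarith
  have hc0 : c ≠ 0 := by
    rintro rfl
    rw [Nat.cast_zero] at hc
    have hθ0 := Helper2.eq_zero_of_classInner_self_eq_zero θ hc
    have h1 : Cfsg.indFun M θ 1 = 0 := by
      rw [Helper2.indFun_apply_one, hθ0]
      simp
    exact Helper2.IsIrrCharacter.apply_one_ne_zero hχ h1
  have hc' : c = 1 := by omega
  rw [hc', Nat.cast_one] at hc
  exact Helper2.isIrrCharacter_of_classInner_self_eq_one hθc hc

end Normal

section Max

universe u

variable {P : Type u} [Group P] [Fintype P]

/-- a nonlinear irreducible character of a finite `p`-group is induced from an irreducible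
character of a normal maximal subgroup -/
theorem exists_max_induced {p : ℕ} [Fact p.Prime] (hP : IsPGroup p P) {χ : P → ℂ}
    (hχ : IsIrrCharacter P χ) (hdeg : charDegree χ ≠ 1) :
    ∃ (M : Subgroup P) (θ : M → ℂ), IsCoatom M ∧ M.Normal ∧ M.index = p ∧
      IsIrrCharacter M θ ∧ χ = Cfsg.indFun M θ := by
  classical
  haveI : Group.IsNilpotent P := hP.isNilpotent
  obtain ⟨H, lam, hlam⟩ := MGroup.isMonomial_of_isNilpotent χ hχ
  have hχc := Helper25.isCharacter_of_irr hχ
  have hHtop : H ≠ ⊤ := by
    intro h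
    apply hdeg
    have h1 := Helper25.char_one_eq_charDegree hχc
    have h2 : χ 1 = (H.index : ℂ) * ((lam 1 : ℂˣ) : ℂ) := by
      conv_lhs => rw [hlam]
      exact Helper2.indFun_apply_one H _
    rw [Subgroup.index_eq_one.2 h, map_one, Units.val_one, Nat.cast_one, mul_one] at h2
    rw [h2] at h1
    exact_mod_cast h1.symm
  obtain ⟨M, hMco, hHM⟩ := (eq_top_or_exists_le_coatom H).resolve_left hHtop
  haveI hMn : M.Normal := Helper1.IsPGroup.normal_of_isCoatom hP hMco
  have hMidx : M.index = p := Helper1.IsPGroup.index_of_isCoatom hP hMco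
  haveI : Fintype M := Fintype.ofFinite M
  obtain ⟨lam', hlam'⟩ : ∃ lam' : H.subgroupOf M → ℂ,
      lam' = fun x : H.subgroupOf M =>
        ((lam ⟨((x : M) : P), Subgroup.mem_subgroupOf.mp x.2⟩ : ℂˣ) : ℂ) := ⟨_, rfl⟩
  obtain ⟨θ, hθdef⟩ : ∃ θ : M → ℂ, θ = Cfsg.indFun (H.subgroupOf M) lam' := ⟨_, rfl⟩
  have hχθ : χ = Cfsg.indFun M θ := by
    rw [hlam, hθdef, hlam']
    exact (Helper2.indFun_trans H M hHM (fun h => (lam h : ℂ))).symm
  have hlam'c : IsCharacter (H.subgroupOf M) lam' := by
    have h1 : IsCharacter H (fun h => (lam h : ℂ)) :=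
      Helper25.isCharacter_of_irr (Helper2.isIrrCharacter_of_monoidHom lam)
    have h2 := Helper2.IsCharacter.comp h1 (Subgroup.subgroupOfEquivOfLe hHM).toMonoidHom
    rw [hlam']
    exact h2
  have hθc : IsCharacter M θ := by
    rw [hθdef]
    exact Helper2.indFun_isCharacter _ _ hlam'c
  refine ⟨M, θ, hMco, hMn, hMidx, ?_, hχθ⟩
  apply isIrrCharacter_of_indFun M hθc
  rw [← hχθ]
  exact hχ

end Max

end Cfsg.Agent.Lib.Helper24.PGroupStep
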