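import Mathlib
import Cfsg.Agent.Lib.Helper11.GaloisTwist
import Cfsg.Agent.Lib.Helper2.RationalChars
import Cfsg.Agent.Lib.Helper2.Integrality
import Cfsg.Agent.Lib.Helper2.DirectProduct
import Cfsg.Agent.Lib.Helper2.Induction
import Cfsg.Agent.Lib.Helper7.PCongr
import Cfsg.Agent.Lib.Helper25.EvenDegree
import Cfsg.Agent.Lib.Helper24.Contribution

/-!
# Schur's bound for the order of a Sylow subgroup of a linear group with `p`-rational character
(helper24 library)

If the finite group `G` has a faithful `p`-rational character of degree `n`, then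
`|G|_p ∣ p^k k!` with `k = ⌊n / (p - 1)⌋`.
-/

set_option autoImplicit false
set_option linter.unusedSectionVars false
set_option linter.style.haveILetI false

open scoped ComplexConjugate
open Cfsg.Agent.Lib.Helper2

namespace Cfsg.Agent.Lib.Helper24

section Galois

variable {G : Type*} [Group G] [Finite G]

/-- a `p`-rational character is invariant under `p′`-powers on `p`-elements -/
theorem char_pow_eq_of_pRational (p : ℕ) (hp : p.Prime) (χ : G → ℂ) (hχ : Cfsg.IsCharacter G χ)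
    (r : ℕ) (hr : 0 < r) (hpr : ¬ p ∣ r)
    (hrat : ∀ g : G, χ g ∈ IntermediateField.adjoin ℚ
      ({Complex.exp (2 * Real.pi * Complex.I / r)} : Set ℂ))
    (g : G) (hg : ∃ j : ℕ, orderOf g = p ^ j) (t : ℕ) (ht : ¬ p ∣ t) : χ (g ^ t) = χ g := by
  obtain ⟨j, hj⟩ := hg
  have hN : Nat.card G ≠ 0 := Nat.card_pos.ne'
  obtain ⟨m, hm⟩ : ∃ m, m = r * Nat.card G := ⟨_, rfl⟩
  have hm0 : m ≠ 0 := by
    rw [hm]
    exact mul_ne_zero hr.ne' hN
  haveI : NeZero m := ⟨hm0⟩
  have hm' : ¬ p ∣ ordCompl[p] m := Nat.not_dvd_ordCompl hp hm0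
  have hcop : Nat.Coprime (ordProj[p] m) (ordCompl[p] m) :=
    Nat.Coprime.pow_left _ ((Nat.Prime.coprime_iff_not_dvd hp).2 hm')
  have hprod : ordProj[p] m * ordCompl[p] m = m := Nat.ordProj_mul_ordCompl_eq_self _ _
  obtain ⟨k, hk1, hk2⟩ := Nat.chineseRemainder hcop t 1
  -- `k` is coprime to `m`
  have hkα : Nat.Coprime k (ordProj[p] m) := by
    by_cases hα : m.factorization p = 0
    · rw [hα, pow_zero]
      exact Nat.coprime_one_right k
    · apply Nat.Coprime.pow_right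
      rw [Nat.coprime_comm, Nat.Prime.coprime_iff_not_dvd hp]
      intro hpk
      have hpα : p ∣ ordProj[p] m := dvd_pow_self p hα
      have h1 : k ≡ t [MOD p] := hk1.of_dvd hpα
      have h2 : t ≡ 0 [MOD p] := h1.symm.trans ((Nat.modEq_zero_iff_dvd).2 hpk)
      exact ht ((Nat.modEq_zero_iff_dvd).1 h2)
  have hkm' : Nat.Coprime k (ordCompl[p] m) := by
    have := hk2.gcd_eq
    rw [Nat.Coprime, this]
    exact Nat.gcd_one_left _
  have hkm : Nat.Coprime k m := by
    rw [← hprod]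
    exact Nat.Coprime.mul_right hkα hkm'
  obtain ⟨σ, hσ⟩ := Cfsg.Agent.Lib.Helper11.exists_ringEquiv_complex_pow m k hkm
  -- `σ` fixes the `r`-th root of unity
  have hrm' : r ∣ ordCompl[p] m := by
    have h1 : r ∣ ordProj[p] m * ordCompl[p] m := by
      rw [hprod, hm]
      exact dvd_mul_right r _
    exact (Nat.Coprime.pow_right _ ((Nat.Prime.coprime_iff_not_dvd hp).2 hpr).symm).dvd_of_dvd_mul_left h1
  have hζr := Complex.isPrimitiveRoot_exp r hr.ne'
  have hfixζ : σ (Complex.exp (2 * Real.pi * Complex.I / r))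
      = Complex.exp (2 * Real.pi * Complex.I / r) := by
    have h1 : Complex.exp (2 * Real.pi * Complex.I / r) ^ m = 1 := by
      rw [hm, pow_mul, hζr.pow_eq_one, one_pow]
    rw [hσ _ h1, pow_eq_pow_mod k hζr.pow_eq_one]
    have h2 : k % r = 1 % r := hk2.of_dvd hrm'
    rw [h2, ← pow_eq_pow_mod 1 hζr.pow_eq_one, pow_one]
  have hfix : ∀ x ∈ IntermediateField.adjoin ℚ
      ({Complex.exp (2 * Real.pi * Complex.I / r)} : Set ℂ), σ x = x := by
    intro x hx
    induction hx using IntermediateField.adjoin_induction with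
    | mem x hx =>
      rw [Set.mem_singleton_iff] at hx
      rw [hx]
      exact hfixζ
    | algebraMap q => exact map_ratCast σ q
    | add x y _ _ hx hy => rw [map_add, hx, hy]
    | inv x _ hx => rw [map_inv₀, hx]
    | mul x y _ _ hx hy => rw [map_mul, hx, hy]
  -- `σ (χ g) = χ (g ^ k)`
  have hσχ : σ (χ g) = χ (g ^ k) := by
    obtain ⟨n, ρ, rfl⟩ := hχ
    have hζ := Complex.isPrimitiveRoot_exp (Nat.card G) hN
    obtain ⟨e, he⟩ := exists_exponents ρ g _ hζ
    have h1 := he 1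
    simp only [pow_one, one_mul] at h1
    rw [he k, h1, map_sum]
    apply Finset.sum_congr rfl
    intro i _
    have hζm : Complex.exp (2 * Real.pi * Complex.I / (Nat.card G : ℕ)) ^ m = 1 := by
      rw [hm, show r * Nat.card G = Nat.card G * r from mul_comm _ _, pow_mul, hζ.pow_eq_one,
        one_pow]
    rw [map_pow, hσ _ hζm, ← pow_mul]
  have hgk : g ^ k = g ^ t := by
    rw [pow_eq_pow_iff_modEq]
    apply hk1.of_dvd
    rw [hj]
    apply pow_dvd_pow
    rw [← Nat.Prime.pow_dvd_iff_le_factorization hp hm0, ← hj, hm]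
    exact dvd_mul_of_dvd_right (orderOf_dvd_natCard g) r
  rw [← hgk, ← hσχ]
  exact hfix _ (hrat g)

end Galois

section Ramanujan

theorem geom_sum_root_of_unity (ε : ℂ) (n : ℕ) (hε : ε ^ n = 1) :
    ∑ t ∈ Finset.range n, ε ^ t = if ε = 1 then (n : ℂ) else 0 := by
  by_cases h : ε = 1
  · rw [if_pos h, h]
    simp
  · rw [if_neg h, geom_sum_eq h, hε, sub_self, zero_div]

/-- the sum of the `t`-th powers, `t < pQ` prime to `p`, of a `pQ`-th root of unity -/
theorem sum_pow_coprime (p : ℕ) (hp : p.Prime) (Q : ℕ) (ε : ℂ) (hε : ε ^ (p * Q) = 1) :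
    ∑ t ∈ (Finset.range (p * Q)).filter (fun t => ¬ p ∣ t), ε ^ t
      = (if ε = 1 then ((p * Q : ℕ) : ℂ) else 0) - (if ε ^ p = 1 then (Q : ℂ) else 0) := by
  have h1 := geom_sum_root_of_unity ε (p * Q) hε
  have h2 := geom_sum_root_of_unity (ε ^ p) Q (by rw [← pow_mul]; exact hε)
  have h3 : ∑ t ∈ (Finset.range (p * Q)).filter (fun t => p ∣ t), ε ^ t
      = ∑ s ∈ Finset.range Q, (ε ^ p) ^ s := by
    have himg : (Finset.range (p * Q)).filter (fun t => p ∣ t)
        = (Finset.range Q).image (fun s => p * s) := by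
      ext t
      simp only [Finset.mem_filter, Finset.mem_range, Finset.mem_image]
      constructor
      · rintro ⟨ht, s, rfl⟩
        exact ⟨s, lt_of_mul_lt_mul_left ht (Nat.zero_le p), rfl⟩
      · rintro ⟨s, hs, rfl⟩
        exact ⟨(Nat.mul_lt_mul_left hp.pos).2 hs, dvd_mul_right p s⟩
    rw [himg, Finset.sum_image]
    · apply Finset.sum_congr rfl
      intro s _
      rw [pow_mul]
    · intro a _ b _ hab
      exact Nat.eq_of_mul_eq_mul_left hp.pos hab
  have h4 := Finset.sum_filter_add_sum_filter_not (Finset.range (p * Q)) (fun t => p ∣ t)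
    (fun t => ε ^ t)
  rw [h1, h3, h2] at h4
  rw [← h4]
  ring

end Ramanujan

section Values

variable {G : Type*} [Group G] [Finite G]

/-- values of a faithful `p`-rational character at nontrivial `p`-elements -/
theorem exists_value_eq (p : ℕ) (hp : p.Prime) (χ : G → ℂ) (hχ : Cfsg.IsCharacter G χ)
    (hfaith : ∀ g : G, χ g = χ 1 → g = 1)
    (r : ℕ) (hr : 0 < r) (hpr : ¬ p ∣ r)
    (hrat : ∀ g : G, χ g ∈ IntermediateField.adjoin ℚ
      ({Complex.exp (2 * Real.pi * Complex.I / r)} : Set ℂ))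
    (g : G) (hg : ∃ j : ℕ, orderOf g = p ^ j) (hg1 : g ≠ 1) :
    ∃ s : ℕ, 1 ≤ s ∧ s ≤ Cfsg.charDegree χ / (p - 1) ∧
      χ g = (((Cfsg.charDegree χ : ℤ) - (p : ℤ) * (s : ℤ) : ℤ) : ℂ) := by
  classical
  have hχ' := hχ
  obtain ⟨j, hj⟩ := hg
  have hj0 : j ≠ 0 := by
    rintro rfl
    rw [pow_zero, orderOf_eq_one_iff] at hj
    exact hg1 hj
  obtain ⟨j', rfl⟩ := Nat.exists_eq_succ_of_ne_zero hj0
  obtain ⟨Q, hQ⟩ : ∃ Q, Q = p ^ j' := ⟨_, rfl⟩
  have hQ0 : Q ≠ 0 := by
    rw [hQ]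
    exact pow_ne_zero _ hp.ne_zero
  have hord : orderOf g = p * Q := by
    rw [hj, hQ, pow_succ, mul_comm]
  have hone : χ 1 = (Cfsg.charDegree χ : ℂ) := Cfsg.Agent.Lib.Helper25.char_one_eq_charDegree hχ
  obtain ⟨n, hn⟩ : ∃ n, n = Cfsg.charDegree χ := ⟨_, rfl⟩
  rw [← hn] at hone ⊢
  -- congruence modulo `p`
  obtain ⟨M, hM⟩ := Cfsg.Agent.Lib.Helper25.exists_isPModular p hp
  have hcong := Cfsg.Agent.Lib.Helper7.char_mul_sub_memLocalIdeal hM χ hχ g 1 (by simp)
    ⟨j' + 1, hj⟩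
  rw [mul_one, hone] at hcong
  -- eigenvalues
  obtain ⟨n', ρ, rfl⟩ := hχ
  obtain ⟨μ, hμ1, hμ2, _⟩ := exists_eigenvalues ρ g
  have hfin : Module.finrank ℂ (Fin n' → ℂ) = n := by
    have h0 := hμ2 0
    simp only [pow_zero, Finset.sum_const, Finset.card_univ, Fintype.card_fin, nsmul_eq_mul,
      mul_one] at h0
    rw [hone] at h0
    exact (Nat.cast_injective h0).symm
  obtain ⟨m₀, hm₀⟩ : ∃ m₀, m₀ = (Finset.univ.filter (fun i => μ i = 1)).card := ⟨_, rfl⟩
  obtain ⟨m₁, hm₁⟩ : ∃ m₁, m₁ = (Finset.univ.filter (fun i => μ i ^ p = 1)).card := ⟨_, rfl⟩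
  have h01 : m₀ ≤ m₁ := by
    rw [hm₀, hm₁]
    apply Finset.card_le_card
    intro i hi
    rw [Finset.mem_filter] at hi ⊢
    refine ⟨hi.1, ?_⟩
    rw [hi.2, one_pow]
  have h1n : m₁ ≤ n := by
    rw [hm₁, ← hfin]
    calc (Finset.univ.filter (fun i => μ i ^ p = 1)).card
        ≤ (Finset.univ : Finset (Fin (Module.finrank ℂ (Fin n' → ℂ)))).card :=
          Finset.card_le_card (Finset.filter_subset _ _)
      _ = Module.finrank ℂ (Fin n' → ℂ) := by rw [Finset.card_univ, Fintype.card_fin]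
  -- the key identity
  have hkey : ((p : ℂ) - 1) * ρ.character g = (p : ℂ) * (m₀ : ℂ) - (m₁ : ℂ) := by
    have hT1 : ∑ t ∈ (Finset.range (p * Q)).filter (fun t => ¬ p ∣ t), ρ.character (g ^ t)
        = ∑ t ∈ (Finset.range (p * Q)).filter (fun t => ¬ p ∣ t), ρ.character g := by
      apply Finset.sum_congr rfl
      intro t ht
      rw [Finset.mem_filter] at ht
      exact char_pow_eq_of_pRational p hp _ hχ' r hr hpr hrat g ⟨j' + 1, hj⟩ t ht.2
    have hT2 : ∑ t ∈ (Finset.range (p * Q)).filter (fun t => ¬ p ∣ t), ρ.character (g ^ t)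
        = (p : ℂ) * (Q : ℂ) * (m₀ : ℂ) - (Q : ℂ) * (m₁ : ℂ) := by
      have e1 : ∀ t, ρ.character (g ^ t) = ∑ i, μ i ^ t := hμ2
      rw [Finset.sum_congr rfl (fun t _ => e1 t), Finset.sum_comm]
      have e2 : ∀ i, ∑ t ∈ (Finset.range (p * Q)).filter (fun t => ¬ p ∣ t), μ i ^ t
          = (if μ i = 1 then ((p * Q : ℕ) : ℂ) else 0) - (if μ i ^ p = 1 then (Q : ℂ) else 0) :=
        fun i => sum_pow_coprime p hp Q (μ i) (by rw [← hord]; exact hμ1 i)
      rw [Finset.sum_congr rfl (fun i _ => e2 i)]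
      simp only [Finset.sum_sub_distrib, Finset.sum_ite, Finset.sum_const, Finset.sum_const_zero,
        add_zero, nsmul_eq_mul]
      rw [← hm₀, ← hm₁]
      push_cast
      ring
    have hT3 : ((Finset.range (p * Q)).filter (fun t => ¬ p ∣ t)).card
        = p * Q - Q := by
      have := sum_pow_coprime p hp Q 1 (one_pow _)
      simp only [one_pow, Finset.sum_const, nsmul_eq_mul, mul_one, if_true] at this
      have hle : Q ≤ p * Q := Nat.le_mul_of_pos_left Q hp.pos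
      have h2 : (((Finset.range (p * Q)).filter (fun t => ¬ p ∣ t)).card : ℂ)
          = ((p * Q - Q : ℕ) : ℂ) := by
        rw [this, Nat.cast_sub hle]
      exact Nat.cast_injective h2
    rw [hT1, Finset.sum_const, nsmul_eq_mul, hT3] at hT2
    have hle : Q ≤ p * Q := Nat.le_mul_of_pos_left Q hp.pos
    rw [Nat.cast_sub hle] at hT2
    push_cast at hT2
    have hQC : (Q : ℂ) ≠ 0 := Nat.cast_ne_zero.mpr hQ0
    apply mul_left_cancel₀ hQC
    rw [← sub_eq_zero] at hT2 ⊢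
    rw [← hT2]
    ring
  -- integrality
  have hp1 : ((p : ℂ) - 1) ≠ 0 := by
    intro h
    have h2 : (p : ℂ) = 1 := sub_eq_zero.mp h
    exact hp.one_lt.ne' (by exact_mod_cast h2)
  have hq : ρ.character g
      = ((((p : ℤ) * (m₀ : ℤ) - (m₁ : ℤ) : ℤ) : ℚ) / (((p : ℤ) - 1 : ℤ) : ℚ) : ℚ) := by
    push_cast
    rw [eq_div_iff hp1, mul_comm]
    exact hkey
  obtain ⟨c, hc⟩ := exists_int_of_isIntegral_of_rat _ hq (char_isIntegral ρ g)
  have hcz : ((p : ℤ) - 1) * c = (p : ℤ) * (m₀ : ℤ) - (m₁ : ℤ) := by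
    have : ((((p : ℤ) - 1) * c : ℤ) : ℂ) = (((p : ℤ) * (m₀ : ℤ) - (m₁ : ℤ) : ℤ) : ℂ) := by
      push_cast
      rw [← hc]
      exact hkey
    exact_mod_cast this
  have hpdvd : (p : ℤ) ∣ c - (n : ℤ) := by
    apply dvd_of_memLocalIdeal_intCast hM
    rw [hc] at hcong
    push_cast
    exact hcong
  have hcn : c ≠ (n : ℤ) := by
    intro h
    apply hg1
    apply hfaith
    rw [hone, hc, h]
    simp
  have hp1pos : (0 : ℤ) < (p : ℤ) - 1 := by
    have : (1 : ℤ) < (p : ℤ) := by exact_mod_cast hp.one_lt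
    linarith
  have hcle : c ≤ (n : ℤ) := by
    have h1 : ((p : ℤ) - 1) * c ≤ ((p : ℤ) - 1) * (n : ℤ) := by
      rw [hcz]
      have h01' : (m₀ : ℤ) ≤ (m₁ : ℤ) := by exact_mod_cast h01
      have h1n' : (m₁ : ℤ) ≤ (n : ℤ) := by exact_mod_cast h1n
      nlinarith
    exact le_of_mul_le_mul_left h1 hp1pos
  obtain ⟨s', hs'⟩ := hpdvd
  -- `c - n = p s'`, so `s' < 0`
  have hs'neg : s' < 0 := by
    have h1 : c - (n : ℤ) < 0 := by
      have := lt_of_le_of_ne hcle hcn
      linarith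
    rw [hs'] at h1
    have hppos : (0 : ℤ) < (p : ℤ) := by exact_mod_cast hp.pos
    by_contra hge
    push Not at hge
    have : 0 ≤ (p : ℤ) * s' := mul_nonneg hppos.le hge
    linarith
  obtain ⟨s, hs⟩ : ∃ s : ℕ, (s : ℤ) = -s' := ⟨(-s').toNat, Int.toNat_of_nonneg (by linarith)⟩
  refine ⟨s, ?_, ?_, ?_⟩
  · have : (0 : ℤ) < (s : ℤ) := by rw [hs]; linarith
    exact_mod_cast this
  · rw [Nat.le_div_iff_mul_le (Nat.sub_pos_of_lt hp.one_lt)]
    have h1 : ((p : ℤ) - 1) * c ≥ -(n : ℤ) := by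
      rw [hcz]
      have h1n' : (m₁ : ℤ) ≤ (n : ℤ) := by exact_mod_cast h1n
      have hm0' : (0 : ℤ) ≤ (m₀ : ℤ) := by exact_mod_cast Nat.zero_le m₀
      have hppos : (0 : ℤ) < (p : ℤ) := by exact_mod_cast hp.pos
      nlinarith
    have hceq : c = (n : ℤ) - (p : ℤ) * (s : ℤ) := by
      rw [hs]
      linarith
    rw [hceq] at h1
    have hppos : (0 : ℤ) < (p : ℤ) := by exact_mod_cast hp.pos
    have h2 : (p : ℤ) * (((p : ℤ) - 1) * (s : ℤ)) ≤ (p : ℤ) * (n : ℤ) := by nlinarith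
    have h3 : ((p : ℤ) - 1) * (s : ℤ) ≤ (n : ℤ) := le_of_mul_le_mul_left h2 hppos
    have h4 : ((s * (p - 1) : ℕ) : ℤ) ≤ (n : ℤ) := by
      rw [Nat.cast_mul, Nat.cast_sub hp.one_lt.le]
      push_cast
      linarith
    exact_mod_cast h4
  · rw [hc]
    congr 1
    rw [hs]
    linarith

end Values

section PowerSums

variable {G : Type*} [Group G]

theorem isCharacter_fun_pow {χ : G → ℂ} (hχ : Cfsg.IsCharacter G χ) (i : ℕ) :
    Cfsg.IsCharacter G (fun g => χ g ^ i) := by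
  induction i with
  | zero =>
    simp only [pow_zero]
    exact IsIrrCharacter.isCharacter isIrrCharacter_one
  | succ i ih =>
    have := isCharacter_mul ih hχ
    convert this using 1
    funext g
    rw [Pi.mul_apply, pow_succ]

/-- power sums of character values over a subgroup are multiples of its order -/
theorem exists_sum_pow_eq {χ : G → ℂ} (hχ : Cfsg.IsCharacter G χ) (H : Subgroup G) [Fintype H]
    (i : ℕ) : ∃ N : ℕ, ∑ u : H, χ u ^ i = (Nat.card H : ℂ) * (N : ℂ) := by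
  have h1 := IsCharacter.restrict (isCharacter_fun_pow hχ i) H
  obtain ⟨N, hN⟩ := classInner_isCharacter_nat h1
    (IsIrrCharacter.isCharacter (isIrrCharacter_one (G := ↥H)))
  refine ⟨N, ?_⟩
  rw [classInner_def] at hN
  have hH0 : (Nat.card H : ℂ) ≠ 0 := Nat.cast_ne_zero.mpr Nat.card_pos.ne'
  rw [← hN, ← mul_assoc, mul_inv_cancel₀ hH0, one_mul]
  apply Finset.sum_congr rfl
  intro u _
  rw [map_one, mul_one]

/-- the sum over a subgroup of an integer polynomial in the character values -/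
theorem exists_sum_aeval_eq {χ : G → ℂ} (hχ : Cfsg.IsCharacter G χ) (H : Subgroup G) [Fintype H]
    (f : Polynomial ℤ) :
    ∃ Z : ℤ, ∑ u : H, Polynomial.aeval (χ u) f = (Nat.card H : ℂ) * (Z : ℂ) := by
  choose N hN using fun i => exists_sum_pow_eq hχ H i
  refine ⟨∑ i ∈ Finset.range (f.natDegree + 1), f.coeff i * (N i : ℤ), ?_⟩
  have h1 : ∀ u : H, Polynomial.aeval (χ u) f
      = ∑ i ∈ Finset.range (f.natDegree + 1), (f.coeff i : ℂ) * χ u ^ i := by
    intro u
    rw [Polynomial.aeval_eq_sum_range]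
    apply Finset.sum_congr rfl
    intro i _
    rw [zsmul_eq_mul]
  rw [Finset.sum_congr rfl (fun u _ => h1 u), Finset.sum_comm]
  push_cast
  rw [Finset.mul_sum]
  apply Finset.sum_congr rfl
  intro i _
  rw [← Finset.mul_sum, hN i]
  ring

end PowerSums

section Main

variable {G : Type*} [Group G] [Finite G]

/-- **Schur**: the order of a `p`-subgroup of a group with a faithful `p`-rational character of
degree `n` divides `p^k k!`, `k = ⌊n / (p - 1)⌋` -/
theorem card_pSubgroup_dvd (p : ℕ) (hp : p.Prime) (χ : G → ℂ) (hχ : Cfsg.IsCharacter G χ)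
    (hfaith : ∀ g : G, χ g = χ 1 → g = 1)
    (r : ℕ) (hr : 0 < r) (hpr : ¬ p ∣ r)
    (hrat : ∀ g : G, χ g ∈ IntermediateField.adjoin ℚ
      ({Complex.exp (2 * Real.pi * Complex.I / r)} : Set ℂ))
    (H : Subgroup G) (hH : IsPGroup p H) :
    Nat.card H ∣ p ^ (Cfsg.charDegree χ / (p - 1)) * (Cfsg.charDegree χ / (p - 1)).factorial := by
  classical
  haveI : Fact p.Prime := ⟨hp⟩
  haveI : Fintype H := Fintype.ofFinite _
  obtain ⟨n, hn⟩ : ∃ n, n = Cfsg.charDegree χ := ⟨_, rfl⟩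
  obtain ⟨k, hk⟩ : ∃ k, k = n / (p - 1) := ⟨_, rfl⟩
  rw [← hn, ← hk]
  have hone : χ 1 = (n : ℂ) := by
    rw [hn]
    exact Cfsg.Agent.Lib.Helper25.char_one_eq_charDegree hχ
  obtain ⟨f, hf⟩ : ∃ f : Polynomial ℤ, f = ∏ s ∈ Finset.Ico 1 (k + 1),
      (Polynomial.X - Polynomial.C ((n : ℤ) - (p : ℤ) * (s : ℤ))) := ⟨_, rfl⟩
  have hfn : f.eval (n : ℤ) = ((p ^ k * k.factorial : ℕ) : ℤ) := by
    rw [hf, Polynomial.eval_prod]
    have h1 : ∀ s ∈ Finset.Ico 1 (k + 1),
        (Polynomial.X - Polynomial.C ((n : ℤ) - (p : ℤ) * (s : ℤ))).eval (n : ℤ)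
        = (p : ℤ) * (s : ℤ) := by
      intro s _
      rw [Polynomial.eval_sub, Polynomial.eval_X, Polynomial.eval_C]
      ring
    rw [Finset.prod_congr rfl h1, Finset.prod_mul_distrib, Finset.prod_const, Nat.card_Ico,
      Nat.add_sub_cancel]
    push_cast
    congr 1
    rw [← Finset.prod_Ico_id_eq_factorial]
    push_cast
    rfl
  have hval : ∀ u : H, Polynomial.aeval (χ u) f
      = if u = 1 then ((p ^ k * k.factorial : ℕ) : ℂ) else 0 := by
    intro u
    by_cases hu : u = 1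
    · rw [if_pos hu, hu, OneMemClass.coe_one, hone]
      have := Polynomial.aeval_algebraMap_apply_eq_algebraMap_eval (R := ℤ) (A := ℂ) (n : ℤ) f
      rw [hfn] at this
      simpa using this
    · rw [if_neg hu]
      have hu1 : (u : G) ≠ 1 := fun h => hu (Subtype.ext h)
      have hup : ∃ j : ℕ, orderOf (u : G) = p ^ j := by
        obtain ⟨j, hj⟩ := (IsPGroup.iff_orderOf.1 hH) u
        exact ⟨j, by rw [Subgroup.orderOf_coe, hj]⟩
      obtain ⟨s, hs1, hsk, hs⟩ := exists_value_eq p hp χ hχ hfaith r hr hpr hrat (u : G) hup hu1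
      rw [← hn, ← hk] at hsk
      rw [← hn] at hs
      rw [hs]
      have := Polynomial.aeval_algebraMap_apply_eq_algebraMap_eval (R := ℤ) (A := ℂ)
        ((n : ℤ) - (p : ℤ) * (s : ℤ)) f
      have h0 : f.eval ((n : ℤ) - (p : ℤ) * (s : ℤ)) = 0 := by
        rw [hf, Polynomial.eval_prod]
        apply Finset.prod_eq_zero (Finset.mem_Ico.2 ⟨hs1, Nat.lt_succ_of_le hsk⟩)
        rw [Polynomial.eval_sub, Polynomial.eval_X, Polynomial.eval_C, sub_self]
      rw [h0] at this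
      simpa using this
  obtain ⟨Z, hZ⟩ := exists_sum_aeval_eq hχ H f
  rw [Finset.sum_congr rfl (fun u _ => hval u), Finset.sum_ite_eq' Finset.univ (1 : H),
    if_pos (Finset.mem_univ _)] at hZ
  have hZ' : ((p ^ k * k.factorial : ℕ) : ℤ) = (Nat.card H : ℤ) * Z := by
    have : (((p ^ k * k.factorial : ℕ) : ℤ) : ℂ) = (((Nat.card H : ℤ) * Z : ℤ) : ℂ) := by
      push_cast
      push_cast at hZ
      exact hZ
    exact_mod_cast this
  have : (Nat.card H : ℤ) ∣ ((p ^ k * k.factorial : ℕ) : ℤ) := ⟨Z, hZ'⟩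
  exact Int.natCast_dvd_natCast.mp this

/-- **Schur's bound** -/
theorem schur_bound (p : ℕ) (hp : p.Prime) (χ : G → ℂ) (hχ : Cfsg.IsCharacter G χ)
    (hfaith : ∀ g : G, χ g = χ 1 → g = 1)
    (r : ℕ) (hr : 0 < r) (hpr : ¬ p ∣ r)
    (hrat : ∀ g : G, χ g ∈ IntermediateField.adjoin ℚ
      ({Complex.exp (2 * Real.pi * Complex.I / r)} : Set ℂ))
    (n : ℕ) (hn : Cfsg.charDegree χ = n) :
    (Nat.card G).factorization p ≤ ∑ i ∈ Finset.range (n + 1), n / ((p - 1) * p ^ i) := by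
  haveI : Fact p.Prime := ⟨hp⟩
  obtain ⟨P⟩ : Nonempty (Sylow p G) := inferInstance
  have hdvd := card_pSubgroup_dvd p hp χ hχ hfaith r hr hpr hrat (P : Subgroup G) P.isPGroup'
  rw [P.card_eq_multiplicity, hn] at hdvd
  obtain ⟨a, ha⟩ : ∃ a, a = (Nat.card G).factorization p := ⟨_, rfl⟩
  obtain ⟨k, hk⟩ : ∃ k, k = n / (p - 1) := ⟨_, rfl⟩
  rw [← ha] at hdvd ⊢
  rw [← hk] at hdvd
  have hterm : ∀ i, n / ((p - 1) * p ^ i) = k / p ^ i := by
    intro i
    rw [hk, Nat.div_div_eq_div_mul]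
  rw [Finset.sum_congr rfl (fun i _ => hterm i), Finset.range_eq_Ico,
    Finset.sum_eq_sum_Ico_succ_bot (Nat.succ_pos n), pow_zero, Nat.div_one]
  show a ≤ k + ∑ i ∈ Finset.Ico 1 (n + 1), k / p ^ i
  by_cases hak : a ≤ k
  · exact le_trans hak (Nat.le_add_right _ _)
  · push Not at hak
    obtain ⟨c, hc⟩ : ∃ c, a = k + c := ⟨a - k, by omega⟩
    rw [hc, pow_add] at hdvd
    have h2 : p ^ c ∣ k.factorial :=
      Nat.dvd_of_mul_dvd_mul_left (pow_pos hp.pos k) hdvd
    have hkn : k ≤ n := by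
      rw [hk]
      exact Nat.div_le_self _ _
    have hlog : Nat.log p k < n + 1 := by
      have := Nat.log_le_self p k
      omega
    have h3 := (Nat.Prime.pow_dvd_factorial_iff hp hlog).1 h2
    rw [hc]
    omega

end Main

end Cfsg.Agent.Lib.Helper24
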