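import Mathlib
import Cfsg.Agent.Lib.Helper24.SchurBound

/-!
# Schur's bound, second form (helper24 library)

Variants of `SchurBound` in which `p`-rationality is replaced by invariance of the character under
`p′`-powers on the `p`-elements of a given `p`-subgroup, and faithfulness is not assumed: the
kernel enters the bound.
-/

set_option autoImplicit false
set_option linter.unusedSectionVars false
set_option linter.style.haveILetI false

open scoped ComplexConjugate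
open Cfsg.Agent.Lib.Helper2

namespace Cfsg.Agent.Lib.Helper24

section Values2

variable {G : Type*} [Group G] [Finite G]

/-- values of a faithful `p`-rational character at nontrivial `p`-elements -/
theorem exists_value_eq' (p : ℕ) (hp : p.Prime) (χ : G → ℂ) (hχ : Cfsg.IsCharacter G χ)
    (g : G) (hg : ∃ j : ℕ, orderOf g = p ^ j)
    (hpow : ∀ t : ℕ, ¬ p ∣ t → χ (g ^ t) = χ g) (hne : χ g ≠ χ 1) :
    ∃ s : ℕ, 1 ≤ s ∧ s ≤ Cfsg.charDegree χ / (p - 1) ∧
      χ g = (((Cfsg.charDegree χ : ℤ) - (p : ℤ) * (s : ℤ) : ℤ) : ℂ) := by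
  classical
  have hχ' := hχ
  obtain ⟨j, hj⟩ := hg
  have hj0 : j ≠ 0 := by
    rintro rfl
    rw [pow_zero, orderOf_eq_one_iff] at hj
    exact hne (by rw [hj])
  obtain ⟨j', rfl⟩ := Nat.exists_eq_succ_of_ne_zero hj0
  obtain ⟨Q, hQ⟩ : ∃ Q, Q = p ^ j' := ⟨_, rfl⟩
  have hQ0 : Q ≠ 0 := by
    rw [hQ]
    exact pow_ne_zero _ hp.ne_zero
  have hord : orderOf g = p * Q := by
    rw [hj, hQ, pow_succ, mul_comm]
  have hone : χ 1 = (Cfsg.charDegree χ : ℂ) := Cfsg.Agent.Lib.Helper25.char_one_eq_charDegree hχ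
  obtain ⟨n, hn⟩ : ∃ n, n = Cfsg.charDegree χ := ⟨_, rfl⟩
  rw [← hn] at hone ⊢
  -- congruence modulo `p`
  obtain ⟨M, hM⟩ := Cfsg.Agent.Lib.Helper25.exists_isPModular p hp
  have hcong := Cfsg.Agent.Lib.Helper7.char_mul_sub_memLocalIdeal hM χ hχ g 1 (by simp)
    ⟨j' + 1, hj⟩
  rw [mul_one, hone] at hcong
  -- eigenvalues
  obtain ⟨n', ρ, rfl⟩ := hχ
  obtain ⟨μ, hμ1, hμ2, _⟩ := exists_eigenvalues ρ g
  have hfin : Module.finrank ℂ (Fin n' → ℂ) = n := by
    have h0 := hμ2 0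
    simp only [pow_zero, Finset.sum_const, Finset.card_univ, Fintype.card_fin, nsmul_eq_mul,
      mul_one] at h0
    rw [hone] at h0
    exact (Nat.cast_injective h0).symm
  obtain ⟨m₀, hm₀⟩ : ∃ m₀, m₀ = (Finset.univ.filter (fun i => μ i = 1)).card := ⟨_, rfl⟩
  obtain ⟨m₁, hm₁⟩ : ∃ m₁, m₁ = (Finset.univ.filter (fun i => μ i ^ p = 1)).card := ⟨_, rfl⟩
  have h01 : m₀ ≤ m₁ := by
    rw [hm₀, hm₁]
    apply Finset.card_le_card
    intro i hi
    rw [Finset.mem_filter] at hi ⊢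
    refine ⟨hi.1, ?_⟩
    rw [hi.2, one_pow]
  have h1n : m₁ ≤ n := by
    rw [hm₁, ← hfin]
    calc (Finset.univ.filter (fun i => μ i ^ p = 1)).card
        ≤ (Finset.univ : Finset (Fin (Module.finrank ℂ (Fin n' → ℂ)))).card :=
          Finset.card_le_card (Finset.filter_subset _ _)
      _ = Module.finrank ℂ (Fin n' → ℂ) := by rw [Finset.card_univ, Fintype.card_fin]
  -- the key identity
  have hkey : ((p : ℂ) - 1) * ρ.character g = (p : ℂ) * (m₀ : ℂ) - (m₁ : ℂ) := by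
    have hT1 : ∑ t ∈ (Finset.range (p * Q)).filter (fun t => ¬ p ∣ t), ρ.character (g ^ t)
        = ∑ t ∈ (Finset.range (p * Q)).filter (fun t => ¬ p ∣ t), ρ.character g := by
      apply Finset.sum_congr rfl
      intro t ht
      rw [Finset.mem_filter] at ht
      exact hpow t ht.2
    have hT2 : ∑ t ∈ (Finset.range (p * Q)).filter (fun t => ¬ p ∣ t), ρ.character (g ^ t)
        = (p : ℂ) * (Q : ℂ) * (m₀ : ℂ) - (Q : ℂ) * (m₁ : ℂ) := by
      have e1 : ∀ t, ρ.character (g ^ t) = ∑ i, μ i ^ t := hμ2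
      rw [Finset.sum_congr rfl (fun t _ => e1 t), Finset.sum_comm]
      have e2 : ∀ i, ∑ t ∈ (Finset.range (p * Q)).filter (fun t => ¬ p ∣ t), μ i ^ t
          = (if μ i = 1 then ((p * Q : ℕ) : ℂ) else 0) - (if μ i ^ p = 1 then (Q : ℂ) else 0) :=
        fun i => sum_pow_coprime p hp Q (μ i) (by rw [← hord]; exact hμ1 i)
      rw [Finset.sum_congr rfl (fun i _ => e2 i)]
      simp only [Finset.sum_sub_distrib, Finset.sum_ite, Finset.sum_const, Finset.sum_const_zero,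
        add_zero, nsmul_eq_mul]
      rw [← hm₀, ← hm₁]
      push_cast
      ring
    have hT3 : ((Finset.range (p * Q)).filter (fun t => ¬ p ∣ t)).card
        = p * Q - Q := by
      have := sum_pow_coprime p hp Q 1 (one_pow _)
      simp only [one_pow, Finset.sum_const, nsmul_eq_mul, mul_one, if_true] at this
      have hle : Q ≤ p * Q := Nat.le_mul_of_pos_left Q hp.pos
      have h2 : (((Finset.range (p * Q)).filter (fun t => ¬ p ∣ t)).card : ℂ)
          = ((p * Q - Q : ℕ) : ℂ) := by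
        rw [this, Nat.cast_sub hle]
      exact Nat.cast_injective h2
    rw [hT1, Finset.sum_const, nsmul_eq_mul, hT3] at hT2
    have hle : Q ≤ p * Q := Nat.le_mul_of_pos_left Q hp.pos
    rw [Nat.cast_sub hle] at hT2
    push_cast at hT2
    have hQC : (Q : ℂ) ≠ 0 := Nat.cast_ne_zero.mpr hQ0
    apply mul_left_cancel₀ hQC
    rw [← sub_eq_zero] at hT2 ⊢
    rw [← hT2]
    ring
  -- integrality
  have hp1 : ((p : ℂ) - 1) ≠ 0 := by
    intro h
    have h2 : (p : ℂ) = 1 := sub_eq_zero.mp h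
    exact hp.one_lt.ne' (by exact_mod_cast h2)
  have hq : ρ.character g
      = ((((p : ℤ) * (m₀ : ℤ) - (m₁ : ℤ) : ℤ) : ℚ) / (((p : ℤ) - 1 : ℤ) : ℚ) : ℚ) := by
    push_cast
    rw [eq_div_iff hp1, mul_comm]
    exact hkey
  obtain ⟨c, hc⟩ := exists_int_of_isIntegral_of_rat _ hq (char_isIntegral ρ g)
  have hcz : ((p : ℤ) - 1) * c = (p : ℤ) * (m₀ : ℤ) - (m₁ : ℤ) := by
    have : ((((p : ℤ) - 1) * c : ℤ) : ℂ) = (((p : ℤ) * (m₀ : ℤ) - (m₁ : ℤ) : ℤ) : ℂ) := by
      push_cast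
      rw [← hc]
      exact hkey
    exact_mod_cast this
  have hpdvd : (p : ℤ) ∣ c - (n : ℤ) := by
    apply dvd_of_memLocalIdeal_intCast hM
    rw [hc] at hcong
    push_cast
    exact hcong
  have hcn : c ≠ (n : ℤ) := by
    intro h
    apply hne
    rw [hone, hc, h]
    simp
  have hp1pos : (0 : ℤ) < (p : ℤ) - 1 := by
    have : (1 : ℤ) < (p : ℤ) := by exact_mod_cast hp.one_lt
    linarith
  have hcle : c ≤ (n : ℤ) := by
    have h1 : ((p : ℤ) - 1) * c ≤ ((p : ℤ) - 1) * (n : ℤ) := by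
      rw [hcz]
      have h01' : (m₀ : ℤ) ≤ (m₁ : ℤ) := by exact_mod_cast h01
      have h1n' : (m₁ : ℤ) ≤ (n : ℤ) := by exact_mod_cast h1n
      nlinarith
    exact le_of_mul_le_mul_left h1 hp1pos
  obtain ⟨s', hs'⟩ := hpdvd
  -- `c - n = p s'`, so `s' < 0`
  have hs'neg : s' < 0 := by
    have h1 : c - (n : ℤ) < 0 := by
      have := lt_of_le_of_ne hcle hcn
      linarith
    rw [hs'] at h1
    have hppos : (0 : ℤ) < (p : ℤ) := by exact_mod_cast hp.pos
    by_contra hge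
    push Not at hge
    have : 0 ≤ (p : ℤ) * s' := mul_nonneg hppos.le hge
    linarith
  obtain ⟨s, hs⟩ : ∃ s : ℕ, (s : ℤ) = -s' := ⟨(-s').toNat, Int.toNat_of_nonneg (by linarith)⟩
  refine ⟨s, ?_, ?_, ?_⟩
  · have : (0 : ℤ) < (s : ℤ) := by rw [hs]; linarith
    exact_mod_cast this
  · rw [Nat.le_div_iff_mul_le (Nat.sub_pos_of_lt hp.one_lt)]
    have h1 : ((p : ℤ) - 1) * c ≥ -(n : ℤ) := by
      rw [hcz]
      have h1n' : (m₁ : ℤ) ≤ (n : ℤ) := by exact_mod_cast h1n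
      have hm0' : (0 : ℤ) ≤ (m₀ : ℤ) := by exact_mod_cast Nat.zero_le m₀
      have hppos : (0 : ℤ) < (p : ℤ) := by exact_mod_cast hp.pos
      nlinarith
    have hceq : c = (n : ℤ) - (p : ℤ) * (s : ℤ) := by
      rw [hs]
      linarith
    rw [hceq] at h1
    have hppos : (0 : ℤ) < (p : ℤ) := by exact_mod_cast hp.pos
    have h2 : (p : ℤ) * (((p : ℤ) - 1) * (s : ℤ)) ≤ (p : ℤ) * (n : ℤ) := by nlinarith
    have h3 : ((p : ℤ) - 1) * (s : ℤ) ≤ (n : ℤ) := le_of_mul_le_mul_left h2 hppos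
    have h4 : ((s * (p - 1) : ℕ) : ℤ) ≤ (n : ℤ) := by
      rw [Nat.cast_mul, Nat.cast_sub hp.one_lt.le]
      push_cast
      linarith
    exact_mod_cast h4
  · rw [hc]
    congr 1
    rw [hs]
    linarith

end Values2

section Main2

variable {G : Type*} [Group G] [Finite G]

/-- **Schur**, kernel form: for a `p`-subgroup `H` on which the character `χ` is invariant under
`p′`-powers, `|H|` divides `|{u ∈ H : χ u = χ 1}| · p^k k!`, `k = ⌊χ(1) / (p - 1)⌋`. -/
theorem card_pSubgroup_dvd' (p : ℕ) (hp : p.Prime) (χ : G → ℂ) (hχ : Cfsg.IsCharacter G χ)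
    (H : Subgroup G) (hH : IsPGroup p H)
    (hpow : ∀ u ∈ H, ∀ t : ℕ, ¬ p ∣ t → χ (u ^ t) = χ u) :
    Nat.card H ∣ Nat.card {u : H // χ u = χ 1} *
      (p ^ (Cfsg.charDegree χ / (p - 1)) * (Cfsg.charDegree χ / (p - 1)).factorial) := by
  classical
  haveI : Fact p.Prime := ⟨hp⟩
  haveI : Fintype H := Fintype.ofFinite _
  obtain ⟨n, hn⟩ : ∃ n, n = Cfsg.charDegree χ := ⟨_, rfl⟩
  obtain ⟨k, hk⟩ : ∃ k, k = n / (p - 1) := ⟨_, rfl⟩
  rw [← hn, ← hk]
  have hone : χ 1 = (n : ℂ) := by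
    rw [hn]
    exact Cfsg.Agent.Lib.Helper25.char_one_eq_charDegree hχ
  obtain ⟨f, hf⟩ : ∃ f : Polynomial ℤ, f = ∏ s ∈ Finset.Ico 1 (k + 1),
      (Polynomial.X - Polynomial.C ((n : ℤ) - (p : ℤ) * (s : ℤ))) := ⟨_, rfl⟩
  have hfn : f.eval (n : ℤ) = ((p ^ k * k.factorial : ℕ) : ℤ) := by
    rw [hf, Polynomial.eval_prod]
    have h1 : ∀ s ∈ Finset.Ico 1 (k + 1),
        (Polynomial.X - Polynomial.C ((n : ℤ) - (p : ℤ) * (s : ℤ))).eval (n : ℤ)
        = (p : ℤ) * (s : ℤ) := by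
      intro s _
      rw [Polynomial.eval_sub, Polynomial.eval_X, Polynomial.eval_C]
      ring
    rw [Finset.prod_congr rfl h1, Finset.prod_mul_distrib, Finset.prod_const, Nat.card_Ico,
      Nat.add_sub_cancel]
    push_cast
    congr 1
    rw [← Finset.prod_Ico_id_eq_factorial]
    push_cast
    rfl
  have hval : ∀ u : H, Polynomial.aeval (χ u) f
      = if χ u = χ 1 then ((p ^ k * k.factorial : ℕ) : ℂ) else 0 := by
    intro u
    by_cases hu : χ u = χ 1
    · rw [if_pos hu, hu, hone]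
      have := Polynomial.aeval_algebraMap_apply_eq_algebraMap_eval (R := ℤ) (A := ℂ) (n : ℤ) f
      rw [hfn] at this
      simpa using this
    · rw [if_neg hu]
      have hup : ∃ j : ℕ, orderOf (u : G) = p ^ j := by
        obtain ⟨j, hj⟩ := (IsPGroup.iff_orderOf.1 hH) u
        exact ⟨j, by rw [Subgroup.orderOf_coe, hj]⟩
      obtain ⟨s, hs1, hsk, hs⟩ := exists_value_eq' p hp χ hχ (u : G) hup (hpow u u.2) hu
      rw [← hn, ← hk] at hsk
      rw [← hn] at hs
      rw [hs]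
      have := Polynomial.aeval_algebraMap_apply_eq_algebraMap_eval (R := ℤ) (A := ℂ)
        ((n : ℤ) - (p : ℤ) * (s : ℤ)) f
      have h0 : f.eval ((n : ℤ) - (p : ℤ) * (s : ℤ)) = 0 := by
        rw [hf, Polynomial.eval_prod]
        apply Finset.prod_eq_zero (Finset.mem_Ico.2 ⟨hs1, Nat.lt_succ_of_le hsk⟩)
        rw [Polynomial.eval_sub, Polynomial.eval_X, Polynomial.eval_C, sub_self]
      rw [h0] at this
      simpa using this
  obtain ⟨Z, hZ⟩ := exists_sum_aeval_eq hχ H f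
  rw [Finset.sum_congr rfl (fun u _ => hval u), Finset.sum_ite, Finset.sum_const_zero, add_zero,
    Finset.sum_const, nsmul_eq_mul] at hZ
  have hcardm : (Finset.univ.filter (fun u : H => χ u = χ 1)).card
      = Nat.card {u : H // χ u = χ 1} := by
    rw [Nat.card_eq_fintype_card, Fintype.card_subtype]
  rw [hcardm] at hZ
  have hZ' : ((Nat.card {u : H // χ u = χ 1} * (p ^ k * k.factorial) : ℕ) : ℤ)
      = (Nat.card H : ℤ) * Z := by
    have : (((Nat.card {u : H // χ u = χ 1} * (p ^ k * k.factorial) : ℕ) : ℤ) : ℂ)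
        = (((Nat.card H : ℤ) * Z : ℤ) : ℂ) := by
      push_cast
      push_cast at hZ
      exact hZ
    exact_mod_cast this
  have : (Nat.card H : ℤ) ∣ ((Nat.card {u : H // χ u = χ 1} * (p ^ k * k.factorial) : ℕ) : ℤ) :=
    ⟨Z, hZ'⟩
  exact Int.natCast_dvd_natCast.mp this

/-- **Schur's bound**, kernel form -/
theorem schur_bound' (p : ℕ) (hp : p.Prime) (χ : G → ℂ) (hχ : Cfsg.IsCharacter G χ)
    (H : Subgroup G) (hH : IsPGroup p H)
    (hpow : ∀ u ∈ H, ∀ t : ℕ, ¬ p ∣ t → χ (u ^ t) = χ u)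
    (m : ℕ) (hm0 : m ≠ 0) (hm : Nat.card {u : H // χ u = χ 1} ∣ m)
    (n : ℕ) (hn : Cfsg.charDegree χ = n) :
    (Nat.card H).factorization p
      ≤ m.factorization p + ∑ i ∈ Finset.range (n + 1), n / ((p - 1) * p ^ i) := by
  haveI : Fact p.Prime := ⟨hp⟩
  have hdvd := card_pSubgroup_dvd' p hp χ hχ H hH hpow
  rw [hn] at hdvd
  obtain ⟨k, hk⟩ : ∃ k, k = n / (p - 1) := ⟨_, rfl⟩
  rw [← hk] at hdvd
  have hdvd2 : Nat.card H ∣ m * (p ^ k * k.factorial) :=
    hdvd.trans (Nat.mul_dvd_mul_right hm _)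
  have hne : m * (p ^ k * k.factorial) ≠ 0 :=
    mul_ne_zero hm0 (mul_ne_zero (pow_ne_zero _ hp.ne_zero) (Nat.factorial_ne_zero k))
  have h1 := (Nat.factorization_le_iff_dvd Nat.card_pos.ne' hne).2 hdvd2 p
  rw [Nat.factorization_mul hm0 (mul_ne_zero (pow_ne_zero _ hp.ne_zero) (Nat.factorial_ne_zero k)),
    Nat.factorization_mul (pow_ne_zero _ hp.ne_zero) (Nat.factorial_ne_zero k),
    Nat.Prime.factorization_pow hp] at h1
  simp only [Finsupp.coe_add, Pi.add_apply, Finsupp.single_eq_same] at h1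
  have hterm : ∀ i, n / ((p - 1) * p ^ i) = k / p ^ i := by
    intro i
    rw [hk, Nat.div_div_eq_div_mul]
  rw [Finset.sum_congr rfl (fun i _ => hterm i), Finset.range_eq_Ico,
    Finset.sum_eq_sum_Ico_succ_bot (Nat.succ_pos n), pow_zero, Nat.div_one]
  have hkn : k ≤ n := by
    rw [hk]
    exact Nat.div_le_self _ _
  have hlog : Nat.log p k < n + 1 := by
    have := Nat.log_le_self p k
    omega
  have h3 := (Nat.Prime.pow_dvd_factorial_iff hp hlog).1
    (Nat.ordProj_dvd (k.factorial) p)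
  show (Nat.card H).factorization p
    ≤ m.factorization p + (k + ∑ i ∈ Finset.Ico 1 (n + 1), k / p ^ i)
  omega

end Main2

end Cfsg.Agent.Lib.Helper24
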