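import Mathlib
import Cfsg.Agent.Lib.Helper24.SchurBound2
import Cfsg.Agent.Lib.Helper24.CanonInd
import Cfsg.Agent.Lib.Helper25.Unitary

/-!
# Schur's bound for a `p`-group acting on a `p'`-group (helper24 library)

`K ⊴ Γ` a `p'`-subgroup of `p`-power index, `χ` a character of `Γ` faithful on `K`, `P ≤ Γ` a
`p`-subgroup: `ν_p |P| ≤ ν_p |C_P(K)| + Σ_i ⌊χ(1) / ((p - 1) p^i)⌋`.
-/

set_option autoImplicit false
set_option linter.unusedSectionVars false
set_option linter.style.haveILetI false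
set_option linter.unusedVariables false

namespace Cfsg.Agent.Lib.Helper24

open Cfsg

theorem schurSum_mono (p : ℕ) {n' n : ℕ} (h : n' ≤ n) :
    ∑ i ∈ Finset.range (n' + 1), n' / ((p - 1) * p ^ i)
      ≤ ∑ i ∈ Finset.range (n + 1), n / ((p - 1) * p ^ i) := by
  calc ∑ i ∈ Finset.range (n' + 1), n' / ((p - 1) * p ^ i)
      ≤ ∑ i ∈ Finset.range (n' + 1), n / ((p - 1) * p ^ i) :=
        Finset.sum_le_sum (fun i _ => Nat.div_le_div_right h)
    _ ≤ ∑ i ∈ Finset.range (n + 1), n / ((p - 1) * p ^ i) :=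
        Finset.sum_le_sum_of_subset (Finset.range_mono (by omega))

section Over

variable {Γ : Type*} [Group Γ] [Finite Γ]

/-- the kernel of a character, as a normal subgroup -/
theorem exists_ker_subgroup {Ψ : Γ → ℂ} (hΨ : IsCharacter Γ Ψ) :
    ∃ N : Subgroup Γ, N.Normal ∧ ∀ g : Γ, g ∈ N ↔ Ψ g = Ψ 1 := by
  haveI : Fintype Γ := Fintype.ofFinite Γ
  obtain ⟨d, ρ, rfl⟩ := hΨ
  refine ⟨MonoidHom.ker ρ, inferInstance, ?_⟩
  intro g
  rw [MonoidHom.mem_ker]
  constructor
  · intro h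
    show LinearMap.trace ℂ _ (ρ g) = LinearMap.trace ℂ _ (ρ 1)
    rw [h, map_one ρ]
  · intro h
    apply Helper25.apply_eq_one_of_character_eq ρ g
    rw [h]
    exact Representation.char_one ρ

theorem schur_bound_over (p : ℕ) (hp : p.Prime)
    (K P : Subgroup Γ) [hK : K.Normal] (hKp : (Nat.card K).Coprime p)
    (hidx : ∃ b : ℕ, K.index = p ^ b) (hP : IsPGroup p P)
    (χ : Γ → ℂ) (hχ : IsCharacter Γ χ) (hf : ∀ k : K, χ k = χ 1 → k = 1)
    (C : Subgroup Γ) (hC : ∀ u ∈ P, (∀ k ∈ K, u * k = k * u) → u ∈ C)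
    (n : ℕ) (hn : charDegree χ = n) :
    (Nat.card P).factorization p
      ≤ (Nat.card (P ⊓ C : Subgroup Γ)).factorization p
        + ∑ i ∈ Finset.range (n + 1), n / ((p - 1) * p ^ i) := by
  classical
  haveI : Fintype Γ := Fintype.ofFinite Γ
  haveI : Fact p.Prime := ⟨hp⟩
  obtain ⟨b, hb⟩ := hidx
  have hcop : Nat.Coprime K.index (Nat.card K) := by
    rw [hb]
    exact (Nat.Coprime.pow_right b hKp).symm
  obtain ⟨Ψ, hΨ, hdeg, hker, hpowΨ⟩ := CanonInd.exists_rational_over K hcop hχ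
  obtain ⟨N, hNn, hN⟩ := exists_ker_subgroup hΨ
  have hcardΓ : Nat.card Γ = Nat.card K * p ^ b := by
    rw [← hb]
    exact (Subgroup.card_mul_index K).symm
  -- elements of `N ⊓ P` centralize `K`
  have hcent : ∀ u ∈ P, u ∈ N → ∀ k ∈ K, u * k = k * u := by
    intro u _ huN k hk
    have hcN : u * k * u⁻¹ * k⁻¹ ∈ N := by
      have h1 : k * u⁻¹ * k⁻¹ ∈ N := hNn.conj_mem _ (inv_mem huN) k
      have h2 := mul_mem huN h1
      have e : u * (k * u⁻¹ * k⁻¹) = u * k * u⁻¹ * k⁻¹ := by group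
      rw [e] at h2
      exact h2
    have hcK : u * k * u⁻¹ * k⁻¹ ∈ K := mul_mem (hK.conj_mem k hk u) (inv_mem hk)
    have h3 : Ψ (u * k * u⁻¹ * k⁻¹) = Ψ 1 := (hN _).1 hcN
    have h4 := hf ⟨_, hcK⟩ (hker ⟨_, hcK⟩ h3)
    have h5 : u * k * u⁻¹ * k⁻¹ = 1 := congrArg Subtype.val h4
    calc u * k = (u * k * u⁻¹ * k⁻¹) * (k * u) := by group
      _ = k * u := by rw [h5, one_mul]
  -- the kernel in `P` embeds in `P ⊓ C`
  have hmem : ∀ x : (N.subgroupOf P), ((x : P) : Γ) ∈ P ⊓ C := by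
    intro x
    have hxN : ((x : P) : Γ) ∈ N := Subgroup.mem_subgroupOf.1 x.2
    exact ⟨(x : P).2, hC _ (x : P).2 (hcent _ (x : P).2 hxN)⟩
  have hdvd : Nat.card {u : P // Ψ u = Ψ 1} ∣ Nat.card (P ⊓ C : Subgroup Γ) := by
    have e1 : Nat.card {u : P // Ψ u = Ψ 1} = Nat.card (N.subgroupOf P) := by
      apply Nat.card_congr
      exact Equiv.subtypeEquivRight (fun u => by
        rw [Subgroup.mem_subgroupOf]
        exact (hN _).symm)
    rw [e1]
    apply Subgroup.card_dvd_of_injective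
      ((P.subtype.comp (N.subgroupOf P).subtype).codRestrict (P ⊓ C) hmem)
    intro x y hxy
    have := congrArg Subtype.val hxy
    apply Subtype.ext
    apply Subtype.ext
    exact this
  -- the order of `P` divides `p ^ b`
  obtain ⟨c, hc⟩ := hP.exists_card_eq
  have hPdvd : Nat.card P ∣ p ^ b := by
    have h1 : Nat.card P ∣ Nat.card K * p ^ b := by
      rw [← hcardΓ]
      exact Subgroup.card_subgroup_dvd_card P
    apply Nat.Coprime.dvd_of_dvd_mul_left _ h1
    rw [hc]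
    exact (Nat.Coprime.pow_right c hKp).symm
  -- invariance under `p'`-powers
  have hpow : ∀ u ∈ P, ∀ t : ℕ, ¬ p ∣ t → Ψ (u ^ t) = Ψ u := by
    intro u hu t ht
    have hco : Nat.Coprime (p ^ (b + 1)) (Nat.card K) :=
      (Nat.Coprime.pow_right (b + 1) hKp).symm
    obtain ⟨k, hk1, hk2⟩ := Nat.chineseRemainder hco t 1
    have hkK : k.Coprime (Nat.card K) := by
      have := hk2.gcd_eq
      rw [Nat.Coprime, this]
      exact Nat.gcd_one_left _
    have hkp : k.Coprime p := by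
      have h1 : k ≡ t [MOD p] := hk1.of_dvd (dvd_pow_self p (Nat.succ_ne_zero b))
      have := h1.gcd_eq
      rw [Nat.Coprime, this]
      exact ((Nat.Prime.coprime_iff_not_dvd hp).2 ht).symm
    have hkΓ : k.Coprime (Nat.card Γ) := by
      rw [hcardΓ]
      exact Nat.Coprime.mul_right hkK (Nat.Coprime.pow_right b hkp)
    have hord : orderOf u ∣ p ^ (b + 1) := by
      have h1 : orderOf u ∣ Nat.card P := by
        have := orderOf_dvd_natCard (⟨u, hu⟩ : P)
        rwa [← Subgroup.orderOf_coe] at this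
      exact (h1.trans hPdvd).trans (pow_dvd_pow p (Nat.le_succ b))
    have hpw : u ^ k = u ^ t := by
      rw [pow_eq_pow_iff_modEq]
      exact hk1.of_dvd hord
    rw [← hpw]
    exact hpowΨ k hkΓ hk2 u
  have hm0 : Nat.card (P ⊓ C : Subgroup Γ) ≠ 0 := Nat.card_pos.ne'
  have h1 := schur_bound' p hp Ψ hΨ P hP hpow _ hm0 hdvd (charDegree Ψ) rfl
  have h2 := schurSum_mono p (hn ▸ hdeg : charDegree Ψ ≤ n)
  omega

end Over

section Ambient

variable {G : Type*} [Group G] [Finite G]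

/-- **Schur's bound for a `p`-subgroup normalizing a `p'`-subgroup on which the character is
faithful.** -/
theorem schur_bound_normalizer (p : ℕ) (hp : p.Prime)
    (K P : Subgroup G) (hKp : (Nat.card K).Coprime p) (hP : IsPGroup p P)
    (hPK : P ≤ Subgroup.normalizer (K : Set G))
    (χ : G → ℂ) (hχ : IsCharacter G χ) (hf : ∀ k ∈ K, χ k = χ 1 → k = 1)
    (C : Subgroup G) (hC : ∀ u ∈ P, (∀ k ∈ K, u * k = k * u) → u ∈ C)
    (n : ℕ) (hn : charDegree χ = n) :
    (Nat.card P).factorization p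
      ≤ (Nat.card (P ⊓ C : Subgroup G)).factorization p
        + ∑ i ∈ Finset.range (n + 1), n / ((p - 1) * p ^ i) := by
  classical
  haveI : Fact p.Prime := ⟨hp⟩
  obtain ⟨X, hX⟩ : ∃ X : Subgroup G, X = K ⊔ P := ⟨_, rfl⟩
  have hKX : K ≤ X := by rw [hX]; exact le_sup_left
  have hPX : P ≤ X := by rw [hX]; exact le_sup_right
  have hXN : X ≤ Subgroup.normalizer (K : Set G) := by
    rw [hX]
    exact sup_le Subgroup.le_normalizer hPK
  haveI hK'n : (K.subgroupOf X).Normal :=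
    (Subgroup.normal_subgroupOf_iff_le_normalizer hKX).2 hXN
  have hcardK : Nat.card (K.subgroupOf X) = Nat.card K :=
    Nat.card_congr (Subgroup.subgroupOfEquivOfLe hKX).toEquiv
  have hcardP : Nat.card (P.subgroupOf X) = Nat.card P :=
    Nat.card_congr (Subgroup.subgroupOfEquivOfLe hPX).toEquiv
  have hP' : IsPGroup p (P.subgroupOf X) :=
    hP.comap_of_injective X.subtype X.subtype_injective
  have htop : K.subgroupOf X ⊔ P.subgroupOf X = ⊤ := by
    rw [← Subgroup.subgroupOf_sup hKX hPX, ← hX, Subgroup.subgroupOf_self]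
  have hquot : IsPGroup p (↥X ⧸ K.subgroupOf X) := by
    intro q
    obtain ⟨x, rfl⟩ := QuotientGroup.mk_surjective q
    have hx : x ∈ ((K.subgroupOf X ⊔ P.subgroupOf X : Subgroup X) : Set X) := by
      rw [htop]
      trivial
    rw [Subgroup.normal_mul] at hx
    obtain ⟨k, hk, u, hu, rfl⟩ := hx
    obtain ⟨j, hj⟩ := hP' ⟨u, hu⟩
    refine ⟨j, ?_⟩
    have h1 : ((k * u : X) : ↥X ⧸ K.subgroupOf X) = ((u : X) : ↥X ⧸ K.subgroupOf X) := by
      rw [QuotientGroup.mk_mul, (QuotientGroup.eq_one_iff k).2 hk, one_mul]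
    rw [h1, ← QuotientGroup.mk_pow]
    have h2 : u ^ p ^ j = 1 := congrArg Subtype.val hj
    rw [h2]
    rfl
  have hidx : ∃ b : ℕ, (K.subgroupOf X).index = p ^ b := by
    obtain ⟨b, hb⟩ := hquot.exists_card_eq
    exact ⟨b, by rw [Subgroup.index_eq_card, hb]⟩
  obtain ⟨χ', hχ'def⟩ : ∃ χ' : X → ℂ, χ' = fun x : X => χ x := ⟨_, rfl⟩
  have hχ' : IsCharacter X χ' := by
    rw [hχ'def]
    exact Helper2.IsCharacter.restrict hχ X
  have hn' : charDegree χ' = n := by
    have h1 := Helper25.char_one_eq_charDegree hχ'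
    have h2 := Helper25.char_one_eq_charDegree hχ
    have h3 : χ' 1 = χ 1 := by
      rw [hχ'def]
      simp
    rw [h3, h2, hn] at h1
    exact_mod_cast h1.symm
  have hf' : ∀ k : K.subgroupOf X, χ' k = χ' 1 → k = 1 := by
    intro k hk
    have h1 : χ ((k : X) : G) = χ 1 := by
      rw [hχ'def] at hk
      simpa using hk
    have h2 := hf _ (Subgroup.mem_subgroupOf.1 k.2) h1
    apply Subtype.ext
    apply Subtype.ext
    exact h2
  have hC' : ∀ u ∈ P.subgroupOf X, (∀ k ∈ K.subgroupOf X, u * k = k * u) →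
      u ∈ C.subgroupOf X := by
    intro u hu hcomm
    rw [Subgroup.mem_subgroupOf]
    apply hC _ (Subgroup.mem_subgroupOf.1 hu)
    intro k hk
    have := hcomm ⟨k, hKX hk⟩ (Subgroup.mem_subgroupOf.2 hk)
    exact congrArg Subtype.val this
  have hmain := schur_bound_over p hp (K.subgroupOf X) (P.subgroupOf X)
    (by rw [hcardK]; exact hKp) hidx hP' χ' hχ' hf' (C.subgroupOf X) hC' n hn'
  have hcardPC : Nat.card (P.subgroupOf X ⊓ C.subgroupOf X : Subgroup X)
      = Nat.card (P ⊓ C : Subgroup G) := by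
    have h1 : P.subgroupOf X ⊓ C.subgroupOf X = (P ⊓ C).subgroupOf X := by
      ext x
      simp [Subgroup.mem_subgroupOf]
    rw [h1]
    exact Nat.card_congr (Subgroup.subgroupOfEquivOfLe (inf_le_left.trans hPX)).toEquiv
  rw [hcardP, hcardPC] at hmain
  exact hmain

end Ambient

end Cfsg.Agent.Lib.Helper24
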