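import Mathlib
import Cfsg.Agent.Lib.Helper24.GalTwist
import Cfsg.Agent.Lib.Helper24.PGroupStep
import Cfsg.Agent.Lib.Helper24.SchurBound3
import Cfsg.Agent.Lib.Helper11.CyclicTIGalois

/-!
# Order of a `p`-group with a faithful irreducible character, by degree and field of values
(helper24 library)

`P` a `p`-group, `χ ∈ Irr(P)` with `|P : ker χ| = p^a`, `χ(1) = f`, and `[ℚ(χ) : ℚ] ≤ (p-1) p^t`
(in the form `p^A ≤ |galStab (p^A) χ| · p^(t+1)`): `(p-1) a ≤ (f-1) + (p-1)(t+1) f`.
-/

set_option autoImplicit false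
set_option linter.unusedSectionVars false
set_option linter.style.haveILetI false
set_option linter.unusedVariables false

namespace Cfsg.Agent.Lib.Helper24.PGroupField

open Cfsg Cfsg.Agent.Lib Cfsg.Agent.Lib.Helper2 Cfsg.Agent.Lib.Helper24.GalTwist

section Count

/-- the number of units of `ZMod (p^A)` congruent to `1` modulo `p^a` -/
theorem card_units_modEq_one_le (p A a : ℕ) [NeZero (p ^ A)] (hp : 0 < p) (haA : a ≤ A)
    (S : Finset (ZMod (p ^ A))ˣ) (hS : ∀ u ∈ S, (u : ZMod (p ^ A)).val ≡ 1 [MOD p ^ a]) :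
    S.card ≤ p ^ (A - a) := by
  have hpa : 0 < p ^ a := pow_pos hp a
  have h := Finset.card_le_card_of_injOn (s := S) (t := Finset.range (p ^ (A - a)))
    (fun u => (u : ZMod (p ^ A)).val / p ^ a) ?_ ?_
  · rwa [Finset.card_range] at h
  · intro u _
    rw [Finset.coe_range, Set.mem_Iio]
    apply Nat.div_lt_of_lt_mul
    rw [← pow_add, Nat.add_sub_cancel' haA]
    exact ZMod.val_lt _
  · intro u hu v hv huv
    have h1 := hS u hu
    have h2 := hS v hv
    have h3 : (u : ZMod (p ^ A)).val = (v : ZMod (p ^ A)).val := by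
      rw [← Nat.div_add_mod (u : ZMod (p ^ A)).val (p ^ a),
        ← Nat.div_add_mod (v : ZMod (p ^ A)).val (p ^ a)]
      have h4 : (u : ZMod (p ^ A)).val % p ^ a = (v : ZMod (p ^ A)).val % p ^ a := h1.trans h2.symm
      simp only at huv
      rw [huv, h4]
    exact Units.ext (ZMod.val_injective _ h3)

end Count

section Linear

variable {P : Type*} [Group P] [Finite P]

/-- the stabilizer of a linear character with kernel of index `p^a` -/
theorem card_galStab_linear_le (p A a : ℕ) [NeZero (p ^ A)] (hp : 0 < p) (haA : a ≤ A)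
    (φ : P →* ℂˣ) (hidx : φ.ker.index = p ^ a) :
    (galStab (p ^ A) (fun g => ((φ g : ℂˣ) : ℂ))).card ≤ p ^ (A - a) := by
  classical
  haveI : Finite φ.range := Finite.of_surjective φ.rangeRestrict φ.rangeRestrict_surjective
  haveI : IsCyclic φ.range := inferInstance
  obtain ⟨z, hz⟩ := IsCyclic.exists_generator (α := φ.range)
  have hord : orderOf z = p ^ a := by
    rw [orderOf_eq_card_of_forall_mem_zpowers hz, ← Subgroup.index_ker, hidx]
  obtain ⟨g₀, hg₀⟩ := z.2
  apply card_units_modEq_one_le p A a hp haA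
  intro u hu
  rw [mem_galStab] at hu
  have h1 := hu g₀
  have h2 : φ g₀ ^ (u : ZMod (p ^ A)).val = φ g₀ := by
    apply Units.ext
    rw [← map_pow]
    exact h1
  have h3 : z ^ (u : ZMod (p ^ A)).val = z ^ 1 := by
    apply Subtype.ext
    rw [pow_one, SubgroupClass.coe_pow, ← hg₀]
    exact h2
  rw [pow_eq_pow_iff_modEq, hord] at h3
  exact h3

end Linear

section Twist

theorem coprime_val_unit (p A c : ℕ) [NeZero (p ^ A)] (hA : 1 ≤ A) (u : (ZMod (p ^ A))ˣ) :
    Nat.Coprime (u : ZMod (p ^ A)).val (p ^ c) := by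
  have h1 : Nat.Coprime (u : ZMod (p ^ A)).val (p ^ A) := ZMod.val_coe_unit_coprime u
  have h2 : Nat.Coprime (u : ZMod (p ^ A)).val p :=
    Nat.Coprime.coprime_dvd_right (dvd_pow_self p (by omega)) h1
  exact Nat.Coprime.pow_right c h2

variable {H : Type*} [Group H] [Finite H]

theorem pow_pow_eq_one (p A c : ℕ) (hcA : c ≤ A) (hH : Nat.card H = p ^ c) (m : H) :
    m ^ p ^ A = 1 := by
  obtain ⟨d, rfl⟩ := Nat.exists_eq_add_of_le hcA
  rw [pow_add, pow_mul, ← hH, pow_card_eq_one', one_pow]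

/-- Galois twists do not change the kernel -/
theorem twist_apply_eq_one_iff (p A c : ℕ) [NeZero (p ^ A)] (hcA : c ≤ A)
    (hH : Nat.card H = p ^ c) {θ : H → ℂ} (hθ : IsCharacter H θ) (u : (ZMod (p ^ A))ˣ) (m : H) :
    θ (m ^ (u : ZMod (p ^ A)).val) = θ 1 ↔ θ m = θ 1 := by
  obtain ⟨K, _, hK⟩ := exists_ker_subgroup hθ
  rw [← hK, ← hK]
  constructor
  · intro h
    have h2 := K.pow_mem h (u⁻¹ : (ZMod (p ^ A))ˣ).val.val
    rwa [pow_val_inv_mul u (pow_pow_eq_one p A c hcA hH m)] at h2
  · intro h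
    exact K.pow_mem h _

end Twist

section Step

variable {P : Type*} [Group P] [Fintype P] (M : Subgroup P) [hM : M.Normal]

/-- Galois twists fixing the induced character permute the conjugates -/
theorem twist_mem_conjSet (p A c : ℕ) [NeZero (p ^ A)] (hA : 1 ≤ A)
    (hMc : Nat.card M = p ^ c) {θ : M → ℂ} (hθ : IsIrrCharacter M θ)
    (hχ : IsIrrCharacter P (Cfsg.indFun M θ)) (u : (ZMod (p ^ A))ˣ)
    (hu : u ∈ galStab (p ^ A) (Cfsg.indFun M θ)) :
    (fun m : M => θ (m ^ (u : ZMod (p ^ A)).val)) ∈ CanonInd.conjSet M θ := by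
  classical
  haveI : Fintype M := Fintype.ofFinite M
  have hk : Nat.Coprime (u : ZMod (p ^ A)).val (Nat.card M) := by
    rw [hMc]
    exact coprime_val_unit p A c hA u
  have hη : IsIrrCharacter M (fun m : M => θ (m ^ (u : ZMod (p ^ A)).val)) :=
    Helper11.isIrrCharacter_pow_coprime _ hk hθ
  apply PGroupStep.mem_conjSet_of_classInner_ne_zero M hθ hη
  have hχcf := Helper25.isClassFunction_of_char (Helper25.isCharacter_of_irr hχ)
  rw [mem_galStab] at hu
  have hfun : (fun m : M => Cfsg.indFun M θ m)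
      = fun m : M => (fun m' : M => Cfsg.indFun M θ m') (m ^ (u : ZMod (p ^ A)).val) := by
    funext m
    show Cfsg.indFun M θ m = Cfsg.indFun M θ ((m ^ (u : ZMod (p ^ A)).val : M) : P)
    rw [SubgroupClass.coe_pow, hu]
  rw [hfun, Helper11.classInner_comp_pow_coprime _ hk (fun m' : M => Cfsg.indFun M θ m') θ]
  have hnorm : classInner (Cfsg.indFun M θ) (Cfsg.indFun M θ) = 1 :=
    Helper2.classInner_irrCharacter_self (⟨_, hχ⟩ : IrrCharacter P)
  rw [Helper2.frobenius_reciprocity M θ _ hχcf] at hnorm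
  rw [← Helper2.classInner_conj_symm, hnorm, map_one]
  exact one_ne_zero

/-- the index of the stabilizer of `θ` in that of the induced character is at most the number of
conjugates -/
theorem card_galStab_le (p A c : ℕ) [NeZero (p ^ A)] (hA : 1 ≤ A) (hcA : c ≤ A)
    (hMc : Nat.card M = p ^ c) {θ : M → ℂ} (hθ : IsIrrCharacter M θ)
    (hχ : IsIrrCharacter P (Cfsg.indFun M θ)) :
    (galStab (p ^ A) (Cfsg.indFun M θ)).card
      ≤ (galStab (p ^ A) θ).card * (CanonInd.conjSet M θ).card := by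
  classical
  have hpowM : ∀ m : M, m ^ p ^ A = 1 := pow_pow_eq_one p A c hcA hMc
  have hfib : ∀ a ∈ (galStab (p ^ A) (Cfsg.indFun M θ)).image
        (fun u : (ZMod (p ^ A))ˣ => fun m : M => θ (m ^ (u : ZMod (p ^ A)).val)),
      ((galStab (p ^ A) (Cfsg.indFun M θ)).filter
        (fun u : (ZMod (p ^ A))ˣ => (fun m : M => θ (m ^ (u : ZMod (p ^ A)).val)) = a)).card
        ≤ (galStab (p ^ A) θ).card := by
    intro a ha
    obtain ⟨u₁, -, rfl⟩ := Finset.mem_image.1 ha
    apply Finset.card_le_card_of_injOn (fun u : (ZMod (p ^ A))ˣ => u * u₁⁻¹)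
    · intro u hu
      have hu' := (Finset.mem_filter.1 hu).2
      rw [Finset.mem_coe, mem_galStab]
      intro m
      rw [pow_val_mul u u₁⁻¹ (hpowM m)]
      have h1 := congrFun hu' (m ^ (u₁⁻¹ : (ZMod (p ^ A))ˣ).val.val)
      have e1 : (m ^ (u₁⁻¹ : (ZMod (p ^ A))ˣ).val.val) ^ (u : ZMod (p ^ A)).val
          = (m ^ (u : ZMod (p ^ A)).val) ^ (u₁⁻¹ : (ZMod (p ^ A))ˣ).val.val := by
        rw [← pow_mul, ← pow_mul, mul_comm]
      rw [← e1, h1, pow_val_mul_inv u₁ (hpowM m)]
    · intro u _ v _ huv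
      exact mul_right_cancel huv
  have h1 := Finset.card_le_mul_card_image (galStab (p ^ A) (Cfsg.indFun M θ)) _ hfib
  refine h1.trans (Nat.mul_le_mul_left _ (Finset.card_le_card ?_))
  intro a ha
  obtain ⟨u, hu, rfl⟩ := Finset.mem_image.1 ha
  exact twist_mem_conjSet M p A c hA hMc hθ hχ u hu

end Step

section Main

universe u

theorem main (p : ℕ) [hp : Fact p.Prime] (A : ℕ) [NeZero (p ^ A)] (hA : 1 ≤ A) :
    ∀ (b : ℕ) (P : Type u) [Group P] [Finite P], Nat.card P = p ^ b → b ≤ A →
      ∀ (χ : P → ℂ), IsIrrCharacter P χ → ∀ (Nk : Subgroup P), (∀ g, g ∈ Nk ↔ χ g = χ 1) →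
      ∀ a t : ℕ, Nk.index = p ^ a → p ^ A ≤ (galStab (p ^ A) χ).card * p ^ (t + 1) →
      (p - 1) * a ≤ (charDegree χ - 1) + (p - 1) * (t + 1) * charDegree χ := by
  intro b
  induction b using Nat.strong_induction_on with
  | _ b ih =>
  intro P _ _ hcard hbA χ hχ Nk hNk a t hidx hS
  classical
  haveI : Fintype P := Fintype.ofFinite P
  have hp2 : 2 ≤ p := hp.out.two_le
  have hχc := Helper25.isCharacter_of_irr hχ
  have hχ1 := Helper25.char_one_eq_charDegree hχc
  have hPp : IsPGroup p P := IsPGroup.of_card hcard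
  by_cases hdeg : charDegree χ = 1
  · -- the linear case
    have h1 : χ 1 = 1 := by rw [hχ1, hdeg, Nat.cast_one]
    obtain ⟨φ, hφ⟩ := Helper2.exists_monoidHom_of_isIrrCharacter_of_apply_one hχ h1
    have hker : Nk = φ.ker := by
      ext g
      rw [hNk, MonoidHom.mem_ker, hφ]
      simp only [map_one, Units.val_one]
      constructor
      · intro h
        exact Units.ext h
      · intro h
        rw [h]
        rfl
    have haA : a ≤ A := by
      have h2 : Nk.index ∣ Nat.card P := Subgroup.index_dvd_card Nk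
      rw [hidx, hcard] at h2
      exact ((Nat.pow_dvd_pow_iff_le_right hp.out.one_lt).1 h2).trans hbA
    have h3 := card_galStab_linear_le p A a hp.out.pos haA φ (by rw [← hker]; exact hidx)
    rw [← hφ] at h3
    have h4 : p ^ A ≤ p ^ (A - a) * p ^ (t + 1) := hS.trans (Nat.mul_le_mul_right _ h3)
    rw [← pow_add] at h4
    have h5 : A ≤ A - a + (t + 1) := (Nat.pow_le_pow_iff_right hp.out.one_lt).1 h4
    have h6 : a ≤ t + 1 := by omega
    rw [hdeg]
    have h7 : (p - 1) * a ≤ (p - 1) * (t + 1) := Nat.mul_le_mul_left _ h6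
    simpa using h7
  · -- the nonlinear case
    obtain ⟨M, θ, hMco, hMn, hMidx, hθ, hχθ⟩ := PGroupStep.exists_max_induced hPp hχ hdeg
    haveI := hMn
    haveI : Fintype M := Fintype.ofFinite M
    have hcm := Subgroup.card_mul_index M
    rw [hMidx, hcard] at hcm
    have hb0 : b ≠ 0 := by
      rintro rfl
      rw [pow_zero] at hcm
      have := Nat.eq_one_of_mul_eq_one_left hcm
      omega
    obtain ⟨c, rfl⟩ := Nat.exists_eq_succ_of_ne_zero hb0
    have hMc : Nat.card M = p ^ c := by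
      rw [pow_succ] at hcm
      exact Nat.eq_of_mul_eq_mul_right hp.out.pos hcm
    have hcA : c ≤ A := by omega
    have hθc := Helper25.isCharacter_of_irr hθ
    have hθcf := Helper25.isClassFunction_of_char hθc
    have hθ1 := Helper25.char_one_eq_charDegree hθc
    have hθ1ne : θ 1 ≠ 0 := Helper2.IsIrrCharacter.apply_one_ne_zero hθ
    have hχ' : IsIrrCharacter P (Cfsg.indFun M θ) := hχθ ▸ hχ
    have hf : charDegree χ = p * charDegree θ := by
      have h1 : χ 1 = (M.index : ℂ) * θ 1 := by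
        conv_lhs => rw [hχθ]
        exact Helper2.indFun_apply_one M θ
      rw [hχ1, hθ1, hMidx] at h1
      exact_mod_cast h1
    have hf'pos : 1 ≤ charDegree θ := by
      rw [Nat.one_le_iff_ne_zero]
      intro h0
      apply hθ1ne
      rw [hθ1, h0, Nat.cast_zero]
    obtain ⟨Kθ, hKθn, hKθ⟩ := exists_ker_subgroup hθc
    obtain ⟨a', ha'⟩ : ∃ a', Kθ.index = p ^ a' := by
      have h1 : Kθ.index ∣ p ^ c := hMc ▸ Subgroup.index_dvd_card Kθ
      obtain ⟨a', -, h2⟩ := (Nat.dvd_prime_pow hp.out).1 h1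
      exact ⟨a', h2⟩
    have hχ1ne : χ 1 ≠ 0 := Helper2.IsIrrCharacter.apply_one_ne_zero hχ
    have hNkM : Nk ≤ M := by
      intro g hg
      by_contra hgM
      have h1 := (hNk g).1 hg
      rw [hχθ, Helper2.indFun_apply_not_mem M θ hgM] at h1
      apply hχ1ne
      rw [hχθ]
      exact h1.symm
    have hrel : (Nk.subgroupOf M).index * p = p ^ a := by
      rw [← hidx, ← hMidx]
      exact Subgroup.relIndex_mul_index hNkM
    have hmemNk : ∀ m : M, m ∈ Nk.subgroupOf M ↔ ∀ ψ ∈ CanonInd.conjSet M θ, ψ m = ψ 1 := by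
      intro m
      rw [Subgroup.mem_subgroupOf, hNk, hχθ]
      exact PGroupStep.indFun_apply_eq_one_iff M hθc m
    -- switch to subtraction-free arithmetic
    obtain ⟨q, hq⟩ : ∃ q, p = q + 1 := ⟨p - 1, by omega⟩
    obtain ⟨e, he⟩ : ∃ e, charDegree θ = e + 1 := ⟨charDegree θ - 1, by omega⟩
    have hq1 : 1 ≤ q := by omega
    have hgoal : (p - 1) * a ≤ (charDegree χ - 1) + (p - 1) * (t + 1) * charDegree χ
        ↔ q * a ≤ ((q + 1) * e + q) + q * (t + 1) * ((q + 1) * (e + 1)) := by
      rw [hf, he, hq, Nat.add_sub_cancel]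
      have : (q + 1) * (e + 1) - 1 = (q + 1) * e + q := by
        have : (q + 1) * (e + 1) = (q + 1) * e + q + 1 := by ring
        omega
      rw [this]
    rw [hgoal]
    by_cases hcase : ∀ u ∈ galStab (p ^ A) χ, ∀ m : M, θ (m ^ (u : ZMod (p ^ A)).val) = θ m
    · -- all twists fixing `χ` fix `θ`
      have hsub : galStab (p ^ A) χ ⊆ galStab (p ^ A) θ := by
        intro u hu
        rw [mem_galStab]
        exact hcase u hu
      have hSθ : p ^ A ≤ (galStab (p ^ A) θ).card * p ^ (t + 1) :=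
        hS.trans (Nat.mul_le_mul_right _ (Finset.card_le_card hsub))
      have hIH := ih c (Nat.lt_succ_self c) M hMc hcA θ hθ Kθ hKθ a' t ha' hSθ
      rw [he, hq, Nat.add_sub_cancel, Nat.add_sub_cancel] at hIH
      -- the index bound
      have hchoose : ∀ ψ : {ψ // ψ ∈ CanonInd.conjSet M θ}, ∃ g : P,
          Helper2.conjFun M g θ = ψ.1 := fun ψ => (CanonInd.mem_conjSet M).1 ψ.2
      choose gψ hgψ using hchoose
      obtain ⟨Kf, hKf⟩ : ∃ Kf : {ψ // ψ ∈ CanonInd.conjSet M θ} → Subgroup M,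
          Kf = fun ψ => Kθ.comap (MulAut.conjNormal (H := M) (gψ ψ)).toMonoidHom := ⟨_, rfl⟩
      have hKfmem : ∀ ψ (m : M), m ∈ Kf ψ ↔ ψ.1 m = ψ.1 1 := by
        intro ψ m
        rw [hKf]
        simp only
        rw [Subgroup.mem_comap, hKθ, ← hgψ ψ, Helper2.conjFun_apply, Helper2.conjFun_apply]
        have e1 : (MulAut.conjNormal (H := M) (gψ ψ)).toMonoidHom m
            = ⟨gψ ψ * m * (gψ ψ)⁻¹, hMn.conj_mem m m.2 (gψ ψ)⟩ := by
          apply Subtype.ext
          simp [MulAut.conjNormal_apply]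
        have e2 : (⟨gψ ψ * ((1 : M) : P) * (gψ ψ)⁻¹, hMn.conj_mem _ (1 : M).2 (gψ ψ)⟩ : M) = 1 := by
          apply Subtype.ext
          simp
        rw [e1, e2]
      have hKfidx : ∀ ψ, (Kf ψ).index = p ^ a' := by
        intro ψ
        rw [hKf]
        simp only
        rw [Subgroup.index_comap_of_surjective Kθ
          (f := (MulAut.conjNormal (H := M) (gψ ψ)).toMonoidHom)
          (MulEquiv.surjective (MulAut.conjNormal (H := M) (gψ ψ)))]
        exact ha'
      have hiInf : Nk.subgroupOf M = ⨅ ψ, Kf ψ := by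
        ext m
        rw [hmemNk, Subgroup.mem_iInf]
        constructor
        · intro h ψ
          exact (hKfmem ψ m).2 (h ψ.1 ψ.2)
        · intro h ψ hψ
          exact (hKfmem ⟨ψ, hψ⟩ m).1 (h ⟨ψ, hψ⟩)
      have hidxle : (Nk.subgroupOf M).index ≤ p ^ (a' * p) := by
        rw [hiInf]
        refine (Subgroup.index_iInf_le Kf).trans ?_
        rw [Finset.prod_congr rfl (fun ψ _ => hKfidx ψ), Finset.prod_const, Finset.card_univ,
          Fintype.card_coe, ← pow_mul]
        apply Nat.pow_le_pow_right hp.out.pos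
        apply Nat.mul_le_mul_left
        have := PGroupStep.card_conjSet_le M hθ1ne hθcf
        rwa [hMidx] at this
      have hale : a ≤ a' * p + 1 := by
        have h1 : p ^ a ≤ p ^ (a' * p) * p := hrel ▸ Nat.mul_le_mul_right _ hidxle
        rw [← pow_succ] at h1
        exact (Nat.pow_le_pow_iff_right hp.out.one_lt).1 h1
      rw [hq] at hale
      nlinarith [hale, hIH, Nat.mul_le_mul_left q hale]
    · -- some twist fixing `χ` moves `θ`
      push Not at hcase
      obtain ⟨u₀, hu₀, m₀, hm₀⟩ := hcase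
      have hu₀' : u₀ ∈ galStab (p ^ A) (Cfsg.indFun M θ) := hχθ ▸ hu₀
      have hη := twist_mem_conjSet M p A c hA hMc hθ hχ' u₀ hu₀'
      obtain ⟨g₀, hg₀⟩ := (CanonInd.mem_conjSet M).1 hη
      have hg₀M : g₀ ∉ M := by
        intro h
        rw [Helper2.conjFun_of_mem M hθcf h] at hg₀
        exact hm₀ (congrFun hg₀ m₀).symm
      obtain ⟨K', hK'⟩ : ∃ K' : Subgroup P, K' = Kθ.map M.subtype := ⟨_, rfl⟩
      have hK'M : K' ≤ M := by
        rw [hK']
        exact Subgroup.map_subtype_le _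
      have hmemK' : ∀ m : M, (m : P) ∈ K' ↔ θ m = θ 1 := by
        intro m
        rw [hK', ← hKθ]
        exact Subgroup.mem_map_iff_mem M.subtype_injective (x := m)
      have hnM : M ≤ Subgroup.normalizer (K' : Set P) := by
        have h1 := Subgroup.le_normalizer_map (H := Kθ) M.subtype
        rw [Subgroup.normalizer_eq_top_iff.2 hKθn, ← MonoidHom.range_eq_map,
          Subgroup.range_subtype] at h1
        rw [hK']
        exact h1
      have hg₀n : g₀ ∈ Subgroup.normalizer (K' : Set P) := by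
        rw [Subgroup.mem_normalizer_iff]
        intro n
        by_cases hn : n ∈ M
        · have hc : g₀ * n * g₀⁻¹ ∈ M := hMn.conj_mem n hn g₀
          have h1 := hmemK' ⟨n, hn⟩
          have h2 := hmemK' ⟨g₀ * n * g₀⁻¹, hc⟩
          simp only at h1 h2
          rw [h1, h2]
          have h3 : θ ⟨g₀ * n * g₀⁻¹, hc⟩ = θ ((⟨n, hn⟩ : M) ^ (u₀ : ZMod (p ^ A)).val) :=
            congrFun hg₀ ⟨n, hn⟩
          rw [h3]
          exact (twist_apply_eq_one_iff p A c hcA hMc hθc u₀ ⟨n, hn⟩).symm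
        · constructor
          · intro h
            exact absurd (hK'M h) hn
          · intro h
            exfalso
            apply hn
            have h1 := hMn.conj_mem _ (hK'M h) g₀⁻¹
            simpa [mul_assoc] using h1
      have hntop : Subgroup.normalizer (K' : Set P) = ⊤ := by
        apply hMco.2
        exact lt_of_le_of_ne hnM (fun h => hg₀M (h ▸ hg₀n))
      have hconjK' : ∀ (g n : P), n ∈ K' ↔ g * n * g⁻¹ ∈ K' := by
        intro g n
        have hg : g ∈ Subgroup.normalizer (K' : Set P) := by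
          rw [hntop]
          trivial
        exact Subgroup.mem_normalizer_iff.1 hg n
      have hall : ∀ ψ ∈ CanonInd.conjSet M θ, ∀ m : M, ψ m = ψ 1 ↔ θ m = θ 1 := by
        intro ψ hψ m
        rw [PGroupStep.conjSet_apply_one M hψ]
        obtain ⟨g, rfl⟩ := (CanonInd.mem_conjSet M).1 hψ
        rw [Helper2.conjFun_apply, ← hmemK' m, hconjK' g (m : P)]
        exact (hmemK' ⟨g * m * g⁻¹, hMn.conj_mem m m.2 g⟩).symm
      have hNkKθ : Nk.subgroupOf M = Kθ := by
        ext m
        rw [hmemNk, hKθ]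
        constructor
        · intro h
          exact (hall θ (CanonInd.self_mem_conjSet M θ) m).1 (h θ (CanonInd.self_mem_conjSet M θ))
        · intro h ψ hψ
          exact (hall ψ hψ m).2 h
      have haeq : a = a' + 1 := by
        rw [hNkKθ, ha', ← pow_succ] at hrel
        exact (Nat.pow_right_injective hp.out.two_le hrel).symm
      have hcount := card_galStab_le M p A c hA hcA hMc hθ hχ'
      rw [← hχθ] at hcount
      have hΘ : (CanonInd.conjSet M θ).card ≤ p := by
        have := PGroupStep.card_conjSet_le M hθ1ne hθcf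
        rwa [hMidx] at this
      have hSθ : p ^ A ≤ (galStab (p ^ A) θ).card * p ^ (t + 1 + 1) := by
        calc p ^ A ≤ (galStab (p ^ A) χ).card * p ^ (t + 1) := hS
          _ ≤ ((galStab (p ^ A) θ).card * p) * p ^ (t + 1) :=
              Nat.mul_le_mul_right _ (hcount.trans (Nat.mul_le_mul_left _ hΘ))
          _ = (galStab (p ^ A) θ).card * p ^ (t + 1 + 1) := by ring
      have hIH := ih c (Nat.lt_succ_self c) M hMc hcA θ hθ Kθ hKθ a' (t + 1) ha' hSθ
      rw [he, hq, Nat.add_sub_cancel, Nat.add_sub_cancel] at hIH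
      rw [haeq]
      nlinarith [hIH, Nat.mul_le_mul hq1 (Nat.zero_le e), Nat.zero_le (q * e),
        Nat.zero_le (q * t), Nat.zero_le (q * t * e), Nat.zero_le (q * q * e),
        Nat.zero_le (q * q * t * e), Nat.zero_le (q * q * t), Nat.mul_le_mul hq1 hq1]

end Main

end Cfsg.Agent.Lib.Helper24.PGroupField
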