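import Mathlib
import Cfsg.Prelude.Def_Blocks
import Cfsg.Prelude.Def_BlockLocal
import Cfsg.Agent.Lib.Helper24.Knorr2
import Cfsg.Agent.Lib.Helper24.KnorrStab
import Cfsg.Agent.Lib.Helper7.RegularDetermines

/-!
# Blocks of a normal subgroup of `p`-power index covered by a stable block (helper24 library)

`H` a finite group, `L` a normal subgroup of `p`-power index, `Γ` an `r`-group (`r ≠ p`) acting on
`H` by automorphisms preserving `L` and a block `F` of `H`.  Then `Γ` fixes one of the blocks of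
`L` covered by `F` (`exists_fixed_covered_block`).
-/

set_option autoImplicit false

namespace Cfsg.Agent.Lib.Helper24

open Cfsg.Agent.Lib.Helper2 Cfsg.Agent.Lib.Helper7
open scoped ComplexConjugate

section IrrMapAut

variable {K : Type*} [Group K] [Finite K]

theorem irrMap_one_aut (ξ : Cfsg.IrrCharacter K) : irrMap (1 : MulAut K) ξ = ξ := by
  apply Subtype.ext
  funext k
  rfl

theorem irrMap_mul_aut (a b : MulAut K) (ξ : Cfsg.IrrCharacter K) :
    irrMap (a * b) ξ = irrMap a (irrMap b ξ) := by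
  apply Subtype.ext
  funext k
  rfl

end IrrMapAut

section AutRestrict

variable {H : Type*} [Group H] (L : Subgroup H)

/-- restriction to `L` of an automorphism of `H` preserving `L` -/
def autRestrict (γ : MulAut H) (hγ : ∀ h, h ∈ L ↔ γ h ∈ L) : MulAut L where
  toFun l := ⟨γ l, (hγ l).mp l.2⟩
  invFun l := ⟨γ⁻¹ l, (hγ _).mpr (by
    have : γ (γ⁻¹ (l : H)) = l := by simp
    rw [this]; exact l.2)⟩
  left_inv l := by apply Subtype.ext; simp
  right_inv l := by apply Subtype.ext; simp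
  map_mul' a b := by apply Subtype.ext; simp

theorem autRestrict_coe (γ : MulAut H) (hγ : ∀ h, h ∈ L ↔ γ h ∈ L) (l : L) :
    ((autRestrict L γ hγ l : L) : H) = γ l := rfl

theorem autRestrict_symm_coe (γ : MulAut H) (hγ : ∀ h, h ∈ L ↔ γ h ∈ L) (l : L) :
    (((autRestrict L γ hγ).symm l : L) : H) = γ⁻¹ l := rfl

theorem autRestrict_one (h1 : ∀ h, h ∈ L ↔ (1 : MulAut H) h ∈ L) :
    autRestrict L 1 h1 = 1 := by
  ext l
  rfl

theorem autRestrict_mul (a b : MulAut H) (ha : ∀ h, h ∈ L ↔ a h ∈ L)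
    (hb : ∀ h, h ∈ L ↔ b h ∈ L) (hab : ∀ h, h ∈ L ↔ (a * b) h ∈ L) :
    autRestrict L (a * b) hab = autRestrict L a ha * autRestrict L b hb := by
  ext l
  rfl

end AutRestrict

section Over

variable {H : Type*} [Group H] [Fintype H] (L : Subgroup H) [Fintype L]

/-- lying over is preserved by an automorphism of the pair `(H, L)` -/
theorem classInner_irrMap_autRestrict (γ : MulAut H) (hγ : ∀ h, h ∈ L ↔ γ h ∈ L)
    (ξ : Cfsg.IrrCharacter H) (θ : Cfsg.IrrCharacter L) :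
    Cfsg.classInner (fun l : L => (irrMap γ ξ).1 l) (irrMap (autRestrict L γ hγ) θ).1
      = Cfsg.classInner (fun l : L => ξ.1 l) θ.1 := by
  unfold Cfsg.classInner
  congr 1
  rw [← Equiv.sum_comp (autRestrict L γ hγ).toEquiv]
  apply Finset.sum_congr rfl
  intro l _
  have h1 : (irrMap (autRestrict L γ hγ) θ).1 ((autRestrict L γ hγ).toEquiv l) = θ.1 l :=
    irrMap_apply_apply (autRestrict L γ hγ) θ l
  have h2 : (irrMap γ ξ).1 (((autRestrict L γ hγ).toEquiv l : L) : H) = ξ.1 (l : H) := by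
    show (irrMap γ ξ).1 (γ (l : H)) = ξ.1 (l : H)
    exact irrMap_apply_apply γ ξ (l : H)
  show (irrMap γ ξ).1 (((autRestrict L γ hγ).toEquiv l : L) : H)
      * conj ((irrMap (autRestrict L γ hγ) θ).1 ((autRestrict L γ hγ).toEquiv l))
    = ξ.1 (l : H) * conj (θ.1 l)
  rw [h1, h2]

end Over

section Fixed

variable {H : Type*} [Group H] [Fintype H] (L : Subgroup H) [hL : L.Normal] [Fintype L]
variable {p : ℕ} {M : Ideal Cfsg.AlgInt}

/-- `F` covers `b` -/
def Covers (F : Set (Cfsg.IrrCharacter H)) (b : Set (Cfsg.IrrCharacter L)) : Prop :=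
  ∃ ξ ∈ F, ∃ θ ∈ b, Cfsg.classInner (fun l : L => (ξ : H → ℂ) l) (θ : L → ℂ) ≠ 0

theorem covers_cs (F : Set (Cfsg.IrrCharacter H)) (b : Set (Cfsg.IrrCharacter L)) (z : H)
    (h : Covers L F b) : Covers L F (cs L z b) := by
  obtain ⟨ξ, hξ, θ, hθ, hne⟩ := h
  refine ⟨ξ, hξ, conjIrr L (nrm L z) θ, ⟨θ, hθ, rfl⟩, ?_⟩
  have h1 : conjIrr L (nrm L z) θ = Cfsg.Agent.Lib.Helper7.conjIrr L z⁻¹ θ := by
    rw [conjIrr7_eq, inv_inv]
  rw [h1]
  show Cfsg.classInner (fun l : L => (ξ : H → ℂ) l) (conjFun L z⁻¹ (θ : L → ℂ)) ≠ 0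
  rw [classInner_restrict_conjFun L (IrrCharacter.isClassFunction ξ)]
  exact hne

/-- the number of blocks of `L` covered by a block of `H` divides the index of `L` -/
theorem card_covered_dvd_index (hM : Cfsg.IsPModular p M)
    (F : Set (Cfsg.IrrCharacter H)) (hF : Cfsg.IsPBlock M F) :
    Nat.card {b : Set (Cfsg.IrrCharacter L) // Cfsg.IsPBlock M b ∧ Covers L F b} ∣ L.index := by
  classical
  obtain ⟨ξ₀, hξ₀⟩ := isPBlock_nonempty hM hF
  obtain ⟨θ₀, hθ₀⟩ := exists_constituent_restrict L ξ₀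
  obtain ⟨b₀, hb₀, hc₀⟩ : ∃ b₀ : Set (Cfsg.IrrCharacter L), Cfsg.IsPBlock M b₀ ∧ Covers L F b₀ :=
    ⟨Cfsg.blockOf M (θ₀ : L → ℂ), ⟨θ₀, rfl⟩, ξ₀, hξ₀, θ₀, sameBlock_refl hM _, hθ₀⟩
  letI act : MulAction H (Set (Cfsg.IrrCharacter L)) :=
    { smul := fun z b => cs L z b
      one_smul := fun b => cs_one L b
      mul_smul := fun x y b => cs_mul L x y b }
  have hset : {b : Set (Cfsg.IrrCharacter L) | Cfsg.IsPBlock M b ∧ Covers L F b}
      = MulAction.orbit H b₀ := by
    ext b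
    constructor
    · rintro ⟨hb, hc⟩
      obtain ⟨z, hz⟩ := exists_cs_eq_of_covered L hM F hF b b₀ hb hb₀ hc hc₀
      exact ⟨z, hz.symm⟩
    · rintro ⟨z, rfl⟩
      exact ⟨cs_isPBlock L z hb₀, covers_cs L F b₀ z hc₀⟩
  have hcard : Nat.card {b : Set (Cfsg.IrrCharacter L) // Cfsg.IsPBlock M b ∧ Covers L F b}
      = Nat.card (MulAction.orbit H b₀) := by
    have : {b : Set (Cfsg.IrrCharacter L) // Cfsg.IsPBlock M b ∧ Covers L F b}
        = ↥{b : Set (Cfsg.IrrCharacter L) | Cfsg.IsPBlock M b ∧ Covers L F b} := rfl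
    rw [this, hset]
  rw [hcard, Nat.card_coe_set_eq, ← MulAction.index_stabilizer]
  apply Subgroup.index_dvd_of_le
  intro l hl
  rw [MulAction.mem_stabilizer_iff]
  exact le_stabN L b₀ hl

theorem irrMap_autRestrict_one (γ : MulAut H) (hγ : ∀ h, h ∈ L ↔ γ h ∈ L) (h1 : γ = 1)
    (θ : Cfsg.IrrCharacter L) : irrMap (autRestrict L γ hγ) θ = θ := by
  subst h1
  apply Subtype.ext
  funext l
  rfl

theorem irrMap_autRestrict_mul (a b c : MulAut H) (ha : ∀ h, h ∈ L ↔ a h ∈ L)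
    (hb : ∀ h, h ∈ L ↔ b h ∈ L) (hc : ∀ h, h ∈ L ↔ c h ∈ L) (habc : c = a * b)
    (θ : Cfsg.IrrCharacter L) :
    irrMap (autRestrict L c hc) θ = irrMap (autRestrict L a ha) (irrMap (autRestrict L b hb) θ) := by
  subst habc
  apply Subtype.ext
  funext l
  rfl

/-- **an `r`-group of automorphisms of `(H, L)` fixing a block `F` of `H` fixes a block of `L`
covered by `F`**, when `L` has `p`-power index and `r ≠ p` -/
theorem exists_fixed_covered_block (hM : Cfsg.IsPModular p M) (hidx : ∃ m : ℕ, L.index = p ^ m)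
    {Γ : Type*} [Group Γ] (r : ℕ) [Fact r.Prime] (hrp : r ≠ p) (hΓ : IsPGroup r Γ)
    (φ : Γ →* MulAut H) (hφ : ∀ (γ : Γ) (h : H), h ∈ L ↔ φ γ h ∈ L)
    (F : Set (Cfsg.IrrCharacter H)) (hF : Cfsg.IsPBlock M F)
    (hFst : ∀ γ : Γ, ∀ ξ ∈ F, irrMap (φ γ) ξ ∈ F) :
    ∃ b : Set (Cfsg.IrrCharacter L), Cfsg.IsPBlock M b ∧ Covers L F b ∧
      ∀ γ : Γ, irrMap (autRestrict L (φ γ) (hφ γ)) '' b = b := by
  classical
  have hp : p.Prime := hM.1
  have hr : r.Prime := Fact.out
  haveI : Finite {b : Set (Cfsg.IrrCharacter L) // Cfsg.IsPBlock M b ∧ Covers L F b} :=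
    Finite.of_injective (fun b => b.1) Subtype.val_injective
  letI act : MulAction Γ {b : Set (Cfsg.IrrCharacter L) // Cfsg.IsPBlock M b ∧ Covers L F b} :=
    { smul := fun γ b => ⟨irrMap (autRestrict L (φ γ) (hφ γ)) '' b.1,
        isPBlock_image_irrMap _ b.2.1, by
          obtain ⟨ξ, hξ, θ, hθ, hne⟩ := b.2.2
          refine ⟨irrMap (φ γ) ξ, hFst γ ξ hξ, irrMap (autRestrict L (φ γ) (hφ γ)) θ,
            ⟨θ, hθ, rfl⟩, ?_⟩
          rw [classInner_irrMap_autRestrict]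
          exact hne⟩
      one_smul := by
        intro b
        apply Subtype.ext
        show irrMap (autRestrict L (φ 1) (hφ 1)) '' b.1 = b.1
        have : ∀ θ : Cfsg.IrrCharacter L, irrMap (autRestrict L (φ 1) (hφ 1)) θ = θ :=
          fun θ => irrMap_autRestrict_one L (φ 1) (hφ 1) (map_one φ) θ
        rw [show irrMap (autRestrict L (φ 1) (hφ 1)) = id from funext this, Set.image_id]
      mul_smul := by
        intro x y b
        apply Subtype.ext
        show irrMap (autRestrict L (φ (x * y)) (hφ (x * y))) '' b.1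
          = irrMap (autRestrict L (φ x) (hφ x)) '' (irrMap (autRestrict L (φ y) (hφ y)) '' b.1)
        rw [Set.image_image]
        apply Set.image_congr
        intro θ _
        exact irrMap_autRestrict_mul L (φ x) (φ y) (φ (x * y)) (hφ x) (hφ y) (hφ (x * y))
          (map_mul φ x y) θ }
  have hmod := hΓ.card_modEq_card_fixedPoints
    {b : Set (Cfsg.IrrCharacter L) // Cfsg.IsPBlock M b ∧ Covers L F b}
  obtain ⟨m, hm⟩ := hidx
  have hdvd := card_covered_dvd_index L hM F hF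
  rw [hm] at hdvd
  obtain ⟨j, _, hj⟩ := (Nat.dvd_prime_pow hp).mp hdvd
  have hne : (MulAction.fixedPoints Γ
      {b : Set (Cfsg.IrrCharacter L) // Cfsg.IsPBlock M b ∧ Covers L F b}).Nonempty := by
    by_contra hemp
    rw [Set.not_nonempty_iff_eq_empty] at hemp
    rw [hemp, hj] at hmod
    have h0 : Nat.card (↥(∅ : Set {b : Set (Cfsg.IrrCharacter L) //
        Cfsg.IsPBlock M b ∧ Covers L F b})) = 0 := by
      rw [Nat.card_eq_zero]
      left
      exact Set.isEmpty_coe_sort.mpr rfl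
    rw [h0] at hmod
    have h1 : r ∣ p ^ j := (Nat.modEq_zero_iff_dvd).mp hmod
    have h2 : r ∣ p := hr.dvd_of_dvd_pow h1
    exact hrp ((Nat.prime_dvd_prime_iff_eq hr hp).mp h2)
  obtain ⟨b, hb⟩ := hne
  refine ⟨b.1, b.2.1, b.2.2, ?_⟩
  intro γ
  have := hb γ
  exact congrArg Subtype.val this

end Fixed

end Cfsg.Agent.Lib.Helper24
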