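import Mathlib
import Cfsg.Prelude.Def_Blocks
import Cfsg.Prelude.Def_BlockLocal
import Cfsg.Prelude.Def_BrauerPairs
import Cfsg.Agent.Lib.Helper24.PIndexCover
import Cfsg.Agent.Lib.Helper24.BrauerMap
import Cfsg.Agent.Lib.Helper24.CentPairs
import Cfsg.Agent.Lib.Helper24.SubpairStep
import Cfsg.Agent.Lib.Helper7.Covering
import Cfsg.Agent.Lib.Helper7.CliffordCentral

/-!
# Brauer pairs of a normal subgroup `N` and of `G` at a `p`-subgroup `R ≤ N` (helper24 library)

`N ⊴ G`, `B` a block of `G` and `c` a block of `N` with the same idempotent.  For `R ≤ N` we compare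
the blocks of `C_N(R)` and of `C_G(R)`:

* `cnEquiv` : `C_N(R)` (inside `N`) `≃*` `N ∩ C_G(R)` (inside `C_G(R)`),
* `CnOver ξ ξ'` : `ξ ∈ Irr(C_G(R))` lies over `ξ' ∈ Irr(C_N(R))`,
* `brauerOmega_cn` : the Brauer-pair conditions for `ξ` and `ξ'` agree.
-/

set_option autoImplicit false

namespace Cfsg.Agent.Lib.Helper24

open Cfsg.Agent.Lib.Helper2 Cfsg.Agent.Lib.Helper7
open scoped ComplexConjugate

section Setup

variable {G : Type*} [Group G] (N R : Subgroup G)

theorem coe_mem_centralizer_of_mem (hRN : R ≤ N)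
    (y : Subgroup.centralizer ((R.subgroupOf N : Subgroup N) : Set N)) :
    ((y : N) : G) ∈ Subgroup.centralizer (R : Set G) := by
  rw [Subgroup.mem_centralizer_iff]
  intro r hr
  have h1 := Subgroup.mem_centralizer_iff.mp y.2 (⟨r, hRN hr⟩ : N)
    (Subgroup.mem_subgroupOf.mpr hr)
  exact congrArg (fun t : N => (t : G)) h1

/-- `C_N(R)` as a subgroup of `N` is `N ∩ C_G(R)` as a subgroup of `C_G(R)` -/
def cnEquiv (hRN : R ≤ N) :
    Subgroup.centralizer ((R.subgroupOf N : Subgroup N) : Set N) ≃*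
      (N.subgroupOf (Subgroup.centralizer (R : Set G)) :
        Subgroup (Subgroup.centralizer (R : Set G))) where
  toFun y := ⟨⟨((y : N) : G), coe_mem_centralizer_of_mem N R hRN y⟩,
    Subgroup.mem_subgroupOf.mpr (y : N).2⟩
  invFun l := ⟨⟨((l : Subgroup.centralizer (R : Set G)) : G), Subgroup.mem_subgroupOf.mp l.2⟩, by
    rw [Subgroup.mem_centralizer_iff]
    intro z hz
    apply Subtype.ext
    exact Subgroup.mem_centralizer_iff.mp (l : Subgroup.centralizer (R : Set G)).2 (z : G)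
      (Subgroup.mem_subgroupOf.mp hz)⟩
  left_inv y := rfl
  right_inv l := rfl
  map_mul' a b := rfl

theorem cnEquiv_coe (hRN : R ≤ N)
    (y : Subgroup.centralizer ((R.subgroupOf N : Subgroup N) : Set N)) :
    (((cnEquiv N R hRN y : N.subgroupOf (Subgroup.centralizer (R : Set G))) :
      Subgroup.centralizer (R : Set G)) : G) = ((y : N) : G) := rfl

theorem cnEquiv_symm_coe (hRN : R ≤ N)
    (l : N.subgroupOf (Subgroup.centralizer (R : Set G))) :
    ((((cnEquiv N R hRN).symm l : Subgroup.centralizer ((R.subgroupOf N : Subgroup N) : Set N))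
      : N) : G) = ((l : Subgroup.centralizer (R : Set G)) : G) := rfl

end Setup

section Over

variable {G : Type*} [Group G] [Fintype G] (N R : Subgroup G)

/-- `ξ ∈ Irr(C_G(R))` lies over `ξ' ∈ Irr(C_N(R))` -/
def CnOver (hRN : R ≤ N) (ξ : Cfsg.IrrCharacter (Subgroup.centralizer (R : Set G)))
    (ξ' : Cfsg.IrrCharacter (Subgroup.centralizer ((R.subgroupOf N : Subgroup N) : Set N))) :
    Prop :=
  letI : Fintype (N.subgroupOf (Subgroup.centralizer (R : Set G))) := Fintype.ofFinite _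
  Cfsg.classInner
    (fun l : N.subgroupOf (Subgroup.centralizer (R : Set G)) =>
      (ξ : Subgroup.centralizer (R : Set G) → ℂ) l)
    (irrMap (cnEquiv N R hRN) ξ' : N.subgroupOf (Subgroup.centralizer (R : Set G)) → ℂ) ≠ 0

theorem exists_cnOver_of_irr (hRN : R ≤ N)
    (ξ' : Cfsg.IrrCharacter (Subgroup.centralizer ((R.subgroupOf N : Subgroup N) : Set N))) :
    ∃ ξ : Cfsg.IrrCharacter (Subgroup.centralizer (R : Set G)), CnOver N R hRN ξ ξ' := by
  classical
  haveI : Fintype (Subgroup.centralizer (R : Set G)) := Fintype.ofFinite _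
  letI : Fintype (N.subgroupOf (Subgroup.centralizer (R : Set G))) := Fintype.ofFinite _
  obtain ⟨ξ, hξ⟩ := exists_irr_over (G := Subgroup.centralizer (R : Set G))
    (N.subgroupOf (Subgroup.centralizer (R : Set G))) (irrMap (cnEquiv N R hRN) ξ')
  exact ⟨ξ, hξ⟩

theorem exists_cnOver_of_irr' [N.Normal] (hRN : R ≤ N)
    (ξ : Cfsg.IrrCharacter (Subgroup.centralizer (R : Set G))) :
    ∃ ξ' : Cfsg.IrrCharacter (Subgroup.centralizer ((R.subgroupOf N : Subgroup N) : Set N)),
      CnOver N R hRN ξ ξ' := by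
  classical
  haveI : Fintype (Subgroup.centralizer (R : Set G)) := Fintype.ofFinite _
  letI : Fintype (N.subgroupOf (Subgroup.centralizer (R : Set G))) := Fintype.ofFinite _
  obtain ⟨θ, hθ⟩ := exists_constituent_restrict (G := Subgroup.centralizer (R : Set G))
    (N.subgroupOf (Subgroup.centralizer (R : Set G))) ξ
  refine ⟨irrMap (cnEquiv N R hRN).symm θ, ?_⟩
  unfold CnOver
  rw [irrMap_irrMap_symm]
  exact hθ

end Over

section Omega

variable {G : Type*} [Group G] [Fintype G] (N R : Subgroup G) [hN : N.Normal]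
variable {p : ℕ} {M : Ideal Cfsg.AlgInt}

/-- **the Brauer-pair conditions upstairs and downstairs agree** -/
theorem brauerOmega_cn (hM : Cfsg.IsPModular p M) (hRN : R ≤ N)
    (c : Set (Cfsg.IrrCharacter N)) (B : Set (Cfsg.IrrCharacter G)) (hB : Cfsg.IsPBlock M B)
    (hBc : ∀ g : G, Cfsg.blockCoeff B g = Cfsg.subgroupBlockCoeff N c g)
    (ξ : Cfsg.IrrCharacter (Subgroup.centralizer (R : Set G)))
    (ξ' : Cfsg.IrrCharacter (Subgroup.centralizer ((R.subgroupOf N : Subgroup N) : Set N)))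
    (hov : CnOver N R hRN ξ ξ') :
    Cfsg.MemLocalIdeal M
      (Cfsg.brauerOmega (R.subgroupOf N) (Cfsg.blockCoeff c) (ξ' : _ → ℂ)
        - Cfsg.brauerOmega R (Cfsg.blockCoeff B) (ξ : _ → ℂ)) := by
  classical
  haveI : Fintype N := Fintype.ofFinite _
  haveI : Fintype (Subgroup.centralizer (R : Set G)) := Fintype.ofFinite _
  haveI : Fintype (Subgroup.centralizer ((R.subgroupOf N : Subgroup N) : Set N)) :=
    Fintype.ofFinite _
  letI : Fintype (N.subgroupOf (Subgroup.centralizer (R : Set G))) := Fintype.ofFinite _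
  unfold CnOver at hov
  obtain ⟨a, ha⟩ : ∃ a : Subgroup.centralizer (R : Set G) → ℂ,
      a = restrictTo (Subgroup.centralizer (R : Set G)) (Cfsg.blockCoeff B) := ⟨_, rfl⟩
  have hacl : Cfsg.IsClassFunction (Subgroup.centralizer (R : Set G)) a := by
    rw [ha]
    exact restrictTo_isClassFunction _ _ (blockCoeff_isClassFunction B)
  have haint : ∀ g, Cfsg.MemLocalRing M (a g) := by
    intro g
    rw [ha]
    exact blockCoeff_memLocalRing hM B hB _
  have hcong : ∀ g : Subgroup.centralizer (R : Set G), a g = 0 ∨ Cfsg.MemLocalIdeal M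
      (Cfsg.inducedCentralChar (N.subgroupOf (Subgroup.centralizer (R : Set G)))
        (irrMap (cnEquiv N R hRN) ξ' : _ → ℂ) g
        - Cfsg.centralChar (ξ : Subgroup.centralizer (R : Set G) → ℂ) g) := by
    intro g
    by_cases hg : g ∈ N.subgroupOf (Subgroup.centralizer (R : Set G))
    · right
      have h1 := centralChar_eq_inducedCentralChar_of_constituent
        (G := Subgroup.centralizer (R : Set G))
        (N.subgroupOf (Subgroup.centralizer (R : Set G))) ξ (irrMap (cnEquiv N R hRN) ξ') hov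
        ⟨g, hg⟩
      have h2 : Cfsg.inducedCentralChar (N.subgroupOf (Subgroup.centralizer (R : Set G)))
          (irrMap (cnEquiv N R hRN) ξ' : _ → ℂ) g
          - Cfsg.centralChar (ξ : Subgroup.centralizer (R : Set G) → ℂ) g = 0 := by
        rw [sub_eq_zero]
        exact h1.symm
      rw [h2]
      exact memLocalIdeal_zero hM
    · left
      rw [ha, restrictTo_apply, hBc, subgroupBlockCoeff_eq_extZ]
      apply extendByZero_apply_not_mem
      intro h
      exact hg (Subgroup.mem_subgroupOf.mpr h)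
  have h1 := omega_restrict_sub_memLocalIdeal' (G := Subgroup.centralizer (R : Set G)) hM
    (N.subgroupOf (Subgroup.centralizer (R : Set G)))
    (irrMap (cnEquiv N R hRN) ξ' : _ → ℂ) ξ a hacl haint hcong
  have h2 : Cfsg.brauerOmega R (Cfsg.blockCoeff B) (ξ : _ → ℂ)
      = omega (ξ : Subgroup.centralizer (R : Set G) → ℂ) a := by
    rw [brauerOmega_eq_omega, ha]
  have h3 : Cfsg.brauerOmega (R.subgroupOf N) (Cfsg.blockCoeff c) (ξ' : _ → ℂ)
      = omega (irrMap (cnEquiv N R hRN) ξ' : _ → ℂ)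
          (fun h : N.subgroupOf (Subgroup.centralizer (R : Set G)) => a h) := by
    rw [brauerOmega_eq_omega (G := N)]
    unfold omega
    have e1 : (irrMap (cnEquiv N R hRN) ξ').1 1 = ξ'.1 1 := by
      rw [irrMap_apply, map_one]
    rw [e1]
    congr 1
    rw [← Equiv.sum_comp (cnEquiv N R hRN).toEquiv]
    apply Finset.sum_congr rfl
    intro y _
    have e2 : (irrMap (cnEquiv N R hRN) ξ').1 ((cnEquiv N R hRN).toEquiv y) = ξ'.1 y :=
      irrMap_apply_apply (cnEquiv N R hRN) ξ' y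
    have e3 : a (((cnEquiv N R hRN).toEquiv y :
        N.subgroupOf (Subgroup.centralizer (R : Set G))) : Subgroup.centralizer (R : Set G))
        = restrictTo (Subgroup.centralizer ((R.subgroupOf N : Subgroup N) : Set N))
            (Cfsg.blockCoeff c) y := by
      rw [ha, restrictTo_apply, restrictTo_apply, hBc]
      exact subgroupBlockCoeff_coe N c (y : N)
    show _ = a (((cnEquiv N R hRN).toEquiv y :
        N.subgroupOf (Subgroup.centralizer (R : Set G))) : Subgroup.centralizer (R : Set G))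
      * (irrMap (cnEquiv N R hRN) ξ').1 ((cnEquiv N R hRN).toEquiv y)
    rw [e2, e3]
  rw [h2, h3]
  exact h1

end Omega

section Conj

variable {G : Type*} [Group G] [Fintype G] (N R : Subgroup G) [hN : N.Normal]

omit [Fintype G] hN in
theorem mem_normalizer_centralizer_of_mem (x : G) (hxR : x ∈ Subgroup.normalizer (R : Set G)) :
    x ∈ Subgroup.normalizer ((Subgroup.centralizer (R : Set G) : Subgroup G) : Set G) :=
  normalizer_le_normalizer_centralizer R hxR

omit [Fintype G] hN in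
theorem mem_normalizer_subgroupOf_of_mem (hRN : R ≤ N) (x : G) (hxN : x ∈ N)
    (hxR : x ∈ Subgroup.normalizer (R : Set G)) :
    (⟨x, hxN⟩ : N) ∈ Subgroup.normalizer ((R.subgroupOf N : Subgroup N) : Set N) := by
  rw [← Subgroup.subgroupOf_normalizer_eq hRN]
  exact Subgroup.mem_subgroupOf.mpr hxR

omit [Fintype G] in
/-- the automorphism of `C_G(R)` induced by `x ∈ N_G(R)` preserves `N ∩ C_G(R)` -/
theorem normalizerMonoidHom_mem_subgroupOf_iff (x : G)
    (hxR : x ∈ Subgroup.normalizer (R : Set G)) (k : Subgroup.centralizer (R : Set G)) :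
    k ∈ N.subgroupOf (Subgroup.centralizer (R : Set G)) ↔
      (Subgroup.centralizer (R : Set G)).normalizerMonoidHom
        ⟨x, mem_normalizer_centralizer_of_mem R x hxR⟩ k
        ∈ N.subgroupOf (Subgroup.centralizer (R : Set G)) := by
  rw [Subgroup.mem_subgroupOf, Subgroup.mem_subgroupOf]
  show (k : G) ∈ N ↔ x * (k : G) * x⁻¹ ∈ N
  constructor
  · intro h
    exact hN.conj_mem _ h x
  · intro h
    have := hN.conj_mem _ h x⁻¹
    have e : x⁻¹ * (x * (k : G) * x⁻¹) * x⁻¹⁻¹ = (k : G) := by group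
    rwa [e] at this

/-- conjugation by `x ∈ N ∩ N_G(R)` on `Irr(C_N(R))` and on `Irr(N ∩ C_G(R))` agree -/
theorem irrMap_autRestrict_cnEquiv (hRN : R ≤ N) (x : G) (hxN : x ∈ N)
    (hxR : x ∈ Subgroup.normalizer (R : Set G))
    (θ : Cfsg.IrrCharacter (Subgroup.centralizer ((R.subgroupOf N : Subgroup N) : Set N))) :
    irrMap (autRestrict (N.subgroupOf (Subgroup.centralizer (R : Set G)))
        ((Subgroup.centralizer (R : Set G)).normalizerMonoidHom
          ⟨x, mem_normalizer_centralizer_of_mem R x hxR⟩)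
        (normalizerMonoidHom_mem_subgroupOf_iff N R x hxR)) (irrMap (cnEquiv N R hRN) θ)
      = irrMap (cnEquiv N R hRN)
          (conjIrr (Subgroup.centralizer ((R.subgroupOf N : Subgroup N) : Set N))
            ⟨⟨x, hxN⟩, mem_normalizer_centralizer_of_mem (G := N) (R.subgroupOf N) ⟨x, hxN⟩
              (mem_normalizer_subgroupOf_of_mem N R hRN x hxN hxR)⟩ θ) := by
  apply Subtype.ext
  funext l
  rw [irrMap_apply, irrMap_apply, irrMap_apply, conjIrr_apply]
  apply congrArg
  apply Subtype.ext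
  apply Subtype.ext
  rw [normalizerMonoidHom_inv_coe]
  rw [cnEquiv_symm_coe, autRestrict_symm_coe]
  show (((Subgroup.centralizer (R : Set G)).normalizerMonoidHom
      ⟨x, mem_normalizer_centralizer_of_mem R x hxR⟩)⁻¹
      (l : Subgroup.centralizer (R : Set G)) : G) = _
  rw [← map_inv, normalizerMonoidHom_inv_coe]
  rfl

end Conj

section Pairs

variable {G : Type*} [Group G] [Fintype G] (N R : Subgroup G) [hN : N.Normal]
variable {p : ℕ} {M : Ideal Cfsg.AlgInt}

/-- a Brauer pair of `B` at `R ≤ N` gives a Brauer pair of `c` at `R` -/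
theorem isBrauerPairOf_down (hM : Cfsg.IsPModular p M) (hRN : R ≤ N)
    (c : Set (Cfsg.IrrCharacter N)) (hc : Cfsg.IsPBlock M c) (B : Set (Cfsg.IrrCharacter G))
    (hBc : ∀ g : G, Cfsg.blockCoeff B g = Cfsg.subgroupBlockCoeff N c g)
    (f : Set (Cfsg.IrrCharacter (Subgroup.centralizer (R : Set G))))
    (hf : Cfsg.IsBrauerPairOf p M B R f)
    (ξ : Cfsg.IrrCharacter (Subgroup.centralizer (R : Set G))) (hξ : ξ ∈ f)
    (ξ' : Cfsg.IrrCharacter (Subgroup.centralizer ((R.subgroupOf N : Subgroup N) : Set N)))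
    (hov : CnOver N R hRN ξ ξ') :
    Cfsg.IsBrauerPairOf p M c (R.subgroupOf N) (Cfsg.blockOf M (ξ' : _ → ℂ)) := by
  classical
  haveI : Fintype N := Fintype.ofFinite _
  haveI : Fintype (Subgroup.centralizer ((R.subgroupOf N : Subgroup N) : Set N)) :=
    Fintype.ofFinite _
  refine ⟨⟨hf.1.1.comap_subtype, ⟨ξ', rfl⟩⟩, hc, ?_⟩
  intro θ hθ
  have hsame : Cfsg.SameBlock M θ.1 ξ'.1 := sameBlock_symm hM hθ
  have h1 := omega_sub_memLocalIdeal
    (G := Subgroup.centralizer ((R.subgroupOf N : Subgroup N) : Set N)) hM θ ξ' hsame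
    (restrictTo (Subgroup.centralizer ((R.subgroupOf N : Subgroup N) : Set N))
      (Cfsg.blockCoeff c))
    (restrictTo_isClassFunction _ _ (blockCoeff_isClassFunction c))
    (fun g => blockCoeff_memLocalRing hM c hc _)
  rw [← brauerOmega_eq_omega (G := N), ← brauerOmega_eq_omega (G := N)] at h1
  have h2 := brauerOmega_cn N R hM hRN c B hf.2.1 hBc ξ ξ' hov
  have h3 := hf.2.2 ξ hξ
  have e : Cfsg.brauerOmega (R.subgroupOf N) (Cfsg.blockCoeff c) (θ : _ → ℂ) - 1
      = (Cfsg.brauerOmega (R.subgroupOf N) (Cfsg.blockCoeff c) (θ : _ → ℂ)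
          - Cfsg.brauerOmega (R.subgroupOf N) (Cfsg.blockCoeff c) (ξ' : _ → ℂ))
        + ((Cfsg.brauerOmega (R.subgroupOf N) (Cfsg.blockCoeff c) (ξ' : _ → ℂ)
          - Cfsg.brauerOmega R (Cfsg.blockCoeff B) (ξ : _ → ℂ))
        + (Cfsg.brauerOmega R (Cfsg.blockCoeff B) (ξ : _ → ℂ) - 1)) := by ring
  rw [e]
  exact memLocalIdeal_add hM h1 (memLocalIdeal_add hM h2 h3)

omit [Fintype G] in
theorem exists_index_subgroupOf_pow [Finite G] (hp : p.Prime) (hidx : ∃ k : ℕ, N.index = p ^ k)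
    (K : Subgroup G) : ∃ k : ℕ, (N.subgroupOf K).index = p ^ k := by
  obtain ⟨k, hk⟩ := hidx
  have h1 : (N.subgroupOf K).index ∣ N.index := Subgroup.relIndex_dvd_index_of_normal N K
  rw [hk] at h1
  obtain ⟨j, _, hj⟩ := (Nat.dvd_prime_pow hp).mp h1
  exact ⟨j, hj⟩

/-- a Brauer pair of `c` at `R ≤ N` gives a Brauer pair of `B` at `R`, with the same stabilizer in
`N` -/
theorem exists_isBrauerPairOf_up (hM : Cfsg.IsPModular p M) (hidx : ∃ k : ℕ, N.index = p ^ k)
    (hRN : R ≤ N)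
    (c : Set (Cfsg.IrrCharacter N)) (B : Set (Cfsg.IrrCharacter G)) (hB : Cfsg.IsPBlock M B)
    (hBc : ∀ g : G, Cfsg.blockCoeff B g = Cfsg.subgroupBlockCoeff N c g)
    (e' : Set (Cfsg.IrrCharacter (Subgroup.centralizer ((R.subgroupOf N : Subgroup N) : Set N))))
    (he' : Cfsg.IsBrauerPairOf p M c (R.subgroupOf N) e') :
    ∃ F : Set (Cfsg.IrrCharacter (Subgroup.centralizer (R : Set G))),
      Cfsg.IsBrauerPairOf p M B R F ∧
      ∀ (x : G) (hxN : x ∈ N), x ∈ Subgroup.normalizer (R : Set G) →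
        Cfsg.StabilizesBlock (Subgroup.centralizer ((R.subgroupOf N : Subgroup N) : Set N)) e'
          (⟨x, hxN⟩ : N) →
        Cfsg.StabilizesBlock (Subgroup.centralizer (R : Set G)) F x := by
  classical
  haveI : Fintype N := Fintype.ofFinite _
  haveI : Fintype (Subgroup.centralizer (R : Set G)) := Fintype.ofFinite _
  haveI : Fintype (Subgroup.centralizer ((R.subgroupOf N : Subgroup N) : Set N)) :=
    Fintype.ofFinite _
  letI : Fintype (N.subgroupOf (Subgroup.centralizer (R : Set G))) := Fintype.ofFinite _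
  have hp : p.Prime := hM.1
  obtain ⟨ξ₀', hξ₀'⟩ := isPBlock_nonempty hM he'.1.2
  obtain ⟨ξ₀, hov⟩ := exists_cnOver_of_irr N R hRN ξ₀'
  refine ⟨Cfsg.blockOf M (ξ₀ : _ → ℂ), ⟨⟨(isPGroup_subgroupOf_iff N R hRN).mp he'.1.1,
    ⟨ξ₀, rfl⟩⟩, hB, ?_⟩, ?_⟩
  · intro ξ hξ
    have hsame : Cfsg.SameBlock M ξ.1 ξ₀.1 := sameBlock_symm hM hξ
    have h1 := omega_sub_memLocalIdeal (G := Subgroup.centralizer (R : Set G)) hM ξ ξ₀ hsame
      (restrictTo (Subgroup.centralizer (R : Set G)) (Cfsg.blockCoeff B))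
      (restrictTo_isClassFunction _ _ (blockCoeff_isClassFunction B))
      (fun g => blockCoeff_memLocalRing hM B hB _)
    rw [← brauerOmega_eq_omega, ← brauerOmega_eq_omega] at h1
    have h2 := memLocalIdeal_neg (brauerOmega_cn N R hM hRN c B hB hBc ξ₀ ξ₀' hov)
    rw [neg_sub] at h2
    have h3 := he'.2.2 ξ₀' hξ₀'
    have e : Cfsg.brauerOmega R (Cfsg.blockCoeff B) (ξ : _ → ℂ) - 1
        = (Cfsg.brauerOmega R (Cfsg.blockCoeff B) (ξ : _ → ℂ)
            - Cfsg.brauerOmega R (Cfsg.blockCoeff B) (ξ₀ : _ → ℂ))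
          + ((Cfsg.brauerOmega R (Cfsg.blockCoeff B) (ξ₀ : _ → ℂ)
            - Cfsg.brauerOmega (R.subgroupOf N) (Cfsg.blockCoeff c) (ξ₀' : _ → ℂ))
          + (Cfsg.brauerOmega (R.subgroupOf N) (Cfsg.blockCoeff c) (ξ₀' : _ → ℂ) - 1)) := by
      ring
    rw [e]
    exact memLocalIdeal_add hM h1 (memLocalIdeal_add hM h2 h3)
  · intro x hxN hxR hst
    have hxK := mem_normalizer_centralizer_of_mem R x hxR
    rw [stabilizesBlock_iff]
    refine ⟨hxK, ?_⟩
    rintro _ ⟨χ, hχ, rfl⟩
    have h1 : Cfsg.SameBlock M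
        (conjIrr (Subgroup.centralizer (R : Set G)) ⟨x, hxK⟩ ξ₀).1
        (conjIrr (Subgroup.centralizer (R : Set G)) ⟨x, hxK⟩ χ).1 :=
      sameBlock_conjIrr _ ⟨x, hxK⟩ ξ₀ χ hχ
    -- the conjugate of `ξ₀` lies over a conjugate of `ξ₀'`
    obtain ⟨hxKN, hsub⟩ := (stabilizesBlock_iff _ e' (⟨x, hxN⟩ : N)).mp hst
    have hmem : conjIrr (Subgroup.centralizer ((R.subgroupOf N : Subgroup N) : Set N))
        ⟨⟨x, hxN⟩, hxKN⟩ ξ₀' ∈ e' := hsub ⟨ξ₀', hξ₀', rfl⟩
    have hsame' : Cfsg.SameBlock M ξ₀'.1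
        (conjIrr (Subgroup.centralizer ((R.subgroupOf N : Subgroup N) : Set N))
          ⟨⟨x, hxN⟩, hxKN⟩ ξ₀').1 :=
      sameBlock_of_mem_block hM he'.1.2 hξ₀' hmem
    have hsame'' := sameBlock_irrMap (cnEquiv N R hRN) _ _ hsame'
    rw [← irrMap_autRestrict_cnEquiv N R hRN x hxN hxR ξ₀'] at hsame''
    have h₂ : Cfsg.classInner
        (fun l : N.subgroupOf (Subgroup.centralizer (R : Set G)) =>
          (conjIrr (Subgroup.centralizer (R : Set G)) ⟨x, hxK⟩ ξ₀).1 l)
        (irrMap (autRestrict (N.subgroupOf (Subgroup.centralizer (R : Set G)))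
          ((Subgroup.centralizer (R : Set G)).normalizerMonoidHom ⟨x, hxK⟩)
          (normalizerMonoidHom_mem_subgroupOf_iff N R x hxR))
          (irrMap (cnEquiv N R hRN) ξ₀')).1 ≠ 0 := by
      rw [conjIrr_eq_irrMap, classInner_irrMap_autRestrict]
      exact hov
    have h2 := mem_blockOf_of_covering_of_index_pow
      (G := Subgroup.centralizer (R : Set G))
      (N.subgroupOf (Subgroup.centralizer (R : Set G))) hM
      (exists_index_subgroupOf_pow N hp hidx _) ξ₀
      (conjIrr (Subgroup.centralizer (R : Set G)) ⟨x, hxK⟩ ξ₀)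
      (irrMap (cnEquiv N R hRN) ξ₀') _ hov h₂ hsame''
    exact sameBlock_trans hM h2 h1

omit [Fintype G] hN in
/-- the elements of `N_G(K)` fixing a set of characters of `K` form a subgroup -/
theorem conjIrr_image_eq_of_mem_zpowers (K : Subgroup G) [Finite K]
    (f : Set (Cfsg.IrrCharacter K)) (n₀ : Subgroup.normalizer (K : Set G))
    (h₀ : conjIrr K n₀ '' f = f) (n : Subgroup.normalizer (K : Set G))
    (hn : n ∈ Subgroup.zpowers n₀) : conjIrr K n '' f = f := by
  obtain ⟨T, hT⟩ : ∃ T : Subgroup (Subgroup.normalizer (K : Set G)),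
      ∀ m, m ∈ T ↔ conjIrr K m '' f = f := by
    refine ⟨{ carrier := {m | conjIrr K m '' f = f}
              one_mem' := ?_
              mul_mem' := ?_
              inv_mem' := ?_ }, fun m => Iff.rfl⟩
    · intro a b ha hb
      show conjIrr K (a * b) '' f = f
      have : conjIrr K (a * b) = conjIrr K a ∘ conjIrr K b := funext (conjIrr_mul K a b)
      rw [this, Set.image_comp, show conjIrr K b '' f = f from hb]
      exact ha
    · show conjIrr K 1 '' f = f
      rw [show conjIrr K (1 : Subgroup.normalizer (K : Set G)) = id from funext (conjIrr_one K),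
        Set.image_id]
    · intro a ha
      show conjIrr K a⁻¹ '' f = f
      have ha' : conjIrr K a '' f = f := ha
      conv_lhs => rw [← ha', Set.image_image]
      have : (fun χ => conjIrr K a⁻¹ (conjIrr K a χ)) = id := funext (conjIrr_inv_conjIrr K a)
      rw [this, Set.image_id]
  have h1 : Subgroup.zpowers n₀ ≤ T := by
    rw [Subgroup.zpowers_le]
    exact (hT n₀).mpr h₀
  exact (hT n).mp (h1 hn)

/-- **an `r`-element of `N` stabilizing a block `f` of `C_G(R)` stabilizes a block of `C_N(R)`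
covered by `f`** (`r ≠ p`, `[G : N]` a power of `p`) -/
theorem exists_stable_cnOver (hM : Cfsg.IsPModular p M) (hidx : ∃ k : ℕ, N.index = p ^ k)
    (hRN : R ≤ N) (x : G) (hxN : x ∈ N) (hxR : x ∈ Subgroup.normalizer (R : Set G))
    (r : ℕ) [Fact r.Prime] (hrp : r ≠ p) (i : ℕ) (hxo : orderOf x = r ^ i)
    (f : Set (Cfsg.IrrCharacter (Subgroup.centralizer (R : Set G)))) (hf : Cfsg.IsPBlock M f)
    (hst : Cfsg.StabilizesBlock (Subgroup.centralizer (R : Set G)) f x) :
    ∃ ξ ∈ f, ∃ ξ' : Cfsg.IrrCharacter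
        (Subgroup.centralizer ((R.subgroupOf N : Subgroup N) : Set N)),
      CnOver N R hRN ξ ξ' ∧
      Cfsg.StabilizesBlock (Subgroup.centralizer ((R.subgroupOf N : Subgroup N) : Set N))
        (Cfsg.blockOf M ξ'.1) (⟨x, hxN⟩ : N) := by
  classical
  haveI : Fintype N := Fintype.ofFinite _
  haveI : Fintype (Subgroup.centralizer (R : Set G)) := Fintype.ofFinite _
  haveI : Fintype (Subgroup.centralizer ((R.subgroupOf N : Subgroup N) : Set N)) :=
    Fintype.ofFinite _
  letI : Fintype (N.subgroupOf (Subgroup.centralizer (R : Set G))) := Fintype.ofFinite _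
  have hp : p.Prime := hM.1
  have hxK := mem_normalizer_centralizer_of_mem R x hxR
  obtain ⟨hxK', hsub⟩ := (stabilizesBlock_iff _ f x).mp hst
  have himg := image_conjIrr_eq_of_stabilizes _ f x hxK hsub
  -- the cyclic `r`-group generated by `x`
  obtain ⟨n₀, hn₀⟩ : ∃ n₀ : Subgroup.normalizer
      ((Subgroup.centralizer (R : Set G) : Subgroup G) : Set G), n₀ = ⟨x, hxK⟩ := ⟨_, rfl⟩
  have hΓ : IsPGroup r (Subgroup.zpowers n₀) := by
    apply IsPGroup.of_card (n := i)
    rw [Nat.card_zpowers, hn₀, Subgroup.orderOf_mk, hxo]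
  obtain ⟨φ, hφdef⟩ : ∃ φ : Subgroup.zpowers n₀ →* MulAut (Subgroup.centralizer (R : Set G)),
      φ = ((Subgroup.centralizer (R : Set G)).normalizerMonoidHom).comp
        (Subgroup.zpowers n₀).subtype := ⟨_, rfl⟩
  have hφapp : ∀ γ : Subgroup.zpowers n₀,
      φ γ = (Subgroup.centralizer (R : Set G)).normalizerMonoidHom (γ : Subgroup.normalizer
        ((Subgroup.centralizer (R : Set G) : Subgroup G) : Set G)) := by
    intro γ
    rw [hφdef]
    rfl
  have hφ : ∀ (γ : Subgroup.zpowers n₀) (k : Subgroup.centralizer (R : Set G)),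
      k ∈ N.subgroupOf (Subgroup.centralizer (R : Set G)) ↔
        φ γ k ∈ N.subgroupOf (Subgroup.centralizer (R : Set G)) := by
    intro γ k
    rw [hφapp, Subgroup.mem_subgroupOf, Subgroup.mem_subgroupOf]
    show (k : G) ∈ N ↔ ((γ : Subgroup.normalizer
        ((Subgroup.centralizer (R : Set G) : Subgroup G) : Set G)) : G) * (k : G)
          * ((γ : Subgroup.normalizer
        ((Subgroup.centralizer (R : Set G) : Subgroup G) : Set G)) : G)⁻¹ ∈ N
    constructor
    · intro h
      exact hN.conj_mem _ h _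
    · intro h
      have := hN.conj_mem _ h ((γ : Subgroup.normalizer
        ((Subgroup.centralizer (R : Set G) : Subgroup G) : Set G)) : G)⁻¹
      have e : ∀ y : G, y⁻¹ * (y * (k : G) * y⁻¹) * y⁻¹⁻¹ = (k : G) := by intro y; group
      rwa [e] at this
  have hFst : ∀ γ : Subgroup.zpowers n₀, ∀ ξ ∈ f, irrMap (φ γ) ξ ∈ f := by
    intro γ ξ hξ
    rw [hφapp, ← conjIrr_eq_irrMap]
    have h1 := conjIrr_image_eq_of_mem_zpowers _ f n₀ (by rw [hn₀]; exact himg)
      (γ : Subgroup.normalizer ((Subgroup.centralizer (R : Set G) : Subgroup G) : Set G)) γ.2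
    rw [← h1]
    exact ⟨ξ, hξ, rfl⟩
  obtain ⟨b, hb, ⟨ξ, hξ, θ, hθ, hne⟩, hfix⟩ := exists_fixed_covered_block
    (H := Subgroup.centralizer (R : Set G)) (N.subgroupOf (Subgroup.centralizer (R : Set G)))
    hM (exists_index_subgroupOf_pow N hp hidx _) r hrp hΓ φ hφ f hf hFst
  refine ⟨ξ, hξ, irrMap (cnEquiv N R hRN).symm θ, ?_, ?_⟩
  · unfold CnOver
    rw [irrMap_irrMap_symm]
    exact hne
  · have hxKN := mem_normalizer_centralizer_of_mem (G := N) (R.subgroupOf N) ⟨x, hxN⟩
      (mem_normalizer_subgroupOf_of_mem N R hRN x hxN hxR)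
    rw [stabilizesBlock_iff]
    refine ⟨hxKN, ?_⟩
    rintro _ ⟨θ', hθ', rfl⟩
    -- `θ' = cn⁻¹ θ₁` with `θ₁ ∈ b`
    have hbθ : b = Cfsg.blockOf M θ.1 := eq_blockOf_of_mem hM hb hθ
    have hθ₁ : irrMap (cnEquiv N R hRN) θ' ∈ b := by
      rw [hbθ]
      have := sameBlock_irrMap (cnEquiv N R hRN) _ _ hθ'
      rw [irrMap_irrMap_symm] at this
      exact this
    -- the fixed point property at `γ = n₀`
    have hfix₀ := hfix ⟨n₀, Subgroup.mem_zpowers n₀⟩
    have hmem : irrMap (autRestrict (N.subgroupOf (Subgroup.centralizer (R : Set G)))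
        (φ ⟨n₀, Subgroup.mem_zpowers n₀⟩) (hφ ⟨n₀, Subgroup.mem_zpowers n₀⟩))
        (irrMap (cnEquiv N R hRN) θ') ∈ b := by
      rw [← hfix₀]
      exact ⟨_, hθ₁, rfl⟩
    have hkey : irrMap (autRestrict (N.subgroupOf (Subgroup.centralizer (R : Set G)))
        (φ ⟨n₀, Subgroup.mem_zpowers n₀⟩) (hφ ⟨n₀, Subgroup.mem_zpowers n₀⟩))
        (irrMap (cnEquiv N R hRN) θ')
        = irrMap (cnEquiv N R hRN)
          (conjIrr (Subgroup.centralizer ((R.subgroupOf N : Subgroup N) : Set N))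
            ⟨⟨x, hxN⟩, hxKN⟩ θ') := by
      rw [← irrMap_autRestrict_cnEquiv N R hRN x hxN hxR θ']
      congr 2
      rw [hφapp, hn₀]
    rw [hkey, hbθ] at hmem
    have h2 := sameBlock_irrMap (cnEquiv N R hRN).symm _ _ hmem
    rw [irrMap_symm_irrMap] at h2
    exact h2

end Pairs

end Cfsg.Agent.Lib.Helper24
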