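import Mathlib
import Cfsg.Prelude
import Cfsg.Agent.Lib.Helper24.BlockOrtho
import Cfsg.Agent.Lib.Helper24.BlockBasic
import Cfsg.Agent.Lib.Helper24.Contribution
import Cfsg.Agent.Lib.Helper2.CharBasic
import Cfsg.Agent.Lib.Helper2.AlperinFeitThompson

/-!
# A block-orthogonality criterion for membership in the kernel of a block (helper24 library)

Let `B` be a `p`-block of `G` and `P` a `p`-subgroup such that every `χ ∈ B` is either trivial on `P`
or has `∑_{u ∈ P} χ u = 0`.  If a `p`-regular element `y` lies in the kernel of every `χ ∈ B` that is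
trivial on `P`, then `y` lies in the kernel of every member of `B`.
-/

set_option autoImplicit false

namespace Cfsg.Agent.Lib.Helper24.PLenOne

open Cfsg.Agent.Lib.Helper2 Cfsg.Agent.Lib.Helper24
open scoped ComplexConjugate

variable {G : Type*} [Group G] [Fintype G] {p : ℕ} [Fact p.Prime] {M : Ideal Cfsg.AlgInt}

/-- block orthogonality between a nontrivial `p`-element and a `p`-regular element -/
theorem ortho_pElement_regular (hM : Cfsg.IsPModular p M) (B : Set (Cfsg.IrrCharacter G))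
    (hB : Cfsg.IsPBlock M B) (u y : G) (hu : ∃ k : ℕ, orderOf u = p ^ k) (hu1 : u ≠ 1)
    (hy : ¬ p ∣ orderOf y) :
    ∑ᶠ χ ∈ B, (χ : G → ℂ) u * conj ((χ : G → ℂ) y) = 0 := by
  have hp : p.Prime := Fact.out
  apply block_orthogonality hM B hB u y
  intro g k h
  obtain ⟨j, hj⟩ := hu
  have h1 : u ^ k = g * y ^ k * g⁻¹ := by
    rw [← h]; group
  have h2 : orderOf (u ^ k) ∣ p ^ j := by
    rw [← hj]; exact orderOf_pow_dvd k
  have h3 : orderOf (u ^ k) ∣ orderOf y := by
    rw [h1]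
    have : orderOf (g * y ^ k * g⁻¹) = orderOf (y ^ k) := by
      have := orderOf_injective (MulAut.conj g).toMonoidHom (MulAut.conj g).injective (y ^ k)
      simpa using this
    rw [this]
    exact orderOf_pow_dvd k
  have h4 : (orderOf y).Coprime (p ^ j) :=
    Nat.Coprime.pow_right j ((Nat.Prime.coprime_iff_not_dvd hp).mpr hy).symm
  have h5 : orderOf (u ^ k) = 1 := Nat.eq_one_of_dvd_coprimes h4 h3 h2
  rw [orderOf_eq_one_iff] at h5
  have h6 : orderOf u ∣ k := orderOf_dvd_of_pow_eq_one h5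
  have hj0 : j ≠ 0 := by
    intro h0
    rw [h0, pow_zero, orderOf_eq_one_iff] at hj
    exact hu1 hj
  rw [hj] at h6
  exact dvd_trans (dvd_pow_self p hj0) h6

theorem eq_of_norm_le_of_re_eq {z : ℂ} {d : ℝ} (h1 : ‖z‖ ≤ d) (h2 : z.re = d) : z = (d : ℂ) := by
  have hd : 0 ≤ d := le_trans (norm_nonneg z) h1
  have h3 : ‖z‖ ^ 2 ≤ d ^ 2 := by
    have : 0 ≤ ‖z‖ := norm_nonneg z
    nlinarith
  rw [Complex.sq_norm, Complex.normSq_apply, h2] at h3
  have h4 : z.im = 0 := by nlinarith [mul_self_nonneg z.im]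
  exact Complex.ext (by simp [h2]) (by simp [h4])

/-- The key criterion. -/
theorem apply_eq_of_sum (hM : Cfsg.IsPModular p M) (B : Set (Cfsg.IrrCharacter G))
    (hB : Cfsg.IsPBlock M B) (P : Subgroup G) [Fintype P] (hP : IsPGroup p P)
    (hH : ∀ χ ∈ B, (∀ u ∈ P, (χ : G → ℂ) u = (χ : G → ℂ) 1) ∨ ∑ u : P, (χ : G → ℂ) (u : G) = 0)
    (y : G) (hy : ¬ p ∣ orderOf y)
    (hyk : ∀ χ ∈ B, (∀ u ∈ P, (χ : G → ℂ) u = (χ : G → ℂ) 1) → (χ : G → ℂ) y = (χ : G → ℂ) 1) :
    ∀ χ ∈ B, (χ : G → ℂ) y = (χ : G → ℂ) 1 := by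
  classical
  haveI : Fintype (Cfsg.IrrCharacter G) := Fintype.ofFinite _
  have hp : p.Prime := Fact.out
  -- the sum `S z = ∑_{χ ∈ B} χ(1) conj χ(z)` for `p`-regular `z`
  have hS : ∀ z : G, ¬ p ∣ orderOf z →
      ∑ χ : Cfsg.IrrCharacter G, (if χ ∈ B then (χ : G → ℂ) 1 * conj ((χ : G → ℂ) z) else 0)
        = ∑ χ : Cfsg.IrrCharacter G,
            (if χ ∈ B then (∑ u : P, (χ : G → ℂ) (u : G)) * conj ((χ : G → ℂ) z) else 0) := by
    intro z hz
    have h1 : ∀ u : P, ∑ χ : Cfsg.IrrCharacter G,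
        (if χ ∈ B then (χ : G → ℂ) (u : G) * conj ((χ : G → ℂ) z) else 0)
        = if u = 1 then ∑ χ : Cfsg.IrrCharacter G,
            (if χ ∈ B then (χ : G → ℂ) 1 * conj ((χ : G → ℂ) z) else 0) else 0 := by
      intro u
      by_cases hu : u = 1
      · rw [if_pos hu, hu]; rfl
      · rw [if_neg hu, ← finsum_mem_eq_sum_ite]
        apply ortho_pElement_regular hM B hB (u : G) z _ _ hz
        · obtain ⟨k, hk⟩ := (IsPGroup.iff_orderOf.1 hP) u
          exact ⟨k, by rw [← hk]; simp⟩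
        · intro h
          apply hu
          exact Subtype.ext h
    have h2 : ∑ u : P, ∑ χ : Cfsg.IrrCharacter G,
        (if χ ∈ B then (χ : G → ℂ) (u : G) * conj ((χ : G → ℂ) z) else 0)
        = ∑ χ : Cfsg.IrrCharacter G,
            (if χ ∈ B then (χ : G → ℂ) 1 * conj ((χ : G → ℂ) z) else 0) := by
      rw [Finset.sum_congr rfl (fun u _ => h1 u), Finset.sum_ite_eq' Finset.univ (1 : P)]
      simp
    rw [← h2, Finset.sum_comm]
    apply Finset.sum_congr rfl
    intro χ _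
    by_cases hχ : χ ∈ B
    · simp only [if_pos hχ]
      rw [Finset.sum_mul]
    · simp only [if_neg hχ]
      simp
  -- the right-hand side does not depend on `z`
  have hT : ∀ χ : Cfsg.IrrCharacter G,
      (if χ ∈ B then (∑ u : P, (χ : G → ℂ) (u : G)) * conj ((χ : G → ℂ) y) else 0)
        = (if χ ∈ B then (∑ u : P, (χ : G → ℂ) (u : G)) * conj ((χ : G → ℂ) 1) else 0) := by
    intro χ
    by_cases hχ : χ ∈ B
    · simp only [if_pos hχ]
      rcases hH χ hχ with h | h
      · rw [hyk χ hχ h]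
      · rw [h, zero_mul, zero_mul]
    · simp only [if_neg hχ]
  have h1 : ¬ p ∣ orderOf (1 : G) := by
    rw [orderOf_one]
    exact hp.one_lt.ne' ∘ Nat.dvd_one.mp
  have hmain : ∑ χ : Cfsg.IrrCharacter G,
      (if χ ∈ B then (χ : G → ℂ) 1 * conj ((χ : G → ℂ) y) else 0)
      = ∑ χ : Cfsg.IrrCharacter G,
      (if χ ∈ B then (χ : G → ℂ) 1 * conj ((χ : G → ℂ) 1) else 0) := by
    rw [hS y hy, hS 1 h1]
    exact Finset.sum_congr rfl (fun χ _ => hT χ)
  -- real parts
  have hre : ∑ χ : Cfsg.IrrCharacter G,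
      (if χ ∈ B then (Cfsg.charDegree (χ : G → ℂ) : ℝ)
        * ((Cfsg.charDegree (χ : G → ℂ) : ℝ) - ((χ : G → ℂ) y).re) else 0) = 0 := by
    have h2 := congrArg Complex.re hmain
    rw [Complex.re_sum, Complex.re_sum] at h2
    have h3 : ∀ χ : Cfsg.IrrCharacter G, ∀ z : G,
        (if χ ∈ B then (χ : G → ℂ) 1 * conj ((χ : G → ℂ) z) else 0).re
        = if χ ∈ B then (Cfsg.charDegree (χ : G → ℂ) : ℝ) * ((χ : G → ℂ) z).re else 0 := by
      intro χ z
      by_cases hχ : χ ∈ B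
      · simp only [if_pos hχ]
        rw [apply_one_eq_charDegree χ]
        simp
      · simp only [if_neg hχ]
        simp
    rw [Finset.sum_congr rfl (fun χ _ => h3 χ y), Finset.sum_congr rfl (fun χ _ => h3 χ 1)] at h2
    have h4 : ∀ χ : Cfsg.IrrCharacter G,
        (if χ ∈ B then (Cfsg.charDegree (χ : G → ℂ) : ℝ)
          * ((Cfsg.charDegree (χ : G → ℂ) : ℝ) - ((χ : G → ℂ) y).re) else 0)
        = (if χ ∈ B then (Cfsg.charDegree (χ : G → ℂ) : ℝ) * ((χ : G → ℂ) 1).re else 0)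
          - (if χ ∈ B then (Cfsg.charDegree (χ : G → ℂ) : ℝ) * ((χ : G → ℂ) y).re else 0) := by
      intro χ
      by_cases hχ : χ ∈ B
      · simp only [if_pos hχ]
        rw [apply_one_eq_charDegree χ, Complex.natCast_re]
        ring
      · simp only [if_neg hχ]
        simp
    rw [Finset.sum_congr rfl (fun χ _ => h4 χ), Finset.sum_sub_distrib, h2, sub_self]
  have hnonneg : ∀ χ ∈ (Finset.univ : Finset (Cfsg.IrrCharacter G)),
      0 ≤ (if χ ∈ B then (Cfsg.charDegree (χ : G → ℂ) : ℝ)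
        * ((Cfsg.charDegree (χ : G → ℂ) : ℝ) - ((χ : G → ℂ) y).re) else 0) := by
    intro χ _
    by_cases hχ : χ ∈ B
    · simp only [if_pos hχ]
      apply mul_nonneg (Nat.cast_nonneg _)
      have := AFT.norm_le_charDegree χ y
      have h2 := Complex.re_le_norm ((χ : G → ℂ) y)
      linarith
    · simp only [if_neg hχ]
      exact le_refl _
  have hzero := (Finset.sum_eq_zero_iff_of_nonneg hnonneg).mp hre
  intro χ hχ
  have h2 := hzero χ (Finset.mem_univ χ)
  simp only [if_pos hχ] at h2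
  have hd : (Cfsg.charDegree (χ : G → ℂ) : ℝ) ≠ 0 := by
    exact_mod_cast charDegree_ne_zero χ
  have h3 : ((χ : G → ℂ) y).re = (Cfsg.charDegree (χ : G → ℂ) : ℝ) := by
    rcases mul_eq_zero.mp h2 with h | h
    · exact absurd h hd
    · linarith
  rw [apply_one_eq_charDegree χ, eq_of_norm_le_of_re_eq (AFT.norm_le_charDegree χ y) h3]
  simp

end Cfsg.Agent.Lib.Helper24.PLenOne
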