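import Mathlib
import Cfsg.Prelude
import Cfsg.Agent.Lib.Helper1.Cores
import Cfsg.Agent.Lib.Helper10.PLength

/-!
# A criterion for `p`-length one (helper24 library)

If every `p`-regular element of `O_{p'}(G) · ⟨P^G⟩` (`P` a Sylow `p`-subgroup) lies in `O_{p'}(G)`,
then `G` has `p`-length at most one.
-/

set_option autoImplicit false

namespace Cfsg.Agent.Lib.Helper24.PLenOne

open Cfsg Cfsg.Agent.Lib.Helper1

variable {G : Type*} [Group G] [Finite G]

theorem pLengthLE_one_of_regular_mem (p : ℕ) [Fact p.Prime] (P : Sylow p G)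
    (h : ∀ y ∈ pPrimeCore p G ⊔ Subgroup.normalClosure ((P : Subgroup G) : Set G),
      ¬ p ∣ orderOf y → y ∈ pPrimeCore p G) : PLengthLE p 1 G := by
  have hp : p.Prime := Fact.out
  haveI hKn : (pPrimeCore p G).Normal := Cfsg.Agent.Lib.Helper1.pPrimeCore_normal (G := G) p
  set L : Subgroup G := pPrimeCore p G ⊔ Subgroup.normalClosure ((P : Subgroup G) : Set G) with hL
  haveI hLn : L.Normal := by
    rw [hL]; infer_instance
  -- the image of `L` in `G / O_{p'}(G)` is a normal `p`-subgroup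
  have hLp : IsPGroup p (L.map (QuotientGroup.mk' (pPrimeCore p G))) := by
    rw [IsPGroup.iff_orderOf] at *
    rintro ⟨x, hx⟩
    obtain ⟨y, hy, rfl⟩ := Subgroup.mem_map.mp hx
    -- write the order of `y` as `p ^ a * m`
    obtain ⟨a, m, hm, hym⟩ := Nat.exists_eq_pow_mul_and_not_dvd (orderOf_pos y).ne' p
      hp.ne_one
    have h1 : orderOf (y ^ p ^ a) = m := by
      rw [orderOf_pow' y (pow_ne_zero a hp.ne_zero), hym,
        Nat.gcd_eq_right (Dvd.intro _ rfl), Nat.mul_div_cancel_left m (pow_pos hp.pos a)]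
    have h2 : y ^ p ^ a ∈ pPrimeCore p G := by
      apply h _ (Subgroup.pow_mem _ hy _)
      rw [h1]; exact hm
    have h3 : (QuotientGroup.mk' (pPrimeCore p G) y) ^ p ^ a = 1 := by
      rw [← map_pow]
      exact (QuotientGroup.eq_one_iff _).mpr h2
    have h4 : orderOf (⟨QuotientGroup.mk' (pPrimeCore p G) y, hx⟩ :
        L.map (QuotientGroup.mk' (pPrimeCore p G))) ∣ p ^ a := by
      apply orderOf_dvd_of_pow_eq_one
      apply Subtype.ext
      rw [Subgroup.coe_pow]
      exact h3
    obtain ⟨k, _, hk⟩ := (Nat.dvd_prime_pow hp).mp h4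
    exact ⟨k, hk⟩
  have hLmapn : (L.map (QuotientGroup.mk' (pPrimeCore p G))).Normal :=
    Subgroup.Normal.map hLn _ (QuotientGroup.mk'_surjective _)
  have h1 : L.map (QuotientGroup.mk' (pPrimeCore p G)) ≤ pCore p (G ⧸ pPrimeCore p G) :=
    le_pCore hLmapn hLp
  have h2 : L ≤ pPrimePCore p G := by
    intro x hx
    show x ∈ (pCore p (G ⧸ pPrimeCore p G)).comap (QuotientGroup.mk' (pPrimeCore p G))
    rw [Subgroup.mem_comap]
    exact h1 (Subgroup.mem_map_of_mem _ hx)
  have h3 : (P : Subgroup G) ≤ pPrimePCore p G :=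
    le_trans (le_trans Subgroup.le_normalClosure le_sup_right) h2
  apply Cfsg.Agent.Lib.Helper10.pLengthLE_one_of_index_coprime
  have h4 : (pPrimePCore p G).index ∣ (P : Subgroup G).index := Subgroup.index_dvd_of_le h3
  have h5 : ¬ p ∣ (P : Subgroup G).index := P.not_dvd_index
  have h6 : ¬ p ∣ (pPrimePCore p G).index := fun h => h5 (dvd_trans h h4)
  exact ((Nat.Prime.coprime_iff_not_dvd hp).mpr h6).symm

end Cfsg.Agent.Lib.Helper24.PLenOne
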