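import Mathlib
import Cfsg.Prelude.Def_Blocks
import Cfsg.Agent.Lib.Helper24.CliffordGeneral
import Cfsg.Agent.Lib.Helper24.FongReynolds
import Cfsg.Agent.Lib.Helper11.Clifford5
import Cfsg.Agent.Lib.Helper2.DegreeRatio
import Cfsg.Agent.Lib.Helper10.PComponent
import Cfsg.Agent.H5.PSolvable
import Cfsg.Agent.H5.PSolvable2
import Cfsg.Agent.H5.Cores

/-!
# Degrees over an invariant character of `O_{p'}(G)` in a `p`-solvable group (helper24)

* `exists_abelian_over_pPrimeCore`: in a `p`-solvable group `G` with Sylow `p`-subgroup `S` there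
  is a normal subgroup `C ≥ O_{p'}(G)` with `C / O_{p'}(G)` an abelian `p`-group and `Z(S) ≤ C`
  (the preimage of `Z(O_p(G / O_{p'}(G)))`, Hall–Higman 1.2.3).
* `exists_degree_factor`: `N ≤ C` normal in `G`, `C/N` abelian of order prime to `|N|`, `θ ∈ Irr N`
  invariant in `G`, `χ ∈ Irr(G | θ)`: `χ(1) = b d` with `d ∣ |N|` and `b ∣ |G : C|`.
* `factorization_degree_le_index_center`: `ν_p(χ(1)) ≤ ν_p |S : Z(S)|` for `χ` over a `G`-invariant
  `θ ∈ Irr(O_{p'}(G))`, `G` `p`-solvable.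
* `index_center_eq_of_mulEquiv`.
-/

set_option autoImplicit false

namespace Cfsg.Agent.Lib.Helper24.PSolvHeight

open Cfsg.Agent.Lib.Helper2 Cfsg.Agent.Lib.Helper11 Cfsg.Agent.Lib.Helper24
open scoped ComplexConjugate

theorem index_center_eq_of_mulEquiv {A B : Type*} [Group A] [Group B] (e : A ≃* B) :
    (Subgroup.center A).index = (Subgroup.center B).index := by
  have h : (Subgroup.center B).comap e.toMonoidHom = Subgroup.center A := by
    ext a
    rw [Subgroup.mem_comap, Subgroup.mem_center_iff, Subgroup.mem_center_iff]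
    constructor
    · intro h x
      have := h (e x)
      apply e.injective
      rw [map_mul, map_mul]
      exact this
    · intro h y
      obtain ⟨x, rfl⟩ := e.surjective y
      have := congrArg e (h x)
      rw [map_mul, map_mul] at this
      exact this
  rw [← h]
  exact Subgroup.index_comap_of_surjective _ e.surjective

section GroupTheory

variable {G : Type*} [Group G] [Finite G]

/-- Hall–Higman: a normal subgroup `C ≥ O_{p'}(G)` with `C/O_{p'}(G)` an abelian `p`-group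
containing the centre of a Sylow `p`-subgroup -/
theorem exists_abelian_over_pPrimeCore (p : ℕ) [Fact p.Prime] (hsolv : Cfsg.IsPSolvable p G)
    (S : Sylow p G) :
    ∃ C : Subgroup G, C.Normal ∧ Cfsg.pPrimeCore p G ≤ C ∧
      (∀ x ∈ C, ∀ y ∈ C, x * y * x⁻¹ * y⁻¹ ∈ Cfsg.pPrimeCore p G) ∧
      (∃ m : ℕ, (Cfsg.pPrimeCore p G).relIndex C = p ^ m) ∧
      ∀ z ∈ (S : Subgroup G), (∀ y ∈ (S : Subgroup G), y * z = z * y) → z ∈ C := by
  haveI hKn : (Cfsg.pPrimeCore p G).Normal := Cfsg.H5.pPrimeCore_normal p G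
  obtain ⟨π, hπ⟩ : ∃ π : G →* G ⧸ Cfsg.pPrimeCore p G, π = QuotientGroup.mk' _ := ⟨_, rfl⟩
  have hπs : Function.Surjective π := hπ ▸ QuotientGroup.mk'_surjective _
  have hker : π.ker = Cfsg.pPrimeCore p G := hπ ▸ QuotientGroup.ker_mk' _
  have hO : Cfsg.pPrimeCore p (G ⧸ Cfsg.pPrimeCore p G) = ⊥ :=
    Cfsg.Agent.Lib.Helper10.pPrimeCore_quotient_eq_bot p
  have hsq : Cfsg.IsPSolvable p (G ⧸ Cfsg.pPrimeCore p G) :=
    Cfsg.H5.isPSolvable_quotient _ hsolv
  have hHH := Cfsg.H5.centralizer_pCore_le_of_isPSolvable hsq hO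
  haveI hRn : (Cfsg.pCore p (G ⧸ Cfsg.pPrimeCore p G)).Normal := Cfsg.H5.pCore_normal p _
  have hRp : IsPGroup p (Cfsg.pCore p (G ⧸ Cfsg.pPrimeCore p G)) := Cfsg.H5.pCore_isPGroup p _
  obtain ⟨A, hA⟩ : ∃ A : Subgroup (G ⧸ Cfsg.pPrimeCore p G),
      A = Subgroup.centralizer (Cfsg.pCore p (G ⧸ Cfsg.pPrimeCore p G) : Set _) := ⟨_, rfl⟩
  have hAn : A.Normal := by
    rw [hA]
    infer_instance
  have hAR : A ≤ Cfsg.pCore p (G ⧸ Cfsg.pPrimeCore p G) := hA ▸ hHH
  have hRS : Cfsg.pCore p (G ⧸ Cfsg.pPrimeCore p G) ≤ (S : Subgroup G).map π := by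
    have := hRp.le_sylow_of_normal (S.mapSurjective hπs)
    rwa [Sylow.coe_mapSurjective] at this
  refine ⟨A.comap π, hAn.comap π, ?_, ?_, ?_, ?_⟩
  · intro x hx
    rw [Subgroup.mem_comap]
    have : π x = 1 := by
      rw [← MonoidHom.mem_ker, hker]
      exact hx
    rw [this]
    exact A.one_mem
  · intro x hx y hy
    rw [Subgroup.mem_comap] at hx hy
    rw [← hker, MonoidHom.mem_ker, map_mul, map_mul, map_mul, map_inv, map_inv]
    have hy' : π y ∈ Cfsg.pCore p (G ⧸ Cfsg.pPrimeCore p G) := hAR hy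
    rw [hA, Subgroup.mem_centralizer_iff] at hx
    have := hx (π y) hy'
    rw [← this]
    group
  · have h1 : (A.comap π).map π = A := Subgroup.map_comap_eq_self_of_surjective hπs A
    have h2 : Nat.card ((A.comap π).map π) = (Cfsg.pPrimeCore p G).relIndex (A.comap π) := by
      rw [hπ]
      exact Cfsg.H5.card_map_mk' _ _
    rw [← h2, h1]
    exact (hRp.to_le hAR).exists_card_eq
  · intro z hz hcomm
    rw [Subgroup.mem_comap, hA, Subgroup.mem_centralizer_iff]
    intro r hr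
    obtain ⟨y, hy, rfl⟩ := hRS hr
    rw [← map_mul, ← map_mul, hcomm y hy]

end GroupTheory

section Degree

variable {G : Type*} [Group G] [Fintype G]

/-- `N ≤ C` normal in `G`, `C/N` abelian, `(|N|, |C:N|) = 1`, `θ ∈ Irr N` invariant in `G`:
every `χ ∈ Irr(G | θ)` has degree `b d`, `d = θ(1) ∣ |N|`, `b ∣ |G:C|` -/
theorem exists_degree_factor (N C : Subgroup G) [hN : N.Normal] [hC : C.Normal] [Fintype N]
    [Fintype C] (hNC : N ≤ C) (hab : ∀ x ∈ C, ∀ y ∈ C, x * y * x⁻¹ * y⁻¹ ∈ N)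
    (hcop : Nat.Coprime (Nat.card N) (N.relIndex C)) (θ : Cfsg.IrrCharacter N)
    (hinv : ∀ (g : G) (n : N), (θ : N → ℂ) ⟨g * n * g⁻¹, hN.conj_mem n n.2 g⟩ = (θ : N → ℂ) n)
    (χ : Cfsg.IrrCharacter G)
    (hov : Cfsg.classInner (fun n : N => (χ : G → ℂ) n) (θ : N → ℂ) ≠ 0) :
    ∃ b d : ℕ, (χ : G → ℂ) 1 = ((b * d : ℕ) : ℂ) ∧ d ∣ Nat.card N ∧ b ∣ C.index := by
  classical
  haveI : Fintype (N.subgroupOf C) := Fintype.ofFinite _
  obtain ⟨φ, hφ1, hφ2⟩ := exists_liesOver_between N C hNC χ θ hov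
  haveI hN' : (N.subgroupOf C).Normal := Subgroup.normal_subgroupOf
  obtain ⟨θ', hθ'def⟩ : ∃ θ' : N.subgroupOf C → ℂ,
      θ' = fun x : N.subgroupOf C =>
        (θ : N → ℂ) ⟨((x : C) : G), Subgroup.mem_subgroupOf.mp x.2⟩ := ⟨_, rfl⟩
  have hθ' : Cfsg.IsIrrCharacter (N.subgroupOf C) θ' := by
    have := isIrrCharacter_comp_equiv (Subgroup.subgroupOfEquivOfLe hNC) θ.2
    rw [hθ'def]
    convert this using 1
    funext x
    rfl
  have hinv' : ∀ g : C, conjFn (N.subgroupOf C) g θ' = θ' := by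
    intro g
    funext x
    rw [conjFn_apply, hθ'def]
    exact hinv (g : G) ⟨((x : C) : G), Subgroup.mem_subgroupOf.mp x.2⟩
  have hab' : ∀ x y : C, x * y * x⁻¹ * y⁻¹ ∈ N.subgroupOf C := by
    intro x y
    rw [Subgroup.mem_subgroupOf]
    exact hab x x.2 y y.2
  have hcop' : Nat.Coprime (Nat.card (N.subgroupOf C)) (N.subgroupOf C).index := by
    rw [Nat.card_congr (Subgroup.subgroupOfEquivOfLe hNC).toEquiv]
    exact hcop
  obtain ⟨S, hSirr, -, hSsum, hSdeg⟩ :=
    clifford_coprime_abelian_top (N.subgroupOf C) θ' hθ' hinv' hab' hcop'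
  have hφc : Cfsg.IsClassFunction C (φ : C → ℂ) := IrrCharacter.isClassFunction φ
  have h1 : Cfsg.classInner (Cfsg.indFun (N.subgroupOf C) θ') (φ : C → ℂ) ≠ 0 := by
    have h2 := classInner_indFun_subgroupOf N C hNC (θ : N → ℂ) (φ : C → ℂ) hφc
    rw [hθ'def, h2, ← classInner_conj_symm]
    intro h3
    apply hφ2
    have := congrArg conj h3
    rwa [Complex.conj_conj, map_zero] at this
  rw [hSsum, classInner_sum_left] at h1
  obtain ⟨ξ, hξS, hξ⟩ := Finset.exists_ne_zero_of_sum_ne_zero h1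
  have hξφ : ξ = (φ : C → ℂ) := eq_of_irr_of_classInner_ne_zero (hSirr ξ hξS) φ.2 hξ
  have hφdeg : (φ : C → ℂ) 1 = (θ : N → ℂ) 1 := by
    rw [← hξφ, hSdeg ξ hξS, hθ'def]
    rfl
  obtain ⟨d, hd1, hd2⟩ := IsIrrCharacter.exists_degree_dvd_card θ.2
  obtain ⟨b, d', hd', hχ1, hb⟩ := Cfsg.Agent.Lib.Helper2.DegreeRatio.main C (χ : G → ℂ) χ.2
    (φ : C → ℂ) φ.2 hφ1
  have hdd : d' = d := by
    have : (d' : ℂ) = (d : ℂ) := by rw [← hd', hφdeg, hd1]
    exact_mod_cast this
  subst hdd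
  exact ⟨b, d', hχ1, hd2, hb⟩

/-- `ν_p(χ(1)) ≤ ν_p |S : Z(S)|` for `χ` over a `G`-invariant character of `O_{p'}(G)`, `G`
`p`-solvable, `S` a Sylow `p`-subgroup -/
theorem factorization_degree_le_index_center (p : ℕ) [Fact p.Prime]
    (hsolv : Cfsg.IsPSolvable p G) (N : Subgroup G) [hN : N.Normal] [Fintype N]
    (hNdef : N = Cfsg.pPrimeCore p G) (θ : Cfsg.IrrCharacter N)
    (hinv : ∀ (g : G) (n : N), (θ : N → ℂ) ⟨g * n * g⁻¹, hN.conj_mem n n.2 g⟩ = (θ : N → ℂ) n)
    (χ : Cfsg.IrrCharacter G)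
    (hov : Cfsg.classInner (fun n : N => (χ : G → ℂ) n) (θ : N → ℂ) ≠ 0) (S : Sylow p G) :
    (Cfsg.charDegree (χ : G → ℂ)).factorization p
      ≤ ((Subgroup.center (S : Subgroup G)).index).factorization p := by
  classical
  have hp : p.Prime := Fact.out
  obtain ⟨C, hCn, hKC, hab, ⟨m, hm⟩, hZ⟩ := exists_abelian_over_pPrimeCore p hsolv S
  haveI := hCn
  haveI : Fintype C := Fintype.ofFinite _
  rw [← hNdef] at hKC hab hm
  have hcopN : (Nat.card N).Coprime p := hNdef ▸ Cfsg.H5.coprime_card_pPrimeCore p G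
  have hcop : Nat.Coprime (Nat.card N) (N.relIndex C) := by
    rw [hm]
    exact Nat.Coprime.pow_right m hcopN
  obtain ⟨b, d, hχ1, hd, hb⟩ := exists_degree_factor N C hKC hab hcop θ hinv χ hov
  have hdeg : Cfsg.charDegree (χ : G → ℂ) = b * d := by
    have h := Cfsg.Agent.Lib.Helper25.char_one_eq_charDegree (IsIrrCharacter.isCharacter χ.2)
    rw [hχ1] at h
    exact_mod_cast h.symm
  have hne : b * d ≠ 0 := by
    rw [← hdeg]
    exact charDegree_ne_zero_of_irr χ.2
  have hb0 : b ≠ 0 := left_ne_zero_of_mul hne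
  have hd0 : d ≠ 0 := right_ne_zero_of_mul hne
  have hdp : d.factorization p = 0 := by
    apply Nat.factorization_eq_zero_of_not_dvd
    intro h
    have h1 : p ∣ Nat.card N := dvd_trans h hd
    have := Nat.Coprime.eq_one_of_dvd hcopN.symm h1
    exact hp.one_lt.ne' this
  rw [hdeg, Nat.factorization_mul hb0 hd0, Finsupp.add_apply, hdp, add_zero]
  have hCidx0 : C.index ≠ 0 := Subgroup.index_ne_zero_of_finite
  have h1 : b.factorization p ≤ C.index.factorization p :=
    (Nat.factorization_le_iff_dvd hb0 hCidx0).mpr hb p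
  have h2 : (Nat.card G).factorization p
      = (Nat.card C).factorization p + C.index.factorization p := by
    rw [← Subgroup.card_mul_index C, Nat.factorization_mul Nat.card_pos.ne' hCidx0,
      Finsupp.add_apply]
  have hZidx0 : (Subgroup.center (S : Subgroup G)).index ≠ 0 := Subgroup.index_ne_zero_of_finite
  have h3 : (Nat.card (S : Subgroup G)).factorization p
      = (Nat.card (Subgroup.center (S : Subgroup G))).factorization p
        + (Subgroup.center (S : Subgroup G)).index.factorization p := by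
    rw [← Subgroup.card_mul_index (Subgroup.center (S : Subgroup G)),
      Nat.factorization_mul Nat.card_pos.ne' hZidx0, Finsupp.add_apply]
  have h4 : (Nat.card (S : Subgroup G)).factorization p = (Nat.card G).factorization p := by
    rw [Sylow.card_eq_multiplicity, hp.factorization_pow, Finsupp.single_eq_same]
  have h5 : Nat.card (Subgroup.center (S : Subgroup G)) ∣ Nat.card C := by
    have hle : (Subgroup.center (S : Subgroup G)).map (S : Subgroup G).subtype ≤ C := by
      rintro _ ⟨z, hz, rfl⟩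
      apply hZ _ z.2
      intro y hy
      have := (Subgroup.mem_center_iff.mp hz) ⟨y, hy⟩
      exact congrArg Subtype.val this
    have := Subgroup.card_dvd_of_le hle
    rwa [Subgroup.card_map_of_injective (Subgroup.subtype_injective _)] at this
  have h6 : (Nat.card (Subgroup.center (S : Subgroup G))).factorization p
      ≤ (Nat.card C).factorization p :=
    (Nat.factorization_le_iff_dvd Nat.card_pos.ne' Nat.card_pos.ne').mpr h5 p
  omega

end Degree

end Cfsg.Agent.Lib.Helper24.PSolvHeight
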