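import Mathlib
import Cfsg.Prelude.Def_Characters
import Cfsg.Agent.Lib.Helper2.BurnsidePQ
import Cfsg.Agent.Lib.Helper2.Integrality
import Cfsg.Agent.Lib.Helper11.GenChar
import Cfsg.Agent.Lib.Helper11.Clifford

/-!
# Groups whose nonlinear irreducible characters have prime degree, part A (helper24)

* `Cfsg.Agent.Lib.Helper24.PrimeDeg.not_finrank_two`: a nonabelian finite simple group has no irreducible
  representation of degree two.
* `Cfsg.Agent.Lib.Helper24.PrimeDeg.deg_ge_of_const`: a character constant (`= c ≠ χ 1`) on the nonidentity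
  elements of a subgroup `H` with at least three elements has degree at least `|H| - 1`, and
  degree `|H|` forces `c = 0`.
-/

set_option autoImplicit false
set_option linter.style.haveILetI false

namespace Cfsg.Agent.Lib.Helper24.PrimeDeg

open Cfsg Module
open Cfsg.Agent.Lib.Helper2 Cfsg.Agent.Lib.Helper11
open scoped ComplexConjugate

section DegreeTwo

variable {G : Type*} [Group G] [Fintype G]

/-- a nonabelian simple group has no irreducible representation of degree two -/
theorem not_finrank_two [IsSimpleGroup G] (hna : ¬ ∀ a b : G, a * b = b * a)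
    (ρ : Representation ℂ G (Fin 2 → ℂ)) [ρ.IsIrreducible] : False := by
  classical
  have hfin : finrank ℂ (Fin 2 → ℂ) = 2 := Module.finrank_fin_fun ℂ
  -- the group is perfect
  have hcomm : commutator G = ⊤ := by
    rcases (inferInstance : (commutator G).Normal).eq_bot_or_eq_top with h | h
    · exfalso
      apply hna
      intro a b
      have hm : a * b * a⁻¹ * b⁻¹ ∈ commutator G := by
        rw [commutator_def, ← commutatorElement_def]
        exact Subgroup.commutator_mem_commutator (Subgroup.mem_top a) (Subgroup.mem_top b)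
      rw [h, Subgroup.mem_bot] at hm
      have : a * b = (a * b * a⁻¹ * b⁻¹) * (b * a) := by group
      rw [this, hm, one_mul]
    · exact h
  -- the determinant is trivial
  have hdet : ∀ g : G, LinearMap.det (ρ g) = 1 := by
    intro g
    let δ : G →* ℂ := (LinearMap.det : ((Fin 2 → ℂ) →ₗ[ℂ] (Fin 2 → ℂ)) →* ℂ).comp ρ
    have h1 : g ∈ (MonoidHom.toHomUnits δ).ker := by
      have := Abelianization.commutator_subset_ker (MonoidHom.toHomUnits δ)
      apply this
      rw [hcomm]
      trivial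
    rw [MonoidHom.mem_ker] at h1
    have h2 := congrArg (fun u : ℂˣ => (u : ℂ)) h1
    simpa [δ, MonoidHom.coe_toHomUnits] using h2
  -- an involution
  have h2dvd : 2 ∣ Nat.card G := by
    have := finrank_dvd_card ρ
    rwa [hfin] at this
  haveI : Fact (Nat.Prime 2) := ⟨Nat.prime_two⟩
  obtain ⟨t, ht⟩ := exists_prime_orderOf_dvd_card' 2 h2dvd
  have ht2 : t * t = 1 := by
    have := pow_orderOf_eq_one t
    rw [ht, pow_two] at this
    exact this
  have ht1 : t ≠ 1 := by
    intro h
    rw [h, orderOf_one] at ht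
    norm_num at ht
  -- the matrix of `t`
  set A : Matrix (Fin 2) (Fin 2) ℂ := LinearMap.toMatrix' (ρ t) with hA
  have hAA : A * A = 1 := by
    rw [hA, ← LinearMap.toMatrix'_mul, ← map_mul, ht2, map_one]
    exact LinearMap.toMatrix'_one
  have hAdet : A.det = 1 := by
    rw [hA, LinearMap.det_toMatrix']
    exact hdet t
  have hCH := Matrix.aeval_self_charpoly A
  rw [Matrix.charpoly_fin_two, hAdet] at hCH
  simp only [map_sub, map_add, map_mul, map_pow, Polynomial.aeval_X, Polynomial.aeval_C,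
    map_one] at hCH
  rw [pow_two, hAA] at hCH
  -- `tr A • A = 2`
  have h5 : A.trace • A = (2 : ℂ) • (1 : Matrix (Fin 2) (Fin 2) ℂ) := by
    have h4 : (algebraMap ℂ (Matrix (Fin 2) (Fin 2) ℂ)) A.trace * A = A.trace • A := by
      rw [Algebra.algebraMap_eq_smul_one, smul_mul_assoc, one_mul]
    rw [h4] at hCH
    rw [two_smul]
    have h6 : A.trace • A = ((1 : Matrix (Fin 2) (Fin 2) ℂ) + 1)
        - ((1 : Matrix (Fin 2) (Fin 2) ℂ) - A.trace • A + 1) := by abel
    rw [h6, hCH, sub_zero]
  have htr : A.trace ≠ 0 := by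
    intro h0
    rw [h0, zero_smul] at h5
    have := congrFun (congrFun h5 0) 0
    simp at this
  have hAsc : A = (2 / A.trace) • (1 : Matrix (Fin 2) (Fin 2) ℂ) := by
    calc A = (A.trace)⁻¹ • (A.trace • A) := by rw [smul_smul, inv_mul_cancel₀ htr, one_smul]
      _ = (A.trace)⁻¹ • ((2 : ℂ) • (1 : Matrix (Fin 2) (Fin 2) ℂ)) := by rw [h5]
      _ = (2 / A.trace) • (1 : Matrix (Fin 2) (Fin 2) ℂ) := by
        rw [smul_smul]
        congr 1
        field_simp
  have hsc : t ∈ scalarSubgroup ρ := by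
    rw [mem_scalarSubgroup]
    obtain ⟨ω, hω⟩ : ∃ ω : ℂ, A = ω • (1 : Matrix (Fin 2) (Fin 2) ℂ) := ⟨_, hAsc⟩
    refine ⟨ω, ?_⟩
    apply (LinearMap.toMatrix' (R := ℂ) (m := Fin 2) (n := Fin 2)).injective
    rw [← hA, hω, map_smul, LinearMap.toMatrix'_id]
  have hnt : ρ.character ≠ fun _ => 1 := by
    intro h
    have h1 := congrFun h 1
    rw [Representation.char_one, hfin] at h1
    norm_num at h1
  rw [scalarSubgroup_eq_bot_of_simple hna ρ hnt, Subgroup.mem_bot] at hsc
  exact ht1 hsc

end DegreeTwo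

section Const

variable {G : Type*} [Group G] [Finite G]

/-- a character constant on the nonidentity elements of a subgroup -/
theorem deg_ge_of_const (H : Subgroup G) {χ : G → ℂ} (hχ : IsCharacter G χ) (d : ℕ) (c : ℂ)
    (hd : χ 1 = (d : ℂ)) (hc : ∀ g ∈ H, g ≠ 1 → χ g = c) (hne : c ≠ (d : ℂ))
    (hn : 3 ≤ Nat.card H) :
    Nat.card H ≤ d + 1 ∧ (d = Nat.card H → c = 0) := by
  classical
  haveI : Fintype G := Fintype.ofFinite G
  haveI : Fintype H := Fintype.ofFinite _
  obtain ⟨N, hN⟩ := IsCharacter.inner_irr_nat (IsCharacter.restrict hχ H) (trivialIrr H)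
  rw [classInner_def] at hN
  have hsum : ∑ h : H, χ (h : G) * conj ((trivialIrr H : H → ℂ) h)
      = (d : ℂ) + ((Nat.card H : ℂ) - 1) * c := by
    have h1 : ∀ h : H, χ (h : G) * conj ((trivialIrr H : H → ℂ) h)
        = if h = 1 then (d : ℂ) else c := by
      intro h
      have : (trivialIrr H : H → ℂ) h = 1 := rfl
      rw [this, map_one, mul_one]
      by_cases hh : h = 1
      · rw [if_pos hh, hh]
        simpa using hd
      · rw [if_neg hh]
        exact hc (h : G) h.2 (fun h' => hh (Subtype.ext h'))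
    rw [Finset.sum_congr rfl (fun h _ => h1 h), ← Finset.add_sum_erase Finset.univ _
      (Finset.mem_univ (1 : H)), if_pos rfl]
    congr 1
    have h2 : ∀ h ∈ Finset.univ.erase (1 : H), (if h = 1 then (d : ℂ) else c) = c := by
      intro h hh
      rw [if_neg (Finset.ne_of_mem_erase hh)]
    rw [Finset.sum_congr rfl h2, Finset.sum_const, Finset.card_erase_of_mem (Finset.mem_univ _),
      Finset.card_univ, nsmul_eq_mul, ← Nat.card_eq_fintype_card]
    have hpos : 1 ≤ Nat.card H := Nat.card_pos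
    rw [Nat.cast_sub hpos]
    simp
  rw [hsum] at hN
  have hH0 : (Nat.card H : ℂ) ≠ 0 := by
    have : 0 < Nat.card H := Nat.card_pos
    exact_mod_cast this.ne'
  have h3 : (d : ℂ) + ((Nat.card H : ℂ) - 1) * c = (Nat.card H : ℂ) * (N : ℂ) := by
    rw [← hN, ← mul_assoc, mul_inv_cancel₀ hH0, one_mul]
  -- a nonidentity element
  obtain ⟨g, hgH, hg1⟩ : ∃ g : G, g ∈ H ∧ g ≠ 1 := by
    have : 1 < Nat.card H := by omega
    haveI : Nontrivial H := Finite.one_lt_card_iff_nontrivial.mp this
    obtain ⟨x, hx⟩ := exists_ne (1 : H)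
    exact ⟨x, x.2, fun h => hx (Subtype.ext h)⟩
  -- `c` is an integer
  have hn1 : ((Nat.card H : ℂ) - 1) ≠ 0 := by
    intro h0
    have h4 : (Nat.card H : ℂ) = 1 := by linear_combination h0
    have h5 : Nat.card H = 1 := by exact_mod_cast h4
    omega
  have hcq : c = (((Nat.card H : ℚ) * (N : ℚ) - (d : ℚ)) / ((Nat.card H : ℚ) - 1) : ℚ) := by
    push_cast
    rw [eq_div_iff hn1]
    linear_combination h3
  have hint : IsIntegral ℤ c := by
    rw [← hc g hgH hg1]
    obtain ⟨n, ρ, rfl⟩ := hχ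
    exact char_isIntegral ρ g
  obtain ⟨m, hm⟩ := exists_int_of_isIntegral_of_rat _ hcq hint
  -- norm bound
  have hmd : m ≤ (d : ℤ) := by
    obtain ⟨n, hn1', hnb⟩ := IsCharacter.exists_degree_norm_le hχ
    have hnd : n = d := by
      have : (n : ℂ) = (d : ℂ) := by rw [← hn1', hd]
      exact_mod_cast this
    have h4 := hnb g
    rw [hc g hgH hg1, hm, hnd] at h4
    have h5 : ((m : ℤ) : ℝ) ≤ ‖((m : ℤ) : ℂ)‖ := by
      have : ((m : ℤ) : ℂ) = ((m : ℝ) : ℂ) := by push_cast; rfl
      rw [this, Complex.norm_real]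
      exact le_abs_self _
    have h6 : (m : ℝ) ≤ (d : ℝ) := le_trans h5 h4
    exact_mod_cast h6
  have hmne : m ≠ (d : ℤ) := by
    intro h
    apply hne
    rw [hm, h]
    simp
  -- integer arithmetic
  have h7 : (d : ℤ) + ((Nat.card H : ℤ) - 1) * m = (Nat.card H : ℤ) * (N : ℤ) := by
    rw [hm] at h3
    exact_mod_cast h3
  have hn' : (3 : ℤ) ≤ (Nat.card H : ℤ) := by exact_mod_cast hn
  have hN0 : (0 : ℤ) ≤ (N : ℤ) := Int.natCast_nonneg N
  have hlt : m < (d : ℤ) := lt_of_le_of_ne hmd hmne
  -- `|H|` divides `d - m > 0`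
  have hdvd : (Nat.card H : ℤ) ∣ (d : ℤ) - m := ⟨(N : ℤ) - m, by linarith⟩
  have hge : (Nat.card H : ℤ) ≤ (d : ℤ) - m := Int.le_of_dvd (by linarith) hdvd
  constructor
  · have h8 : (Nat.card H : ℤ) * (N : ℤ) ≤ (Nat.card H : ℤ) * ((d : ℤ) - ((Nat.card H : ℤ) - 1)) := by
      nlinarith
    have h9 : (N : ℤ) ≤ (d : ℤ) - ((Nat.card H : ℤ) - 1) := by
      apply le_of_mul_le_mul_left h8
      linarith
    have h10 : (Nat.card H : ℤ) ≤ (d : ℤ) + 1 := by linarith
    exact_mod_cast h10
  · intro hdn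
    rw [hm]
    have hdn' : (d : ℤ) = (Nat.card H : ℤ) := by exact_mod_cast hdn
    obtain ⟨k, hk⟩ := hdvd
    -- `d - m = |H| k`, so `m = |H| (1 - k)`
    have hm0 : m = 0 := by
      have hk1 : 1 ≤ k := by
        by_contra hcon
        have : k ≤ 0 := by omega
        nlinarith
      have hmk : m = (Nat.card H : ℤ) * (1 - k) := by linarith
      rcases eq_or_lt_of_le hk1 with hk1' | hk1'
      · rw [hmk, ← hk1']; ring
      · exfalso
        have hk2 : 2 ≤ k := by omega
        -- `m ≤ -|H|`, but `|H| N = d + (|H| - 1) m ≥ 0`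
        have hmle : m ≤ -(Nat.card H : ℤ) := by
          rw [hmk]
          nlinarith
        have : (0 : ℤ) ≤ (d : ℤ) + ((Nat.card H : ℤ) - 1) * m := by
          rw [h7]
          positivity
        nlinarith
    rw [hm0]
    simp

end Const

end Cfsg.Agent.Lib.Helper24.PrimeDeg
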