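import Cfsg.Agent.Lib.Helper24.PrimeDegA
import Cfsg.Agent.Lib.Helper11.ExcPrime
import Cfsg.Agent.Lib.Helper7.PrincipalLinear
import Cfsg.Agent.Lib.Helper23.BlichComm
import Cfsg.Agent.Lib.Helper22.Conj
import Cfsg.Agent.Lib.Helper25.EvenDegree
import Cfsg.Agent.Lib.Helper25.CharBasic
import Cfsg.Agent.S4729

/-!
# Groups whose nonlinear irreducible characters have prime degree, part B (helper24)

`Cfsg.Agent.Lib.Helper24.PrimeDeg.simple_not_all_prime`: a nonabelian finite simple group has a nonlinear
irreducible character whose degree is not a prime.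

Proof.  Let `p` be the largest degree.  By Isaacs–Smith the principal `p`-block contains a
character `ψ` of prime degree `q < p`; `ψ` is faithful, so a Sylow `p`-subgroup `P` is abelian,
and `C(P)` is a `p`-group (S4729), i.e. `C(P) = P`.  A character of degree `p` vanishes on
`P ∖ 1` (Burnside), so `|P| = p`.  Now `N(P)` is a Frobenius group with kernel `P` and the
Brauer–Suzuki theory of exceptional characters (helper11) shows that the nonexceptional
characters are constant on `P ∖ 1`, hence trivial or of degree `p` vanishing on `P ∖ 1`; the degree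
equation then gives an exceptional character of degree one, which is impossible.
-/

set_option autoImplicit false
set_option linter.style.haveILetI false
set_option maxHeartbeats 1600000

namespace Cfsg.Agent.Lib.Helper24.PrimeDeg

open Cfsg Module
open Cfsg.Agent.Lib.Helper2 Cfsg.Agent.Lib.Helper11 Cfsg.Agent.Lib.Helper7
  Cfsg.Agent.Lib.Helper25
open scoped ComplexConjugate

universe u

/-- a prime `p ≥ 5` has `p - 1` composite -/
theorem not_prime_pred {p : ℕ} (hp : p.Prime) (h5 : 5 ≤ p) : ¬ (p - 1).Prime := by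
  intro h
  have hodd : ¬ 2 ∣ p := by
    intro h2
    have := (Nat.prime_dvd_prime_iff_eq Nat.prime_two hp).mp h2
    omega
  have h2 : 2 ∣ p - 1 := by omega
  have := (Nat.prime_dvd_prime_iff_eq Nat.prime_two h).mp h2
  omega

section Simple

variable {S : Type u} [Group S] [Finite S] [IsSimpleGroup S]

theorem simple_not_all_prime (hna : ¬ ∀ a b : S, a * b = b * a)
    (h : ∀ χ : IrrCharacter S, charDegree (χ : S → ℂ) ≠ 1 → (charDegree (χ : S → ℂ)).Prime) :
    False := by
  classical
  haveI : Fintype S := Fintype.ofFinite S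
  haveI : Fintype (IrrCharacter S) := Fintype.ofFinite _
  -- the group is perfect
  have hperf : commutator S = ⊤ := by
    rcases (inferInstance : (commutator S).Normal).eq_bot_or_eq_top with h' | h'
    · exfalso
      apply hna
      intro a b
      have hm : a * b * a⁻¹ * b⁻¹ ∈ commutator S := by
        rw [commutator_def, ← commutatorElement_def]
        exact Subgroup.commutator_mem_commutator (Subgroup.mem_top a) (Subgroup.mem_top b)
      rw [h', Subgroup.mem_bot] at hm
      have : a * b = (a * b * a⁻¹ * b⁻¹) * (b * a) := by group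
      rw [this, hm, one_mul]
    · exact h'
  have hdeg : ∀ χ : IrrCharacter S, (χ : S → ℂ) 1 = (charDegree (χ : S → ℂ) : ℂ) :=
    fun χ => char_one_eq_charDegree (IsIrrCharacter.isCharacter χ.2)
  have hnl : ∀ χ : IrrCharacter S, χ ≠ trivialIrr S → charDegree (χ : S → ℂ) ≠ 1 := by
    intro χ hχ h1
    apply hχ
    apply eq_trivialIrr_of_degree_one hna χ
    rw [hdeg χ, h1]
    simp
  have htrivdeg : charDegree (trivialIrr S : S → ℂ) = 1 := by
    show ⌊((1 : ℂ)).re⌋₊ = 1
    simp
  -- no character of degree two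
  have hne2 : ∀ χ : IrrCharacter S, charDegree (χ : S → ℂ) ≠ 2 := by
    intro χ h2
    obtain ⟨n, ρ, hρ, hρχ⟩ := χ.2
    have hn : n = 2 := by
      rw [← h2, ← hρχ, charDegree_rep]
    subst hn
    haveI := hρ
    exact not_finrank_two hna ρ
  -- nontrivial irreducible characters are faithful
  have hfaith : ∀ χ : IrrCharacter S, χ ≠ trivialIrr S →
      ∀ g : S, (χ : S → ℂ) g = (χ : S → ℂ) 1 → g = 1 := by
    intro χ hχ g hg
    obtain ⟨n, ρ, hρ, hρχ⟩ := χ.2
    haveI := hρ
    have hnt : ρ.character ≠ fun _ => 1 := by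
      intro h'
      apply hχ
      apply Subtype.ext
      rw [← hρχ, h']
      rfl
    have hnorm : ‖ρ.character g‖ = (finrank ℂ (Fin n → ℂ) : ℝ) := by
      rw [hρχ, hg, ← hρχ, Representation.char_one]
      simp
    have hmem : g ∈ scalarSubgroup ρ := (norm_char_eq_finrank_iff ρ g).mp hnorm
    rw [scalarSubgroup_eq_bot_of_simple hna ρ hnt, Subgroup.mem_bot] at hmem
    exact hmem
  -- a nontrivial irreducible character
  obtain ⟨χ₀, hχ₀⟩ : ∃ χ : IrrCharacter S, χ ≠ trivialIrr S := by
    by_contra hcon
    push Not at hcon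
    have h1 := sum_irr_degree_sq (G := S)
    have h2 : ∑ χ : IrrCharacter S, (χ : S → ℂ) 1 ^ 2 = 1 := by
      rw [Finset.sum_eq_single (trivialIrr S)]
      · show (1 : ℂ) ^ 2 = 1
        simp
      · intro b _ hb
        exact absurd (hcon b) hb
      · intro h'
        exact absurd (Finset.mem_univ _) h'
    rw [h2] at h1
    have h3 : Nat.card S = 1 := by exact_mod_cast h1.symm
    have : Subsingleton S := (Nat.card_eq_one_iff_unique.mp h3).1
    exact not_subsingleton S this
  -- a character of maximal degree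
  obtain ⟨χp, hχpmem, hmax⟩ := Finset.exists_max_image
    (Finset.univ.filter (fun χ : IrrCharacter S => χ ≠ trivialIrr S))
    (fun χ => charDegree (χ : S → ℂ)) ⟨χ₀, by simp [hχ₀]⟩
  have hχpne : χp ≠ trivialIrr S := (Finset.mem_filter.mp hχpmem).2
  have hmax' : ∀ χ : IrrCharacter S, χ ≠ trivialIrr S →
      charDegree (χ : S → ℂ) ≤ charDegree (χp : S → ℂ) :=
    fun χ hχ => hmax χ (Finset.mem_filter.mpr ⟨Finset.mem_univ _, hχ⟩)
  obtain ⟨p, hpdef⟩ : ∃ p : ℕ, p = charDegree (χp : S → ℂ) := ⟨_, rfl⟩
  have hp : p.Prime := by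
    rw [hpdef]
    exact h χp (hnl χp hχpne)
  haveI : Fact p.Prime := ⟨hp⟩
  have hpS : p ∣ Nat.card S := by
    obtain ⟨d, hd1, hd2⟩ := IsIrrCharacter.exists_degree_dvd_card χp.2
    have : (d : ℂ) = (p : ℂ) := by rw [← hd1, hdeg χp, hpdef]
    have hdp : d = p := by exact_mod_cast this
    rw [← hdp]
    exact hd2
  obtain ⟨M, hM⟩ := exists_isPModular p hp
  -- a character of smaller degree in the principal block
  obtain ⟨ψ, hψB, hψp, hψ1⟩ : ∃ ψ : IrrCharacter S, ψ ∈ principalBlock M S ∧
      ¬ p ∣ charDegree (ψ : S → ℂ) ∧ charDegree (ψ : S → ℂ) ≠ 1 := by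
    by_contra hcon
    push Not at hcon
    obtain ⟨P, N, hN, hc⟩ := hasNormalPComplement_of_principalBlock_linear hM
      (fun χ hχ hpχ => hcon χ hχ hpχ)
    have hcard := hc.card_mul_card
    have hPcard : Nat.card (P : Subgroup S) = p ^ (Nat.card S).factorization p :=
      P.card_eq_multiplicity
    have hfac : 1 ≤ (Nat.card S).factorization p :=
      (hp.dvd_iff_one_le_factorization Nat.card_pos.ne').mp hpS
    rcases hN.eq_bot_or_eq_top with hN' | hN'
    · -- `S` is a `p`-group
      rw [hN', Subgroup.card_bot, one_mul] at hcard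
      have hsolv : Group.IsSolvable S :=
        isSolvable_of_card_prime_pow p _ hp (hcard.symm.trans hPcard)
      exact hna (IsSimpleGroup.comm_iff_isSolvable.mpr hsolv)
    · rw [hN', Subgroup.card_top] at hcard
      have h1 : Nat.card (P : Subgroup S) = 1 := by
        have hpos : 0 < Nat.card S := Nat.card_pos
        have : Nat.card S * Nat.card (P : Subgroup S) = Nat.card S * 1 := by rw [hcard, mul_one]
        exact Nat.eq_of_mul_eq_mul_left hpos this
      rw [hPcard] at h1
      have h2 : p ≤ p ^ (Nat.card S).factorization p := by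
        calc p = p ^ 1 := (pow_one p).symm
          _ ≤ p ^ (Nat.card S).factorization p := Nat.pow_le_pow_right hp.pos hfac
      have := hp.two_le
      omega
  have hψne : ψ ≠ trivialIrr S := by
    intro h'
    rw [h'] at hψ1
    exact hψ1 htrivdeg
  obtain ⟨q, hqdef⟩ : ∃ q : ℕ, q = charDegree (ψ : S → ℂ) := ⟨_, rfl⟩
  have hq : q.Prime := by
    rw [hqdef]
    exact h ψ hψ1
  have hqp : q < p := by
    have h1 : q ≤ p := by
      rw [hqdef, hpdef]
      exact hmax' ψ hψne
    have h2 : q ≠ p := by
      intro h'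
      apply hψp
      rw [← hqdef, h']
    omega
  have hq3 : 3 ≤ q := by
    have h1 := hq.two_le
    have h2 : q ≠ 2 := by
      rw [hqdef]
      exact hne2 ψ
    omega
  have hp5 : 5 ≤ p := by
    have h4 : p ≠ 4 := by
      intro h'
      rw [h'] at hp
      norm_num at hp
    omega
  -- a Sylow `p`-subgroup
  obtain ⟨P⟩ : Nonempty (Sylow p S) := inferInstance
  have hCP : IsPGroup p ↥(Subgroup.centralizer ((P : Subgroup S) : Set S)) :=
    Cfsg.Agent.S4729.result p M hM hperf P ψ hψB (hfaith ψ hψne) (by rw [← hqdef]; omega)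
  -- `P` is abelian
  have hab : ∀ a ∈ (P : Subgroup S), ∀ b ∈ (P : Subgroup S), a * b = b * a := by
    obtain ⟨n, ρ, hρ, hρψ⟩ := ψ.2
    have hn : n = q := by
      rw [hqdef, ← hρψ, charDegree_rep]
    have hinj : Function.Injective ρ := by
      intro g g' hgg'
      have h1 : ρ (g⁻¹ * g') = 1 := by
        rw [map_mul, ← hgg', ← map_mul, inv_mul_cancel, map_one]
      have h2 : g⁻¹ * g' = 1 := by
        apply hfaith ψ hψne
        rw [← hρψ]
        unfold Representation.character
        rw [h1, map_one ρ]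
      exact inv_mul_eq_one.mp h2
    let ρP : Representation ℂ (P : Subgroup S) (Fin n → ℂ) := ρ.comp (P : Subgroup S).subtype
    have hinjP : Function.Injective ρP := by
      intro a b hab'
      exact Subtype.ext (hinj hab')
    have hprimes : ∀ r : ℕ, r.Prime → r ∣ Nat.card (P : Subgroup S) →
        finrank ℂ (Fin n → ℂ) < r := by
      intro r hr hrP
      rw [P.card_eq_multiplicity] at hrP
      have hrp : r = p := (Nat.prime_dvd_prime_iff_eq hr hp).mp (hr.dvd_of_dvd_pow hrP)
      rw [Module.finrank_fin_fun, hn, hrp]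
      exact hqp
    intro a ha b hb
    have := Cfsg.Agent.Lib.Helper23.Blich.comm_of_forall_prime_gt ρP hinjP hprimes
      ⟨a, ha⟩ ⟨b, hb⟩
    exact congrArg Subtype.val this
  -- `C(P) = P`
  have hC : Subgroup.centralizer ((P : Subgroup S) : Set S) = (P : Subgroup S) := by
    apply P.is_maximal' hCP
    intro a ha
    rw [Subgroup.mem_centralizer_iff]
    intro b hb
    exact (hab a ha b hb).symm
  -- `|P| = p`
  have hP : Nat.card (P : Subgroup S) = p := by
    have hvan : ∀ g : S, g ∈ (P : Subgroup S) → g ≠ 1 → (χp : S → ℂ) g = 0 := by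
      intro g hg hg1
      obtain ⟨n, ρ, hρ, hρχ⟩ := χp.2
      haveI := hρ
      have hn : n = p := by
        rw [hpdef, ← hρχ, charDegree_rep]
      have hnt : ρ.character ≠ fun _ => 1 := by
        intro h'
        apply hχpne
        apply Subtype.ext
        rw [← hρχ, h']
        rfl
      have hle : (P : Subgroup S) ≤ Subgroup.centralizer ({g} : Set S) := by
        intro a ha
        rw [Subgroup.mem_centralizer_iff]
        intro b hb
        rw [Set.mem_singleton_iff] at hb
        subst hb
        exact (hab a ha b hg).symm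
      have hidx : ¬ p ∣ (Subgroup.centralizer ({g} : Set S)).index := by
        intro hdvd
        exact P.not_dvd_index (dvd_trans hdvd (Subgroup.index_dvd_of_le hle))
      have hcop : Nat.Coprime (finrank ℂ (Fin n → ℂ))
          (Subgroup.centralizer ({g} : Set S)).index := by
        rw [Module.finrank_fin_fun, hn]
        exact (Nat.Prime.coprime_iff_not_dvd hp).mpr hidx
      rcases char_eq_zero_or_norm_eq_of_coprime ρ g hcop with h0 | h0
      · rw [← hρχ]
        exact h0
      · exfalso
        have hmem : g ∈ scalarSubgroup ρ := (norm_char_eq_finrank_iff ρ g).mp h0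
        rw [scalarSubgroup_eq_bot_of_simple hna ρ hnt, Subgroup.mem_bot] at hmem
        exact hg1 hmem
    obtain ⟨k, hk⟩ := card_dvd_degree_of_vanish (P : Subgroup S) (χp : S → ℂ)
      (IsIrrCharacter.isCharacter χp.2) hvan
    rw [hdeg χp, ← hpdef] at hk
    have hk' : p = Nat.card (P : Subgroup S) * k := by exact_mod_cast hk
    have hdvd : Nat.card (P : Subgroup S) ∣ p := ⟨k, hk'⟩
    rcases (Nat.dvd_prime hp).mp hdvd with h1 | h1
    · exfalso
      have hPcard : Nat.card (P : Subgroup S) = p ^ (Nat.card S).factorization p :=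
        P.card_eq_multiplicity
      have hfac : 1 ≤ (Nat.card S).factorization p :=
        (hp.dvd_iff_one_le_factorization Nat.card_pos.ne').mp hpS
      have h2 : p ≤ p ^ (Nat.card S).factorization p := by
        calc p = p ^ 1 := (pow_one p).symm
          _ ≤ p ^ (Nat.card S).factorization p := Nat.pow_le_pow_right hp.pos hfac
      have := hp.two_le
      omega
    · exact h1
  -- the normaliser
  obtain ⟨L, hLdef⟩ : ∃ L : Subgroup S, L = Subgroup.normalizer ((P : Subgroup S) : Set S) :=
    ⟨_, rfl⟩
  haveI : Fintype L := Fintype.ofFinite _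
  have hHL : (P : Subgroup S) ≤ L := by
    rw [hLdef]
    exact Subgroup.le_normalizer
  have hHn : ∀ x ∈ L, ∀ h ∈ (P : Subgroup S), x * h * x⁻¹ ∈ (P : Subgroup S) := by
    intro x hx h hh
    rw [hLdef] at hx
    exact (Subgroup.mem_normalizer_iff.1 hx h).1 hh
  have hcent : ∀ h ∈ (P : Subgroup S), h ≠ 1 → ∀ x ∈ L, x * h = h * x → x ∈ (P : Subgroup S) := by
    intro h hh hh1 x _ hxh
    rw [← hC, Subgroup.mem_centralizer_iff]
    intro y hy
    have hy' : y ∈ Subgroup.zpowers h := by
      rw [zpowers_eq_of_prime_card (P : Subgroup S) hp hP hh hh1]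
      exact hy
    obtain ⟨k, rfl⟩ := Subgroup.mem_zpowers_iff.1 hy'
    have hc : Commute x h := hxh
    exact (hc.zpow_right k).symm.eq
  have hTI := isTISubset_of_prime_card (P : Subgroup S) hp hP
  haveI hKn : ((P : Subgroup S).subgroupOf L).Normal :=
    subgroupOf_normal_of_conj (P : Subgroup S) L hHn
  haveI : Fintype (ExcIdx (P : Subgroup S) L) := Fintype.ofFinite _
  have hcm := exc_card_mul (P : Subgroup S) L hHL hcent hab
  rw [hP, ← Nat.card_eq_fintype_card] at hcm
  -- a nonidentity element of `P`
  obtain ⟨g, hgP, hg1⟩ : ∃ g : S, g ∈ (P : Subgroup S) ∧ g ≠ 1 := by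
    have : 1 < Nat.card (P : Subgroup S) := by rw [hP]; omega
    haveI : Nontrivial (P : Subgroup S) := Finite.one_lt_card_iff_nontrivial.mp this
    obtain ⟨x, hx⟩ := exists_ne (1 : (P : Subgroup S))
    exact ⟨x, x.2, fun h' => hx (Subtype.ext h')⟩
  have hP3 : 3 ≤ Nat.card (P : Subgroup S) := by rw [hP]; omega
  by_cases ht : 2 ≤ Nat.card (ExcIdx (P : Subgroup S) L)
  · -- exceptional characters
    obtain ⟨ε, m₀, x₀, E, Nz, m, d, hε, hEcard, hd, hEdeg, htriv, hmtriv, hNz, hval, hdvd, hnorm,
      hdegeq, hcount⟩ := exc_degree_main (P : Subgroup S) L hHn hcent hTI hLdef.symm hab ht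
    have hdχ : ∀ χ : IrrCharacter S, d χ = charDegree (χ : S → ℂ) := by
      intro χ
      have : (d χ : ℂ) = (charDegree (χ : S → ℂ) : ℂ) := by rw [← hd χ, hdeg χ]
      exact_mod_cast this
    -- nonexceptional nontrivial characters vanish on `P ∖ 1`
    have hzero : ∀ χ : IrrCharacter S, χ ∉ E → χ ≠ trivialIrr S → m χ = 0 := by
      intro χ hχE hχ
      have hne : ((m χ : ℤ) : ℂ) ≠ (d χ : ℂ) := by
        intro h'
        apply hg1
        apply hfaith χ hχ g
        rw [hval χ hχE g hgP hg1, h', hd χ]
      obtain ⟨h1, h2⟩ := deg_ge_of_const (P : Subgroup S) (IsIrrCharacter.isCharacter χ.2) (d χ)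
        ((m χ : ℤ) : ℂ) (hd χ) (hval χ hχE) hne hP3
      rw [hP] at h1 h2
      have hdprime : (d χ).Prime := by
        rw [hdχ χ]
        exact h χ (hnl χ hχ)
      have hdle : d χ ≤ p := by
        rw [hdχ χ, hpdef]
        exact hmax' χ hχ
      have hdp : d χ = p := by
        by_contra hne'
        have : d χ = p - 1 := by omega
        rw [this] at hdprime
        exact not_prime_pred hp hp5 hdprime
      have := h2 hdp
      exact_mod_cast this
    have hNzeq : Nz = {trivialIrr S} := by
      ext χ
      rw [hNz, Finset.mem_singleton]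
      constructor
      · rintro ⟨h1, h2⟩
        by_contra hχ
        exact h2 (hzero χ h1 hχ)
      · rintro rfl
        exact ⟨htriv, by rw [hmtriv]; exact one_ne_zero⟩
    have hd1 : d (trivialIrr S) = 1 := by rw [hdχ, htrivdeg]
    rw [hNzeq, Finset.sum_singleton, hmtriv, hd1] at hdegeq
    have hx₀ : x₀ = 1 := by
      have h1 : (x₀ : ℤ) ∣ 1 := by
        refine ⟨-((Nat.card (ExcIdx (P : Subgroup S) L) : ℤ) * m₀ - ε), ?_⟩
        push_cast at hdegeq
        linarith
      have h2 : x₀ ∣ 1 := by exact_mod_cast h1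
      exact Nat.dvd_one.mp h2
    have hEne : E.Nonempty := by
      rw [← Finset.card_pos, hEcard]
      omega
    obtain ⟨Θ, hΘ⟩ := hEne
    apply htriv
    have h3 : (Θ : S → ℂ) 1 = 1 := by
      rw [hd Θ, hEdeg Θ hΘ, hx₀]
      simp
    rw [← eq_trivialIrr_of_degree_one hna Θ h3]
    exact hΘ
  · -- `N(P)` is transitive on `P ∖ 1`
    have ht1 : Nat.card (ExcIdx (P : Subgroup S) L) = 1 := by
      rcases Nat.eq_zero_or_pos (Nat.card (ExcIdx (P : Subgroup S) L)) with h0 | h0
      · rw [h0] at hcm
        have := hp.two_le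
        omega
      · omega
    rw [ht1, one_mul] at hcm
    -- the class of `g` in `L`
    have hgL : g ∈ L := hHL hgP
    have hcentL : Subgroup.centralizer ({(⟨g, hgL⟩ : L)} : Set L) = (P : Subgroup S).subgroupOf L := by
      ext x
      rw [Subgroup.mem_centralizer_iff, Subgroup.mem_subgroupOf]
      constructor
      · intro hx
        have h1 := hx ⟨g, hgL⟩ rfl
        have h2 : g * (x : S) = (x : S) * g := congrArg Subtype.val h1
        exact hcent g hgP hg1 x x.2 h2.symm
      · intro hx y hy
        rw [Set.mem_singleton_iff] at hy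
        subst hy
        apply Subtype.ext
        exact hab g hgP x hx
    have hcls := Cfsg.Agent.Lib.Helper22.index_centralizer_eq_ncard_setOf_isConj (⟨g, hgL⟩ : L)
    rw [hcentL] at hcls
    -- the punctured subgroup
    have hsub : {y : L | IsConj (⟨g, hgL⟩ : L) y} ⊆
        (((P : Subgroup S).subgroupOf L : Set L) \ {1}) := by
      intro y hy
      obtain ⟨c, hc⟩ := isConj_iff.mp hy
      constructor
      · show y ∈ (P : Subgroup S).subgroupOf L
        rw [Subgroup.mem_subgroupOf, ← hc]
        exact hHn c c.2 g hgP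
      · intro hy1
        rw [Set.mem_singleton_iff] at hy1
        rw [hy1] at hc
        have : (⟨g, hgL⟩ : L) = 1 := by
          have h1 : c⁻¹ * (c * ⟨g, hgL⟩ * c⁻¹) * c = c⁻¹ * 1 * c := by rw [hc]
          have h2 : c⁻¹ * (c * ⟨g, hgL⟩ * c⁻¹) * c = (⟨g, hgL⟩ : L) := by group
          rw [h2] at h1
          rw [h1]
          group
        exact hg1 (congrArg Subtype.val this)
    have hcardP : Nat.card ((P : Subgroup S).subgroupOf L) = p := by
      rw [Nat.card_congr (Subgroup.subgroupOfEquivOfLe hHL).toEquiv, hP]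
    have hncard : (((P : Subgroup S).subgroupOf L : Set L) \ {1}).ncard = p - 1 := by
      rw [Set.ncard_diff_singleton_of_mem (Subgroup.one_mem _)]
      have h' : (((P : Subgroup S).subgroupOf L : Set L)).ncard
          = Nat.card ((P : Subgroup S).subgroupOf L) := rfl
      rw [h', hcardP]
    have heq : {y : L | IsConj (⟨g, hgL⟩ : L) y} =
        (((P : Subgroup S).subgroupOf L : Set L) \ {1}) := by
      apply Set.eq_of_subset_of_ncard_le hsub
      rw [hncard, ← hcls]
      omega
    -- `ψ` is constant on `P ∖ 1`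
    have hconst : ∀ y ∈ (P : Subgroup S), y ≠ 1 → (ψ : S → ℂ) y = (ψ : S → ℂ) g := by
      intro y hy hy1
      have hyL : y ∈ L := hHL hy
      have hmem : (⟨y, hyL⟩ : L) ∈ (((P : Subgroup S).subgroupOf L : Set L) \ {1}) := by
        constructor
        · show (⟨y, hyL⟩ : L) ∈ (P : Subgroup S).subgroupOf L
          rw [Subgroup.mem_subgroupOf]
          exact hy
        · intro h'
          rw [Set.mem_singleton_iff] at h'
          exact hy1 (congrArg Subtype.val h')
      rw [← heq] at hmem
      obtain ⟨c, hc⟩ := isConj_iff.mp hmem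
      have hc' : (c : S) * g * (c : S)⁻¹ = y := congrArg Subtype.val hc
      rw [← hc']
      exact IsCharacter.isClassFunction (IsIrrCharacter.isCharacter ψ.2) g c
    have hne : (ψ : S → ℂ) g ≠ (q : ℂ) := by
      intro h'
      apply hg1
      apply hfaith ψ hψne g
      rw [h', hdeg ψ, hqdef]
    obtain ⟨h1, -⟩ := deg_ge_of_const (P : Subgroup S) (IsIrrCharacter.isCharacter ψ.2) q
      ((ψ : S → ℂ) g) (by rw [hdeg ψ, hqdef]) hconst hne hP3
    rw [hP] at h1
    have : q = p - 1 := by omega
    rw [this] at hq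
    exact not_prime_pred hp hp5 hq

end Simple

end Cfsg.Agent.Lib.Helper24.PrimeDeg
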