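import Cfsg.Agent.Lib.Helper24.PrimeDegB
import Cfsg.Agent.Lib.Helper2.DegreePower
import Cfsg.Agent.Lib.Helper25.Gagola2

/-!
# Groups whose nonlinear irreducible characters have prime degree, part C (helper24)

`Cfsg.Agent.Lib.Helper24.PrimeDeg.isSolvable_of_prime_degrees` (Isaacs–Passman): a finite group all of whose
nonlinear irreducible characters have prime degree is solvable.  The hypothesis passes to normal
subgroups (Clifford) and to quotients (inflation), so a minimal counterexample is simple, and
`simple_not_all_prime` applies.
-/

set_option autoImplicit false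
set_option linter.style.haveILetI false

namespace Cfsg.Agent.Lib.Helper24.PrimeDeg

open Cfsg
open Cfsg.Agent.Lib.Helper2 Cfsg.Agent.Lib.Helper25

universe u

/-- the hypothesis: every nonlinear irreducible character has prime degree -/
def AllPrime (G : Type u) [Group G] : Prop :=
  ∀ χ : IrrCharacter G, charDegree (χ : G → ℂ) ≠ 1 → (charDegree (χ : G → ℂ)).Prime

section Pass

variable {G : Type u} [Group G] [Finite G]

theorem allPrime_subgroup (h : AllPrime G) (N : Subgroup G) [N.Normal] : AllPrime N := by
  intro θ hθ
  obtain ⟨χ, a, b, ha, hb, hab⟩ := DegreePower.exists_over N (θ : N → ℂ) θ.2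
  have ha' : charDegree (θ : N → ℂ) = a := by
    have h1 := char_one_eq_charDegree (IsIrrCharacter.isCharacter θ.2)
    rw [ha] at h1
    exact_mod_cast h1.symm
  have hb' : charDegree (χ : G → ℂ) = b := by
    have h1 := char_one_eq_charDegree (IsIrrCharacter.isCharacter χ.2)
    rw [hb] at h1
    exact_mod_cast h1.symm
  rw [ha'] at hθ ⊢
  have hb1 : b ≠ 1 := by
    intro h1
    rw [h1, Nat.dvd_one] at hab
    exact hθ hab
  have hbp : b.Prime := by
    rw [← hb']
    apply h χ
    rw [hb']
    exact hb1
  rcases (Nat.dvd_prime hbp).mp hab with h1 | h1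
  · exact absurd h1 hθ
  · rw [h1]
    exact hbp

theorem allPrime_quotient (h : AllPrime G) (N : Subgroup G) [N.Normal] : AllPrime (G ⧸ N) := by
  intro ψ hψ
  have h1 : charDegree (inflIrr N ψ : G → ℂ) = charDegree (ψ : G ⧸ N → ℂ) := by
    unfold charDegree
    rw [inflIrr_apply, QuotientGroup.mk_one]
  rw [← h1] at hψ ⊢
  exact h _ hψ

end Pass

/-- **Isaacs–Passman**: prime nonlinear degrees force solvability -/
theorem isSolvable_of_prime_degrees_aux : ∀ (n : ℕ) (G : Type u) [Group G] [Finite G],
    Nat.card G = n → AllPrime G → Group.IsSolvable G := by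
  intro n
  induction n using Nat.strong_induction_on with
  | _ n ih =>
    intro G _ _ hn h
    by_cases hex : ∃ N : Subgroup G, N.Normal ∧ N ≠ ⊥ ∧ N ≠ ⊤
    · obtain ⟨N, hN, hNb, hNt⟩ := hex
      haveI := hN
      have hcard := Subgroup.card_mul_index N
      have hN1 : 1 < Nat.card N := by
        rw [Finite.one_lt_card_iff_nontrivial]
        exact (Subgroup.nontrivial_iff_ne_bot N).mpr hNb
      have hidx1 : 1 < N.index := by
        have h0 : N.index ≠ 0 := Subgroup.index_ne_zero_of_finite
        have h1 : N.index ≠ 1 := fun h' => hNt (Subgroup.index_eq_one.mp h')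
        omega
      have hNlt : Nat.card N < n := by
        rw [← hn, ← hcard]
        nlinarith
      have hQlt : Nat.card (G ⧸ N) < n := by
        rw [← hn, ← hcard, ← Subgroup.index_eq_card]
        nlinarith
      haveI : Group.IsSolvable N := ih _ hNlt N rfl (allPrime_subgroup h N)
      haveI : Group.IsSolvable (G ⧸ N) := ih _ hQlt (G ⧸ N) rfl (allPrime_quotient h N)
      exact Group.isSolvable_of_ker_le_range N.subtype (QuotientGroup.mk' N) (by simp)
    · push Not at hex
      by_cases hsub : Subsingleton G
      · infer_instance
      · rw [not_subsingleton_iff_nontrivial] at hsub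
        haveI : IsSimpleGroup G :=
          { exists_pair_ne := hsub.exists_pair_ne
            eq_bot_or_eq_top_of_normal := by
              intro H hH
              by_contra hcon
              push Not at hcon
              exact hcon.2 (hex H hH hcon.1) }
        by_cases hab : ∀ a b : G, a * b = b * a
        · exact Group.isSolvable_of_comm hab
        · exact (simple_not_all_prime hab h).elim

theorem isSolvable_of_prime_degrees {G : Type u} [Group G] [Finite G]
    (h : ∀ χ : IrrCharacter G, charDegree (χ : G → ℂ) ≠ 1 → (charDegree (χ : G → ℂ)).Prime) :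
    Group.IsSolvable G :=
  isSolvable_of_prime_degrees_aux _ G rfl h

end Cfsg.Agent.Lib.Helper24.PrimeDeg
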