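import Cfsg.Agent.Lib.Helper24.PrimeDegC
import Cfsg.Agent.Lib.Helper11.Clifford4
import Cfsg.Agent.Lib.Helper7.Covering
import Cfsg.Agent.Lib.Helper7.CliffordCentral
import Cfsg.Agent.Lib.Helper20.CD3Tools
import Cfsg.Agent.Lib.Helper25.MinNormal
import Cfsg.Agent.Lib.Helper2.BrolineGarrison

/-!
# Groups whose nonlinear irreducible characters have prime degree, part D (helper24)

`Cfsg.Agent.Lib.Helper24.PrimeDeg.exists_three_degrees` (Isaacs–Passman): if all nonlinear irreducible characters
of `G` have prime degree, then `G` has at most three character degrees.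

* `exists_normal_prime_index`: above a proper subgroup containing the commutator subgroup there is
  a normal subgroup of prime index.
* `prime_index_degree`: Clifford theory over a normal subgroup of prime index.
* `degrees_of_noninvariant_linear`: if a linear character of a normal subgroup `N` of prime index
  is not `G`-invariant, all nonlinear irreducible characters of `N` have the same degree.
-/

set_option autoImplicit false
set_option linter.style.haveILetI false
set_option maxHeartbeats 1600000

namespace Cfsg.Agent.Lib.Helper24.PrimeDeg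

open Cfsg
open Cfsg.Agent.Lib.Helper2 Cfsg.Agent.Lib.Helper11 Cfsg.Agent.Lib.Helper7
  Cfsg.Agent.Lib.Helper25
open scoped ComplexConjugate commutatorElement

universe u

section PrimeIndex

variable {G : Type u} [Group G] [Finite G]

/-- a subgroup containing the commutator subgroup is normal -/
theorem normal_of_commutator_le {K : Subgroup G} (hK : commutator G ≤ K) : K.Normal := by
  constructor
  intro n hn g
  have h1 : g * n * g⁻¹ * n⁻¹ ∈ commutator G := by
    rw [commutator_def, ← commutatorElement_def]
    exact Subgroup.commutator_mem_commutator (Subgroup.mem_top g) (Subgroup.mem_top n)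
  have h2 : g * n * g⁻¹ = (g * n * g⁻¹ * n⁻¹) * n := by group
  rw [h2]
  exact K.mul_mem (hK h1) hn

/-- above a proper subgroup containing the commutator subgroup there is a normal subgroup of
prime index -/
theorem exists_normal_prime_index (K : Subgroup G) (hK : commutator G ≤ K) (hne : K ≠ ⊤) :
    ∃ N : Subgroup G, N.Normal ∧ K ≤ N ∧ N.index.Prime := by
  classical
  rcases IsCoatomic.eq_top_or_exists_le_coatom K with h | ⟨M, hM, hKM⟩
  · exact absurd h hne
  · have hMn : M.Normal := normal_of_commutator_le (hK.trans hKM)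
    refine ⟨M, hMn, hKM, ?_⟩
    haveI := hMn
    have hcomm : ∀ a b : G ⧸ M, a * b = b * a := by
      intro a b
      obtain ⟨x, rfl⟩ := QuotientGroup.mk_surjective a
      obtain ⟨y, rfl⟩ := QuotientGroup.mk_surjective b
      rw [← QuotientGroup.mk_mul, ← QuotientGroup.mk_mul, QuotientGroup.eq]
      apply (hK.trans hKM)
      have h1 : (x * y)⁻¹ * (y * x) = ⁅y⁻¹, x⁻¹⁆ := by
        rw [commutatorElement_def]
        group
      rw [commutator_def, h1]
      exact Subgroup.commutator_mem_commutator (Subgroup.mem_top _) (Subgroup.mem_top _)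
    haveI : Nontrivial (G ⧸ M) := by
      rw [← Finite.one_lt_card_iff_nontrivial, ← Subgroup.index_eq_card]
      have h0 : M.index ≠ 0 := Subgroup.index_ne_zero_of_finite
      have h1 : M.index ≠ 1 := fun h' => hM.1 (Subgroup.index_eq_one.mp h')
      omega
    haveI : IsSimpleGroup (G ⧸ M) :=
      { exists_pair_ne := exists_pair_ne _
        eq_bot_or_eq_top_of_normal := by
          intro H _
          have hle : M ≤ H.comap (QuotientGroup.mk' M) := by
            intro m hm
            rw [Subgroup.mem_comap]
            have : (QuotientGroup.mk' M) m = 1 := (QuotientGroup.eq_one_iff m).mpr hm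
            rw [this]
            exact H.one_mem
          have hsurj : Function.Surjective (QuotientGroup.mk' M) := QuotientGroup.mk'_surjective M
          rcases hM.le_iff.mp hle with h' | h'
          · right
            rw [← Subgroup.map_comap_eq_self_of_surjective hsurj H, h',
              ← MonoidHom.range_eq_map, MonoidHom.range_eq_top.mpr hsurj]
          · left
            rw [← Subgroup.map_comap_eq_self_of_surjective hsurj H, h']
            rw [eq_bot_iff]
            rintro _ ⟨m, hm, rfl⟩
            rw [Subgroup.mem_bot]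
            exact (QuotientGroup.eq_one_iff m).mpr hm }
    let _ : CommGroup (G ⧸ M) := { (inferInstance : Group (G ⧸ M)) with mul_comm := hcomm }
    rw [Subgroup.index_eq_card]
    exact IsSimpleGroup.prime_card

end PrimeIndex

section Clifford

variable {G : Type u} [Group G] [Fintype G] (N : Subgroup G) [hN : N.Normal] [Fintype N]

/-- Clifford theory over a normal subgroup of prime index -/
theorem prime_index_degree {q : ℕ} (hq : q.Prime) (hidx : N.index = q)
    (χ : IrrCharacter G) (ψ : IrrCharacter N)
    (hne : classInner (fun n : N => (χ : G → ℂ) n) (ψ : N → ℂ) ≠ 0) :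
    ((∀ g : G, conjFn N g (ψ : N → ℂ) = ψ) ∧ (fun n : N => (χ : G → ℂ) n) = ψ) ∨
    ((¬ ∀ g : G, conjFn N g (ψ : N → ℂ) = ψ) ∧
      charDegree (χ : G → ℂ) = q * charDegree (ψ : N → ℂ)) := by
  classical
  -- the inertia group
  let T : Subgroup G :=
    { carrier := {g | conjFn N g (ψ : N → ℂ) = ψ}
      mul_mem' := by
        intro a b ha hb
        show conjFn N (a * b) (ψ : N → ℂ) = ψ
        rw [conjFn_mul]
        rw [show conjFn N a (ψ : N → ℂ) = ψ from ha]
        exact hb
      one_mem' := conjFn_one N _
      inv_mem' := by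
        intro a ha
        show conjFn N a⁻¹ (ψ : N → ℂ) = ψ
        have h1 : conjFn N a (ψ : N → ℂ) = ψ := ha
        have h2 := conjFn_inv_conjFn N a (ψ : N → ℂ)
        rw [h1] at h2
        exact h2 }
  have hTmem : ∀ g : G, g ∈ T ↔ conjFn N g (ψ : N → ℂ) = ψ := fun g => Iff.rfl
  have hψcf : IsClassFunction N (ψ : N → ℂ) :=
    IsCharacter.isClassFunction (IsIrrCharacter.isCharacter ψ.2)
  have hNT : N ≤ T := fun g hg => (hTmem g).2 (conjFn_of_mem N hψcf hg)
  -- the quotient is abelian
  have hcommN : commutator G ≤ N := by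
    have hcard : Nat.card (G ⧸ N) = q := by rw [← Subgroup.index_eq_card, hidx]
    haveI : Fact q.Prime := ⟨hq⟩
    haveI : IsCyclic (G ⧸ N) := isCyclic_of_prime_card hcard
    let _ : CommGroup (G ⧸ N) := IsCyclic.commGroup
    have h1 := Abelianization.commutator_subset_ker (QuotientGroup.mk' N)
    rwa [QuotientGroup.ker_mk'] at h1
  have hab : ∀ x ∈ T, ∀ y ∈ T, x * y * x⁻¹ * y⁻¹ ∈ N := by
    intro x _ y _
    apply hcommN
    rw [commutator_def, ← commutatorElement_def]
    exact Subgroup.commutator_mem_commutator (Subgroup.mem_top x) (Subgroup.mem_top y)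
  obtain ⟨e, C, hePos, hirr, hcard, hsum, hdegC⟩ :=
    clifford_abelian_quotient N T (ψ : N → ℂ) ψ.2 hTmem hab
  -- `χ` is one of the constituents
  have hχC : (χ : G → ℂ) ∈ C := by
    by_contra hnot
    have hχcf : IsClassFunction G (χ : G → ℂ) :=
      IsCharacter.isClassFunction (IsIrrCharacter.isCharacter χ.2)
    have h1 : classInner (indFun N (ψ : N → ℂ)) (χ : G → ℂ) ≠ 0 := by
      rw [frobenius_reciprocity N _ _ hχcf, ← classInner_conj_symm]
      exact fun h => hne ((map_eq_zero _).1 h)
    apply h1
    rw [hsum, Cfsg.Agent.Lib.Helper2.classInner_smul_left,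
      Cfsg.Agent.Lib.Helper2.classInner_sum_left]
    rw [Finset.sum_eq_zero, mul_zero]
    intro χ' hχ'
    rw [irr_classInner (hirr χ' hχ') χ.2, if_neg]
    intro h'
    exact hnot (h' ▸ hχ')
  have hdegχ := hdegC _ hχC
  have hNcard : Nat.card N * q = Nat.card G := by rw [← hidx]; exact Subgroup.card_mul_index N
  have hNpos : 0 < Nat.card N := Nat.card_pos
  have hψ1 := char_one_eq_charDegree (IsIrrCharacter.isCharacter ψ.2)
  have hχ1 := char_one_eq_charDegree (IsIrrCharacter.isCharacter χ.2)
  by_cases hT : T = ⊤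
  · left
    have hinv : ∀ g : G, conjFn N g (ψ : N → ℂ) = ψ := by
      intro g
      rw [← hTmem, hT]
      trivial
    refine ⟨hinv, ?_⟩
    -- `e = 1`
    rw [hT, Subgroup.card_top, ← hNcard] at hcard
    have h1 : e ^ 2 * C.card = q := by
      have : Nat.card N * (e ^ 2 * C.card) = Nat.card N * q := by
        calc Nat.card N * (e ^ 2 * C.card) = e ^ 2 * C.card * Nat.card N := by ring
          _ = Nat.card N * q := hcard
      exact Nat.eq_of_mul_eq_mul_left hNpos this
    have he1 : e = 1 := by
      have h2 : e ∣ q := ⟨e * C.card, by rw [← h1]; ring⟩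
      rcases (Nat.dvd_prime hq).mp h2 with h3 | h3
      · exact h3
      · exfalso
        rw [h3] at h1
        have hq2 := hq.two_le
        have hC : C.card = 0 ∨ 1 ≤ C.card := by omega
        rcases hC with hC | hC
        · rw [hC, mul_zero] at h1
          omega
        · nlinarith
    rw [hT, Subgroup.index_top, he1] at hdegχ
    have hdeq : (χ : G → ℂ) 1 = (ψ : N → ℂ) 1 := by
      rw [hdegχ]
      push_cast
      ring
    -- the restriction is `ψ`
    obtain ⟨Ψ, hΨ, hadd⟩ := exists_add_of_classInner_ne_zero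
      (IsCharacter.restrict (IsIrrCharacter.isCharacter χ.2) N) ψ hne
    have hΨ1 : Ψ 1 = 0 := by
      have h3 := congrFun hadd 1
      rw [Pi.add_apply] at h3
      have h4 : (χ : G → ℂ) ((1 : N) : G) = (ψ : N → ℂ) 1 := hdeq
      rw [h4] at h3
      linear_combination -h3
    rw [hadd, Cfsg.Agent.Lib.Helper2.BG.eq_zero_of_apply_one_eq_zero hΨ hΨ1, add_zero]
  · right
    constructor
    · intro hall
      apply hT
      rw [eq_top_iff]
      intro g _
      exact (hTmem g).2 (hall g)
    · -- `T = N`
      have hrel := Subgroup.relIndex_mul_index hNT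
      rw [hidx] at hrel
      have hTidx : T.index = q := by
        have h2 : T.index ∣ q := ⟨N.relIndex T, by rw [← hrel]; ring⟩
        rcases (Nat.dvd_prime hq).mp h2 with h3 | h3
        · exact absurd (Subgroup.index_eq_one.mp h3) hT
        · exact h3
      have hTcard : Nat.card T = Nat.card N := by
        have h2 := Subgroup.card_mul_index T
        rw [hTidx, ← hNcard] at h2
        exact Nat.eq_of_mul_eq_mul_right hq.pos h2
      rw [hTcard] at hcard
      have h1 : e ^ 2 * C.card = 1 := by
        have : Nat.card N * (e ^ 2 * C.card) = Nat.card N * 1 := by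
          calc Nat.card N * (e ^ 2 * C.card) = e ^ 2 * C.card * Nat.card N := by ring
            _ = Nat.card N := hcard
            _ = Nat.card N * 1 := (mul_one _).symm
        exact Nat.eq_of_mul_eq_mul_left hNpos this
      have he1 : e = 1 := by
        have h2 : e ^ 2 = 1 := Nat.eq_one_of_mul_eq_one_right h1
        rcases Nat.pow_eq_one.mp h2 with h3 | h3
        · exact h3
        · omega
      rw [hTidx, he1, hψ1, hχ1] at hdegχ
      have : (charDegree (χ : G → ℂ) : ℂ) = ((q * charDegree (ψ : N → ℂ) : ℕ) : ℂ) := by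
        rw [hdegχ]
        push_cast
        ring
      exact_mod_cast this

end Clifford

section NonInvariant

variable {G : Type u} [Group G] [Finite G]

/-- `q * d` with `q` prime and `d ≠ 1` is neither `1` nor a prime -/
theorem not_one_or_prime_mul {q d : ℕ} (hq : q.Prime) (hd : d ≠ 1) :
    ¬ (q * d = 1 ∨ (q * d).Prime) := by
  rintro (h | h)
  · have := hq.two_le
    have : q ∣ 1 := ⟨d, h.symm⟩
    have := Nat.dvd_one.mp this
    omega
  · rcases (Nat.prime_mul_iff.mp h) with ⟨_, h2⟩ | ⟨_, h2⟩
    · exact hd h2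
    · exact hq.one_lt.ne' h2

/-- if a linear character of a normal subgroup of prime index is not invariant, all nonlinear
irreducible characters of the subgroup have the same degree -/
theorem degrees_of_noninvariant_linear (h : AllPrime G) (N : Subgroup G) [hN : N.Normal] {q : ℕ}
    (hq : q.Prime) (hidx : N.index = q) (lam : IrrCharacter N)
    (hlam1 : charDegree (lam : N → ℂ) = 1) (g : G) (hg : conjFn N g (lam : N → ℂ) ≠ lam) :
    ∃ r : ℕ, ∀ ψ : IrrCharacter N, charDegree (ψ : N → ℂ) ≠ 1 → charDegree (ψ : N → ℂ) = r := by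
  classical
  haveI : Fintype G := Fintype.ofFinite G
  haveI : Fintype N := Fintype.ofFinite N
  have hAPN : AllPrime N := allPrime_subgroup h N
  -- nonlinear characters of `N` are invariant
  have hinv : ∀ ψ : IrrCharacter N, charDegree (ψ : N → ℂ) ≠ 1 →
      ∀ x : G, conjFn N x (ψ : N → ℂ) = ψ := by
    intro ψ hψ
    obtain ⟨χ, hχ⟩ := exists_irr_over N ψ
    rcases prime_index_degree N hq hidx χ ψ hχ with ⟨h1, -⟩ | ⟨-, h2⟩
    · exact h1
    · exfalso
      apply not_one_or_prime_mul hq hψ
      rw [← h2]
      by_cases h3 : charDegree (χ : G → ℂ) = 1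
      · exact Or.inl h3
      · exact Or.inr (h χ h3)
  -- `lam` as a homomorphism
  have hlamone : (lam : N → ℂ) 1 = 1 := by
    rw [char_one_eq_charDegree (IsIrrCharacter.isCharacter lam.2), hlam1]
    simp
  obtain ⟨l, hl⟩ := exists_monoidHom_of_isIrrCharacter_of_apply_one lam.2 hlamone
  let l' : N →* ℂˣ := l.comp (MulAut.conjNormal g : N ≃* N).toMonoidHom
  have hl' : conjFn N g (lam : N → ℂ) = fun n => ((l' n : ℂˣ) : ℂ) := by
    rw [conjFn_eq_comp, hl]
    rfl
  let ν : N →* ℂˣ := l' * l⁻¹
  have hν : ∀ n : N, ν n = 1 → l' n = l n := by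
    intro n hn
    have : l' n * (l n)⁻¹ = 1 := hn
    exact mul_inv_eq_one.mp this
  have hνne : ν.ker ≠ ⊤ := by
    intro htop
    apply hg
    rw [hl', hl]
    funext n
    have : n ∈ ν.ker := by rw [htop]; trivial
    rw [hν n (MonoidHom.mem_ker.mp this)]
  have hνcomm : commutator N ≤ ν.ker := Abelianization.commutator_subset_ker ν
  obtain ⟨K', hK'n, hK'le, hK'idx⟩ := exists_normal_prime_index ν.ker hνcomm hνne
  haveI := hK'n
  haveI : Fintype K' := Fintype.ofFinite K'
  obtain ⟨r, hrdef⟩ : ∃ r : ℕ, r = K'.index := ⟨_, rfl⟩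
  have hr : r.Prime := by rw [hrdef]; exact hK'idx
  refine ⟨r, ?_⟩
  intro ψ hψ
  -- `ψ` vanishes off `K'`
  have hvan : ∀ n : N, n ∉ K' → (ψ : N → ℂ) n = 0 := by
    intro n hn
    have hnν : ν n ≠ 1 := fun h' => hn (hK'le (MonoidHom.mem_ker.mpr h'))
    -- `lam * ψ` is invariant
    have hirr : IsIrrCharacter N ((lam : N → ℂ) * (ψ : N → ℂ)) :=
      isIrrCharacter_linear_mul (IsIrrCharacter.isCharacter lam.2) hlamone ψ.2
    have hdeg : charDegree ((lam : N → ℂ) * (ψ : N → ℂ)) ≠ 1 := by
      have h1 : charDegree ((lam : N → ℂ) * (ψ : N → ℂ)) = charDegree (ψ : N → ℂ) := by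
        unfold charDegree
        rw [Pi.mul_apply, hlamone, one_mul]
      rw [h1]
      exact hψ
    have h2 := hinv ⟨_, hirr⟩ hdeg g
    have h3 := hinv ψ hψ g
    have h4 := congrFun h2 n
    have h5 : conjFn N g ((lam : N → ℂ) * (ψ : N → ℂ)) n
        = conjFn N g (lam : N → ℂ) n * conjFn N g (ψ : N → ℂ) n := rfl
    rw [h5, h3, hl'] at h4
    have h6 : ((l' n : ℂˣ) : ℂ) * (ψ : N → ℂ) n = ((l n : ℂˣ) : ℂ) * (ψ : N → ℂ) n := by
      have h4' : ((l' n : ℂˣ) : ℂ) * (ψ : N → ℂ) n = (lam : N → ℂ) n * (ψ : N → ℂ) n := h4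
      rw [h4', congrFun hl n]
    by_contra hne0
    have h7 : ((l' n : ℂˣ) : ℂ) = ((l n : ℂˣ) : ℂ) := mul_right_cancel₀ hne0 h6
    apply hnν
    have h8 : l' n = l n := Units.ext h7
    show l' n * (l n)⁻¹ = 1
    rw [h8, mul_inv_cancel]
  -- a constituent of the restriction
  obtain ⟨φ, hφ⟩ := exists_constituent_restrict K' ψ
  rcases prime_index_degree K' hr hrdef.symm ψ φ hφ with ⟨-, h2⟩ | ⟨-, h2⟩
  · exfalso
    have h3 := Cfsg.Agent.Lib.Helper20.CD3.classInner_restrict_of_vanish K' (ψ : N → ℂ) hvan
    rw [h2, irr_classInner φ.2 φ.2, if_pos rfl, irr_classInner ψ.2 ψ.2, if_pos rfl, mul_one,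
      ← hrdef] at h3
    have h4 : r = 1 := by exact_mod_cast h3.symm
    exact hr.one_lt.ne' h4
  · have hpr := hAPN ψ hψ
    rw [h2] at hpr
    rcases Nat.prime_mul_iff.mp hpr with ⟨_, h3⟩ | ⟨_, h3⟩
    · rw [h2, h3, mul_one]
    · exact absurd h3 hr.one_lt.ne'

end NonInvariant

/-- **Isaacs–Passman**: at most three character degrees -/
theorem exists_three_degrees_aux : ∀ (n : ℕ) (G : Type u) [Group G] [Finite G],
    Nat.card G = n → AllPrime G →
    ∃ a b : ℕ, ∀ χ : IrrCharacter G, charDegree (χ : G → ℂ) = 1 ∨
      charDegree (χ : G → ℂ) = a ∨ charDegree (χ : G → ℂ) = b := by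
  intro n
  induction n using Nat.strong_induction_on with
  | _ n ih =>
    intro G _ _ hn h
    classical
    haveI : Fintype G := Fintype.ofFinite G
    haveI hsolv : Group.IsSolvable G := isSolvable_of_prime_degrees h
    by_cases hsub : Subsingleton G
    · refine ⟨1, 1, fun χ => Or.inl ?_⟩
      obtain ⟨d, hd1, hd2⟩ := IsIrrCharacter.exists_degree_dvd_card χ.2
      have hcard : Nat.card G = 1 := Nat.card_eq_one_iff_unique.mpr ⟨hsub, ⟨1⟩⟩
      rw [hcard, Nat.dvd_one] at hd2
      have h1 := char_one_eq_charDegree (IsIrrCharacter.isCharacter χ.2)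
      rw [hd1, hd2] at h1
      exact_mod_cast h1.symm
    · rw [not_subsingleton_iff_nontrivial] at hsub
      have hlt : commutator G < ⊤ := Group.IsSolvable.commutator_lt_top_of_nontrivial G
      obtain ⟨N, hNn, -, hNidx⟩ := exists_normal_prime_index (commutator G) le_rfl hlt.ne
      haveI := hNn
      haveI : Fintype N := Fintype.ofFinite N
      obtain ⟨q, hqdef⟩ : ∃ q : ℕ, q = N.index := ⟨_, rfl⟩
      have hq : q.Prime := by rw [hqdef]; exact hNidx
      have hAPN : AllPrime N := allPrime_subgroup h N
      have hNlt : Nat.card N < n := by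
        have h1 := Subgroup.card_mul_index N
        rw [← hqdef, hn] at h1
        have := hq.two_le
        have hNpos : 0 < Nat.card N := Nat.card_pos
        nlinarith
      by_cases hall : ∀ (ψ : IrrCharacter N) (g : G), conjFn N g (ψ : N → ℂ) = ψ
      · -- every character of `N` is invariant
        obtain ⟨a, b, hab⟩ := ih _ hNlt N rfl hAPN
        refine ⟨a, b, fun χ => ?_⟩
        obtain ⟨ψ, hψ⟩ := exists_constituent_restrict N χ
        rcases prime_index_degree N hq hqdef.symm χ ψ hψ with ⟨-, h2⟩ | ⟨h1, -⟩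
        · have h3 : charDegree (χ : G → ℂ) = charDegree (ψ : N → ℂ) := by
            unfold charDegree
            rw [← h2]
            rfl
          rw [h3]
          exact hab ψ
        · exact absurd (hall ψ) h1
      · -- some character of `N` is not invariant
        push Not at hall
        obtain ⟨ψ₀, g, hg⟩ := hall
        have hψ₀ : charDegree (ψ₀ : N → ℂ) = 1 := by
          by_contra hne
          obtain ⟨χ, hχ⟩ := exists_irr_over N ψ₀
          rcases prime_index_degree N hq hqdef.symm χ ψ₀ hχ with ⟨h1, -⟩ | ⟨-, h2⟩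
          · exact hg (h1 g)
          · apply not_one_or_prime_mul hq hne
            rw [← h2]
            by_cases h3 : charDegree (χ : G → ℂ) = 1
            · exact Or.inl h3
            · exact Or.inr (h χ h3)
        obtain ⟨r, hr⟩ := degrees_of_noninvariant_linear h N hq hqdef.symm ψ₀ hψ₀ g hg
        refine ⟨r, q, fun χ => ?_⟩
        obtain ⟨ψ, hψ⟩ := exists_constituent_restrict N χ
        rcases prime_index_degree N hq hqdef.symm χ ψ hψ with ⟨-, h2⟩ | ⟨-, h2⟩
        · have h3 : charDegree (χ : G → ℂ) = charDegree (ψ : N → ℂ) := by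
            unfold charDegree
            rw [← h2]
            rfl
          rw [h3]
          by_cases h4 : charDegree (ψ : N → ℂ) = 1
          · exact Or.inl h4
          · exact Or.inr (Or.inl (hr ψ h4))
        · by_cases h4 : charDegree (ψ : N → ℂ) = 1
          · right; right
            rw [h2, h4, mul_one]
          · exfalso
            apply not_one_or_prime_mul hq h4
            rw [← h2]
            by_cases h3 : charDegree (χ : G → ℂ) = 1
            · exact Or.inl h3
            · exact Or.inr (h χ h3)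

theorem exists_three_degrees {G : Type u} [Group G] [Finite G] (h : AllPrime G) :
    ∃ a b : ℕ, ∀ χ : IrrCharacter G, charDegree (χ : G → ℂ) = 1 ∨
      charDegree (χ : G → ℂ) = a ∨ charDegree (χ : G → ℂ) = b :=
  exists_three_degrees_aux _ G rfl h

end Cfsg.Agent.Lib.Helper24.PrimeDeg
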