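import Mathlib
import Cfsg.Prelude.Def_Blocks
import Cfsg.Agent.Lib.Helper24.Knorr
import Cfsg.Agent.Lib.Helper7.MinMax
import Cfsg.Agent.Lib.Helper25.Kernel
import Cfsg.Agent.S0912

/-!
# Blocks of a quotient by a normal subgroup (helper24 library)

* `inflIrr N χb` : the inflation of an irreducible character of `G ⧸ N`.
* `centralChar_inflIrr` : the central character of an inflation is a natural multiple of the central
  character in the quotient; `sameBlock_inflIrr`.
* `pushQ N a` : push-forward of a class function to the quotient; `omega_pushQ`,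
  `pushQ_blockCoeff` (the image of a block idempotent is the idempotent of the set of characters of
  the quotient whose inflations lie in the block).
-/

set_option autoImplicit false

namespace Cfsg.Agent.Lib.Helper24

open Cfsg.Agent.Lib.Helper2 Cfsg.Agent.Lib.Helper7
open scoped ComplexConjugate

section Infl

variable {G : Type*} [Group G] [Fintype G] (N : Subgroup G) [hN : N.Normal]
  {p : ℕ} {M : Ideal Cfsg.AlgInt}

/-- inflation of an irreducible character of the quotient -/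
noncomputable def inflIrr (χb : Cfsg.IrrCharacter (G ⧸ N)) : Cfsg.IrrCharacter G :=
  ⟨fun g : G => (χb : G ⧸ N → ℂ) (g : G ⧸ N),
    Cfsg.Agent.Lib.Helper25.isIrrCharacter_inflation N χb.2⟩

omit [Fintype G] in
theorem inflIrr_apply (χb : Cfsg.IrrCharacter (G ⧸ N)) (g : G) :
    (inflIrr N χb : G → ℂ) g = (χb : G ⧸ N → ℂ) (g : G ⧸ N) := rfl

omit [Fintype G] in
theorem inflIrr_injective : Function.Injective (inflIrr N) := by
  intro a b h
  apply Subtype.ext
  funext q
  obtain ⟨g, rfl⟩ := QuotientGroup.mk_surjective q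
  have := congrArg (fun χ : Cfsg.IrrCharacter G => (χ : G → ℂ) g) h
  exact this

/-- the index of `C_G(x)` in the preimage of `C_{G/N}(xN)` -/
noncomputable def relIdxQ (x : G) : ℕ :=
  (Subgroup.centralizer ({x} : Set G)).relIndex
    ((Subgroup.centralizer ({(QuotientGroup.mk' N) x} : Set (G ⧸ N))).comap
      (QuotientGroup.mk' N))

omit [Fintype G] in
theorem centralizer_le_comap (x : G) : Subgroup.centralizer ({x} : Set G) ≤
    (Subgroup.centralizer ({(QuotientGroup.mk' N) x} : Set (G ⧸ N))).comap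
      (QuotientGroup.mk' N) := by
  intro c hc
  rw [Subgroup.mem_comap, Subgroup.mem_centralizer_iff]
  intro z hz
  rw [Set.mem_singleton_iff] at hz
  subst hz
  have h1 := Subgroup.mem_centralizer_iff.mp hc x (Set.mem_singleton x)
  rw [← map_mul, ← map_mul, h1]

omit [Fintype G] in
/-- the central character of an inflated function -/
theorem centralChar_infl [Finite G] (f : G ⧸ N → ℂ) (x : G) :
    Cfsg.centralChar (fun g : G => f (g : G ⧸ N)) x
      = (relIdxQ N x : ℂ) * Cfsg.centralChar f (x : G ⧸ N) := by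
  have hπs : Function.Surjective (QuotientGroup.mk' N) := QuotientGroup.mk'_surjective N
  have hidx : (Subgroup.centralizer ({x} : Set G)).index =
      relIdxQ N x *
      (Subgroup.centralizer ({(QuotientGroup.mk' N) x} : Set (G ⧸ N))).index := by
    unfold relIdxQ
    rw [← Subgroup.index_comap_of_surjective _ hπs]
    exact (Subgroup.relIndex_mul_index (centralizer_le_comap N x)).symm
  unfold Cfsg.centralChar
  rw [hidx]
  show _ * f ((x : G ⧸ N)) / f (((1 : G) : G ⧸ N)) = _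
  rw [QuotientGroup.mk_one]
  push_cast
  simp only [QuotientGroup.mk'_apply]
  ring

omit [Fintype G] in
theorem sameBlock_inflIrr [Finite G] (hM : Cfsg.IsPModular p M)
    (χb ψb : Cfsg.IrrCharacter (G ⧸ N))
    (h : Cfsg.SameBlock M (χb : G ⧸ N → ℂ) (ψb : G ⧸ N → ℂ)) :
    Cfsg.SameBlock M (inflIrr N χb : G → ℂ) (inflIrr N ψb : G → ℂ) := by
  intro x
  show Cfsg.MemLocalIdeal M (Cfsg.centralChar (fun g : G => (χb : G ⧸ N → ℂ) (g : G ⧸ N)) x
    - Cfsg.centralChar (fun g : G => (ψb : G ⧸ N → ℂ) (g : G ⧸ N)) x)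
  rw [centralChar_infl, centralChar_infl, ← mul_sub]
  exact memLocalIdeal_mul_left hM (memLocalRing_natCast hM _) (h _)

end Infl

section Push

variable {G : Type*} [Group G] [Fintype G] (N : Subgroup G) [hN : N.Normal] [Fintype (G ⧸ N)]
  {p : ℕ} {M : Ideal Cfsg.AlgInt}

open Classical in
/-- push-forward of a function on `G` to the quotient `G ⧸ N` -/
noncomputable def pushQ (a : G → ℂ) : G ⧸ N → ℂ :=
  fun q => ∑ g : G, if (g : G ⧸ N) = q then a g else 0

theorem pushQ_isClassFunction (a : G → ℂ) (ha : Cfsg.IsClassFunction G a) :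
    Cfsg.IsClassFunction (G ⧸ N) (pushQ N a) := by
  classical
  intro q y
  obtain ⟨z, rfl⟩ := QuotientGroup.mk_surjective y
  unfold pushQ
  rw [← Equiv.sum_comp (MulAut.conj z).toEquiv]
  apply Finset.sum_congr rfl
  intro g _
  have h1 : (((MulAut.conj z).toEquiv g : G) : G ⧸ N) = (z : G ⧸ N) * (g : G ⧸ N) * (z : G ⧸ N)⁻¹ := by
    show ((z * g * z⁻¹ : G) : G ⧸ N) = _
    simp
  have h2 : a ((MulAut.conj z).toEquiv g) = a g := by
    show a (z * g * z⁻¹) = a g
    exact ha g z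
  rw [h1, h2]
  by_cases hg : (g : G ⧸ N) = q
  · rw [if_pos hg, if_pos (by rw [hg])]
  · rw [if_neg hg, if_neg]
    intro h
    apply hg
    have := congrArg (fun t => (z : G ⧸ N)⁻¹ * t * (z : G ⧸ N)) h
    simpa [mul_assoc] using this

theorem omega_pushQ (θ : G ⧸ N → ℂ) (a : G → ℂ) :
    omega θ (pushQ N a) = omega (fun g : G => θ (g : G ⧸ N)) a := by
  classical
  unfold omega pushQ
  have h1 : ∑ q : G ⧸ N, (∑ g : G, if (g : G ⧸ N) = q then a g else 0) * θ q
      = ∑ g : G, a g * θ (g : G ⧸ N) := by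
    simp_rw [Finset.sum_mul]
    rw [Finset.sum_comm]
    apply Finset.sum_congr rfl
    intro g _
    simp_rw [ite_mul, zero_mul]
    rw [Finset.sum_ite_eq Finset.univ (g : G ⧸ N) (fun q => a g * θ q)]
    simp
  rw [h1]
  rfl

/-- the image of a block idempotent in the quotient -/
theorem pushQ_blockCoeff (B : Set (Cfsg.IrrCharacter G)) :
    pushQ N (Cfsg.blockCoeff B)
      = Cfsg.blockCoeff {χb : Cfsg.IrrCharacter (G ⧸ N) | inflIrr N χb ∈ B} := by
  classical
  apply eq_of_omega_eq _ _ (pushQ_isClassFunction N _ (blockCoeff_isClassFunction B))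
    (blockCoeff_isClassFunction _)
  intro χb
  rw [omega_pushQ, omega_blockCoeff]
  have := omega_blockCoeff B (inflIrr N χb)
  rw [show (fun g : G => (χb : G ⧸ N → ℂ) (g : G ⧸ N)) = (inflIrr N χb : G → ℂ) from rfl, this]
  rfl

end Push

section Lift

variable {G : Type*} [Group G] {p : ℕ} [hp : Fact p.Prime]

/-- a `p`-regular element centralizing the normal `p`-subgroup `Q` is the only `p`-regular element
of its coset -/
theorem eq_of_regular_of_mk_eq (Q : Subgroup G) [Q.Normal] (hQ : IsPGroup p Q)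
    (x y : G) (hx : ¬ p ∣ orderOf x) (hxQ : x ∈ Subgroup.centralizer (Q : Set G))
    (hy : ¬ p ∣ orderOf y) (hxy : (x : G ⧸ Q) = (y : G ⧸ Q)) : x = y := by
  have hu : x⁻¹ * y ∈ Q := QuotientGroup.eq.mp hxy
  obtain ⟨k, hk⟩ := (IsPGroup.iff_orderOf.mp hQ) ⟨x⁻¹ * y, hu⟩
  rw [Subgroup.orderOf_mk] at hk
  have hcomm : Commute x (x⁻¹ * y) := by
    have := (Subgroup.mem_centralizer_iff.mp hxQ) (x⁻¹ * y) hu
    exact this.symm
  have hyeq : y = x * (x⁻¹ * y) := by group
  have h1 : y ^ orderOf x = (x⁻¹ * y) ^ orderOf x := by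
    conv_lhs => rw [hyeq]
    rw [hcomm.mul_pow, pow_orderOf_eq_one, one_mul]
  have h2 : orderOf ((x⁻¹ * y) ^ orderOf x) ∣ p ^ k := by
    rw [← hk]; exact orderOf_pow_dvd _
  have h3 : orderOf ((x⁻¹ * y) ^ orderOf x) ∣ orderOf y := by
    rw [← h1]; exact orderOf_pow_dvd _
  have hcop : Nat.Coprime (p ^ k) (orderOf y) :=
    Nat.Coprime.pow_left k ((Nat.Prime.coprime_iff_not_dvd hp.out).mpr hy)
  have h4 : orderOf ((x⁻¹ * y) ^ orderOf x) = 1 := Nat.eq_one_of_dvd_coprimes hcop h2 h3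
  have h5 : (x⁻¹ * y) ^ orderOf x = 1 := orderOf_eq_one_iff.mp h4
  have h6 : orderOf (x⁻¹ * y) ∣ orderOf x := orderOf_dvd_of_pow_eq_one h5
  have hcop2 : Nat.Coprime (p ^ k) (orderOf x) :=
    Nat.Coprime.pow_left k ((Nat.Prime.coprime_iff_not_dvd hp.out).mpr hx)
  have h7 : orderOf (x⁻¹ * y) = 1 := by
    apply Nat.eq_one_of_dvd_coprimes hcop2 _ h6
    rw [hk]
  have h8 : x⁻¹ * y = 1 := orderOf_eq_one_iff.mp h7
  calc x = x * (x⁻¹ * y) := by rw [h8, mul_one]
    _ = y := by group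

end Lift

section Main

variable {G : Type*} [Group G] [Fintype G] (N : Subgroup G) [hN : N.Normal] [Fintype (G ⧸ N)]
  {p : ℕ} {M : Ideal Cfsg.AlgInt}

/-- For a normal `p`-subgroup `N`, every block `B` of `G` contains a block of `G ⧸ N` some defect
group of which contains the image of a defect group of `B`. -/
theorem exists_quotient_block_ge [Fact p.Prime] (hM : Cfsg.IsPModular p M) (hNp : IsPGroup p N)
    (B : Set (Cfsg.IrrCharacter G)) (hB : Cfsg.IsPBlock M B) :
    ∃ Bbar : Set (Cfsg.IrrCharacter (G ⧸ N)), Cfsg.IsPBlock M Bbar ∧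
      (∀ χb ∈ Bbar, inflIrr N χb ∈ B) ∧
      ∃ (P : Subgroup G) (Dbar : Subgroup (G ⧸ N)), Cfsg.IsDefectGroup p M B P ∧
        Cfsg.IsDefectGroup p M Bbar Dbar ∧ P.map (QuotientGroup.mk' N) ≤ Dbar := by
  classical
  haveI : Fintype (Set (Cfsg.IrrCharacter (G ⧸ N))) := Fintype.ofFinite _
  obtain ⟨D₀, hD₀⟩ := exists_isDefectGroup hM B hB
  have hD₀' := hD₀
  obtain ⟨x, hx, P₀, rfl⟩ := hD₀
  have hNP : N ≤ (P₀ : Subgroup (Subgroup.centralizer ({x} : Set G))).map
      (Subgroup.centralizer ({x} : Set G)).subtype :=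
    (Cfsg.Agent.Lib.Helper13.le_pCore N inferInstance hNp).trans
      (Cfsg.Agent.S0912.result p M hM B hB _ hD₀')
  have hPC : (P₀ : Subgroup (Subgroup.centralizer ({x} : Set G))).map
      (Subgroup.centralizer ({x} : Set G)).subtype ≤ Subgroup.centralizer ({x} : Set G) := by
    rintro _ ⟨u, _, rfl⟩
    exact u.2
  have hxreg := isDefectClass_regular hM hB hx
  have hxN : x ∈ Subgroup.centralizer (N : Set G) := by
    rw [Subgroup.mem_centralizer_iff]
    intro n hn
    have := Subgroup.mem_centralizer_iff.mp (hPC (hNP hn)) x (Set.mem_singleton x)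
    exact this.symm
  -- the characters of the quotient inflating into `B`
  have hBt : ∀ ψ ∈ {χb : Cfsg.IrrCharacter (G ⧸ N) | inflIrr N χb ∈ B},
      Cfsg.blockOf M (ψ : G ⧸ N → ℂ) ⊆ {χb : Cfsg.IrrCharacter (G ⧸ N) | inflIrr N χb ∈ B} := by
    intro ψ hψ φ hφ
    have h1 : Cfsg.SameBlock M (inflIrr N ψ : G → ℂ) (inflIrr N φ : G → ℂ) :=
      sameBlock_inflIrr N hM ψ φ hφ
    show inflIrr N φ ∈ B
    rw [eq_blockOf_of_mem hM hB hψ]
    exact h1
  have key : Cfsg.blockCoeff {χb : Cfsg.IrrCharacter (G ⧸ N) | inflIrr N χb ∈ B}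
      ((x : G) : G ⧸ N) = Cfsg.blockCoeff B x := by
    rw [← pushQ_blockCoeff]
    unfold pushQ
    rw [Finset.sum_eq_single x]
    · rw [if_pos rfl]
    · intro g _ hgx
      by_cases hg : (g : G ⧸ N) = (x : G ⧸ N)
      · rw [if_pos hg]
        apply blockCoeff_eq_zero_of_singular hM B hB
        by_contra hreg
        exact hgx (eq_of_regular_of_mk_eq N hNp x g hxreg hxN hreg hg.symm).symm
      · rw [if_neg hg]
    · intro h
      exact absurd (Finset.mem_univ x) h
  have hunit : ¬ Cfsg.MemLocalIdeal M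
      (Cfsg.blockCoeff {χb : Cfsg.IrrCharacter (G ⧸ N) | inflIrr N χb ∈ B} ((x : G) : G ⧸ N)) := by
    rw [key]; exact hx.2.1
  obtain ⟨S, hS, hSB, hSunit⟩ : ∃ S : Set (Cfsg.IrrCharacter (G ⧸ N)), Cfsg.IsPBlock M S ∧
      S ⊆ {χb : Cfsg.IrrCharacter (G ⧸ N) | inflIrr N χb ∈ B} ∧
      ¬ Cfsg.MemLocalIdeal M (Cfsg.blockCoeff S ((x : G) : G ⧸ N)) := by
    by_contra hcon
    push Not at hcon
    apply hunit
    rw [← sum_blockCoeff_blocks hM _ hBt ((x : G) : G ⧸ N)]
    apply memLocalIdeal_sum hM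
    intro S _
    by_cases hS : Cfsg.IsPBlock M S ∧
        S ⊆ {χb : Cfsg.IrrCharacter (G ⧸ N) | inflIrr N χb ∈ B}
    · rw [if_pos hS]
      exact hcon S hS.1 hS.2
    · rw [if_neg hS]
      exact memLocalIdeal_zero hM
  refine ⟨S, hS, fun χb hχb => hSB hχb, ?_⟩
  obtain ⟨D', hD'⟩ := exists_isDefectGroup hM S hS
  have hD'0 := hD'
  obtain ⟨g₀, hg₀, Q, rfl⟩ := hD'
  obtain ⟨χb, hχb⟩ := isPBlock_nonempty hM hS
  have hmm := minmax hM S hS g₀ ((x : G) : G ⧸ N) Q χb hχb (hg₀.2.2 χb hχb) hSunit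
  have hPp : IsPGroup p ↥(((P₀ : Subgroup (Subgroup.centralizer ({x} : Set G))).map
      (Subgroup.centralizer ({x} : Set G)).subtype).map (QuotientGroup.mk' N)) := by
    apply IsPGroup.map
    exact P₀.2.map _
  have hPle : ((P₀ : Subgroup (Subgroup.centralizer ({x} : Set G))).map
      (Subgroup.centralizer ({x} : Set G)).subtype).map (QuotientGroup.mk' N)
      ≤ Subgroup.centralizer ({((x : G) : G ⧸ N)} : Set (G ⧸ N)) := by
    rintro _ ⟨u, hu, rfl⟩
    exact centralizer_le_comap N x (hPC hu)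
  obtain ⟨y, hy⟩ := hmm.exists_le _ hPp hPle
  exact ⟨_, _, hD₀', isDefectGroup_map_conj hD'0 y, hy⟩

end Main

end Cfsg.Agent.Lib.Helper24
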