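import Mathlib

/-!
# S2281 FO-4 (for helper14): a nilpotent endomorphism with one-dimensional kernel is a single
Jordan block
-/

set_option autoImplicit false

namespace Cfsg.Agent.Lib.Helper24.RU

open Module

/-- `dim ker (g ∘ f) ≤ dim ker f + dim ker g`. -/
theorem finrank_ker_comp_le {F V : Type*} [Field F] [AddCommGroup V] [Module F V]
    [FiniteDimensional F V] (f g : Module.End F V) :
    Module.finrank F (LinearMap.ker (g * f))
      ≤ Module.finrank F (LinearMap.ker f) + Module.finrank F (LinearMap.ker g) := by
  have hmem : ∀ x : LinearMap.ker (g * f),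
      (f.domRestrict (LinearMap.ker (g * f))) x ∈ LinearMap.ker g := by
    intro x
    have hx := x.2
    rw [LinearMap.mem_ker, Module.End.mul_apply] at hx
    rw [LinearMap.mem_ker, LinearMap.domRestrict_apply]
    exact hx
  have h1 := LinearMap.finrank_range_add_finrank_ker
    (LinearMap.codRestrict (LinearMap.ker g) (f.domRestrict (LinearMap.ker (g * f))) hmem)
  have h2 : Module.finrank F (LinearMap.range (LinearMap.codRestrict (LinearMap.ker g)
      (f.domRestrict (LinearMap.ker (g * f))) hmem)) ≤ Module.finrank F (LinearMap.ker g) :=
    Submodule.finrank_le _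
  have h3 : Module.finrank F (LinearMap.ker (LinearMap.codRestrict (LinearMap.ker g)
      (f.domRestrict (LinearMap.ker (g * f))) hmem))
      ≤ Module.finrank F (LinearMap.ker f) := by
    have hψ : ∀ x : LinearMap.ker (LinearMap.codRestrict (LinearMap.ker g)
        (f.domRestrict (LinearMap.ker (g * f))) hmem),
        ((Submodule.subtype (LinearMap.ker (g * f))).comp
          (Submodule.subtype (LinearMap.ker (LinearMap.codRestrict (LinearMap.ker g)
            (f.domRestrict (LinearMap.ker (g * f))) hmem)))) x
          ∈ LinearMap.ker f := by
      intro x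
      have hx := x.2
      rw [LinearMap.mem_ker] at hx
      have hx' := congrArg Subtype.val hx
      simp only [LinearMap.codRestrict_apply, LinearMap.domRestrict_apply,
        ZeroMemClass.coe_zero] at hx'
      rw [LinearMap.mem_ker]
      simpa using hx'
    apply LinearMap.finrank_le_finrank_of_injective
      (f := LinearMap.codRestrict (LinearMap.ker f) _ hψ)
    intro x y hxy
    have h := congrArg Subtype.val hxy
    simp only [LinearMap.codRestrict_apply, LinearMap.coe_comp, Submodule.coe_subtype,
      Function.comp_apply] at h
    exact Subtype.ext (Subtype.ext h)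
  omega

/-- If `ker N` is a line then `ker (N ^ k)` has dimension at most `k`. -/
theorem finrank_ker_pow_le {F V : Type*} [Field F] [AddCommGroup V] [Module F V]
    [FiniteDimensional F V] (N : Module.End F V)
    (hker : Module.finrank F (LinearMap.ker N) = 1) (k : ℕ) :
    Module.finrank F (LinearMap.ker (N ^ k)) ≤ k := by
  induction k with
  | zero =>
    have : LinearMap.ker (N ^ 0) = ⊥ := by
      rw [pow_zero]
      exact LinearMap.ker_id
    rw [this, finrank_bot]
  | succ k ih =>
    have h := finrank_ker_comp_le (N ^ k) N
    rw [← pow_succ', hker] at h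
    omega

/-- S2281 FO-4: a nilpotent endomorphism with one-dimensional kernel is a single Jordan block. -/
theorem pow_ne_zero_of_finrank_ker_eq_one {F V : Type*} [Field F] [AddCommGroup V] [Module F V]
    [FiniteDimensional F V] (N : Module.End F V) (hN : IsNilpotent N)
    (hker : Module.finrank F (LinearMap.ker N) = 1) :
    N ^ (Module.finrank F V - 1) ≠ 0 := by
  intro h0
  have h1 := finrank_ker_pow_le N hker (Module.finrank F V - 1)
  have h2 : LinearMap.ker (N ^ (Module.finrank F V - 1)) = ⊤ := by
    rw [h0]
    exact LinearMap.ker_zero
  rw [h2, finrank_top] at h1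
  have h3 : Module.finrank F (LinearMap.ker N) ≤ Module.finrank F V := Submodule.finrank_le _
  omega

end Cfsg.Agent.Lib.Helper24.RU
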