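import Mathlib
import Cfsg.Agent.Lib.Helper24.RealOdd
import Cfsg.Agent.Lib.Helper24.SigmaOdd
import Cfsg.Agent.Lib.Helper25.DetExt
import Cfsg.Agent.Lib.Helper25.MinNormal
import Cfsg.Agent.Lib.Helper7.LinearExt

/-!
# Odd-degree characters real on the elements of odd order; real characters that extend
(helper24 library)

* `mem_principalBlock_of_real_on_regular_odd`: an irreducible character of odd degree which is
  real-valued on the elements of odd order lies in the principal `2`-block;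
* `exists_extension_real_on_regular`: a real-valued `θ ∈ Irr(N)`, `N ⊴ G`, that extends to `G`
  has an extension which is real-valued on the elements of odd order.
-/

set_option autoImplicit false
set_option linter.unusedSectionVars false
set_option linter.style.haveILetI false

open scoped ComplexConjugate
open Cfsg.Agent.Lib.Helper2

namespace Cfsg.Agent.Lib.Helper24

section RealOnRegular

variable {G : Type*} [Group G] [Fintype G] {M : Ideal Cfsg.AlgInt}

/-- the sum over the elements of odd order of an irreducible character of odd degree which is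
real on these elements is not zero -/
theorem sum_pRegularPart_ne_zero_of_real_on_regular_odd (hM : Cfsg.IsPModular 2 M)
    (χ : Cfsg.IrrCharacter G) (hreal : ∀ g : G, ¬ 2 ∣ orderOf g → ((χ : G → ℂ) g).im = 0)
    (hodd : Odd (Cfsg.charDegree (χ : G → ℂ))) :
    ∑ y : G, Cfsg.pRegularPart 2 (χ : G → ℂ) y ≠ 0 := by
  classical
  intro hS
  have h2M : (2 : Cfsg.AlgInt) ∈ M := by
    have := hM.2.2
    exact_mod_cast this
  obtain ⟨a, ha⟩ : ∃ a : G → Cfsg.AlgInt, ∀ g, ((a g : Cfsg.AlgInt) : ℂ) = (χ : G → ℂ) g :=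
    ⟨fun g => ⟨(χ : G → ℂ) g, Cfsg.Agent.Lib.Helper7.irr_value_isIntegral χ g⟩, fun g => rfl⟩
  have hinv : ∀ g, ¬ 2 ∣ orderOf g → a g⁻¹ = a g := by
    intro g hg
    apply Subtype.ext
    rw [ha, ha, IrrCharacter.apply_inv]
    exact Complex.conj_eq_iff_im.mpr (hreal g hg)
  obtain ⟨s, hs⟩ : ∃ s : Finset G, s = Finset.univ.filter (fun g : G => ¬ 2 ∣ orderOf g) :=
    ⟨_, rfl⟩
  have hmem : ∀ g, g ∈ s ↔ ¬ 2 ∣ orderOf g := by
    intro g
    rw [hs]
    simp
  have h1 : ∑ g ∈ s, a g = 0 := by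
    apply Subtype.ext
    rw [AddSubmonoidClass.coe_finset_sum]
    simp only [ha]
    rw [ZeroMemClass.coe_zero, ← hS, hs, Finset.sum_filter]
    apply Finset.sum_congr rfl
    intro g _
    by_cases hg : 2 ∣ orderOf g
    · rw [if_neg (not_not.mpr hg), pRegularPart_of_singular _ hg]
    · rw [if_pos hg, pRegularPart_of_regular _ hg]
  have h1s : (1 : G) ∈ s := by
    rw [hmem, orderOf_one]
    norm_num
  have h2 : Ideal.Quotient.mk M (∑ g ∈ s, a g) = Ideal.Quotient.mk M (a 1) := by
    rw [map_sum, ← Finset.add_sum_erase s _ h1s]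
    have h0 : ∑ g ∈ s.erase 1, Ideal.Quotient.mk M (a g) = 0 := by
      apply Finset.sum_involution (fun g _ => g⁻¹)
      · intro g hg
        have hgs : ¬ 2 ∣ orderOf g := (hmem g).mp (Finset.mem_of_mem_erase hg)
        rw [hinv g hgs, ← map_add, ← two_mul, Ideal.Quotient.eq_zero_iff_mem]
        exact M.mul_mem_right _ h2M
      · intro g hg _ hgg
        have hg1 : g ≠ 1 := Finset.ne_of_mem_erase hg
        have hgs : ¬ 2 ∣ orderOf g := (hmem g).mp (Finset.mem_of_mem_erase hg)
        have hsq : g ^ 2 = 1 := by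
          rw [pow_two]
          nth_rewrite 1 [← hgg]
          exact inv_mul_cancel g
        have hdvd : orderOf g ∣ 2 := orderOf_dvd_of_pow_eq_one hsq
        rcases (Nat.dvd_prime Nat.prime_two).mp hdvd with h | h
        · exact hg1 (orderOf_eq_one_iff.mp h)
        · exact hgs (by rw [h])
      · intro g _
        exact inv_inv g
      · intro g hg
        have hg1 : g ≠ 1 := Finset.ne_of_mem_erase hg
        have hgs : ¬ 2 ∣ orderOf g := (hmem g).mp (Finset.mem_of_mem_erase hg)
        apply Finset.mem_erase.mpr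
        refine ⟨fun h => hg1 (inv_eq_one.mp h), ?_⟩
        rw [hmem, orderOf_inv]
        exact hgs
    rw [h0, add_zero]
  rw [h1, map_zero] at h2
  have h3 : a 1 ∈ M := Ideal.Quotient.eq_zero_iff_mem.mp h2.symm
  obtain ⟨m, hm⟩ := hodd
  have h4 : a 1 = (2 : Cfsg.AlgInt) * (m : Cfsg.AlgInt) + 1 := by
    apply Subtype.ext
    rw [ha, apply_one_eq_charDegree, hm]
    push_cast
    rfl
  have h5 : (1 : Cfsg.AlgInt) ∈ M := by
    have e : (1 : Cfsg.AlgInt) = a 1 - (2 : Cfsg.AlgInt) * (m : Cfsg.AlgInt) := by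
      rw [h4]
      ring
    rw [e]
    exact M.sub_mem h3 (M.mul_mem_right _ h2M)
  exact hM.2.1.ne_top ((Ideal.eq_top_iff_one M).mpr h5)

/-- an irreducible character of odd degree which is real on the elements of odd order lies in
the principal `2`-block -/
theorem mem_principalBlock_of_real_on_regular_odd (hM : Cfsg.IsPModular 2 M)
    (χ : Cfsg.IrrCharacter G) (hreal : ∀ g : G, ¬ 2 ∣ orderOf g → ((χ : G → ℂ) g).im = 0)
    (hodd : Odd (Cfsg.charDegree (χ : G → ℂ))) : χ ∈ Cfsg.principalBlock M G := by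
  by_contra hcon
  exact sum_pRegularPart_ne_zero_of_real_on_regular_odd hM χ hreal hodd
    (sum_pRegularPart_eq_zero hM χ hcon)

end RealOnRegular

section Ext

universe u

variable {G : Type u} [Group G] [Finite G] (N : Subgroup G) [hN : N.Normal]

open Cfsg Cfsg.Agent.Lib.Helper7 Cfsg.Agent.Lib.Helper25 in
/-- a real-valued irreducible character of a normal subgroup which extends has an extension
that is real-valued on the elements of odd order -/
theorem exists_extension_real_on_regular {θ : N → ℂ} (hθ : IsIrrCharacter N θ)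
    (hreal : ∀ n : N, (θ n).im = 0) {η₀ : G → ℂ} (hη₀ : IsIrrCharacter G η₀)
    (hη₀N : ∀ n : N, η₀ n = θ n) :
    ∃ η : G → ℂ, IsIrrCharacter G η ∧ (∀ n : N, η n = θ n) ∧
      ∀ g : G, ¬ 2 ∣ orderOf g → (η g).im = 0 := by
  classical
  have hconj : IsIrrCharacter G (fun g => conj (η₀ g)) := isIrrCharacter_conj hη₀
  have hconjN : ∀ n : N, (fun g => conj (η₀ g)) n = θ n := by
    intro n
    show conj (η₀ n) = θ n
    rw [hη₀N n]
    exact Complex.conj_eq_iff_im.mpr (hreal n)
  obtain ⟨β, hβN, hβ⟩ := exists_hom_of_two_extensions N hθ hη₀ hconj hη₀N hconjN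
  obtain ⟨a, ha⟩ : ∃ a, a = (N.index).factorization 2 := ⟨_, rfl⟩
  obtain ⟨r, hr⟩ : ∃ r, r = ordCompl[2] N.index := ⟨_, rfl⟩
  have hidx0 : N.index ≠ 0 := Subgroup.index_ne_zero_of_finite
  have hidx : N.index = 2 ^ a * r := by
    rw [ha, hr]
    exact (Nat.ordProj_mul_ordCompl_eq_self N.index 2).symm
  have hrodd : Odd r := by
    rw [← Nat.not_even_iff_odd, even_iff_two_dvd, hr]
    exact Nat.not_dvd_ordCompl Nat.prime_two hidx0
  obtain ⟨j, hj⟩ : ∃ j, r + 1 = 2 * j := by
    obtain ⟨c, hc⟩ := hrodd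
    exact ⟨c + 1, by omega⟩
  have hβidx : ∀ g : G, β g ^ N.index = 1 := by
    intro g
    rw [← map_pow]
    exact hβN ⟨g ^ N.index, Subgroup.pow_index_mem N g⟩
  refine ⟨coeFunHom G (β ^ j) * η₀, ?_, ?_, ?_⟩
  · exact isIrrCharacter_linear_mul (isCharacter_coeFunHom (β ^ j)).1
      (isCharacter_coeFunHom (β ^ j)).2 hη₀
  · intro n
    rw [Pi.mul_apply, coeFunHom_apply, MonoidHom.pow_apply, hβN n, one_pow, Units.val_one,
      one_mul, hη₀N]
  · intro g hg
    rw [← Complex.conj_eq_iff_im]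
    have hgodd : Odd (orderOf g) := by
      rw [← Nat.not_even_iff_odd, even_iff_two_dvd]
      exact hg
    have hbo : β g ^ orderOf g = 1 := by
      rw [← map_pow, pow_orderOf_eq_one, map_one]
    have hbr : β g ^ r = 1 := by
      have h1 : orderOf (β g) ∣ orderOf g := orderOf_dvd_of_pow_eq_one hbo
      have h2 : orderOf (β g) ∣ 2 ^ a * r := by
        rw [← hidx]
        exact orderOf_dvd_of_pow_eq_one (hβidx g)
      have h3 : Nat.Coprime (orderOf (β g)) (2 ^ a) := by
        apply Nat.Coprime.pow_right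
        apply Nat.Coprime.symm
        rw [Nat.coprime_two_left]
        obtain ⟨c, hc⟩ := h1
        rw [hc] at hgodd
        exact (Nat.odd_mul.mp hgodd).1
      exact orderOf_dvd_iff_pow_eq_one.mp (h3.dvd_of_dvd_mul_left h2)
    have hc0 : ((β g : ℂˣ) : ℂ) ≠ 0 := Units.ne_zero _
    have hco : ((β g : ℂˣ) : ℂ) ^ orderOf g = 1 := by
      rw [← Units.val_pow_eq_pow_val, hbo, Units.val_one]
    have hcr : ((β g : ℂˣ) : ℂ) ^ r = 1 := by
      rw [← Units.val_pow_eq_pow_val, hbr, Units.val_one]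
    have hcc : conj ((β g : ℂˣ) : ℂ) = (((β g : ℂˣ) : ℂ))⁻¹ :=
      (inv_eq_conj_of_pow_eq_one (orderOf_pos g).ne' hco).symm
    have h1 : conj (η₀ g) = coeFunHom G β g * η₀ g := by
      have := congrFun hβ g
      simpa using this
    rw [Pi.mul_apply, map_mul, h1, coeFunHom_apply, coeFunHom_apply, MonoidHom.pow_apply,
      Units.val_pow_eq_pow_val, map_pow, hcc]
    have h2 : ((β g : ℂˣ) : ℂ) ^ j * ((β g : ℂˣ) : ℂ) ^ j = ((β g : ℂˣ) : ℂ) := by
      rw [← pow_add, ← two_mul, ← hj, pow_succ, hcr, one_mul]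
    have h3 : ((((β g : ℂˣ) : ℂ))⁻¹) ^ j * ((β g : ℂˣ) : ℂ) = ((β g : ℂˣ) : ℂ) ^ j := by
      rw [inv_pow]
      have hcj : ((β g : ℂˣ) : ℂ) ^ j ≠ 0 := pow_ne_zero _ hc0
      field_simp
      rw [pow_two, h2]
    rw [← mul_assoc, h3]

end Ext

end Cfsg.Agent.Lib.Helper24
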