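import Mathlib
import Cfsg.Prelude.Def_Characters
import Cfsg.Agent.Lib.Helper2.Induction
import Cfsg.Agent.Lib.Helper2.CharBasic
import Cfsg.Agent.Lib.Helper25.Linear

/-!
# S0197 package A (for helper21): characters induced from a cyclic subgroup, by formula
-/

set_option autoImplicit false

namespace Cfsg.Agent.Lib.Helper24.S0197A

open Cfsg

/-- The character of `Γ` induced from the linear character `c ^ k ↦ ζ ^ k` of `⟨c⟩`. -/
theorem isCharacter_cyclic_ind {Γ : Type*} [Group Γ] [Finite Γ] (c : Γ) (n : ℕ)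
    (hc : orderOf c = n) (hn : 0 < n) (ζ : ℂ) (hζ : ζ ^ n = 1) :
    Cfsg.IsCharacter Γ (fun h => (n : ℂ)⁻¹ * ∑ k ∈ Finset.range n,
      (Nat.card {x : Γ // x⁻¹ * h * x = c ^ k} : ℂ) * ζ ^ k) := by
  classical
  haveI : Fintype Γ := Fintype.ofFinite Γ
  have hζ0 : ζ ≠ 0 := by
    intro h0
    rw [h0, zero_pow hn.ne'] at hζ
    exact zero_ne_one hζ
  have hz : (Units.mk0 ζ hζ0) ^ n = 1 := by
    apply Units.ext
    simpa using hζ
  have hgmem : c ∈ Subgroup.zpowers c := Subgroup.mem_zpowers c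
  have hg : ∀ x : Subgroup.zpowers c, x ∈ Subgroup.zpowers (⟨c, hgmem⟩ : Subgroup.zpowers c) := by
    rintro ⟨x, hx⟩
    obtain ⟨i, rfl⟩ := Subgroup.mem_zpowers_iff.mp hx
    exact Subgroup.mem_zpowers_iff.mpr ⟨i, Subtype.ext (by simp)⟩
  have hord : orderOf (⟨c, hgmem⟩ : Subgroup.zpowers c) = n := by
    rw [← hc]
    exact Subgroup.orderOf_mk c hgmem
  have hg' : orderOf (Units.mk0 ζ hζ0) ∣ orderOf (⟨c, hgmem⟩ : Subgroup.zpowers c) := by
    rw [hord]
    exact orderOf_dvd_of_pow_eq_one hz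
  have hlam : monoidHomOfForallMemZpowers hg hg' ⟨c, hgmem⟩ = Units.mk0 ζ hζ0 :=
    monoidHomOfForallMemZpowers_apply_gen hg hg'
  have hlamk : ∀ (k : ℕ) (hk : c ^ k ∈ Subgroup.zpowers c),
      ((monoidHomOfForallMemZpowers hg hg' ⟨c ^ k, hk⟩ : ℂˣ) : ℂ) = ζ ^ k := by
    intro k hk
    have h1 : (⟨c ^ k, hk⟩ : Subgroup.zpowers c) = (⟨c, hgmem⟩ : Subgroup.zpowers c) ^ k :=
      Subtype.ext (by simp)
    rw [h1, map_pow, hlam]
    simp
  have hchar : Cfsg.IsCharacter (Subgroup.zpowers c)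
      (fun h => ((monoidHomOfForallMemZpowers hg hg' h : ℂˣ) : ℂ)) :=
    Cfsg.Agent.Lib.Helper2.IsIrrCharacter.isCharacter
      (Cfsg.Agent.Lib.Helper25.isIrrCharacter_of_hom (monoidHomOfForallMemZpowers hg hg'))
  have hind := Cfsg.Agent.Lib.Helper2.indFun_isCharacter (Subgroup.zpowers c) _ hchar
  have hcardH : Nat.card (Subgroup.zpowers c) = n := by
    rw [Nat.card_zpowers, hc]
  convert hind using 1
  funext h
  unfold Cfsg.indFun
  rw [hcardH]
  congr 1
  -- the counting identity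
  have hcount : ∀ k : ℕ, (Nat.card {x : Γ // x⁻¹ * h * x = c ^ k} : ℂ)
      = ∑ x : Γ, if x⁻¹ * h * x = c ^ k then (1 : ℂ) else 0 := by
    intro k
    rw [Nat.card_eq_fintype_card, Fintype.card_subtype, Finset.sum_boole]
  simp_rw [hcount, Finset.sum_mul]
  rw [Finset.sum_comm]
  refine Finset.sum_congr rfl fun x _ => ?_
  by_cases hy : x⁻¹ * h * x ∈ Subgroup.zpowers c
  · have hfin : IsOfFinOrder c := isOfFinOrder_of_finite c
    obtain ⟨k0, hk0, hk0eq⟩ : ∃ k0, k0 < orderOf c ∧ c ^ k0 = x⁻¹ * h * x := by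
      have := (hfin.mem_zpowers_iff_mem_range_orderOf).mp hy
      simpa using this
    rw [hc] at hk0
    rw [Finset.sum_eq_single k0]
    · rw [if_pos hk0eq.symm, one_mul, Cfsg.Agent.Lib.Helper2.extendByZero_of_mem _ _ hy]
      have : (⟨x⁻¹ * h * x, hy⟩ : Subgroup.zpowers c) = ⟨c ^ k0, hk0eq ▸ hy⟩ :=
        Subtype.ext hk0eq.symm
      rw [this, hlamk]
    · intro k hk hne
      rw [if_neg, zero_mul]
      intro heq
      apply hne
      have hk' : k < orderOf c := by rw [hc]; exact Finset.mem_range.mp hk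
      have hk0' : k0 < orderOf c := by rw [hc]; exact hk0
      exact pow_injOn_Iio_orderOf hk' hk0' (by simp only; rw [← heq, hk0eq])
    · intro hk
      exact absurd (Finset.mem_range.mpr hk0) hk
  · rw [Cfsg.Agent.Lib.Helper2.extendByZero_of_not_mem _ _ hy]
    apply Finset.sum_eq_zero
    intro k _
    rw [if_neg, zero_mul]
    intro heq
    apply hy
    rw [heq]
    exact Subgroup.pow_mem _ hgmem k

end Cfsg.Agent.Lib.Helper24.S0197A
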