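import Mathlib
import Cfsg.Prelude.Def_Characters
import Cfsg.Agent.Lib.Helper21.GL23Defs
import Cfsg.Agent.Lib.Helper24.S0197A
import Cfsg.Agent.Lib.Helper2.Induction

/-!
# S0197 package C (for helper21): the five generalized characters of `GL(2,3)` vanishing off `𝒟`

`exists_alpha_genChar_of` takes the package-B2 facts (orders of `c8`, `c6` and the conjugation
counts `n8`, `n6`) as hypotheses.
-/

set_option autoImplicit false

namespace Cfsg.Agent.Lib.Helper24.S0197C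

open scoped ComplexConjugate
open Cfsg.Agent.Lib.Helper21.GL23 Cfsg.Agent.Lib.Helper2

/-- The character induced from `c8 ^ k ↦ ζ ^ k`. -/
noncomputable def I8 (ζ : ℂ) : Gam → ℂ := fun M =>
  ((8 : ℕ) : ℂ)⁻¹ * ∑ k ∈ Finset.range 8,
    (Nat.card {X : Gam // X⁻¹ * M * X = c8 ^ k} : ℂ) * ζ ^ k

/-- The character induced from `c6 ^ k ↦ ζ ^ k`. -/
noncomputable def J6 (ζ : ℂ) : Gam → ℂ := fun M =>
  ((6 : ℕ) : ℂ)⁻¹ * ∑ k ∈ Finset.range 6,
    (Nat.card {X : Gam // X⁻¹ * M * X = c6 ^ k} : ℂ) * ζ ^ k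

/-- Class table of `I8 ζ`. -/
def tab8 (ζ : ℂ) : Fin 8 → ℂ :=
  ![6, 6 * ζ ^ 4, 0, ζ ^ 2 + ζ ^ 6, 0, 0, ζ + ζ ^ 3, ζ ^ 5 + ζ ^ 7]

/-- Class table of `J6 ζ`. -/
def tab6 (ζ : ℂ) : Fin 8 → ℂ :=
  ![8, 8 * ζ ^ 3, 0, 0, ζ ^ 2 + ζ ^ 4, ζ + ζ ^ 5, 0, 0]

theorem I8_isCharacter (h8 : orderOf c8 = 8) (ζ : ℂ) (hζ : ζ ^ 8 = 1) :
    Cfsg.IsCharacter Gam (I8 ζ) :=
  Cfsg.Agent.Lib.Helper24.S0197A.isCharacter_cyclic_ind c8 8 h8 (by norm_num) ζ hζ

theorem J6_isCharacter (h6 : orderOf c6 = 6) (ζ : ℂ) (hζ : ζ ^ 6 = 1) :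
    Cfsg.IsCharacter Gam (J6 ζ) :=
  Cfsg.Agent.Lib.Helper24.S0197A.isCharacter_cyclic_ind c6 6 h6 (by norm_num) ζ hζ

theorem I8_eq
    (hn8 : ∀ (M : Gam) (k : Fin 8),
      Nat.card {X : Gam // X⁻¹ * M * X = c8 ^ (k : ℕ)} = n8 (cls M) k)
    (ζ : ℂ) (M : Gam) : I8 ζ M = tab8 ζ (cls M) := by
  unfold I8
  rw [Finset.sum_range]
  simp_rw [hn8 M]
  generalize cls M = c
  fin_cases c <;> simp [n8, tab8, Fin.sum_univ_eight] <;> ring

theorem J6_eq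
    (hn6 : ∀ (M : Gam) (k : Fin 6),
      Nat.card {X : Gam // X⁻¹ * M * X = c6 ^ (k : ℕ)} = n6 (cls M) k)
    (ζ : ℂ) (M : Gam) : J6 ζ M = tab6 ζ (cls M) := by
  unfold J6
  rw [Finset.sum_range]
  simp_rw [hn6 M]
  generalize cls M = c
  fin_cases c <;> simp [n6, tab6, Fin.sum_univ_six] <;> ring


/-- A primitive 8th root of unity with its conjugate. -/
theorem exists_omega : ∃ ω : ℂ, ω ^ 4 = -1 ∧ conj ω = -ω ^ 3 := by
  have hs : ((Real.sqrt 2 : ℝ) : ℂ) ^ 2 = 2 := by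
    rw [← Complex.ofReal_pow, Real.sq_sqrt (by norm_num)]
    norm_num
  have h2 : (((Real.sqrt 2 : ℝ) : ℂ) / 2 * (1 + Complex.I)) ^ 2 = Complex.I := by
    linear_combination ((1 + Complex.I) ^ 2 / 4) * hs + (1 / 2 : ℂ) * Complex.I_sq
  refine ⟨((Real.sqrt 2 : ℝ) : ℂ) / 2 * (1 + Complex.I), ?_, ?_⟩
  · calc (((Real.sqrt 2 : ℝ) : ℂ) / 2 * (1 + Complex.I)) ^ 4
        = ((((Real.sqrt 2 : ℝ) : ℂ) / 2 * (1 + Complex.I)) ^ 2) ^ 2 := by ring
      _ = -1 := by rw [h2, Complex.I_sq]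
  · have h3 : (((Real.sqrt 2 : ℝ) : ℂ) / 2 * (1 + Complex.I)) ^ 3
        = Complex.I * (((Real.sqrt 2 : ℝ) : ℂ) / 2 * (1 + Complex.I)) := by
      calc (((Real.sqrt 2 : ℝ) : ℂ) / 2 * (1 + Complex.I)) ^ 3
          = (((Real.sqrt 2 : ℝ) : ℂ) / 2 * (1 + Complex.I)) ^ 2
            * (((Real.sqrt 2 : ℝ) : ℂ) / 2 * (1 + Complex.I)) := by ring
        _ = Complex.I * (((Real.sqrt 2 : ℝ) : ℂ) / 2 * (1 + Complex.I)) := by rw [h2]
    rw [h3]
    simp only [map_mul, map_add, map_one, map_div₀, Complex.conj_ofReal, Complex.conj_I,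
      Complex.conj_ofNat]
    linear_combination (((Real.sqrt 2 : ℝ) : ℂ) / 2) * Complex.I_sq

/-- A primitive 6th root of unity. -/
theorem exists_nu : ∃ ν : ℂ, ν ^ 2 = ν - 1 := by
  have ht : ((Real.sqrt 3 : ℝ) : ℂ) ^ 2 = 3 := by
    rw [← Complex.ofReal_pow, Real.sq_sqrt (by norm_num)]
    norm_num
  refine ⟨1 / 2 + ((Real.sqrt 3 : ℝ) : ℂ) / 2 * Complex.I, ?_⟩
  linear_combination (Complex.I ^ 2 / 4) * ht + (3 / 4 : ℂ) * Complex.I_sq

/-- Package C with the package-B2 facts as hypotheses. -/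
theorem exists_alpha_genChar_of (h8 : orderOf c8 = 8) (h6 : orderOf c6 = 6)
    (hn8 : ∀ (M : Gam) (k : Fin 8),
      Nat.card {X : Gam // X⁻¹ * M * X = c8 ^ (k : ℕ)} = n8 (cls M) k)
    (hn6 : ∀ (M : Gam) (k : Fin 6),
      Nat.card {X : Gam // X⁻¹ * M * X = c6 ^ (k : ℕ)} = n6 (cls M) k) :
    ∃ α : ℂ, α ^ 2 = -2 ∧ conj α = -α ∧
      ∀ k : Fin 5, Cfsg.IsGeneralizedCharacter Gam (fun M => bt α k (cls M)) := by
  obtain ⟨ω, hω4, hωc⟩ := exists_omega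
  obtain ⟨ν, hν⟩ := exists_nu
  have hpow : ∀ k : ℕ, ω ^ (k + 4) = -ω ^ k := by
    intro k; rw [pow_add, hω4]; ring
  have hν3 : ν ^ 3 = -1 := by linear_combination (ν + 1) * hν
  have hνpow : ∀ k : ℕ, ν ^ (k + 3) = -ν ^ k := by
    intro k; rw [pow_add, hν3]; ring
  have hω8 : ∀ a : ℕ, (ω ^ a) ^ 8 = 1 := by
    intro a
    rw [← pow_mul, mul_comm, pow_mul, show ω ^ 8 = 1 by linear_combination (ω ^ 4 - 1) * hω4,
      one_pow]
  have hν6 : ∀ b : ℕ, (ν ^ b) ^ 6 = 1 := by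
    intro b
    rw [← pow_mul, mul_comm, pow_mul, show ν ^ 6 = 1 by linear_combination (ν ^ 3 - 1) * hν3,
      one_pow]
  have hA : ∀ a : ℕ, Cfsg.IsCharacter Gam (I8 (ω ^ a)) := fun a =>
    I8_isCharacter h8 _ (hω8 a)
  have hB : ∀ b : ℕ, Cfsg.IsCharacter Gam (J6 (ν ^ b)) := fun b =>
    J6_isCharacter h6 _ (hν6 b)
  refine ⟨ω + ω ^ 3, ?_, ?_, ?_⟩
  · linear_combination (ω ^ 2 + 2) * hω4
  · rw [map_add, map_pow, hωc]
    linear_combination (-(ω * (ω ^ 4 - 1))) * hω4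
  · intro k
    -- the common negative part of β₁, β₂
    fin_cases k
    · refine ⟨2 • I8 (ω ^ 1) + I8 (ω ^ 5) + J6 (ν ^ 0) + J6 (ν ^ 2),
        I8 (ω ^ 0) + I8 (ω ^ 4) + I8 (ω ^ 2) + J6 (ν ^ 3) + J6 (ν ^ 1), ?_, ?_, ?_⟩
      · exact isCharacter_add (isCharacter_add (isCharacter_add (isCharacter_nsmul 2 (hA 1))
          (hA 5)) (hB 0)) (hB 2)
      · exact isCharacter_add (isCharacter_add (isCharacter_add (isCharacter_add (hA 0) (hA 4))
          (hA 2)) (hB 3)) (hB 1)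
      · funext M
        simp only [Pi.sub_apply, Pi.add_apply, Pi.smul_apply, I8_eq hn8, J6_eq hn6]
        generalize cls M = c
        fin_cases c <;> simp [bt, tab8, tab6] <;> (try simp only [← pow_mul]) <;>
          (try norm_num only) <;> (try simp only [hpow, hνpow, hν]) <;> ring
    · refine ⟨2 • I8 (ω ^ 5) + I8 (ω ^ 1) + J6 (ν ^ 0) + J6 (ν ^ 2),
        I8 (ω ^ 0) + I8 (ω ^ 4) + I8 (ω ^ 2) + J6 (ν ^ 3) + J6 (ν ^ 1), ?_, ?_, ?_⟩
      · exact isCharacter_add (isCharacter_add (isCharacter_add (isCharacter_nsmul 2 (hA 5))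
          (hA 1)) (hB 0)) (hB 2)
      · exact isCharacter_add (isCharacter_add (isCharacter_add (isCharacter_add (hA 0) (hA 4))
          (hA 2)) (hB 3)) (hB 1)
      · funext M
        simp only [Pi.sub_apply, Pi.add_apply, Pi.smul_apply, I8_eq hn8, J6_eq hn6]
        generalize cls M = c
        fin_cases c <;> simp [bt, tab8, tab6] <;> (try simp only [← pow_mul]) <;>
          (try norm_num only) <;> (try simp only [hpow, hνpow, hν]) <;> ring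
    · refine ⟨I8 (ω ^ 0), I8 (ω ^ 2), hA 0, hA 2, ?_⟩
      funext M
      simp only [Pi.sub_apply, Pi.add_apply, Pi.smul_apply, I8_eq hn8, J6_eq hn6]
      generalize cls M = c
      fin_cases c <;> simp [bt, tab8, tab6] <;> (try simp only [← pow_mul]) <;>
        (try norm_num only) <;> (try simp only [hpow, hνpow, hν]) <;> ring
    · refine ⟨I8 (ω ^ 4), I8 (ω ^ 2), hA 4, hA 2, ?_⟩
      funext M
      simp only [Pi.sub_apply, Pi.add_apply, Pi.smul_apply, I8_eq hn8, J6_eq hn6]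
      generalize cls M = c
      fin_cases c <;> simp [bt, tab8, tab6] <;> (try simp only [← pow_mul]) <;>
        (try norm_num only) <;> (try simp only [hpow, hνpow, hν]) <;> ring
    · refine ⟨I8 (ω ^ 0) + I8 (ω ^ 2) + J6 (ν ^ 1), I8 (ω ^ 1) + I8 (ω ^ 5) + J6 (ν ^ 2),
        ?_, ?_, ?_⟩
      · exact isCharacter_add (isCharacter_add (hA 0) (hA 2)) (hB 1)
      · exact isCharacter_add (isCharacter_add (hA 1) (hA 5)) (hB 2)
      · funext M
        simp only [Pi.sub_apply, Pi.add_apply, Pi.smul_apply, I8_eq hn8, J6_eq hn6]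
        generalize cls M = c
        fin_cases c <;> simp [bt, tab8, tab6] <;> (try simp only [← pow_mul]) <;>
          (try norm_num only) <;> (try simp only [hpow, hνpow, hν]) <;> ring

end Cfsg.Agent.Lib.Helper24.S0197C
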