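import Mathlib
import Cfsg.Agent.Lib.Helper3.SFDefs

/-!
# S4130 farm-out piece FO-4 (helper24): `|G : F|` squarefree

`F` abelian normal, containing all commutators and all nilpotent normal subgroups of a group
with squarefree class sizes: then `|G : F|` is squarefree.
-/

set_option autoImplicit false

namespace Cfsg.Agent.Lib.Helper24.S4130FO4

open Subgroup Cfsg.Agent.Lib.Helper3.SF

variable {G : Type*} [Group G]

/-- any subgroup containing `F` (which contains all commutators) is normal -/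
theorem normal_of_ge (F : Subgroup G) (hGF : ∀ a b : G, a * b * a⁻¹ * b⁻¹ ∈ F)
    (H : Subgroup G) (hFH : F ≤ H) : H.Normal := by
  constructor
  intro n hn g
  have e : g * n * g⁻¹ = (g * n * g⁻¹ * n⁻¹) * n := by group
  rw [e]
  exact H.mul_mem (hFH (hGF g n)) hn

/-- coprime action: a commutator `[v,g]` (`v ∈ Y`) fixed by `g` is trivial -/
theorem coprime_fix (Y : Subgroup G) [hYn : Y.Normal]
    (m N : ℕ) (hmN : Nat.Coprime m N) (hm : ∀ y ∈ Y, y ^ m = 1) (g : G)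
    (hg : ∀ y ∈ Y, g ^ N * y = y * g ^ N) (v : G) (hv : v ∈ Y)
    (hw : g⁻¹ * (v⁻¹ * g⁻¹ * v * g) * g = v⁻¹ * g⁻¹ * v * g) :
    v⁻¹ * g⁻¹ * v * g = 1 := by
  obtain ⟨w, hwdef⟩ : ∃ w, w = v⁻¹ * g⁻¹ * v * g := ⟨_, rfl⟩
  rw [← hwdef] at hw ⊢
  have hwY : w ∈ Y := by
    rw [hwdef]
    have h1 : g⁻¹ * v * g⁻¹⁻¹ ∈ Y := hYn.conj_mem v hv g⁻¹
    rw [inv_inv] at h1
    have : v⁻¹ * g⁻¹ * v * g = v⁻¹ * (g⁻¹ * v * g) := by group
    rw [this]
    exact Y.mul_mem (Y.inv_mem hv) h1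
  have hvw : g⁻¹ * v * g = v * w := by rw [hwdef]; group
  have hwi : ∀ i : ℕ, g⁻¹ * w ^ i * g = w ^ i := by
    intro i
    induction i with
    | zero => simp
    | succ i ih =>
      have : g⁻¹ * w ^ (i + 1) * g = (g⁻¹ * w ^ i * g) * (g⁻¹ * w * g) := by
        rw [pow_succ]; group
      rw [this, ih, hw, pow_succ]
  have hvi : ∀ i : ℕ, (g ^ i)⁻¹ * v * g ^ i = v * w ^ i := by
    intro i
    induction i with
    | zero => simp
    | succ i ih =>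
      have : (g ^ (i + 1))⁻¹ * v * g ^ (i + 1) = g⁻¹ * ((g ^ i)⁻¹ * v * g ^ i) * g := by
        rw [pow_succ]; group
      rw [this, ih]
      have : g⁻¹ * (v * w ^ i) * g = (g⁻¹ * v * g) * (g⁻¹ * w ^ i * g) := by group
      rw [this, hvw, hwi, pow_succ]
      group
  have hN : w ^ N = 1 := by
    have h1 := hvi N
    have h2 : (g ^ N)⁻¹ * v * g ^ N = v := by
      rw [mul_assoc, ← hg v hv]; group
    rw [h2] at h1
    exact (mul_eq_left.mp h1.symm)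
  have h1 : w ^ (m.gcd N) = 1 := pow_gcd_eq_one.mpr ⟨hm w hwY, hN⟩
  rw [hmN.gcd_eq_one, pow_one] at h1
  exact h1

/-- the commutator map `u ↦ u⁻¹ g⁻¹ u g` is multiplicative on an abelian normal subgroup -/
theorem comm_mul (Y : Subgroup G) [hYn : Y.Normal]
    (hYab : ∀ a ∈ Y, ∀ b ∈ Y, a * b = b * a) (g u v : G) (hu : u ∈ Y) (hv : v ∈ Y) :
    (u * v)⁻¹ * g⁻¹ * (u * v) * g = (u⁻¹ * g⁻¹ * u * g) * (v⁻¹ * g⁻¹ * v * g) := by
  have hgu : g⁻¹ * u * g ∈ Y := by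
    have h1 : g⁻¹ * u * g⁻¹⁻¹ ∈ Y := hYn.conj_mem u hu g⁻¹
    rwa [inv_inv] at h1
  have hgv : g⁻¹ * v * g ∈ Y := by
    have h1 : g⁻¹ * v * g⁻¹⁻¹ ∈ Y := hYn.conj_mem v hv g⁻¹
    rwa [inv_inv] at h1
  have e1 : (u * v)⁻¹ * g⁻¹ * (u * v) * g = v⁻¹ * (u⁻¹ * (g⁻¹ * u * g)) * (g⁻¹ * v * g) := by
    group
  have e2 : (u⁻¹ * g⁻¹ * u * g) * (v⁻¹ * g⁻¹ * v * g)
      = (u⁻¹ * (g⁻¹ * u * g)) * v⁻¹ * (g⁻¹ * v * g) := by group
  rw [e1, e2, hYab _ (Y.inv_mem hv) _ (Y.mul_mem (Y.inv_mem hu) hgu)]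


/-- the `q'`-part of a finite abelian normal subgroup -/
theorem exists_Y [Finite G] (q : ℕ) (hq : q.Prime) (F : Subgroup G) [hFn : F.Normal]
    (hFab : ∀ a ∈ F, ∀ b ∈ F, a * b = b * a) :
    ∃ Y : Subgroup G, Y.Normal ∧ Y ≤ F ∧ ∃ m n : ℕ, Nat.Coprime m q ∧
      (∀ y ∈ Y, y ^ m = 1) ∧ (∀ f ∈ F, f ^ (q ^ n) ∈ Y) := by
  obtain ⟨n, m, hqm, hcard⟩ :=
    Nat.exists_eq_pow_mul_and_not_dvd (Nat.card_pos (α := F)).ne' q hq.ne_one
  refine ⟨{ carrier := {y | y ∈ F ∧ y ^ m = 1}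
            mul_mem' := ?_
            one_mem' := ⟨F.one_mem, one_pow _⟩
            inv_mem' := ?_ }, ⟨?_⟩, ?_, m, n, ?_, ?_, ?_⟩
  · rintro a b ⟨ha, ha'⟩ ⟨hb, hb'⟩
    refine ⟨F.mul_mem ha hb, ?_⟩
    have hc : Commute a b := hFab a ha b hb
    rw [hc.mul_pow, ha', hb', one_mul]
  · rintro a ⟨ha, ha'⟩
    exact ⟨F.inv_mem ha, by rw [inv_pow, ha', inv_one]⟩
  · rintro y ⟨hy, hy'⟩ g
    refine ⟨hFn.conj_mem y hy g, ?_⟩
    rw [conj_pow, hy', mul_one, mul_inv_cancel]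
  · rintro y ⟨hy, _⟩
    exact hy
  · exact ((Nat.Prime.coprime_iff_not_dvd hq).2 hqm).symm
  · rintro y ⟨_, hy'⟩
    exact hy'
  · intro f hf
    refine ⟨F.pow_mem hf _, ?_⟩
    rw [← pow_mul, ← hcard]
    exact orderOf_dvd_iff_pow_eq_one.mp (Subgroup.orderOf_dvd_natCard F hf)

/-- the preimage of the Sylow `q`-subgroup of `G/F` -/
theorem exists_M [Finite G] (q : ℕ) (hq : q.Prime) (F : Subgroup G) [hFn : F.Normal] :
    ∃ M : Subgroup G, F ≤ M ∧ (∃ a : ℕ, (∀ g ∈ M, g ^ (q ^ a) ∈ F) ∧ F.relIndex M ∣ q ^ a) ∧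
      (q * q ∣ F.index → q * q ∣ F.relIndex M) := by
  haveI : Fact q.Prime := ⟨hq⟩
  obtain ⟨Q⟩ : Nonempty (Sylow q G) := inferInstance
  obtain ⟨a, ha⟩ := (Q.isPGroup').exists_card_eq
  refine ⟨F ⊔ Q, le_sup_left, ⟨a, ?_, ?_⟩, ?_⟩
  · intro g hg
    have hg' : g ∈ ((F ⊔ (Q : Subgroup G) : Subgroup G) : Set G) := hg
    rw [Subgroup.normal_mul] at hg'
    obtain ⟨f, hf, s, hs, rfl⟩ := Set.mem_mul.mp hg'
    have h1 : ((f * s : G) : G ⧸ F) = (s : G ⧸ F) := by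
      rw [QuotientGroup.eq]
      have : (f * s)⁻¹ * s = s⁻¹ * f⁻¹ * s⁻¹⁻¹ := by group
      rw [this]
      exact hFn.conj_mem _ (F.inv_mem hf) _
    have h2 : (((f * s) ^ (q ^ a) : G) : G ⧸ F) = 1 := by
      rw [QuotientGroup.mk_pow, h1, ← QuotientGroup.mk_pow]
      have : s ^ (q ^ a) = 1 := by
        rw [← ha]
        exact orderOf_dvd_iff_pow_eq_one.mp (Subgroup.orderOf_dvd_natCard _ hs)
      rw [this]
      rfl
    exact (QuotientGroup.eq_one_iff _).mp h2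
  · rw [Subgroup.relIndex_sup_left, ← ha]
    exact Subgroup.relIndex_dvd_card _ _
  · intro hqq
    have h1 : F.relIndex (F ⊔ Q) * (F ⊔ (Q : Subgroup G)).index = F.index :=
      Subgroup.relIndex_mul_index le_sup_left
    rw [← h1] at hqq
    have h2 : (F ⊔ (Q : Subgroup G)).index ∣ (Q : Subgroup G).index :=
      Subgroup.index_dvd_of_le le_sup_right
    have h3 : ¬ q ∣ (F ⊔ (Q : Subgroup G)).index := fun hd => Q.not_dvd_index (hd.trans h2)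
    have h4 : Nat.Coprime (q * q) (F ⊔ (Q : Subgroup G)).index := by
      have := (Nat.Prime.coprime_iff_not_dvd hq).2 h3
      exact Nat.Coprime.mul_left this this
    exact h4.dvd_of_dvd_mul_right hqq


/-- elements of `M` outside `F` move `Y` (since `M ⊓ C(Y)` is a nilpotent normal subgroup) -/
theorem exists_moved [Finite G] (q : ℕ) (hq : q.Prime) (F : Subgroup G) [F.Normal]
    (hFab : ∀ a ∈ F, ∀ b ∈ F, a * b = b * a)
    (hGF : ∀ a b : G, a * b * a⁻¹ * b⁻¹ ∈ F)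
    (hnil : ∀ K : Subgroup G, K.Normal → Group.IsNilpotent K → K ≤ F)
    (M Y : Subgroup G) (hFM : F ≤ M) (hYF : Y ≤ F) (a n : ℕ)
    (hMa : ∀ g ∈ M, g ^ (q ^ a) ∈ F)
    (hFn : ∀ f ∈ F, f ^ (q ^ n) ∈ Y) (g : G) (hgM : g ∈ M) (hgF : g ∉ F) :
    ∃ y ∈ Y, y * g ≠ g * y := by
  by_contra hall
  push Not at hall
  apply hgF
  have hK : M ⊓ centralizer (Y : Set G) ≤ F := by
    apply hnil
    · apply normal_of_ge F hGF
      intro f hf
      refine ⟨hFM hf, ?_⟩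
      show f ∈ centralizer (Y : Set G)
      rw [mem_centralizer_iff]
      intro y hy
      exact hFab y (hYF hy) f hf
    · haveI : Fact q.Prime := ⟨hq⟩
      have hp : IsPGroup q (↥(M ⊓ centralizer (Y : Set G)) ⧸
          center ↥(M ⊓ centralizer (Y : Set G))) := by
        intro x
        induction x using QuotientGroup.induction_on with
        | H k =>
          refine ⟨a + n, ?_⟩
          rw [← QuotientGroup.mk_pow, QuotientGroup.eq_one_iff, Subgroup.mem_center_iff]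
          intro k'
          apply Subtype.ext
          have h1 : ((k : G)) ^ (q ^ (a + n)) ∈ Y := by
            rw [pow_add, pow_mul]
            exact hFn _ (hMa _ k.2.1)
          have h2 := (mem_centralizer_iff.mp k'.2.2) _ h1
          simpa using h2.symm
      haveI := hp.isNilpotent
      exact Subgroup.isNilpotent_of_ker_le_center (QuotientGroup.mk' (center _))
        (by rw [QuotientGroup.ker_mk'])
  exact hK ⟨hgM, mem_centralizer_iff.mpr hall⟩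

/-- conjugating a commutator `[u,g]`, `u ∈ Y`: `x [u,g] x⁻¹ = [x u x⁻¹, g]` -/
theorem comm_conj (F : Subgroup G) [F.Normal]
    (hFab : ∀ a ∈ F, ∀ b ∈ F, a * b = b * a)
    (hGF : ∀ a b : G, a * b * a⁻¹ * b⁻¹ ∈ F)
    (Y : Subgroup G) [hYn : Y.Normal] (hYF : Y ≤ F) (g x u : G) (hu : u ∈ Y) :
    x * (u⁻¹ * g⁻¹ * u * g) * x⁻¹ = (x * u * x⁻¹)⁻¹ * g⁻¹ * (x * u * x⁻¹) * g := by
  have hf : g⁻¹ * x * g⁻¹⁻¹ * x⁻¹ ∈ F := hGF g⁻¹ x
  rw [inv_inv] at hf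
  have hu' : x * u * x⁻¹ ∈ Y := hYn.conj_mem u hu x
  have ht : g⁻¹ * (x * u * x⁻¹) * g ∈ Y := by
    have h1 := hYn.conj_mem _ hu' g⁻¹
    rwa [inv_inv] at h1
  have key : (g⁻¹ * x * g * x⁻¹)⁻¹ * (g⁻¹ * (x * u * x⁻¹) * g) * (g⁻¹ * x * g * x⁻¹)
      = g⁻¹ * (x * u * x⁻¹) * g := by
    rw [mul_assoc, hFab _ (hYF ht) _ hf]
    group
  have e1 : x * (u⁻¹ * g⁻¹ * u * g) * x⁻¹ = (x * u * x⁻¹)⁻¹ *
      ((g⁻¹ * x * g * x⁻¹)⁻¹ * (g⁻¹ * (x * u * x⁻¹) * g) * (g⁻¹ * x * g * x⁻¹)) := by group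
  rw [e1, key]
  group


/-- **FO-4**: `|G : F|` is squarefree. -/
theorem FO4_index_squarefree [Finite G] (h : SqFree G)
    (F : Subgroup G) [F.Normal] (hFab : ∀ a ∈ F, ∀ b ∈ F, a * b = b * a)
    (hCF : centralizer (F : Set G) ≤ F)
    (hGF : ∀ a b : G, a * b * a⁻¹ * b⁻¹ ∈ F)
    (hnil : ∀ K : Subgroup G, K.Normal → Group.IsNilpotent K → K ≤ F) :
    Squarefree F.index := by
  rw [Nat.squarefree_iff_prime_squarefree]
  intro q hq hqq
  obtain ⟨Y, hYn, hYF, m, n, hmq, hYm, hFn⟩ := exists_Y q hq F hFab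
  obtain ⟨M, hFM, ⟨a, hMa, hMrel⟩, hM2⟩ := exists_M q hq F
  have hqqM := hM2 hqq
  haveI := hYn
  have hMn : M.Normal := normal_of_ge F hGF M hFM
  have hYab : ∀ a ∈ Y, ∀ b ∈ Y, a * b = b * a := fun a ha b hb => hFab a (hYF ha) b (hYF hb)
  have hmoved := exists_moved q hq F hFab hGF hnil M Y hFM hYF a n hMa hFn
  have hgN : ∀ g ∈ M, ∀ y ∈ Y, g ^ (q ^ a) * y = y * g ^ (q ^ a) :=
    fun g hg y hy => hFab _ (hMa g hg) _ (hYF hy)
  have hcop : Nat.Coprime m (q ^ a) := Nat.Coprime.pow_right a hmq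
  have hcentF : ∀ y ∈ Y, F ≤ centralizer ({y} : Set G) := by
    intro y hy f hf
    rw [mem_centralizer_singleton_iff]
    exact hFab f hf y (hYF hy)
  have hqpow : ∀ A B : Subgroup G, F ≤ A → A ≤ B → B ≤ M → ¬ B ≤ A → q ∣ A.relIndex B := by
    intro A B hFA hAB hBM hne
    have h1 : A.relIndex B ∣ F.relIndex B := relIndex_dvd_of_le_left B hFA
    have h2 : F.relIndex B ∣ F.relIndex M :=
      ⟨_, (relIndex_mul_relIndex F B M (hFA.trans hAB) hBM).symm⟩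
    have h3 : A.relIndex B ∣ q ^ a := (h1.trans h2).trans hMrel
    obtain ⟨j, _, hj⟩ := (Nat.dvd_prime_pow hq).mp h3
    rcases Nat.eq_zero_or_pos j with rfl | hjpos
    · rw [pow_zero, relIndex_eq_one] at hj
      exact absurd hj hne
    · rw [hj]
      exact dvd_pow_self q hjpos.ne'
  -- first element
  have hFM' : ¬ M ≤ F := by
    intro hle
    have h1 : F.relIndex M = 1 := relIndex_eq_one.mpr hle
    rw [h1] at hqqM
    have h2 := Nat.le_of_dvd one_pos hqqM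
    nlinarith [hq.two_le]
  obtain ⟨g₁, hg₁M, hg₁F⟩ := SetLike.not_le_iff_exists.mp hFM'
  obtain ⟨y₁, hy₁, hne₁⟩ := hmoved g₁ hg₁M hg₁F
  have hG₁n : (centralizer ({y₁} : Set G)).Normal := normal_of_ge F hGF _ (hcentF y₁ hy₁)
  have hg₁G₁ : g₁ ∉ centralizer ({y₁} : Set G) := by
    rw [mem_centralizer_singleton_iff]
    exact fun e => hne₁ e.symm
  -- second element
  have hB : ¬ (M ⊓ centralizer ({y₁} : Set G) ≤ F) := by
    intro hle
    have hBF : M ⊓ centralizer ({y₁} : Set G) = F :=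
      le_antisymm hle (le_inf hFM (hcentF y₁ hy₁))
    have h1 : F.relIndex M = (centralizer ({y₁} : Set G)).relIndex M := by
      rw [← hBF, inf_comm, inf_relIndex_right]
    have h2 : Squarefree ((centralizer ({y₁} : Set G)).relIndex M) := h.relIndex M y₁
    rw [← h1] at h2
    exact (Nat.squarefree_iff_prime_squarefree.mp h2) q hq hqqM
  obtain ⟨g₂, hg₂B, hg₂F⟩ := SetLike.not_le_iff_exists.mp hB
  obtain ⟨v, hv, hne₂⟩ := hmoved g₂ hg₂B.1 hg₂F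
  obtain ⟨y₂, hy₂def⟩ : ∃ y₂, y₂ = v⁻¹ * g₂⁻¹ * v * g₂ := ⟨_, rfl⟩
  have hconjY : ∀ u ∈ Y, g₂⁻¹ * u * g₂ ∈ Y := by
    intro u hu
    have h1 := hYn.conj_mem u hu g₂⁻¹
    rwa [inv_inv] at h1
  have hcY : ∀ u ∈ Y, u⁻¹ * g₂⁻¹ * u * g₂ ∈ Y := by
    intro u hu
    have : u⁻¹ * g₂⁻¹ * u * g₂ = u⁻¹ * (g₂⁻¹ * u * g₂) := by group
    rw [this]
    exact Y.mul_mem (Y.inv_mem hu) (hconjY u hu)
  have hy₂ : y₂ ∈ Y := by rw [hy₂def]; exact hcY v hv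
  have hy₂ne : y₂ ≠ 1 := by
    intro e
    rw [hy₂def] at e
    apply hne₂
    have : v * g₂ = g₂ * v * (v⁻¹ * g₂⁻¹ * v * g₂) := by group
    rw [this, e, mul_one]
  have hg₂G₂ : g₂ ∉ centralizer ({y₂} : Set G) := by
    rw [mem_centralizer_singleton_iff]
    intro e
    apply hy₂ne
    rw [hy₂def]
    apply coprime_fix Y m (q ^ a) hcop hYm g₂ (hgN g₂ hg₂B.1) v hv
    rw [← hy₂def, mul_assoc, ← e]
    group
  -- the centralizer of `y₁ * y₂`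
  have hC : centralizer ({y₁ * y₂} : Set G) ≤
      centralizer ({y₁} : Set G) ⊓ centralizer ({y₂} : Set G) := by
    intro x hx
    rw [mem_centralizer_singleton_iff] at hx
    have hv' : x * v * x⁻¹ ∈ Y := hYn.conj_mem v hv x
    have hu : v * (x * v * x⁻¹)⁻¹ ∈ Y := Y.mul_mem hv (Y.inv_mem hv')
    -- `[v', g₂] = x y₂ x⁻¹`
    have hc1 : (x * v * x⁻¹)⁻¹ * g₂⁻¹ * (x * v * x⁻¹) * g₂ = x * y₂ * x⁻¹ := by
      rw [hy₂def]
      exact (comm_conj F hFab hGF Y hYF g₂ x v hv).symm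
    -- `[v'⁻¹, g₂] = (x y₂ x⁻¹)⁻¹`
    have hc2 : ((x * v * x⁻¹)⁻¹)⁻¹ * g₂⁻¹ * (x * v * x⁻¹)⁻¹ * g₂ = (x * y₂ * x⁻¹)⁻¹ := by
      have h1 := comm_mul Y hYab g₂ (x * v * x⁻¹) (x * v * x⁻¹)⁻¹ hv' (Y.inv_mem hv')
      rw [mul_inv_cancel] at h1
      have h2 : (1 : G)⁻¹ * g₂⁻¹ * 1 * g₂ = 1 := by group
      rw [h2, hc1] at h1
      exact (eq_inv_of_mul_eq_one_right h1.symm)
    have hc3 : (v * (x * v * x⁻¹)⁻¹)⁻¹ * g₂⁻¹ * (v * (x * v * x⁻¹)⁻¹) * g₂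
        = y₂ * (x * y₂ * x⁻¹)⁻¹ := by
      rw [comm_mul Y hYab g₂ v (x * v * x⁻¹)⁻¹ hv (Y.inv_mem hv'), hc2, ← hy₂def]
    -- `y₂ (x y₂ x⁻¹)⁻¹ = y₁⁻¹ (x y₁ x⁻¹)`
    have hc4 : y₂ * (x * y₂ * x⁻¹)⁻¹ = y₁⁻¹ * (x * y₁ * x⁻¹) := by
      have h1 : (x * y₁ * x⁻¹) * (x * y₂ * x⁻¹) = y₁ * y₂ := by
        have : (x * y₁ * x⁻¹) * (x * y₂ * x⁻¹) = (x * (y₁ * y₂)) * x⁻¹ := by group
        rw [this, hx]
        group
      have h2 : x * y₁ * x⁻¹ = y₁ * y₂ * (x * y₂ * x⁻¹)⁻¹ := by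
        rw [← h1]; group
      rw [h2]
      group
    -- `g₂` commutes with `y₁⁻¹ (x y₁ x⁻¹)`
    have hg₂y₁ : g₂ * y₁ = y₁ * g₂ := mem_centralizer_singleton_iff.mp hg₂B.2
    have hg₂y₁' : g₂ * (x * y₁ * x⁻¹) = (x * y₁ * x⁻¹) * g₂ := by
      have h1 : x⁻¹ * g₂ * x⁻¹⁻¹ ∈ centralizer ({y₁} : Set G) := hG₁n.conj_mem g₂ hg₂B.2 x⁻¹
      rw [inv_inv, mem_centralizer_singleton_iff] at h1
      have e1 : g₂ * (x * y₁ * x⁻¹) = x * ((x⁻¹ * g₂ * x) * y₁) * x⁻¹ := by group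
      rw [e1, h1]
      group
    have hfix : g₂⁻¹ * (y₁⁻¹ * (x * y₁ * x⁻¹)) * g₂ = y₁⁻¹ * (x * y₁ * x⁻¹) := by
      have e1 : g₂⁻¹ * (y₁⁻¹ * (x * y₁ * x⁻¹)) * g₂
          = g₂⁻¹ * y₁⁻¹ * ((x * y₁ * x⁻¹) * g₂) := by group
      rw [e1, ← hg₂y₁']
      have e2 : g₂⁻¹ * y₁⁻¹ * (g₂ * (x * y₁ * x⁻¹)) = (g₂⁻¹ * y₁⁻¹ * g₂) * (x * y₁ * x⁻¹) := by
        group
      rw [e2]
      have e3 : g₂⁻¹ * y₁⁻¹ * g₂ = y₁⁻¹ := by
        have hc : Commute g₂ y₁ := hg₂y₁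
        rw [mul_assoc, ← hc.inv_right.eq, inv_mul_cancel_left]
      rw [e3]
    have hone : y₁⁻¹ * (x * y₁ * x⁻¹) = 1 := by
      rw [← hc4, ← hc3]
      apply coprime_fix Y m (q ^ a) hcop hYm g₂ (hgN g₂ hg₂B.1) _ hu
      rw [hc3, hc4]
      exact hfix
    have hone2 : y₂ * (x * y₂ * x⁻¹)⁻¹ = 1 := by rw [hc4, hone]
    refine Subgroup.mem_inf.mpr ⟨?_, ?_⟩
    · rw [mem_centralizer_singleton_iff]
      have : x * y₁ = y₁ * (y₁⁻¹ * (x * y₁ * x⁻¹)) * x := by group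
      rw [this, hone, mul_one]
    · rw [mem_centralizer_singleton_iff]
      have e1 : x * y₂ * x⁻¹ = y₂ := by
        have := eq_inv_of_mul_eq_one_left hone2
        rw [inv_inv] at this
        exact this.symm
      have : x * y₂ = (x * y₂ * x⁻¹) * x := by group
      rw [this, e1]
  -- counting
  have hDF : F ≤ centralizer ({y₁} : Set G) ⊓ centralizer ({y₂} : Set G) :=
    le_inf (hcentF y₁ hy₁) (hcentF y₂ hy₂)
  have hDn : (centralizer ({y₁} : Set G) ⊓ centralizer ({y₂} : Set G)).Normal :=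
    normal_of_ge F hGF _ hDF
  have hsq : Squarefree (centralizer ({y₁} : Set G) ⊓ centralizer ({y₂} : Set G)).index :=
    (h (y₁ * y₂)).squarefree_of_dvd (index_dvd_of_le hC)
  have hrel : (centralizer ({y₁} : Set G) ⊓ centralizer ({y₂} : Set G)).relIndex M ∣
      (centralizer ({y₁} : Set G) ⊓ centralizer ({y₂} : Set G)).index :=
    relIndex_dvd_index_of_normal _ M
  have hq1 : q ∣ (M ⊓ centralizer ({y₁} : Set G)).relIndex M :=
    hqpow _ M (le_inf hFM (hcentF y₁ hy₁)) inf_le_left le_rfl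
      (fun hle => hg₁G₁ (hle hg₁M).2)
  have hq2 : q ∣ (M ⊓ centralizer ({y₁} : Set G) ⊓ centralizer ({y₂} : Set G)).relIndex
      (M ⊓ centralizer ({y₁} : Set G)) :=
    hqpow _ _ (le_inf (le_inf hFM (hcentF y₁ hy₁)) (hcentF y₂ hy₂)) inf_le_left inf_le_left
      (fun hle => hg₂G₂ (hle hg₂B).2)
  have hmul := relIndex_mul_relIndex
    (M ⊓ centralizer ({y₁} : Set G) ⊓ centralizer ({y₂} : Set G))
    (M ⊓ centralizer ({y₁} : Set G)) M inf_le_left inf_le_left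
  have hAD : (M ⊓ centralizer ({y₁} : Set G) ⊓ centralizer ({y₂} : Set G)).relIndex M
      = (centralizer ({y₁} : Set G) ⊓ centralizer ({y₂} : Set G)).relIndex M := by
    rw [← inf_relIndex_right (centralizer ({y₁} : Set G) ⊓ centralizer ({y₂} : Set G)) M]
    congr 1
    rw [inf_assoc, inf_comm]
  have hqq2 : q * q ∣ (centralizer ({y₁} : Set G) ⊓ centralizer ({y₂} : Set G)).index := by
    refine dvd_trans ?_ hrel
    rw [← hAD, ← hmul]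
    exact mul_dvd_mul hq2 hq1
  exact (Nat.squarefree_iff_prime_squarefree.mp hsq) q hq hqq2

end Cfsg.Agent.Lib.Helper24.S4130FO4
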