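import Mathlib
import Cfsg.Agent.Lib.Helper3.SFDefs
import Cfsg.Agent.S4214
import Cfsg.Agent.Lib.Helper24.S4130FO4

/-!
# S4130 farm-out piece FO-3 (helper24): a normal subgroup of prime order

A nontrivial finite solvable group all of whose class sizes are squarefree has a normal subgroup
of prime order.
-/

set_option autoImplicit false

namespace Cfsg.Agent.Lib.Helper24.S4130FO3

open Subgroup Cfsg.Agent.Lib.Helper3.SF Cfsg.Agent.Lib.Helper24.S4130FO4

variable {G : Type*} [Group G]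

/-- the commutator homomorphism `v ↦ v⁻¹ g⁻¹ v g` on an abelian normal subgroup -/
def commHom (V : Subgroup G) [hVn : V.Normal] (hVab : ∀ a ∈ V, ∀ b ∈ V, a * b = b * a)
    (g : G) : ↥V →* G where
  toFun v := (v : G)⁻¹ * g⁻¹ * v * g
  map_one' := by simp
  map_mul' u v := by
    simp only [Subgroup.coe_mul]
    exact comm_mul V hVab g u v u.2 v.2

theorem commHom_apply (V : Subgroup G) [hVn : V.Normal]
    (hVab : ∀ a ∈ V, ∀ b ∈ V, a * b = b * a) (g : G) (v : ↥V) :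
    commHom V hVab g v = (v : G)⁻¹ * g⁻¹ * v * g := rfl

theorem mem_range_iff (V : Subgroup G) [hVn : V.Normal]
    (hVab : ∀ a ∈ V, ∀ b ∈ V, a * b = b * a) (g w : G) :
    w ∈ (commHom V hVab g).range ↔ ∃ v ∈ V, v⁻¹ * g⁻¹ * v * g = w := by
  constructor
  · rintro ⟨v, rfl⟩
    exact ⟨v, v.2, rfl⟩
  · rintro ⟨v, hv, rfl⟩
    exact ⟨⟨v, hv⟩, rfl⟩

theorem range_le (V : Subgroup G) [hVn : V.Normal]
    (hVab : ∀ a ∈ V, ∀ b ∈ V, a * b = b * a) (g : G) :
    (commHom V hVab g).range ≤ V := by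
  rintro _ ⟨v, rfl⟩
  rw [commHom_apply]
  have h1 : g⁻¹ * (v : G) * g⁻¹⁻¹ ∈ V := hVn.conj_mem v v.2 g⁻¹
  rw [inv_inv] at h1
  have : (v : G)⁻¹ * g⁻¹ * v * g = (v : G)⁻¹ * (g⁻¹ * v * g) := by group
  rw [this]
  exact V.mul_mem (V.inv_mem v.2) h1

theorem card_range (V : Subgroup G) [hVn : V.Normal]
    (hVab : ∀ a ∈ V, ∀ b ∈ V, a * b = b * a) (g : G) :
    Nat.card (commHom V hVab g).range = (centralizer ({g} : Set G)).relIndex V := by
  rw [← Subgroup.index_ker, Subgroup.relIndex]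
  congr 1
  ext v
  rw [MonoidHom.mem_ker, commHom_apply, mem_subgroupOf, mem_centralizer_singleton_iff]
  constructor
  · intro e
    have : (v : G) * g = g * v * ((v : G)⁻¹ * g⁻¹ * v * g) := by group
    rw [this, e, mul_one]
  · intro e
    have : (v : G)⁻¹ * g⁻¹ * v * g = (v : G)⁻¹ * g⁻¹ * (v * g) := by group
    rw [this, e]
    group

/-- conjugation maps `[V,g]` into `[V, x g x⁻¹]` -/
theorem range_conj (V : Subgroup G) [hVn : V.Normal]
    (hVab : ∀ a ∈ V, ∀ b ∈ V, a * b = b * a) (g x w : G)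
    (hw : w ∈ (commHom V hVab g).range) :
    x * w * x⁻¹ ∈ (commHom V hVab (x * g * x⁻¹)).range := by
  obtain ⟨v, hv, rfl⟩ := (mem_range_iff V hVab g w).mp hw
  rw [mem_range_iff]
  refine ⟨x * v * x⁻¹, hVn.conj_mem v hv x, ?_⟩
  group

/-- two subgroups of order (dividing) `p` meeting nontrivially are equal -/
theorem eq_of_inf_ne_bot [Finite G] {p : ℕ} (hp : p.Prime) {A B : Subgroup G}
    (hA : Nat.card A = p) (hB : Nat.card B ∣ p) (h : A ⊓ B ≠ ⊥) : A = B := by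
  have h1 : Nat.card ↥(A ⊓ B) ∣ p := hA ▸ Subgroup.card_dvd_of_le inf_le_left
  have h2 : Nat.card ↥(A ⊓ B) ≠ 1 := fun e => h (Subgroup.card_eq_one.mp e)
  have h3 : Nat.card ↥(A ⊓ B) = p := ((Nat.dvd_prime hp).mp h1).resolve_left h2
  have h4 : A ⊓ B = A := Subgroup.eq_of_le_of_card_ge inf_le_left (by rw [h3, hA])
  have hAB : A ≤ B := inf_eq_left.mp h4
  have h5 : Nat.card B = p := by
    rcases (Nat.dvd_prime hp).mp hB with e | e
    · exfalso
      have : B = ⊥ := Subgroup.card_eq_one.mp e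
      rw [this] at hAB
      have : A = ⊥ := le_bot_iff.mp hAB
      rw [this] at hA
      simp at hA
      exact hp.one_lt.ne hA
    · exact e
  exact Subgroup.eq_of_le_of_card_ge hAB (by rw [h5, hA])


/-- a subgroup acting on the nontrivial normal `p`-subgroup `V` as a group of exponent `p`
has a nontrivial fixed point on `V` -/
theorem exists_fixed [Finite G] (p : ℕ) [hp : Fact p.Prime] (V : Subgroup G) [hVn : V.Normal]
    (hVne : V ≠ ⊥) (hVp : IsPGroup p V) (B : Subgroup G)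
    (hB : ∀ b ∈ B, b ^ p ∈ centralizer (V : Set G)) :
    ∃ v ∈ V, v ≠ 1 ∧ ∀ b ∈ B, b * v * b⁻¹ = v := by
  have hCf : centralizer (V : Set G) ≤ (MulAut.conjNormal (H := V)).ker := by
    intro c hc
    rw [MonoidHom.mem_ker]
    ext v
    rw [MulAut.conjNormal_apply, MulAut.one_apply]
    have := (mem_centralizer_iff.mp hc) v v.2
    rw [← this]
    group
  obtain ⟨fbar, hfbar⟩ : ∃ fbar : G ⧸ centralizer (V : Set G) →* MulAut ↥V,
      ∀ g : G, fbar (QuotientGroup.mk g) = MulAut.conjNormal g :=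
    ⟨QuotientGroup.lift _ (MulAut.conjNormal (H := V)) hCf, fun g => rfl⟩
  letI : MulAction ↥(B.map (QuotientGroup.mk' (centralizer (V : Set G)))) ↥V :=
    MulAction.compHom ↥V (fbar.comp (B.map (QuotientGroup.mk' (centralizer (V : Set G)))).subtype)
  have hsmul : ∀ (t : ↥(B.map (QuotientGroup.mk' (centralizer (V : Set G))))) (v : ↥V),
      t • v = fbar (t : G ⧸ centralizer (V : Set G)) v := fun t v => rfl
  have hT : IsPGroup p ↥(B.map (QuotientGroup.mk' (centralizer (V : Set G)))) := by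
    rintro ⟨_, b, hb, rfl⟩
    refine ⟨1, ?_⟩
    apply Subtype.ext
    rw [pow_one, Subgroup.coe_pow, Subgroup.coe_one]
    show ((QuotientGroup.mk b : G ⧸ centralizer (V : Set G))) ^ p = 1
    rw [← QuotientGroup.mk_pow]
    exact (QuotientGroup.eq_one_iff _).mpr (hB b hb)
  have hpV : p ∣ Nat.card ↥V := by
    haveI : Nontrivial ↥V := (Subgroup.nontrivial_iff_ne_bot V).mpr hVne
    obtain ⟨n, hn0, hn⟩ := hVp.nontrivial_iff_card.mp inferInstance
    rw [hn]
    exact dvd_pow_self p hn0.ne'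
  have h1 : (1 : ↥V) ∈ MulAction.fixedPoints
      ↥(B.map (QuotientGroup.mk' (centralizer (V : Set G)))) ↥V := by
    intro t
    rw [hsmul]
    exact map_one _
  obtain ⟨v, hvfix, hv1⟩ := hT.exists_fixed_point_of_prime_dvd_card_of_fixed_point ↥V hpV h1
  refine ⟨v, v.2, ?_, ?_⟩
  · intro e
    apply hv1
    apply Subtype.ext
    rw [e]
    rfl
  · intro b hb
    have h2 := hvfix ⟨QuotientGroup.mk b, Subgroup.mem_map_of_mem _ hb⟩
    rw [hsmul] at h2
    have h3 : fbar (QuotientGroup.mk b) v = v := h2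
    rw [hfbar] at h3
    have h4 := congrArg Subtype.val h3
    rw [MulAut.conjNormal_apply] at h4
    exact h4

/-- an abelian normal section `B/C` of prime exponent above a proper normal subgroup `C` of a
finite solvable group -/
theorem exists_B [Finite G] [Group.IsSolvable G] (C : Subgroup G) [hCn : C.Normal]
    (hC : C ≠ ⊤) :
    ∃ (r : ℕ) (B : Subgroup G), r.Prime ∧ B.Normal ∧ C ≤ B ∧ (∃ b ∈ B, b ∉ C) ∧
      (∀ b ∈ B, ∀ b' ∈ B, b * b' * b⁻¹ * b'⁻¹ ∈ C) ∧ (∀ b ∈ B, b ^ r ∈ C) := by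
  have hne : (⊤ : Subgroup (G ⧸ C)) ≠ ⊥ := by
    intro e
    apply hC
    rw [eq_top_iff]
    intro g _
    have h1 : (QuotientGroup.mk g : G ⧸ C) ∈ (⊤ : Subgroup (G ⧸ C)) := Subgroup.mem_top _
    rw [e, Subgroup.mem_bot] at h1
    exact (QuotientGroup.eq_one_iff g).mp h1
  obtain ⟨r, K, hr, hKn, hKne, _, hKab, hKexp⟩ :=
    Cfsg.Agent.S4214.exists_minimal_normal (G := G ⧸ C) hne
  refine ⟨r, K.comap (QuotientGroup.mk' C), hr, hKn.comap _, ?_, ?_, ?_, ?_⟩
  · intro c hc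
    rw [Subgroup.mem_comap]
    have : (QuotientGroup.mk' C) c = 1 := (QuotientGroup.eq_one_iff c).mpr hc
    rw [this]
    exact K.one_mem
  · obtain ⟨k, hk1⟩ := (Subgroup.ne_bot_iff_exists_ne_one).mp hKne
    obtain ⟨b, hb⟩ := QuotientGroup.mk_surjective (k : G ⧸ C)
    refine ⟨b, ?_, ?_⟩
    · rw [Subgroup.mem_comap]
      show (QuotientGroup.mk b : G ⧸ C) ∈ K
      rw [hb]
      exact k.2
    · intro hbC
      apply hk1
      apply Subtype.ext
      rw [← hb]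
      exact (QuotientGroup.eq_one_iff b).mpr hbC
  · intro b hb b' hb'
    rw [Subgroup.mem_comap] at hb hb'
    rw [← QuotientGroup.eq_one_iff]
    have h1 := hKab _ hb _ hb'
    have h2 : ((b * b' * b⁻¹ * b'⁻¹ : G) : G ⧸ C)
        = (QuotientGroup.mk' C b) * (QuotientGroup.mk' C b') * (QuotientGroup.mk' C b)⁻¹
          * (QuotientGroup.mk' C b')⁻¹ := rfl
    rw [h2, h1]
    group
  · intro b hb
    rw [Subgroup.mem_comap] at hb
    rw [← QuotientGroup.eq_one_iff]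
    have h1 := hKexp _ hb
    exact h1


/-- if `g' = x g x⁻¹` differs from `g` by an element centralizing `V`, then `x` normalizes
`[V,g]` -/
theorem range_normalize (V : Subgroup G) [hVn : V.Normal]
    (hVab : ∀ a ∈ V, ∀ b ∈ V, a * b = b * a) (g x w : G)
    (hc : g⁻¹ * x * g * x⁻¹ ∈ centralizer (V : Set G))
    (hw : w ∈ (commHom V hVab g).range) :
    x * w * x⁻¹ ∈ (commHom V hVab g).range := by
  obtain ⟨u, hu, rfl⟩ := (mem_range_iff V hVab g w).mp hw
  rw [mem_range_iff]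
  have hu' : x * u * x⁻¹ ∈ V := hVn.conj_mem u hu x
  refine ⟨x * u * x⁻¹, hu', ?_⟩
  have ht : g⁻¹ * (x * u * x⁻¹) * g ∈ V := by
    have h1 := hVn.conj_mem _ hu' g⁻¹
    rwa [inv_inv] at h1
  have key : (g⁻¹ * x * g * x⁻¹)⁻¹ * (g⁻¹ * (x * u * x⁻¹) * g) * (g⁻¹ * x * g * x⁻¹)
      = g⁻¹ * (x * u * x⁻¹) * g := by
    rw [mul_assoc, (mem_centralizer_iff.mp hc) _ ht]
    group
  have e1 : x * (u⁻¹ * g⁻¹ * u * g) * x⁻¹ = (x * u * x⁻¹)⁻¹ *
      ((g⁻¹ * x * g * x⁻¹)⁻¹ * (g⁻¹ * (x * u * x⁻¹) * g) * (g⁻¹ * x * g * x⁻¹)) := by group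
  rw [e1, key]
  group

section key

variable [Finite G] (p r : ℕ) (hp : p.Prime) (hpr : Nat.Coprime p r)
  (V : Subgroup G) [hVn : V.Normal] (hVab : ∀ a ∈ V, ∀ b ∈ V, a * b = b * a)
  (hVexp : ∀ x ∈ V, x ^ p = 1)
  (hrel : ∀ x : G, (centralizer ({x} : Set G)).relIndex V ∣ p)
  (B : Subgroup G)
  (hBcomm : ∀ b ∈ B, ∀ b' ∈ B, b * b' * b⁻¹ * b'⁻¹ ∈ centralizer (V : Set G))
  (hBr : ∀ b ∈ B, b ^ r ∈ centralizer (V : Set G))

include hpr hVexp hBr in
/-- coprime action: `[V,g] ∩ C_V(g) = 1` for `g ∈ B` -/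
theorem fixfree (g : G) (hg : g ∈ B) (w : G) (hw : w ∈ (commHom V hVab g).range)
    (hgw : g * w = w * g) : w = 1 := by
  obtain ⟨v, hv, rfl⟩ := (mem_range_iff V hVab g w).mp hw
  apply coprime_fix V p r hpr hVexp g _ v hv
  · rw [mul_assoc, ← hgw]
    group
  · intro y hy
    exact ((mem_centralizer_iff.mp (hBr g hg)) y hy).symm

include hBcomm in
/-- `B` normalizes `[V,g]` for `g ∈ B` -/
theorem normalizes (g : G) (hg : g ∈ B) (x : G) (hx : x ∈ B) (w : G)
    (hw : w ∈ (commHom V hVab g).range) : x * w * x⁻¹ ∈ (commHom V hVab g).range := by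
  apply range_normalize V hVab g x w _ hw
  have := hBcomm g⁻¹ (B.inv_mem hg) x hx
  rwa [inv_inv] at this

include hBcomm in
/-- for `w ∈ [V,g]` and `x ∈ B`, `[w,x] ∈ [V,g]` -/
theorem comm_mem (g : G) (hg : g ∈ B) (x : G) (hx : x ∈ B) (w : G)
    (hw : w ∈ (commHom V hVab g).range) :
    w⁻¹ * x⁻¹ * w * x ∈ (commHom V hVab g).range := by
  have h1 := normalizes V hVab B hBcomm g hg x⁻¹ (B.inv_mem hx) w hw
  rw [inv_inv] at h1
  have : w⁻¹ * x⁻¹ * w * x = w⁻¹ * (x⁻¹ * w * x) := by group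
  rw [this]
  exact (commHom V hVab g).range.mul_mem ((commHom V hVab g).range.inv_mem hw) h1

include hpr hVexp hBcomm hBr in
/-- one half of the key step -/
theorem inf_ne_bot (b₁ b₂ : G) (h₁ : b₁ ∈ B)
    (hL₁ : (commHom V hVab b₁).range ≠ ⊥)
    (hcent : ∀ w ∈ (commHom V hVab b₁).range, b₂ * w = w * b₂) :
    (commHom V hVab b₁).range ⊓ (commHom V hVab (b₁ * b₂)).range ≠ ⊥ := by
  obtain ⟨⟨w, hw⟩, hw1⟩ := (Subgroup.ne_bot_iff_exists_ne_one).mp hL₁
  have hw1' : w ≠ 1 := fun e => hw1 (Subtype.ext e)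
  have hwV : w ∈ V := range_le V hVab b₁ hw
  have hu : w⁻¹ * b₁⁻¹ * w * b₁ ∈ (commHom V hVab b₁).range :=
    comm_mem V hVab B hBcomm b₁ h₁ b₁ h₁ w hw
  have hu1 : w⁻¹ * b₁⁻¹ * w * b₁ ≠ 1 := by
    intro e
    apply hw1'
    apply fixfree p r hpr V hVab hVexp B hBr b₁ h₁ w hw
    have : b₁ * w = w * b₁ * (w⁻¹ * b₁⁻¹ * w * b₁)⁻¹ := by group
    rw [this, e, inv_one, mul_one]
  have hux : w⁻¹ * b₁⁻¹ * w * b₁ ∈ (commHom V hVab (b₁ * b₂)).range := by
    rw [mem_range_iff]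
    refine ⟨w, hwV, ?_⟩
    have hc2 := hcent _ ((commHom V hVab b₁).range.mul_mem hw hu)
    have e1 : w⁻¹ * (b₁ * b₂)⁻¹ * w * (b₁ * b₂)
        = w⁻¹ * (b₂⁻¹ * ((w * (w⁻¹ * b₁⁻¹ * w * b₁)) * b₂)) := by group
    rw [e1, ← hc2]
    group
  intro e
  have : w⁻¹ * b₁⁻¹ * w * b₁ ∈ (commHom V hVab b₁).range ⊓ (commHom V hVab (b₁ * b₂)).range :=
    ⟨hu, hux⟩
  rw [e, Subgroup.mem_bot] at this
  exact hu1 this

include hpr hVexp hBcomm hBr in
/-- the other half of the key step -/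
theorem inf_ne_bot' (b₁ b₂ : G) (h₂ : b₂ ∈ B)
    (hL₂ : (commHom V hVab b₂).range ≠ ⊥)
    (hcent : ∀ w ∈ (commHom V hVab b₂).range, b₁ * w = w * b₁) :
    (commHom V hVab b₂).range ⊓ (commHom V hVab (b₁ * b₂)).range ≠ ⊥ := by
  obtain ⟨⟨w, hw⟩, hw1⟩ := (Subgroup.ne_bot_iff_exists_ne_one).mp hL₂
  have hw1' : w ≠ 1 := fun e => hw1 (Subtype.ext e)
  have hwV : w ∈ V := range_le V hVab b₂ hw
  have hu : w⁻¹ * b₂⁻¹ * w * b₂ ∈ (commHom V hVab b₂).range :=
    comm_mem V hVab B hBcomm b₂ h₂ b₂ h₂ w hw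
  have hu1 : w⁻¹ * b₂⁻¹ * w * b₂ ≠ 1 := by
    intro e
    apply hw1'
    apply fixfree p r hpr V hVab hVexp B hBr b₂ h₂ w hw
    have : b₂ * w = w * b₂ * (w⁻¹ * b₂⁻¹ * w * b₂)⁻¹ := by group
    rw [this, e, inv_one, mul_one]
  have hux : w⁻¹ * b₂⁻¹ * w * b₂ ∈ (commHom V hVab (b₁ * b₂)).range := by
    rw [mem_range_iff]
    refine ⟨w, hwV, ?_⟩
    have e1 : w⁻¹ * (b₁ * b₂)⁻¹ * w * (b₁ * b₂)
        = w⁻¹ * b₂⁻¹ * (b₁⁻¹ * (w * b₁)) * b₂ := by group
    rw [e1, ← hcent w hw]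
    group
  intro e
  have : w⁻¹ * b₂⁻¹ * w * b₂ ∈ (commHom V hVab b₂).range ⊓ (commHom V hVab (b₁ * b₂)).range :=
    ⟨hu, hux⟩
  rw [e, Subgroup.mem_bot] at this
  exact hu1 this

include hp hpr hVexp hrel hBcomm hBr in
/-- the key step: all nontrivial `[V,b]`, `b ∈ B`, coincide -/
theorem range_eq (b₁ b₂ : G) (h₁ : b₁ ∈ B) (h₂ : b₂ ∈ B)
    (hL₁ : Nat.card (commHom V hVab b₁).range = p)
    (hL₂ : Nat.card (commHom V hVab b₂).range = p) :
    (commHom V hVab b₁).range = (commHom V hVab b₂).range := by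
  by_contra hne
  have hinf : (commHom V hVab b₁).range ⊓ (commHom V hVab b₂).range = ⊥ := by
    by_contra h
    exact hne (eq_of_inf_ne_bot hp hL₁ (hL₂ ▸ dvd_rfl) h)
  have hne₁ : (commHom V hVab b₁).range ≠ ⊥ := by
    intro e
    rw [e] at hL₁
    simp at hL₁
    exact hp.one_lt.ne hL₁
  have hne₂ : (commHom V hVab b₂).range ≠ ⊥ := by
    intro e
    rw [e] at hL₂
    simp at hL₂
    exact hp.one_lt.ne hL₂
  have hc₁ : ∀ w ∈ (commHom V hVab b₁).range, b₂ * w = w * b₂ := by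
    intro w hw
    have h1 : w⁻¹ * b₂⁻¹ * w * b₂ ∈ (commHom V hVab b₁).range :=
      comm_mem V hVab B hBcomm b₁ h₁ b₂ h₂ w hw
    have h2 : w⁻¹ * b₂⁻¹ * w * b₂ ∈ (commHom V hVab b₂).range :=
      (mem_range_iff V hVab b₂ _).mpr ⟨w, range_le V hVab b₁ hw, rfl⟩
    have h3 : w⁻¹ * b₂⁻¹ * w * b₂ = 1 := by
      have : w⁻¹ * b₂⁻¹ * w * b₂ ∈
          (commHom V hVab b₁).range ⊓ (commHom V hVab b₂).range := ⟨h1, h2⟩
      rw [hinf, Subgroup.mem_bot] at this
      exact this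
    have : b₂ * w = w * b₂ * (w⁻¹ * b₂⁻¹ * w * b₂)⁻¹ := by group
    rw [this, h3, inv_one, mul_one]
  have hc₂ : ∀ w ∈ (commHom V hVab b₂).range, b₁ * w = w * b₁ := by
    intro w hw
    have h1 : w⁻¹ * b₁⁻¹ * w * b₁ ∈ (commHom V hVab b₂).range :=
      comm_mem V hVab B hBcomm b₂ h₂ b₁ h₁ w hw
    have h2 : w⁻¹ * b₁⁻¹ * w * b₁ ∈ (commHom V hVab b₁).range :=
      (mem_range_iff V hVab b₁ _).mpr ⟨w, range_le V hVab b₂ hw, rfl⟩
    have h3 : w⁻¹ * b₁⁻¹ * w * b₁ = 1 := by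
      have : w⁻¹ * b₁⁻¹ * w * b₁ ∈
          (commHom V hVab b₁).range ⊓ (commHom V hVab b₂).range := ⟨h2, h1⟩
      rw [hinf, Subgroup.mem_bot] at this
      exact this
    have : b₁ * w = w * b₁ * (w⁻¹ * b₁⁻¹ * w * b₁)⁻¹ := by group
    rw [this, h3, inv_one, mul_one]
  have hx : Nat.card (commHom V hVab (b₁ * b₂)).range ∣ p := by
    rw [card_range]
    exact hrel _
  have e₁ := eq_of_inf_ne_bot hp hL₁ hx
    (inf_ne_bot p r hpr V hVab hVexp B hBcomm hBr b₁ b₂ h₁ hne₁ hc₁)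
  have e₂ := eq_of_inf_ne_bot hp hL₂ hx
    (inf_ne_bot' p r hpr V hVab hVexp B hBcomm hBr b₁ b₂ h₂ hne₂ hc₂)
  exact hne (e₁.trans e₂.symm)

end key

/-- **FO-3**: a nontrivial finite solvable group with squarefree class sizes has a normal
subgroup of prime order. -/
theorem FO3_exists_normal_prime [Finite G] [Nontrivial G]
    [Group.IsSolvable G] (h : SqFree G) : ∃ N : Subgroup G, N.Normal ∧ (Nat.card N).Prime := by
  have hne : (⊤ : Subgroup G) ≠ ⊥ := by
    intro e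
    obtain ⟨x, hx⟩ := exists_ne (1 : G)
    have : x ∈ (⊤ : Subgroup G) := Subgroup.mem_top x
    rw [e, Subgroup.mem_bot] at this
    exact hx this
  obtain ⟨p, V, hp, hVn, hVne, hVmin, hVab, hVexp⟩ :=
    Cfsg.Agent.S4214.exists_minimal_normal (G := G) hne
  haveI := hVn
  haveI : Fact p.Prime := ⟨hp⟩
  have hVp : IsPGroup p V := fun v =>
    ⟨1, by rw [pow_one]; exact Subtype.ext (by simpa using hVexp v v.2)⟩
  have hrel : ∀ x : G, (centralizer ({x} : Set G)).relIndex V ∣ p :=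
    fun x => h.relIndex_dvd_prime V hVp x
  by_cases hC : centralizer (V : Set G) = ⊤
  · obtain ⟨⟨v, hv⟩, hv1⟩ := (Subgroup.ne_bot_iff_exists_ne_one).mp hVne
    have hv1' : v ≠ 1 := fun e => hv1 (Subtype.ext e)
    have hvc : ∀ g : G, g * v = v * g := by
      intro g
      have : g ∈ centralizer (V : Set G) := by rw [hC]; exact Subgroup.mem_top g
      exact ((mem_centralizer_iff.mp this) v hv).symm
    refine ⟨zpowers v, ⟨?_⟩, ?_⟩
    · intro n hn g
      obtain ⟨k, rfl⟩ := mem_zpowers_iff.mp hn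
      have hc : Commute g (v ^ k) := (show Commute g v from hvc g).zpow_right k
      rw [hc.eq, mul_inv_cancel_right]
      exact zpow_mem_zpowers v k
    · rw [Nat.card_zpowers, orderOf_eq_prime (hVexp v hv) hv1']
      exact hp
  · obtain ⟨r, B, hr, hBn, hCB, ⟨b, hbB, hbC⟩, hBcomm, hBr⟩ :=
      exists_B (centralizer (V : Set G)) hC
    haveI := hBn
    have hrp : r ≠ p := by
      rintro rfl
      obtain ⟨v₀, hv₀V, hv₀1, hv₀⟩ := exists_fixed r V hVne hVp B hBr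
      have hv₀c : v₀ ∈ centralizer (B : Set G) := by
        rw [mem_centralizer_iff]
        intro b' hb'
        have := hv₀ b' hb'
        have e : b' * v₀ = (b' * v₀ * b'⁻¹) * b' := by group
        rw [e, this]
      have hD : V ⊓ centralizer (B : Set G) = V := by
        rcases hVmin (V ⊓ centralizer (B : Set G)) inferInstance inf_le_left with e | e
        · exfalso
          have : v₀ ∈ V ⊓ centralizer (B : Set G) := ⟨hv₀V, hv₀c⟩
          rw [e, Subgroup.mem_bot] at this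
          exact hv₀1 this
        · exact e
      apply hbC
      rw [mem_centralizer_iff]
      intro v hv
      have hv' : v ∈ V ⊓ centralizer (B : Set G) := by rw [hD]; exact hv
      exact ((mem_centralizer_iff.mp hv'.2) b hbB).symm
    have hpr : Nat.Coprime p r := (Nat.coprime_primes hp hr).mpr (Ne.symm hrp)
    have hLcard : ∀ g : G, Nat.card (commHom V hVab g).range ∣ p := fun g => by
      rw [card_range]
      exact hrel g
    have hLp : ∀ g : G, (commHom V hVab g).range ≠ ⊥ →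
        Nat.card (commHom V hVab g).range = p := by
      intro g hg
      rcases (Nat.dvd_prime hp).mp (hLcard g) with e | e
      · exact absurd (Subgroup.card_eq_one.mp e) hg
      · exact e
    have hLb : (commHom V hVab b).range ≠ ⊥ := by
      intro e
      apply hbC
      rw [mem_centralizer_iff]
      intro v hv
      have h1 : v⁻¹ * b⁻¹ * v * b ∈ (commHom V hVab b).range :=
        (mem_range_iff V hVab b _).mpr ⟨v, hv, rfl⟩
      rw [e, Subgroup.mem_bot] at h1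
      have : v * b = b * v * (v⁻¹ * b⁻¹ * v * b) := by group
      rw [this, h1, mul_one]
    refine ⟨(commHom V hVab b).range, ?_, ?_⟩
    · by_contra hnn
      have : ∃ w ∈ (commHom V hVab b).range, ∃ x : G,
          x * w * x⁻¹ ∉ (commHom V hVab b).range := by
        by_contra hall
        push Not at hall
        exact hnn ⟨fun n hn g => hall n hn g⟩
      obtain ⟨w, hw, x, hxw⟩ := this
      have ht := range_conj V hVab b x w hw
      have hb₂ : x * b * x⁻¹ ∈ B := hBn.conj_mem b hbB x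
      have hL₂ : (commHom V hVab (x * b * x⁻¹)).range ≠ ⊥ := by
        intro e
        rw [e, Subgroup.mem_bot] at ht
        apply hxw
        rw [ht]
        exact one_mem _
      have := range_eq p r hp hpr V hVab hVexp hrel B hBcomm hBr b (x * b * x⁻¹) hbB hb₂
        (hLp _ hLb) (hLp _ hL₂)
      apply hxw
      rw [this]
      exact ht
    · rw [hLp _ hLb]
      exact hp

end Cfsg.Agent.Lib.Helper24.S4130FO3
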