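import Mathlib

/-!
# S4427-[A1]: weighted fixed point congruence in characteristic `p` (helper24 library)

A permutation `σ` with `σ ^ p = 1` and a `σ`-invariant weight with values in a ring of
characteristic `p`: the total weight is the weight of the fixed points.
-/

set_option autoImplicit false

namespace Cfsg.Agent.Lib.Helper24.S4427

theorem sum_eq_sum_fixed {X : Type*} [Fintype X] [DecidableEq X] {F : Type*} [CommRing F]
    (p : ℕ) [Fact p.Prime] [CharP F p] (σ : Equiv.Perm X) (hσ : σ ^ p = 1) (W : X → F)
    (hW : ∀ x, W (σ x) = W x) : ∑ x, W x = ∑ x with σ x = x, W x := by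
  classical
  have hp : p.Prime := Fact.out
  rw [← Finset.sum_filter_add_sum_filter_not Finset.univ (fun x => σ x = x) W]
  suffices h : ∑ x with ¬ σ x = x, W x = 0 by rw [h, add_zero]
  have hWk : ∀ (k : ℕ) (x : X), W ((σ ^ k) x) = W x := by
    intro k
    induction k with
    | zero => intro x; simp
    | succ k ih =>
      intro x
      rw [pow_succ', Equiv.Perm.mul_apply, hW, ih]
  have hinv : σ⁻¹ = σ ^ (p - 1) := by
    apply inv_eq_of_mul_eq_one_right
    rw [← pow_succ', Nat.sub_add_cancel hp.one_le, hσ]
  have key : ∀ n : ℕ, ∀ Y : Finset X, Y.card = n → (∀ x ∈ Y, σ x ∈ Y) → (∀ x ∈ Y, σ x ≠ x) →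
      ∑ x ∈ Y, W x = 0 := by
    intro n
    induction n using Nat.strong_induction_on with
    | _ n ih =>
      intro Y hcard hinvY hfix
      rcases Y.eq_empty_or_nonempty with rfl | ⟨x₀, hx₀⟩
      · simp
      · have hmemY : ∀ k : ℕ, (σ ^ k) x₀ ∈ Y := by
          intro k
          induction k with
          | zero => simpa using hx₀
          | succ k ihk =>
            rw [pow_succ', Equiv.Perm.mul_apply]
            exact hinvY _ ihk
        obtain ⟨O, hO⟩ : ∃ O : Finset X, O = (Finset.range p).image (fun k => (σ ^ k) x₀) :=
          ⟨_, rfl⟩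
        have hmemO : ∀ y : X, y ∈ O ↔ ∃ k : ℕ, (σ ^ k) x₀ = y := by
          intro y
          rw [hO, Finset.mem_image]
          constructor
          · rintro ⟨k, _, rfl⟩
            exact ⟨k, rfl⟩
          · rintro ⟨k, rfl⟩
            refine ⟨k % p, Finset.mem_range.mpr (Nat.mod_lt _ hp.pos), ?_⟩
            rw [← pow_eq_pow_mod k hσ]
        have hinj : Set.InjOn (fun k => (σ ^ k) x₀) (Finset.range p : Set ℕ) := by
          have aux : ∀ i j : ℕ, i < j → j < p → (σ ^ i) x₀ = (σ ^ j) x₀ → False := by
            intro i j hij hjp h
            have hd : (σ ^ (j - i)) x₀ = x₀ := by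
              have : (σ ^ j) x₀ = (σ ^ i) ((σ ^ (j - i)) x₀) := by
                rw [← Equiv.Perm.mul_apply, ← pow_add, Nat.add_sub_cancel' hij.le]
              rw [this] at h
              exact ((σ ^ i).injective h).symm
            have hcop : Nat.Coprime (j - i) p := by
              apply Nat.Coprime.symm
              rw [hp.coprime_iff_not_dvd]
              intro hdvd
              have := Nat.le_of_dvd (by omega) hdvd
              omega
            obtain ⟨u, -, hu⟩ := Nat.exists_mul_mod_eq_one_of_coprime hcop hp.one_lt
            have h1 : σ ^ ((j - i) * u) = σ := by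
              rw [pow_eq_pow_mod _ hσ, hu, pow_one]
            have h2 : (σ ^ ((j - i) * u)) x₀ = x₀ := by
              rw [pow_mul]
              exact Equiv.Perm.pow_apply_eq_self_of_apply_eq_self hd u
            rw [h1] at h2
            exact hfix x₀ hx₀ h2
          intro i hi j hj h
          simp only [Finset.coe_range, Set.mem_Iio] at hi hj
          rcases lt_trichotomy i j with hij | hij | hij
          · exact (aux i j hij hj h).elim
          · exact hij
          · exact (aux j i hij hi h.symm).elim
        have hsumO : ∑ x ∈ O, W x = 0 := by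
          rw [hO, Finset.sum_image hinj]
          simp only [hWk]
          rw [Finset.sum_const, Finset.card_range, nsmul_eq_mul, CharP.cast_eq_zero, zero_mul]
        have hOY : O ⊆ Y := by
          intro y hy
          obtain ⟨k, rfl⟩ := (hmemO y).mp hy
          exact hmemY k
        have hx₀O : x₀ ∈ O := (hmemO x₀).mpr ⟨0, by simp⟩
        have hlt : (Y \ O).card < n := by
          rw [← hcard]
          apply Finset.card_lt_card
          refine ⟨Finset.sdiff_subset, fun hsub => ?_⟩
          have := hsub hx₀
          rw [Finset.mem_sdiff] at this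
          exact this.2 hx₀O
        have hrest := ih (Y \ O).card hlt (Y \ O) rfl (by
          intro x hx
          rw [Finset.mem_sdiff] at hx ⊢
          refine ⟨hinvY x hx.1, fun hcon => hx.2 ?_⟩
          obtain ⟨k, hk⟩ := (hmemO _).mp hcon
          refine (hmemO x).mpr ⟨p - 1 + k, ?_⟩
          rw [pow_add, Equiv.Perm.mul_apply, hk, ← hinv]
          simp) (by
          intro x hx
          exact hfix x (Finset.mem_sdiff.mp hx).1)
        rw [← Finset.sum_sdiff hOY, hrest, hsumO, add_zero]
  apply key _ _ rfl
  · intro x hx
    rw [Finset.mem_filter] at hx ⊢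
    refine ⟨Finset.mem_univ _, fun h => hx.2 (σ.injective h)⟩
  · intro x hx
    exact (Finset.mem_filter.mp hx).2

end Cfsg.Agent.Lib.Helper24.S4427
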