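import Mathlib
import Cfsg.Prelude.Def_Blocks
import Cfsg.Agent.Lib.Helper24.S4427Defs
import Cfsg.Agent.Lib.Helper24.Contribution
import Cfsg.Agent.Lib.Helper25.Kernel
import Cfsg.Agent.Lib.Helper11.Bessel
import Cfsg.Agent.Lib.Helper2.Orthogonality
import Cfsg.Agent.Lib.Helper21.S4427C
import Cfsg.Agent.Lib.Helper14.S4427D3
import Cfsg.Agent.Lib.Helper6.S4427E
import Cfsg.Agent.Lib.Helper6.S4427F0
import Cfsg.Agent.Lib.Helper26.S4427A

/-!
# S4427 (Brauer): assembly (helper24 library)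

`|G| = p^a q^b r^c` with exactly `q^b r^c` `p`-regular elements: the `p`-regular elements form a
normal subgroup.  Pieces: [A] helper26, [B] [C] helper21, [D1] [D2] helper11, [D3] helper14,
[E] [F] helper6; proof in `notes/S4427_proof_helper24.md`.
-/

set_option autoImplicit false

namespace Cfsg.Agent.Lib.Helper24.S4427.Asm

open Cfsg.Agent.Lib.Helper24.S4427

open scoped ComplexConjugate
open Cfsg.Agent.Lib.Helper2 Cfsg.Agent.Lib.Helper11

universe u

section Sums

variable {G : Type*} [Group G] [Fintype G]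

/-- the coefficient sum is multiplicative -/
theorem sum_coeff_mul {k : Type*} [CommSemiring k] (x y : MonoidAlgebra k G) :
    ∑ g : G, (x * y).coeff g = (∑ g : G, x.coeff g) * ∑ g : G, y.coeff g := by
  have h1 : ∀ g : G, (x * y).coeff g = ∑ h : G, x.coeff h * y.coeff (h⁻¹ * g) := by
    intro g
    rw [MonoidAlgebra.coeff_mul_apply_left, Finsupp.sum_fintype _ _ (by simp)]
  simp only [h1]
  rw [Finset.sum_comm, Finset.sum_mul]
  apply Finset.sum_congr rfl
  intro h _
  rw [← Finset.mul_sum]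
  congr 1
  exact Equiv.sum_comp (Equiv.mulLeft h⁻¹) (fun g => y.coeff g)

theorem sum_coeff_sSub (k : Type*) [CommSemiring k] (H : Subgroup G) :
    ∑ g : G, (sSub k H).coeff g = (Nat.card H : k) := by
  classical
  simp only [coeff_sSub]
  rw [Finset.sum_ite, Finset.sum_const_zero, add_zero, Finset.sum_const, nsmul_eq_mul, mul_one]
  congr 1
  rw [Nat.card_eq_fintype_card, Fintype.card_subtype]

theorem mapRingHom_sSub (H : Subgroup G) :
    MonoidAlgebra.mapRingHom G (Int.castRingHom ℂ) (sSub ℤ H) = sSub ℂ H := by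
  unfold sSub
  rw [map_sum]
  apply Finset.sum_congr rfl
  intro g _
  rw [MonoidAlgebra.mapRingHom_single, map_one]

end Sums

section Inner

variable {G : Type u} [Group G] [Fintype G]

omit [Fintype G] in
theorem orderOf_conj_inv (h g : G) : orderOf (h⁻¹ * g⁻¹ * h) = orderOf g := by
  have := MulEquiv.orderOf_eq (MulAut.conj h⁻¹) g⁻¹
  rw [MulAut.conj_apply, inv_inv, orderOf_inv] at this
  exact this

/-- the bijection `g ↦ h⁻¹ g⁻¹ h` -/
def conjInvEquiv (h : G) : G ≃ G where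
  toFun g := h⁻¹ * g⁻¹ * h
  invFun u := h * u⁻¹ * h⁻¹
  left_inv g := by group
  right_inv u := by group

theorem classInner_phiOf_indicator (p c : ℕ) (ε : MonoidAlgebra ℂ G) :
    Cfsg.classInner (phiOf ε) (fun g => if p ∣ orderOf g then (0 : ℂ) else (c : ℂ))
      = (c : ℂ) * ∑ g : G, (if p ∣ orderOf g then (0 : ℂ) else ε.coeff g) := by
  rw [classInner_def]
  have h1 : ∀ g : G, phiOf ε g * conj (if p ∣ orderOf g then (0 : ℂ) else (c : ℂ))
      = ∑ h : G, (c : ℂ) * (if p ∣ orderOf (h⁻¹ * g⁻¹ * h) then (0 : ℂ)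
          else ε.coeff (h⁻¹ * g⁻¹ * h)) := by
    intro g
    rw [phiOf_apply, Finset.sum_mul]
    apply Finset.sum_congr rfl
    intro h _
    rw [orderOf_conj_inv]
    split_ifs
    · simp
    · rw [Complex.conj_natCast, mul_comm]
  simp only [h1]
  rw [Finset.sum_comm]
  have h2 : ∀ h : G, ∑ g : G, (c : ℂ) * (if p ∣ orderOf (h⁻¹ * g⁻¹ * h) then (0 : ℂ)
          else ε.coeff (h⁻¹ * g⁻¹ * h))
      = (c : ℂ) * ∑ u : G, (if p ∣ orderOf u then (0 : ℂ) else ε.coeff u) := by
    intro h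
    rw [Finset.mul_sum]
    exact Equiv.sum_comp (conjInvEquiv h)
      (fun u => (c : ℂ) * (if p ∣ orderOf u then (0 : ℂ) else ε.coeff u))
  simp only [h2]
  rw [Finset.sum_const, Finset.card_univ, nsmul_eq_mul, Nat.card_eq_fintype_card, ← mul_assoc,
    inv_mul_cancel₀, one_mul]
  exact_mod_cast Fintype.card_ne_zero

theorem classInner_phiOf_self (ε : MonoidAlgebra ℂ G) (hchar : Cfsg.IsCharacter G (phiOf ε)) :
    Cfsg.classInner (phiOf ε) (phiOf ε) = selfTr ε := by
  rw [classInner_def]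
  have h1 : ∀ g : G, phiOf ε g * conj (phiOf ε g)
      = ∑ k : G, ∑ h : G, ε.coeff (h⁻¹ * g⁻¹ * h) * ε.coeff (k⁻¹ * g * k) := by
    intro g
    rw [← Cfsg.Agent.Lib.Helper25.char_inv hchar g, phiOf_apply, phiOf_apply, Finset.sum_mul_sum,
      Finset.sum_comm]
    apply Finset.sum_congr rfl
    intro k _
    apply Finset.sum_congr rfl
    intro h _
    rw [inv_inv]
  simp only [h1]
  rw [Finset.sum_comm]
  have h2 : ∀ k : G, ∑ g : G, ∑ h : G, ε.coeff (h⁻¹ * g⁻¹ * h) * ε.coeff (k⁻¹ * g * k)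
      = selfTr ε := by
    intro k
    have s1 : ∑ g : G, ∑ h : G, ε.coeff (h⁻¹ * g⁻¹ * h) * ε.coeff (k⁻¹ * g * k)
        = ∑ u : G, ∑ h : G, ε.coeff (h⁻¹ * (k * u * k⁻¹)⁻¹ * h)
            * ε.coeff (k⁻¹ * (k * u * k⁻¹) * k) :=
      (Equiv.sum_comp (MulAut.conj k).toEquiv
        (fun g => ∑ h : G, ε.coeff (h⁻¹ * g⁻¹ * h) * ε.coeff (k⁻¹ * g * k))).symm
    have s2 : ∀ u : G, ∑ h : G, ε.coeff (h⁻¹ * (k * u * k⁻¹)⁻¹ * h)
            * ε.coeff (k⁻¹ * (k * u * k⁻¹) * k)
        = ∑ h : G, ε.coeff u * ε.coeff (h⁻¹ * u⁻¹ * h) := by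
      intro u
      rw [← Equiv.sum_comp (Equiv.mulLeft k)]
      apply Finset.sum_congr rfl
      intro h _
      have e1 : (k * h)⁻¹ * (k * u * k⁻¹)⁻¹ * (k * h) = h⁻¹ * u⁻¹ * h := by group
      have e2 : k⁻¹ * (k * u * k⁻¹) * k = u := by group
      rw [Equiv.coe_mulLeft, e1, e2, mul_comm]
    rw [s1]
    simp only [s2]
    rw [selfTr_def, Finset.sum_comm]
  simp only [h2]
  rw [Finset.sum_const, Finset.card_univ, nsmul_eq_mul, Nat.card_eq_fintype_card, ← mul_assoc,
    inv_mul_cancel₀, one_mul]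
  exact_mod_cast Fintype.card_ne_zero

theorem classInner_indicator_self (p c : ℕ) :
    Cfsg.classInner (fun g : G => if p ∣ orderOf g then (0 : ℂ) else (c : ℂ))
        (fun g : G => if p ∣ orderOf g then (0 : ℂ) else (c : ℂ))
      = (Nat.card G : ℂ)⁻¹ * ((c : ℂ) * (c : ℂ) * (Nat.card {g : G // ¬ p ∣ orderOf g} : ℂ)) := by
  classical
  rw [classInner_def]
  congr 1
  have h1 : ∀ g : G, (if p ∣ orderOf g then (0 : ℂ) else (c : ℂ))
      * conj (if p ∣ orderOf g then (0 : ℂ) else (c : ℂ))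
      = if ¬ p ∣ orderOf g then (c : ℂ) * (c : ℂ) else 0 := by
    intro g
    split_ifs
    · simp
    · rw [Complex.conj_natCast]
  simp only [h1]
  rw [Finset.sum_ite, Finset.sum_const_zero, add_zero, Finset.sum_const, nsmul_eq_mul,
    Nat.card_eq_fintype_card, Fintype.card_subtype, mul_comm]

end Inner

section Core

variable {G : Type u} [Group G] [Fintype G]

theorem theta_isGeneralizedCharacter (p : ℕ) [Fact p.Prime] (a m : ℕ)
    (hG : Nat.card G = p ^ a * m) (hm : ¬ p ∣ m) :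
    Cfsg.IsGeneralizedCharacter G
      (fun g : G => if p ∣ orderOf g then (0 : ℂ) else ((p ^ a : ℕ) : ℂ)) := by
  have hp : p.Prime := Fact.out
  have hm0 : m ≠ 0 := by
    rintro rfl
    exact hm (dvd_zero p)
  have hfact : (Nat.card G).factorization p = a := by
    rw [hG, Nat.factorization_mul (pow_ne_zero _ hp.ne_zero) hm0, Nat.factorization_pow,
      hp.factorization]
    simp [Nat.factorization_eq_zero_of_not_dvd hm]
  have h1 := isGeneralizedCharacter_pow_sub_mul_pRegular (p := p) (G := G)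
    ⟨fun _ => (1 : ℂ), isIrrCharacter_const_one⟩
  have hdeg : Cfsg.charDegree (fun _ : G => (1 : ℂ)) = 1 := by
    unfold Cfsg.charDegree
    simp
  simp only [hdeg, hfact, Nat.factorization_one, Finsupp.coe_zero, Pi.zero_apply, Nat.sub_zero,
    mul_one] at h1
  exact h1

theorem core (p : ℕ) [Fact p.Prime] (Q R : Subgroup G) (a : ℕ)
    (hG : Nat.card G = p ^ a * (Nat.card Q * Nat.card R))
    (hQ : ¬ p ∣ Nat.card Q) (hR : ¬ p ∣ Nat.card R) (hcop : (Nat.card Q).Coprime (Nat.card R))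
    (hcount : Nat.card {g : G // ¬ p ∣ orderOf g} = Nat.card Q * Nat.card R) :
    ∃ N : Subgroup G, N.Normal ∧ ∀ g, g ∈ N ↔ ¬ p ∣ orderOf g := by
  have hp : p.Prime := Fact.out
  obtain ⟨M, hM⟩ := Cfsg.Agent.Lib.Helper25.exists_isPModular p hp
  have hQR : ¬ p ∣ Nat.card Q * Nat.card R := by
    intro h
    rcases hp.dvd_mul.mp h with h | h
    · exact hQ h
    · exact hR h
  have hQRpos : 0 < Nat.card Q * Nat.card R := Nat.mul_pos Nat.card_pos Nat.card_pos
  -- the idempotent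
  obtain ⟨ε, y, hε, h1, h2, hloc, haug⟩ := exists_idem_mul hM (G := G)
    (sSub ℤ Q * sSub ℤ R * sSub ℤ Q) (by
      rw [sum_coeff_mul, sum_coeff_mul, sum_coeff_sSub, sum_coeff_sSub]
      intro h
      have h' : p ∣ Nat.card Q * Nat.card R * Nat.card Q := by exact_mod_cast h
      rcases hp.dvd_mul.mp h' with h'' | h''
      · exact hQR h''
      · exact hQ h'')
  rw [map_mul, map_mul, mapRingHom_sSub, mapRingHom_sSub] at h1 h2
  have hchar : Cfsg.IsCharacter G (phiOf ε) := isCharacter_phiOf ε hε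
  have hμ := Helper6F.memLocalIdeal_of hM
    (fun e he h => sum_coeff_pRegular_of_idem p e he h) ε hε hloc haug
  obtain ⟨d, hd, hdle⟩ := selfTr_le Q R hcop ε y hε h1 h2
  have hdle' : d ≤ p ^ a := by
    rw [hG] at hdle
    exact Nat.le_of_mul_le_mul_right hdle hQRpos
  -- the generalized character
  obtain ⟨ϑ, hϑdef⟩ : ∃ ϑ : G → ℂ,
      ϑ = fun g : G => if p ∣ orderOf g then (0 : ℂ) else ((p ^ a : ℕ) : ℂ) := ⟨_, rfl⟩
  have hϑ : Cfsg.IsGeneralizedCharacter G ϑ := by
    rw [hϑdef]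
    exact theta_isGeneralizedCharacter p a _ hG hQR
  have hΦgc : Cfsg.IsGeneralizedCharacter G (phiOf ε) :=
    ⟨phiOf ε, 0, hchar, isCharacter_zero, by simp⟩
  obtain ⟨m, hm⟩ := IsGeneralizedCharacter.inner_int hΦgc hϑ
  obtain ⟨τ, hτ⟩ : ∃ τ : ℂ, τ = ∑ g : G, (if p ∣ orderOf g then (0 : ℂ) else ε.coeff g) :=
    ⟨_, rfl⟩
  rw [← hτ] at hμ
  have hm' : ((p ^ a : ℕ) : ℂ) * τ = (m : ℂ) := by
    rw [← hm, hϑdef, classInner_phiOf_indicator, hτ]
  -- `τ - 1` is an integer divisible by `p`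
  obtain ⟨c, hc⟩ := exists_int_of_pow_mul_eq hM a (m - (p : ℤ) ^ a) (τ - 1) (by
    rw [mul_sub, mul_one]
    push_cast at hm' ⊢
    rw [hm']) (memLocalRing_of_memLocalIdeal hμ)
  have hpc : (p : ℤ) ∣ c := by
    rw [hc] at hμ
    exact dvd_of_memLocalIdeal_intCast hM hμ
  have hmc : m = (p : ℤ) ^ a * (1 + c) := by
    have : (m : ℂ) = ((p : ℤ) ^ a * (1 + c) : ℤ) := by
      rw [← hm']
      have hτ' : τ = 1 + (c : ℂ) := by rw [← hc]; ring
      rw [hτ']
      push_cast
      ring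
    exact_mod_cast this
  -- the norms
  have hΦΦ : Cfsg.classInner (phiOf ε) (phiOf ε) = (d : ℂ) := by
    rw [classInner_phiOf_self ε hchar, hd]
  have hϑϑ : Cfsg.classInner ϑ ϑ = ((p ^ a : ℕ) : ℂ) := by
    rw [hϑdef, classInner_indicator_self, hcount, hG]
    have h0 : ((Nat.card Q * Nat.card R : ℕ) : ℂ) ≠ 0 := by exact_mod_cast hQRpos.ne'
    have h1 : ((p ^ a : ℕ) : ℂ) ≠ 0 := by exact_mod_cast (pow_pos hp.pos a).ne'
    push_cast at h0 h1 ⊢
    field_simp
    exact div_self h0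
  have hϑΦ : Cfsg.classInner ϑ (phiOf ε) = (m : ℂ) := by
    rw [← classInner_conj_symm, hm, map_intCast]
  have hminus : Cfsg.classInner (phiOf ε - ϑ) (phiOf ε - ϑ)
      = (((d : ℤ) - 2 * m + ((p ^ a : ℕ) : ℤ) : ℤ) : ℂ) := by
    rw [classInner_sub_left, classInner_sub_right, classInner_sub_right, hΦΦ, hm, hϑΦ, hϑϑ]
    push_cast
    ring
  have hplus : Cfsg.classInner (phiOf ε + ϑ) (phiOf ε + ϑ)
      = (((d : ℤ) + 2 * m + ((p ^ a : ℕ) : ℤ) : ℤ) : ℂ) := by
    rw [classInner_add_left, classInner_add_right, classInner_add_right, hΦΦ, hm, hϑΦ, hϑϑ]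
    push_cast
    ring
  have hge1 : 0 ≤ (d : ℤ) - 2 * m + ((p ^ a : ℕ) : ℤ) := by
    have := classInner_self_re_nonneg (phiOf ε - ϑ)
    rw [hminus, Complex.intCast_re] at this
    exact_mod_cast this
  have hge2 : 0 ≤ (d : ℤ) + 2 * m + ((p ^ a : ℕ) : ℤ) := by
    have := classInner_self_re_nonneg (phiOf ε + ϑ)
    rw [hplus, Complex.intCast_re] at this
    exact_mod_cast this
  have hpa : (0 : ℤ) < (p : ℤ) ^ a := pow_pos (by exact_mod_cast hp.pos) a
  have hdz : (d : ℤ) ≤ (p : ℤ) ^ a := by exact_mod_cast hdle'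
  push_cast at hge1 hge2
  have hc1 : c ≤ 0 := by
    by_contra hcon
    push Not at hcon
    have : (p : ℤ) ^ a * (1 + c) ≥ (p : ℤ) ^ a * 2 := by
      apply mul_le_mul_of_nonneg_left _ hpa.le
      omega
    rw [hmc] at hge1
    nlinarith
  have hc2 : -2 ≤ c := by
    by_contra hcon
    push Not at hcon
    have : (p : ℤ) ^ a * (1 + c) ≤ (p : ℤ) ^ a * (-2) := by
      apply mul_le_mul_of_nonneg_left _ hpa.le
      omega
    rw [hmc] at hge2
    nlinarith
  have hp2 : (2 : ℤ) ≤ (p : ℤ) := by exact_mod_cast hp.two_le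
  have hcases : c = 0 ∨ c = -2 := by
    obtain ⟨k, hk⟩ := hpc
    rcases lt_trichotomy k 0 with hk0 | hk0 | hk0
    · right
      have : (p : ℤ) * k ≤ (p : ℤ) * (-1) := by
        apply mul_le_mul_of_nonneg_left _ (by omega)
        omega
      omega
    · left
      rw [hk, hk0, mul_zero]
    · exfalso
      have : (p : ℤ) * k ≥ (p : ℤ) * 1 := by
        apply mul_le_mul_of_nonneg_left _ (by omega)
        omega
      omega
  have hΦϑ : phiOf ε = ϑ := by
    rcases hcases with hc0 | hc0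
    · have hz : phiOf ε - ϑ = 0 := by
        apply eq_zero_of_classInner_self_re_le_zero
        rw [hminus, Complex.intCast_re, hmc, hc0]
        push_cast
        have : ((d : ℤ) : ℝ) ≤ ((p : ℤ) : ℝ) ^ a := by exact_mod_cast hdz
        push_cast at this
        linarith
      exact sub_eq_zero.mp hz
    · exfalso
      have hz : phiOf ε + ϑ = 0 := by
        apply eq_zero_of_classInner_self_re_le_zero
        rw [hplus, Complex.intCast_re, hmc, hc0]
        push_cast
        have : ((d : ℤ) : ℝ) ≤ ((p : ℤ) : ℝ) ^ a := by exact_mod_cast hdz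
        push_cast at this
        linarith
      obtain ⟨n, hn⟩ := Cfsg.Agent.Lib.Helper25.char_one_eq hchar
      have h1 := congrFun hz 1
      rw [Pi.add_apply, hn, hϑdef] at h1
      simp only [orderOf_one, Nat.dvd_one, hp.ne_one, if_false, Pi.zero_apply] at h1
      have h2 : ((n + p ^ a : ℕ) : ℂ) = 0 := by
        push_cast
        push_cast at h1
        exact h1
      have h3 : n + p ^ a = 0 := by exact_mod_cast h2
      have := pow_pos hp.pos a
      omega
  -- the kernel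
  obtain ⟨K, hKn, hK⟩ := Cfsg.Agent.Lib.Helper25.exists_kernel hchar
  refine ⟨K, hKn, fun g => ?_⟩
  rw [hK, hΦϑ, hϑdef]
  simp only [orderOf_one, Nat.dvd_one, hp.ne_one, if_false]
  have hpa0 : ((p ^ a : ℕ) : ℂ) ≠ 0 := by exact_mod_cast (pow_pos hp.pos a).ne'
  constructor
  · intro h hdiv
    rw [if_pos hdiv] at h
    exact hpa0 h.symm
  · intro h
    rw [if_neg h]

end Core

end Cfsg.Agent.Lib.Helper24.S4427.Asm
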