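import Mathlib
import Cfsg.Agent.Lib.Helper28.SpSubfDefs
import Cfsg.Agent.Lib.Helper16.SympEmbed
import Cfsg.Agent.Lib.Helper24.S5639FOP

/-!
# S5650 farm-out piece FO-P (helper24): reduction to `P = 1` (symplectic case)
-/

set_option autoImplicit false

namespace Cfsg.Agent.Lib.Helper24.S5650FOP

open Matrix Cfsg.Agent.Lib.Helper6 Cfsg.Agent.Lib.Helper13 Cfsg.Agent.Lib.Helper28.SpSubf

variable {F : Type*} [Field F] {m : ℕ}

local notation "ff" => Cfsg.sympForm m F
local notation "ι" => (Fin m ⊕ Fin m)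

/-- general index version of `S5639FOP.subfieldSubgroup_eq_map` -/
theorem subfieldSubgroup_eq_map' {κ : Type} [Fintype κ] [DecidableEq κ] (K : Subfield F)
    (P : GL κ F) :
    Cfsg.Geo.subfieldSubgroup K P =
      (Cfsg.Geo.subfieldSubgroup K (1 : GL κ F)).map (MulAut.conj P).toMonoidHom := by
  have h1 : Cfsg.Geo.subfieldSubgroup K (1 : GL κ F) =
      ((Matrix.GeneralLinearGroup.map (K.subtype : K →+* F)).range ⊔
        Cfsg.Geo.scalars κ F) := by
    unfold Cfsg.Geo.subfieldSubgroup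
    rw [map_one]
    exact Subgroup.map_id _
  rw [h1]
  rfl

/-- multiplying `P` on the right by a rational matrix does not change the subfield group -/
theorem subfieldSubgroup_mul_rat {κ : Type} [Fintype κ] [DecidableEq κ] (K : Subfield F)
    (P : GL κ F) (Q : GL κ K) :
    Cfsg.Geo.subfieldSubgroup K (P * Matrix.GeneralLinearGroup.map (K.subtype : K →+* F) Q) =
      Cfsg.Geo.subfieldSubgroup K P := by
  unfold Cfsg.Geo.subfieldSubgroup
  have hq : Matrix.GeneralLinearGroup.map (K.subtype : K →+* F) Q ∈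
      (Matrix.GeneralLinearGroup.map (K.subtype : K →+* F)).range ⊔ Cfsg.Geo.scalars κ F :=
    Subgroup.mem_sup_left (MonoidHom.mem_range.mpr ⟨Q, rfl⟩)
  ext g
  constructor
  · rintro ⟨x, hx, rfl⟩
    refine ⟨Matrix.GeneralLinearGroup.map (K.subtype : K →+* F) Q * x *
      (Matrix.GeneralLinearGroup.map (K.subtype : K →+* F) Q)⁻¹,
      Subgroup.mul_mem _ (Subgroup.mul_mem _ hq hx) (Subgroup.inv_mem _ hq), ?_⟩
    simp only [MulEquiv.coe_toMonoidHom, MulAut.conj_apply]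
    group
  · rintro ⟨x, hx, rfl⟩
    refine ⟨(Matrix.GeneralLinearGroup.map (K.subtype : K →+* F) Q)⁻¹ * x *
      Matrix.GeneralLinearGroup.map (K.subtype : K →+* F) Q,
      Subgroup.mul_mem _ (Subgroup.mul_mem _ (Subgroup.inv_mem _ hq) hx) hq, ?_⟩
    simp only [MulEquiv.coe_toMonoidHom, MulAut.conj_apply]
    group

/-- the form transported by a matrix, as a matrix identity -/
theorem sympForm_mulVec_mulVec (A : Matrix ι ι F) (u v : ι → F) :
    ff (A *ᵥ u) (A *ᵥ v) = u ⬝ᵥ ((Aᵀ * Matrix.J (Fin m) F * A) *ᵥ v) := by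
  rw [sympForm_def]
  symm
  rw [← mulVec_mulVec, ← mulVec_mulVec, dotProduct_mulVec, vecMul_transpose]

/-- a similitude relation checked on the standard basis holds everywhere -/
theorem similitude_of_single (A : Matrix ι ι F) (ζ : F)
    (h : ∀ i j : ι, ζ * ff (A *ᵥ Pi.single i 1) (A *ᵥ Pi.single j 1) =
      ff (Pi.single i 1) (Pi.single j 1)) (u v : ι → F) :
    ζ * ff (A *ᵥ u) (A *ᵥ v) = ff u v := by
  have hM : ζ • (Aᵀ * Matrix.J (Fin m) F * A) = Matrix.J (Fin m) F := by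
    ext i j
    have := h i j
    rw [sympForm_mulVec_mulVec, sympForm_def] at this
    simpa using this
  rw [sympForm_mulVec_mulVec, sympForm_def]
  conv_rhs => rw [← hM]
  rw [smul_mulVec, dotProduct_smul, smul_eq_mul]

/-- conjugation by a similitude preserves the symplectic group -/
theorem spGL_map_conj (P : GL ι F) (ζ : F) (hζ : ζ ≠ 0)
    (h : ∀ u v : ι → F, ζ * ff ((P : Matrix ι ι F) *ᵥ u) ((P : Matrix ι ι F) *ᵥ v) = ff u v) :
    (Cfsg.spGL m F).map (MulAut.conj P).toMonoidHom = Cfsg.spGL m F := by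
  have hinv : ∀ u v : ι → F, ff (((P⁻¹ : GL ι F) : Matrix ι ι F) *ᵥ u)
      (((P⁻¹ : GL ι F) : Matrix ι ι F) *ᵥ v) = ζ * ff u v := by
    intro u v
    have := h (((P⁻¹ : GL ι F) : Matrix ι ι F) *ᵥ u) (((P⁻¹ : GL ι F) : Matrix ι ι F) *ᵥ v)
    rw [mulVec_inv_mulVec, mulVec_inv_mulVec] at this
    exact this.symm
  ext g
  constructor
  · rintro ⟨x, hx, rfl⟩
    intro u v
    show ff (((P * x * P⁻¹ : GL ι F) : Matrix ι ι F) *ᵥ u)
      (((P * x * P⁻¹ : GL ι F) : Matrix ι ι F) *ᵥ v) = ff u v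
    rw [Units.val_mul, Units.val_mul, ← mulVec_mulVec, ← mulVec_mulVec, ← mulVec_mulVec,
      ← mulVec_mulVec]
    have h1 := h ((x : Matrix ι ι F) *ᵥ (((P⁻¹ : GL ι F) : Matrix ι ι F) *ᵥ u))
      ((x : Matrix ι ι F) *ᵥ (((P⁻¹ : GL ι F) : Matrix ι ι F) *ᵥ v))
    have h2 : ff ((x : Matrix ι ι F) *ᵥ (((P⁻¹ : GL ι F) : Matrix ι ι F) *ᵥ u))
      ((x : Matrix ι ι F) *ᵥ (((P⁻¹ : GL ι F) : Matrix ι ι F) *ᵥ v)) =
        ff (((P⁻¹ : GL ι F) : Matrix ι ι F) *ᵥ u) (((P⁻¹ : GL ι F) : Matrix ι ι F) *ᵥ v) :=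
      hx _ _
    rw [h2, hinv] at h1
    have h3 : ζ * ff ((P : Matrix ι ι F) *ᵥ ((x : Matrix ι ι F) *ᵥ
        (((P⁻¹ : GL ι F) : Matrix ι ι F) *ᵥ u)))
        ((P : Matrix ι ι F) *ᵥ ((x : Matrix ι ι F) *ᵥ
        (((P⁻¹ : GL ι F) : Matrix ι ι F) *ᵥ v))) = ζ * ff u v := h1
    exact mul_left_cancel₀ hζ h3
  · intro hg
    refine ⟨P⁻¹ * g * P, ?_, ?_⟩
    · intro u v
      show ff (((P⁻¹ * g * P : GL ι F) : Matrix ι ι F) *ᵥ u)
        (((P⁻¹ * g * P : GL ι F) : Matrix ι ι F) *ᵥ v) = ff u v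
      rw [Units.val_mul, Units.val_mul, ← mulVec_mulVec, ← mulVec_mulVec, ← mulVec_mulVec,
        ← mulVec_mulVec, hinv]
      have h2 : ff ((g : Matrix ι ι F) *ᵥ ((P : Matrix ι ι F) *ᵥ u))
          ((g : Matrix ι ι F) *ᵥ ((P : Matrix ι ι F) *ᵥ v)) =
          ff ((P : Matrix ι ι F) *ᵥ u) ((P : Matrix ι ι F) *ᵥ v) := hg _ _
      rw [h2, h]
    · show P * (P⁻¹ * g * P) * P⁻¹ = g
      group

/-- **FO-P** (symplectic case): reduction to `P = 1` -/
theorem isMaximalIn_of_one [Finite F] (K : Subfield F) (P : GL (Fin m ⊕ Fin m) F) (ζ : F)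
    (hζ : ζ ≠ 0) (hP : Cfsg.Geo.IsFormRationalStructure (Cfsg.sympForm m F) K ζ P)
    (h : Cfsg.Geo.IsMaximalIn (Cfsg.spGL m F) (H1 K m)) :
    Cfsg.Geo.IsMaximalIn (Cfsg.spGL m F)
      (Cfsg.Geo.subfieldSubgroup K P ⊓ Cfsg.spGL m F) := by
  classical
  -- the rational form
  have hmem : ∀ u v : ι → K, ζ * ff ((P : Matrix ι ι F) *ᵥ rv K u) ((P : Matrix ι ι F) *ᵥ rv K v) ∈ K :=
    fun u v => hP (rv K u) (rv K v) (fun i => (u i).2) (fun i => (v i).2)
  let β₀ : (ι → K) →ₗ[K] (ι → K) →ₗ[K] K :=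
    LinearMap.mk₂ K (fun u v => ⟨ζ * ff ((P : Matrix ι ι F) *ᵥ rv K u) ((P : Matrix ι ι F) *ᵥ rv K v),
        hmem u v⟩)
      (fun u u' v => by
        apply Subtype.ext
        simp only [rv_add, mulVec_add, sympForm_add_left, Subfield.coe_add]
        ring)
      (fun c u v => by
        apply Subtype.ext
        simp only [rv_smul, mulVec_smul, sympForm_smul_left, smul_eq_mul, Subfield.coe_mul]
        ring)
      (fun u v v' => by
        apply Subtype.ext
        simp only [rv_add, mulVec_add, sympForm_add_right, Subfield.coe_add]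
        ring)
      (fun c u v => by
        apply Subtype.ext
        simp only [rv_smul, mulVec_smul, sympForm_smul_right, smul_eq_mul, Subfield.coe_mul]
        ring)
  have hβ : ∀ u v : ι → K, ((β₀ u v : K) : F) =
      ζ * ff ((P : Matrix ι ι F) *ᵥ rv K u) ((P : Matrix ι ι F) *ᵥ rv K v) := fun u v => rfl
  have halt : ∀ x, β₀ x x = 0 := by
    intro x
    apply Subtype.ext
    rw [hβ, sympForm_self, mul_zero]
    rfl
  have hnd : ∀ x, (∀ y, β₀ x y = 0) → x = 0 := by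
    intro x hx
    by_contra hx0
    have h1 : (P : Matrix ι ι F) *ᵥ rv K x ≠ 0 := by
      intro h0
      have := congrArg (fun w => ((P⁻¹ : GL ι F) : Matrix ι ι F) *ᵥ w) h0
      simp only [inv_mulVec_mulVec, mulVec_zero] at this
      exact rv_ne_zero K hx0 this
    obtain ⟨z, hz⟩ := Cfsg.Agent.Lib.Helper2.exists_sympForm_ne_zero h1
    apply hz
    rw [sympForm_swap, neg_eq_zero]
    -- all values on rational vectors vanish, hence all values
    have hrat : ∀ j : ι, ff ((P : Matrix ι ι F) *ᵥ rv K x)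
        ((P : Matrix ι ι F) *ᵥ Pi.single j 1) = 0 := by
      intro j
      have := hx (Pi.single j 1)
      have h2 := congrArg (fun k : K => (k : F)) this
      simp only [hβ, ZeroMemClass.coe_zero] at h2
      rw [rv_single] at h2
      rcases mul_eq_zero.mp h2 with h3 | h3
      · exact absurd h3 hζ
      · simpa using h3
    have hz' : z = (P : Matrix ι ι F) *ᵥ (((P⁻¹ : GL ι F) : Matrix ι ι F) *ᵥ z) := by
      rw [mulVec_inv_mulVec]
    rw [hz', sympForm_mulVec_mulVec]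
    have hrow : ∀ j : ι, (rv K x) ⬝ᵥ (((P : Matrix ι ι F)ᵀ * Matrix.J (Fin m) F *
        (P : Matrix ι ι F)) *ᵥ Pi.single j 1) = 0 := by
      intro j
      rw [← sympForm_mulVec_mulVec]
      exact hrat j
    have hvm : (rv K x) ᵥ* ((P : Matrix ι ι F)ᵀ * Matrix.J (Fin m) F * (P : Matrix ι ι F)) = 0 := by
      funext j
      have := hrow j
      rw [dotProduct_mulVec] at this
      simpa using this
    rw [dotProduct_mulVec, hvm, zero_dotProduct]
  have hfr : Module.finrank K (ι → K) = 2 * m := by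
    rw [Module.finrank_fintype_fun_eq_card, Fintype.card_sum, Fintype.card_fin]
    ring
  obtain ⟨Ψ, hΨ⟩ := Cfsg.Agent.Lib.Helper16.exists_symp_equiv β₀ halt hnd m hfr
  -- the rational matrix of Ψ
  let Q : GL ι K := ⟨LinearMap.toMatrix' Ψ.toLinearMap, LinearMap.toMatrix' Ψ.symm.toLinearMap,
    by rw [← LinearMap.toMatrix'_comp]; simp,
    by rw [← LinearMap.toMatrix'_comp]; simp⟩
  have hQ : ∀ x : ι → K, (Q : Matrix ι ι K) *ᵥ x = Ψ x := by
    intro x
    show LinearMap.toMatrix' Ψ.toLinearMap *ᵥ x = Ψ x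
    rw [LinearMap.toMatrix'_mulVec]
    rfl
  let P' : GL ι F := P * Matrix.GeneralLinearGroup.map (K.subtype : K →+* F) Q
  have hP'rv : ∀ x : ι → K, (P' : Matrix ι ι F) *ᵥ rv K x =
      (P : Matrix ι ι F) *ᵥ rv K (Ψ x) := by
    intro x
    show ((P * Matrix.GeneralLinearGroup.map (K.subtype : K →+* F) Q : GL ι F) :
      Matrix ι ι F) *ᵥ rv K x = _
    rw [Units.val_mul, ← mulVec_mulVec]
    have : ((Matrix.GeneralLinearGroup.map (K.subtype : K →+* F) Q : GL ι F) : Matrix ι ι F) =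
        (Q : Matrix ι ι K).map K.subtype := rfl
    rw [this, map_mulVec_rv, hQ]
  have hsim : ∀ u v : ι → F, ζ * ff ((P' : Matrix ι ι F) *ᵥ u) ((P' : Matrix ι ι F) *ᵥ v) =
      ff u v := by
    apply similitude_of_single
    intro i j
    have e1 : (Pi.single i (1 : F) : ι → F) = rv K (Pi.single i 1) := by
      rw [rv_single]; rfl
    have e2 : (Pi.single j (1 : F) : ι → F) = rv K (Pi.single j 1) := by
      rw [rv_single]; rfl
    rw [e1, e2, hP'rv, hP'rv, ← hβ, hΨ, sympForm_rv]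
  have h1 := Cfsg.Agent.Lib.Helper24.S5639FOP.isMaximalIn_map (MulAut.conj P') _ _ h
  rw [spGL_map_conj P' ζ hζ hsim] at h1
  have h2 : (H1 K m).map (MulAut.conj P').toMonoidHom =
      Cfsg.Geo.subfieldSubgroup K P ⊓ Cfsg.spGL m F := by
    unfold H1
    rw [Subgroup.map_inf _ _ _ (MulAut.conj P').injective, spGL_map_conj P' ζ hζ hsim,
      ← subfieldSubgroup_eq_map', subfieldSubgroup_mul_rat]
  rw [h2] at h1
  exact h1

end Cfsg.Agent.Lib.Helper24.S5650FOP
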