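import Mathlib
import Cfsg.Agent.Lib.Helper9.USubDefs
import Cfsg.Agent.Lib.Helper24.S5639FOP
import Cfsg.Agent.Lib.Helper24.S5650FOP

/-!
# S5658 farm-out piece FO-P (helper24): reduction to `P = 1` (unitary case)
-/

set_option autoImplicit false

namespace Cfsg.Agent.Lib.Helper24.S5658FOP

open Matrix Cfsg.Agent.Lib.Helper6 Cfsg.Agent.S0779 Cfsg.Agent.Lib.Helper13
open Cfsg.Agent.Lib.Helper9.USub

variable {F : Type*} [Field F] [Fintype F] {q q₀ n : ℕ}

local notation "hh" => Cfsg.hermForm n F q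

/-- conjugation by a member maps a subgroup onto itself -/
theorem map_conj_of_mem {G : Type*} [Group G] (H : Subgroup G) {g : G} (hg : g ∈ H) :
    H.map (MulAut.conj g).toMonoidHom = H := by
  ext x
  constructor
  · rintro ⟨y, hy, rfl⟩
    show g * y * g⁻¹ ∈ H
    exact H.mul_mem (H.mul_mem hg hy) (H.inv_mem hg)
  · intro hx
    refine ⟨g⁻¹ * x * g, H.mul_mem (H.mul_mem (H.inv_mem hg) hx) hg, ?_⟩
    show g * (g⁻¹ * x * g) * g⁻¹ = x
    group

/-- the sesquilinear map `(x, y) ↦ h(A y, A x)` -/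
noncomputable def hermBA (hF : Fintype.card F = q ^ 2) (A : Matrix (Fin n) (Fin n) F) :
    (Fin n → F) →ₛₗ[conjQ hF] (Fin n → F) →ₗ[F] F :=
  LinearMap.mk₂'ₛₗ (conjQ hF) (RingHom.id F) (fun x y => hh (A *ᵥ y) (A *ᵥ x))
    (fun x y z => by rw [mulVec_add, herm_add_right hF])
    (fun c x y => by rw [mulVec_smul, herm_smul_right]; rfl)
    (fun x y z => by rw [mulVec_add, herm_add_left])
    (fun c x y => by rw [mulVec_smul, herm_smul_left]; rfl)

theorem hermBA_apply (hF : Fintype.card F = q ^ 2) (A : Matrix (Fin n) (Fin n) F)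
    (x y : Fin n → F) : hermBA hF A x y = hh (A *ᵥ y) (A *ᵥ x) := rfl

/-- an isometry relation checked on the standard basis holds everywhere -/
theorem isometry_of_single (hF : Fintype.card F = q ^ 2) (A : Matrix (Fin n) (Fin n) F)
    (h : ∀ i j : Fin n, hh (A *ᵥ Pi.single i 1) (A *ᵥ Pi.single j 1) =
      hh (Pi.single i 1) (Pi.single j 1)) (u v : Fin n → F) :
    hh (A *ᵥ u) (A *ᵥ v) = hh u v := by
  have e : hermBA hF A = hermB n hF := by
    apply LinearMap.ext_basis (Pi.basisFun F (Fin n)) (Pi.basisFun F (Fin n))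
    intro i j
    rw [Pi.basisFun_apply, Pi.basisFun_apply, hermBA_apply, hermB_apply]
    exact h j i
  have := congrArg (fun B : (Fin n → F) →ₛₗ[conjQ hF] (Fin n → F) →ₗ[F] F => B v u) e
  simpa [hermBA_apply, hermB_apply] using this

/-- **FO-P** (unitary case): reduction to `P = 1` -/
theorem isMaximalIn_of_one {K : Subfield F} [Fintype K] (D : SubD q q₀ K)
    (P : GL (Fin n) F) (hP : Cfsg.Geo.IsFormRationalStructure (Cfsg.hermForm n F q) K 1 P)
    (h : Cfsg.Geo.IsMaximalIn (Cfsg.GU n F q ⊓ Cfsg.Geo.specialLinear (Fin n) F)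
      (Cfsg.Geo.subfieldSubgroup K (1 : GL (Fin n) F) ⊓
        (Cfsg.GU n F q ⊓ Cfsg.Geo.specialLinear (Fin n) F))) :
    Cfsg.Geo.IsMaximalIn (Cfsg.GU n F q ⊓ Cfsg.Geo.specialLinear (Fin n) F)
      (Cfsg.Geo.subfieldSubgroup K P ⊓
        (Cfsg.GU n F q ⊓ Cfsg.Geo.specialLinear (Fin n) F)) := by
  classical
  have hF := D.hF
  have hmem : ∀ u v : Fin n → K,
      hh ((P : Matrix (Fin n) (Fin n) F) *ᵥ rvec K u) ((P : Matrix (Fin n) (Fin n) F) *ᵥ rvec K v) ∈ K := by
    intro u v
    have := hP (rvec K u) (rvec K v) (fun i => (u i).2) (fun i => (v i).2)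
    rwa [one_mul] at this
  -- the rational sesquilinear form `B x y = h(P y, P x)`
  let B : (Fin n → K) →ₛₗ[conjQ D.hK] (Fin n → K) →ₗ[K] K :=
    LinearMap.mk₂'ₛₗ (conjQ D.hK) (RingHom.id K)
      (fun x y => ⟨hh ((P : Matrix (Fin n) (Fin n) F) *ᵥ rvec K y)
        ((P : Matrix (Fin n) (Fin n) F) *ᵥ rvec K x), hmem y x⟩)
      (fun x y z => by
        apply Subtype.ext
        simp only [rvec_add, mulVec_add, herm_add_right hF, Subfield.coe_add])
      (fun c x y => by
        apply Subtype.ext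
        simp only [rvec_smul, mulVec_smul, herm_smul_right, smul_eq_mul, Subfield.coe_mul,
          conjQ_apply, SubmonoidClass.coe_pow, D.fr])
      (fun x y z => by
        apply Subtype.ext
        simp only [rvec_add, mulVec_add, herm_add_left, Subfield.coe_add])
      (fun c x y => by
        apply Subtype.ext
        simp only [rvec_smul, mulVec_smul, herm_smul_left, smul_eq_mul, Subfield.coe_mul,
          RingHom.id_apply])
  have hB : ∀ x y : Fin n → K, ((B x y : K) : F) =
      hh ((P : Matrix (Fin n) (Fin n) F) *ᵥ rvec K y)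
        ((P : Matrix (Fin n) (Fin n) F) *ᵥ rvec K x) := fun x y => rfl
  have hS : B.IsSymm := by
    refine ⟨fun x y => ?_⟩
    apply Subtype.ext
    show ((conjQ D.hK (B x y) : K) : F) = ((B y x : K) : F)
    rw [conjQ_apply, SubmonoidClass.coe_pow, ← D.fr, hB, hB, herm_conj hF]
  have hN : ∀ u, (∀ v, B u v = 0) → u = 0 := by
    intro u hu
    have h0 : ∀ j : Fin n, hh ((P : Matrix (Fin n) (Fin n) F) *ᵥ Pi.single j 1)
        ((P : Matrix (Fin n) (Fin n) F) *ᵥ rvec K u) = 0 := by
      intro j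
      have := congrArg (fun k : K => (k : F)) (hu (Pi.single j 1))
      simp only [hB, ZeroMemClass.coe_zero] at this
      rwa [rvec_single] at this
    -- the linear functional `z ↦ h(P z, P u)` vanishes on the basis
    have hL : (hermB n hF ((P : Matrix (Fin n) (Fin n) F) *ᵥ rvec K u)) ∘ₗ
        (Matrix.toLin' (P : Matrix (Fin n) (Fin n) F)) = 0 := by
      apply (Pi.basisFun F (Fin n)).ext
      intro j
      rw [Pi.basisFun_apply, LinearMap.comp_apply, Matrix.toLin'_apply, hermB_apply,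
        LinearMap.zero_apply]
      exact h0 j
    have hz : ∀ z : Fin n → F, hh z ((P : Matrix (Fin n) (Fin n) F) *ᵥ rvec K u) = 0 := by
      intro z
      have := congrArg (fun L : (Fin n → F) →ₗ[F] F =>
        L (((P⁻¹ : GL (Fin n) F) : Matrix (Fin n) (Fin n) F) *ᵥ z)) hL
      simp only [LinearMap.comp_apply, Matrix.toLin'_apply, hermB_apply, LinearMap.zero_apply,
        mulVec_mulVec] at this
      rwa [← Units.val_mul, mul_inv_cancel, Units.val_one, one_mulVec] at this
    have hw : (P : Matrix (Fin n) (Fin n) F) *ᵥ rvec K u = 0 :=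
      herm_nondeg hF _ (fun y => herm_swap_zero hF (hz y))
    have hru : rvec K u = 0 := by
      have := congrArg (fun w => ((P⁻¹ : GL (Fin n) F) : Matrix (Fin n) (Fin n) F) *ᵥ w) hw
      simp only [mulVec_mulVec, mulVec_zero] at this
      rwa [← Units.val_mul, inv_mul_cancel, Units.val_one, one_mulVec] at this
    apply rvec_inj K
    rw [hru, rvec_zero]
  have hfr : Module.finrank K (Fin n → K) = n := by
    rw [Module.finrank_fintype_fun_eq_card, Fintype.card_fin]
  obtain ⟨φ, hφ⟩ := exists_std_herm D.hK B hS hN n hfr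
  -- the rational matrix of φ⁻¹
  let A : GL (Fin n) K := ⟨LinearMap.toMatrix' φ.symm.toLinearMap, LinearMap.toMatrix' φ.toLinearMap,
    by rw [← LinearMap.toMatrix'_comp]; simp,
    by rw [← LinearMap.toMatrix'_comp]; simp⟩
  have hA : ∀ x : Fin n → K, (A : Matrix (Fin n) (Fin n) K) *ᵥ x = φ.symm x := by
    intro x
    show LinearMap.toMatrix' φ.symm.toLinearMap *ᵥ x = φ.symm x
    rw [LinearMap.toMatrix'_mulVec]
    rfl
  let P' : GL (Fin n) F := P * Matrix.GeneralLinearGroup.map (K.subtype : K →+* F) A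
  have hP'rv : ∀ x : Fin n → K, (P' : Matrix (Fin n) (Fin n) F) *ᵥ rvec K x =
      (P : Matrix (Fin n) (Fin n) F) *ᵥ rvec K (φ.symm x) := by
    intro x
    show ((P * Matrix.GeneralLinearGroup.map (K.subtype : K →+* F) A : GL (Fin n) F) :
      Matrix (Fin n) (Fin n) F) *ᵥ rvec K x = _
    rw [Units.val_mul, ← mulVec_mulVec]
    have : ((Matrix.GeneralLinearGroup.map (K.subtype : K →+* F) A : GL (Fin n) F) :
        Matrix (Fin n) (Fin n) F) = rmat K (A : Matrix (Fin n) (Fin n) K) := rfl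
    rw [this, rmat_mulVec, hA]
  have hiso : ∀ u v : Fin n → F, hh ((P' : Matrix (Fin n) (Fin n) F) *ᵥ u)
      ((P' : Matrix (Fin n) (Fin n) F) *ᵥ v) = hh u v := by
    apply isometry_of_single hF
    intro i j
    rw [← rvec_single K i, ← rvec_single K j, hP'rv, hP'rv, ← hB, ← hφ,
      LinearEquiv.apply_symm_apply, LinearEquiv.apply_symm_apply, herm_rvec D]
  have hGU : P' ∈ Cfsg.GU n F q := fun u v => hiso u v
  have hmapS : (Cfsg.GU n F q ⊓ Cfsg.Geo.specialLinear (Fin n) F).map
      (MulAut.conj P').toMonoidHom = Cfsg.GU n F q ⊓ Cfsg.Geo.specialLinear (Fin n) F := by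
    rw [Subgroup.map_inf _ _ _ (MulAut.conj P').injective, map_conj_of_mem _ hGU,
      Cfsg.Agent.Lib.Helper24.S5639FOP.specialLinear_map]
  have h1 := Cfsg.Agent.Lib.Helper24.S5639FOP.isMaximalIn_map (MulAut.conj P') _ _ h
  rw [hmapS] at h1
  have h2 : (Cfsg.Geo.subfieldSubgroup K (1 : GL (Fin n) F) ⊓
      (Cfsg.GU n F q ⊓ Cfsg.Geo.specialLinear (Fin n) F)).map (MulAut.conj P').toMonoidHom =
      Cfsg.Geo.subfieldSubgroup K P ⊓
        (Cfsg.GU n F q ⊓ Cfsg.Geo.specialLinear (Fin n) F) := by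
    rw [Subgroup.map_inf _ _ _ (MulAut.conj P').injective, hmapS,
      ← Cfsg.Agent.Lib.Helper24.S5639FOP.subfieldSubgroup_eq_map,
      Cfsg.Agent.Lib.Helper24.S5650FOP.subfieldSubgroup_mul_rat]
  rw [h2] at h1
  exact h1

end Cfsg.Agent.Lib.Helper24.S5658FOP
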