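import Mathlib
import Cfsg.Agent.Lib.Helper28.TensUDefs

/-!
# S5670 piece FO-STRICT (helper24): the Kronecker subgroup does not contain `SU_{ab}`

Witness: the permutation matrix of the 3-cycle `(0,0) → (0,1) → (1,0) → (0,0)` of the index set
`Fin a × Fin b`.  It is unitary for the standard hermitian form, has determinant `1`, and maps the
pure tensor `(e₀ + e₁) ⊗ e₁` to a vector that is not a pure tensor.
-/

set_option autoImplicit false

namespace Cfsg.Agent.Lib.Helper24.S5670STRICT

open Matrix Module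
open Cfsg.Agent.Lib.Helper16.Tens Cfsg.Agent.Lib.Helper10.TensFund Cfsg.Agent.Lib.Helper28.TensU
open scoped Kronecker

variable {F : Type*} [Field F] {a b : ℕ} {q : ℕ}

/-- a pure tensor has vanishing `2 × 2` minors -/
theorem pur_minor (u : Fin a → F) (w : Fin b → F) (i i' : Fin a) (j j' : Fin b) :
    pur u w (i, j) * pur u w (i', j') = pur u w (i, j') * pur u w (i', j) := by
  simp only [pur_apply]
  ring

/-- the GL element of a permutation of the index set of sign one -/
noncomputable def permGL {κ : Type*} [Fintype κ] [DecidableEq κ] (σ : Equiv.Perm κ)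
    (hσ : Equiv.Perm.sign σ = 1) : GL κ F :=
  Matrix.GeneralLinearGroup.mkOfDetNeZero (σ.permMatrix F) (by
    rw [Matrix.det_permutation, hσ]
    simp)

theorem permGL_val {κ : Type*} [Fintype κ] [DecidableEq κ] (σ : Equiv.Perm κ)
    (hσ : Equiv.Perm.sign σ = 1) :
    ((permGL (F := F) σ hσ : GL κ F) : Matrix κ κ F) = σ.permMatrix F := rfl

theorem permGL_mem_UG {κ : Type} [Fintype κ] [DecidableEq κ] (σ : Equiv.Perm κ)
    (hσ : Equiv.Perm.sign σ = 1) : permGL (F := F) σ hσ ∈ UG κ F q := by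
  rw [mem_UG_iff]
  intro x y
  rw [permGL_val, Matrix.permMatrix_mulVec, Matrix.permMatrix_mulVec]
  unfold hs
  exact Equiv.sum_comp σ (fun i => x i * y i ^ q)

theorem kron_inf_lt [Fintype F] (hF : Fintype.card F = q ^ 2) (ha : 2 ≤ a) (hb : 2 ≤ b) :
    Cfsg.Geo.kroneckerSubgroup a b F ⊓
        (UG (Fin a × Fin b) F q ⊓ Cfsg.Geo.specialLinear (Fin a × Fin b) F) <
      UG (Fin a × Fin b) F q ⊓ Cfsg.Geo.specialLinear (Fin a × Fin b) F := by
  classical
  let i0 : Fin a := ⟨0, by omega⟩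
  let i1 : Fin a := ⟨1, by omega⟩
  let j0 : Fin b := ⟨0, by omega⟩
  let j1 : Fin b := ⟨1, by omega⟩
  have hi : i0 ≠ i1 := by
    intro h
    have := congrArg Fin.val h
    simp [i0, i1] at this
  have hj : j0 ≠ j1 := by
    intro h
    have := congrArg Fin.val h
    simp [j0, j1] at this
  have h1 : ((i0, j0) : Fin a × Fin b) ≠ (i0, j1) := by
    intro h
    exact hj (Prod.mk.inj h).2
  have h2 : ((i0, j1) : Fin a × Fin b) ≠ (i1, j0) := by
    intro h
    exact hi (Prod.mk.inj h).1
  let σ : Equiv.Perm (Fin a × Fin b) := Equiv.swap (i0, j0) (i0, j1) * Equiv.swap (i0, j1) (i1, j0)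
  have hσ : Equiv.Perm.sign σ = 1 := by
    rw [Equiv.Perm.sign_mul, Equiv.Perm.sign_swap h1, Equiv.Perm.sign_swap h2]
    rfl
  have hSL : permGL (F := F) σ hσ ∈ Cfsg.Geo.specialLinear (Fin a × Fin b) F := by
    rw [mem_SL_iff, permGL_val, Matrix.det_permutation, hσ]
    simp
  refine SetLike.lt_iff_le_and_exists.2 ⟨inf_le_right, permGL σ hσ,
    Subgroup.mem_inf.2 ⟨permGL_mem_UG σ hσ, hSL⟩, ?_⟩
  · intro hmem
    have hK := (Subgroup.mem_inf.1 hmem).1
    rw [mem_kron_iff] at hK
    obtain ⟨A, B, hAB⟩ := hK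
    let u : Fin a → F := Pi.single i0 1 + Pi.single i1 1
    let w : Fin b → F := Pi.single j1 1
    have h3 := kron_mulVec_pur (A : Matrix (Fin a) (Fin a) F) (B : Matrix (Fin b) (Fin b) F) u w
    rw [← hAB, permGL_val, Matrix.permMatrix_mulVec] at h3
    have h4 := pur_minor ((A : Matrix (Fin a) (Fin a) F) *ᵥ u) ((B : Matrix (Fin b) (Fin b) F) *ᵥ w)
      i0 i1 j0 j1
    rw [← h3] at h4
    have e00 : σ (i0, j0) = (i0, j1) := by
      simp only [σ, Equiv.Perm.mul_apply]
      rw [Equiv.swap_apply_of_ne_of_ne h1 (fun h => hi (Prod.mk.inj h).1), Equiv.swap_apply_left]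
    have e01 : σ (i0, j1) = (i1, j0) := by
      simp only [σ, Equiv.Perm.mul_apply]
      rw [Equiv.swap_apply_left,
        Equiv.swap_apply_of_ne_of_ne (fun h => hi (Prod.mk.inj h).1.symm) (Ne.symm h2)]
    have e10 : σ (i1, j0) = (i0, j0) := by
      simp only [σ, Equiv.Perm.mul_apply]
      rw [Equiv.swap_apply_right, Equiv.swap_apply_right]
    have e11 : σ (i1, j1) = (i1, j1) := by
      simp only [σ, Equiv.Perm.mul_apply]
      rw [Equiv.swap_apply_of_ne_of_ne (fun h => hi (Prod.mk.inj h).1.symm)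
          (fun h => hj (Prod.mk.inj h).2.symm),
        Equiv.swap_apply_of_ne_of_ne (fun h => hi (Prod.mk.inj h).1.symm)
          (fun h => hi (Prod.mk.inj h).1.symm)]
    simp only [Function.comp_apply, e00, e01, e10, e11, pur_apply, u, w, Pi.add_apply,
      Pi.single_eq_same, Pi.single_eq_of_ne hi, Pi.single_eq_of_ne (Ne.symm hi),
      Pi.single_eq_of_ne hj, Pi.single_eq_of_ne (Ne.symm hj)] at h4
    simp at h4

end Cfsg.Agent.Lib.Helper24.S5670STRICT
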