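import Mathlib
import Cfsg.Agent.Lib.Helper9.OExtDefs
import Cfsg.Agent.Lib.Helper7.SpExtBas
import Cfsg.Agent.Lib.Helper12.S5664FOBR3
import Cfsg.Agent.Lib.Helper26.S5701FOBAS
import Cfsg.Agent.Lib.Helper26.S5701FOGEOa
import Cfsg.Agent.Lib.Helper26.S5701FOGEOb
import Cfsg.Agent.Lib.Helper6.SiegelOmega
import Cfsg.Agent.Lib.Helper13.OrthMax

/-!
# S5701 FO-BR4 (helper24): some element of `Ω(Q)` does not normalise the embedded field

`t := sieg Q v₁ u` with `v₁` an `L`-singular vector, `v₂` a partner, `0 ≠ u ⟂_L v₁, v₂`.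
-/

set_option autoImplicit false

namespace Cfsg.Agent.Lib.Helper24.S5701BR4

open Matrix Module QuadraticMap Cfsg.Agent.Lib.Helper7.SpExt Cfsg.Agent.Lib.Helper9.OExt
  Cfsg.Agent.Lib.Helper6 Cfsg.Agent.Lib.Helper13

variable {F : Type*} [Field F] {L : Type*} [Field L] [Algebra F L] {ι : Type} [Fintype ι]
  [DecidableEq ι] {ρ : L →ₐ[F] Matrix ι ι F} {Q : QuadraticForm F (ι → F)} {τ : L →ₗ[F] F}
  {B : (ι → F) →ₗ[F] (ι → F) →ₗ[F] L} {r : ℕ}

/-- the polar form of an `OStr` is nondegenerate in Mathlib's sense -/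
theorem polarBilin_nondegenerate (S : OStr ρ Q τ B) : (polarBilin Q).Nondegenerate := by
  constructor
  · intro x hx
    by_contra hx0
    obtain ⟨w, hw⟩ := S.nondeg x hx0
    exact hw (hx w)
  · intro y hy
    by_contra hy0
    obtain ⟨w, hw⟩ := S.nondeg y hy0
    apply hw
    have := hy w
    rw [polarBilin_apply_apply, polar_comm] at this
    exact this

/-- the kernel of a pair of functionals has codimension at most two -/
theorem finrank_ker_prod_ge (φ₁ φ₂ : (ι → F) →ₗ[F] F) :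
    Fintype.card ι ≤ finrank F ↥(LinearMap.ker (φ₁.prod φ₂)) + 2 := by
  have h2 := LinearMap.finrank_range_add_finrank_ker (φ₁.prod φ₂)
  have h3 : finrank F (LinearMap.range (φ₁.prod φ₂)) ≤ 2 := by
    have := Submodule.finrank_le (LinearMap.range (φ₁.prod φ₂))
    rwa [finrank_prod, finrank_self] at this
  rw [finrank_pi] at h2
  omega

/-- the non-normalising part: an `F`-Siegel element `x ↦ x + φ₁ x • v₁ + φ₂ x • u` with
`φ₁ = polar u · - Q u polar v₁ ·`, `φ₂ = - polar v₁ ·` does not normalise `ρ L`. -/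
theorem sieg_not_normalizes (S : OStr ρ Q τ B) (hrk : finrank F L = r) (hr : 2 ≤ r)
    (hn : 5 ≤ Fintype.card ι) {v₁ v₂ u : ι → F} (hv₁ : v₁ ≠ 0) (h12 : B v₁ v₂ = 1)
    (hu0 : u ≠ 0) (hu1 : B u v₁ = 0) (hu2 : B u v₂ = 0) (g : GL ι F)
    (hg : ∀ x, act g x = sieg Q v₁ u *ᵥ x) : ¬ Normalizes ρ g := by
  intro hN
  obtain ⟨a, ha⟩ := Cfsg.Agent.Lib.Helper12.S5664FOBR3.exists_not_algebraMap (F := F) (L := L) hrk hr
  obtain ⟨b, hb⟩ := hN a
  -- the two functionals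
  let φ₁ : (ι → F) →ₗ[F] F := (polarBilin Q u) - Q u • (polarBilin Q v₁)
  let φ₂ : (ι → F) →ₗ[F] F := - (polarBilin Q v₁)
  have hφ₁ : ∀ x, φ₁ x = polar (⇑Q) u x - Q u * polar (⇑Q) v₁ x := fun x => rfl
  have hφ₂ : ∀ x, φ₂ x = - polar (⇑Q) v₁ x := fun x => rfl
  have hgx : ∀ x, act g x = x + φ₁ x • v₁ + φ₂ x • u := by
    intro x
    rw [hg, sieg_mulVec, hφ₁, hφ₂]
  -- action of the two sides
  have hact : ∀ x : ι → F, act g (ρ a *ᵥ x) = ρ b *ᵥ act g x := by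
    intro x
    have h1 : ((g : Matrix ι ι F) * ρ a) *ᵥ x = (ρ b * (g : Matrix ι ι F)) *ᵥ x := by
      rw [hb]
    rw [← Matrix.mulVec_mulVec, ← Matrix.mulVec_mulVec] at h1
    exact h1
  -- `b = a`
  have hba : b = a := by
    by_contra hne
    have hc' : b - a ≠ 0 := sub_ne_zero.mpr hne
    let C : Submodule F (ι → F) := LinearMap.ker (φ₁.prod φ₂)
    classical
    let E : Submodule F (ι → F) := Submodule.span F (({v₁, u} : Finset (ι → F)) : Set (ι → F))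
    let ψ : (ι → F) →ₗ[F] (ι → F) := Matrix.mulVecLin (ρ (b - a))
    have hψinj : Function.Injective ψ := by
      rw [← LinearMap.ker_eq_bot, LinearMap.ker_eq_bot']
      intro x hx
      exact Cfsg.Agent.Lib.Helper12.S5664FOBR3.rho_injective hc' hx
    have hmap : C.map ψ ≤ E := by
      rintro _ ⟨x, hx, rfl⟩
      have hx' : φ₁ x = 0 ∧ φ₂ x = 0 := by
        have h0 : (φ₁.prod φ₂) x = 0 := hx
        exact ⟨congrArg Prod.fst h0, congrArg Prod.snd h0⟩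
      have h1 := hact x
      rw [hgx x, hx'.1, hx'.2, zero_smul, zero_smul, add_zero, add_zero, hgx] at h1
      have h2 : ψ x = φ₁ (ρ a *ᵥ x) • v₁ + φ₂ (ρ a *ᵥ x) • u := by
        show ρ (b - a) *ᵥ x = _
        rw [map_sub, Matrix.sub_mulVec, ← h1]
        abel
      rw [h2]
      apply Submodule.add_mem
      · exact Submodule.smul_mem _ _ (Submodule.subset_span (by simp))
      · exact Submodule.smul_mem _ _ (Submodule.subset_span (by simp))
    have h3 : finrank F ↥(C.map ψ) = finrank F ↥C :=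
      (LinearEquiv.finrank_eq (Submodule.equivMapOfInjective ψ hψinj C)).symm
    have h4 : finrank F ↥E ≤ 2 := by
      have := finrank_span_finset_le_card (R := F) ({v₁, u} : Finset (ι → F))
      have hc : ({v₁, u} : Finset (ι → F)).card ≤ 2 := Finset.card_le_two
      exact le_trans this hc
    have h5 := Submodule.finrank_mono hmap
    have h6 := finrank_ker_prod_ge φ₁ φ₂
    have h7 : finrank F ↥C = finrank F ↥(LinearMap.ker (φ₁.prod φ₂)) := rfl
    omega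
  -- now `g` commutes with `ρ a`
  rw [hba] at hact
  have hτ : τ ≠ 0 := Cfsg.Agent.Lib.Helper26.S5701BAS.tau_ne S hv₁
  obtain ⟨d₀, hd₀⟩ : ∃ d₀, τ d₀ ≠ 0 := by
    by_contra hcon
    push Not at hcon
    exact hτ (LinearMap.ext hcon)
  let d : L := (τ d₀)⁻¹ • d₀
  have hd : τ d = 1 := by
    show τ ((τ d₀)⁻¹ • d₀) = 1
    rw [map_smul, smul_eq_mul, inv_mul_cancel₀ hd₀]
  let x : ι → F := ρ d *ᵥ v₂
  have hpu : polar (⇑Q) u x = 0 := by
    rw [Cfsg.Agent.Lib.Helper26.S5701BAS.polar_rho_right S, hu2, mul_zero, map_zero]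
  have hpv : polar (⇑Q) v₁ x = 1 := by
    rw [Cfsg.Agent.Lib.Helper26.S5701BAS.polar_rho_right S, h12, mul_one, hd]
  have hgx0 : act g x = x - (Q u • v₁ + u) := by
    rw [hgx, hφ₁, hφ₂, hpu, hpv]
    ext i
    simp only [Pi.add_apply, Pi.sub_apply, Pi.smul_apply, smul_eq_mul]
    ring
  have h1 := hact x
  rw [hgx0, hgx, Matrix.mulVec_sub, Matrix.mulVec_add, Matrix.mulVec_smul] at h1
  -- h1 : ρ a x + α • v₁ + β • u = ρ a x - (Q u • ρ a v₁ + ρ a u)
  set α : F := φ₁ (ρ a *ᵥ x) with hα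
  set β : F := φ₂ (ρ a *ᵥ x) with hβ
  have h2 : α • v₁ + β • u + Q u • (ρ a *ᵥ v₁) + ρ a *ᵥ u = 0 := by
    have : ρ a *ᵥ x + α • v₁ + β • u - (ρ a *ᵥ x - (Q u • (ρ a *ᵥ v₁) + ρ a *ᵥ u)) = 0 :=
      sub_eq_zero.mpr h1
    rw [← this]
    abel
  -- apply `B · v₂`
  have h3 := congrArg (fun z => B z v₂) h2
  simp only [map_add, map_smul, LinearMap.add_apply, LinearMap.smul_apply, S.lin, h12, hu2,
    mul_zero, mul_one, smul_zero, add_zero, map_zero, LinearMap.zero_apply] at h3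
  -- h3 : α • 1 + Q u • a = 0
  have h4 : α • v₁ + Q u • (ρ a *ᵥ v₁) = 0 := by
    have : ρ (α • (1 : L) + Q u • a) *ᵥ v₁ = 0 := by rw [h3, rho_zero_mulVec]
    rw [rho_add_mulVec, rho_smul_mulVec, rho_smul_mulVec, rho_one_mulVec] at this
    exact this
  have h5 : β • u + ρ a *ᵥ u = 0 := by
    have : α • v₁ + β • u + Q u • (ρ a *ᵥ v₁) + ρ a *ᵥ u
        = (α • v₁ + Q u • (ρ a *ᵥ v₁)) + (β • u + ρ a *ᵥ u) := by abel
    rw [this, h4, zero_add] at h2
    exact h2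
  have h6 : ρ (a - algebraMap F L (-β)) *ᵥ u = 0 := by
    rw [rho_sub_mulVec, rho_algebraMap_mulVec, neg_smul, sub_neg_eq_add, add_comm]
    exact h5
  by_cases hz : a - algebraMap F L (-β) = 0
  · exact ha _ (sub_eq_zero.mp hz).symm
  · exact hu0 (Cfsg.Agent.Lib.Helper12.S5664FOBR3.rho_injective hz h6)

variable [Fintype F]

/-- FO-BR4 with the existence of an `L`-singular vector (G1) as a hypothesis -/
theorem exists_omega_not_normalizes_aux (S : OStr ρ Q τ B) (hrk : finrank F L = r) (hr : 2 ≤ r)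
    (hn : 4 * r ≤ Fintype.card ι) (hG1 : ∃ v₁, LSing B v₁) :
    ∃ g ∈ Cfsg.Geo.omegaGL ⇑Q, ¬ Normalizes ρ g := by
  obtain ⟨v₁, hv₁⟩ := hG1
  obtain ⟨v₂, hv₂, h12⟩ := Cfsg.Agent.Lib.Helper26.S5701GEO.exists_partner S hv₁
  have hv₂' : v₂ ∉ pt ρ v₁ := by
    intro hmem
    obtain ⟨c, hc⟩ := (mem_pt ρ v₁ v₂).mp hmem
    have : B v₁ v₂ = 0 := by
      rw [← hc, Cfsg.Agent.Lib.Helper26.S5701BAS.B_lin_right S, hv₁.2, mul_zero]
    rw [h12] at this
    exact one_ne_zero this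
  have hperp := Cfsg.Agent.Lib.Helper26.S5701GEO.finrank_perp2 S hrk (by omega) hv₁.1 hv₂'
  have hpos : 0 < finrank F ↥(LinearMap.ker (B.flip v₁) ⊓ LinearMap.ker (B.flip v₂)) := by omega
  obtain ⟨⟨u, hu⟩, hu0⟩ := Module.finrank_pos_iff_exists_ne_zero.mp hpos
  have hu0' : u ≠ 0 := fun h => hu0 (Subtype.ext h)
  have hu1 : B u v₁ = 0 := hu.1
  have hu2 : B u v₂ = 0 := hu.2
  have hQ : Q v₁ = 0 := by
    rw [Cfsg.Agent.Lib.Helper26.S5701BAS.Q_eq S, hv₁.2, map_zero, mul_zero]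
  have hpol : polar (⇑Q) v₁ u = 0 := by
    rw [S.tr, S.symm, hu1, map_zero]
  have h5 : 5 ≤ Fintype.card ι := by omega
  refine ⟨_, (mem_omegaGL_iff Q _).mpr
    ⟨_, siegIso_mem_Omega Q (polarBilin_nondegenerate S) h5 v₁ u hQ hpol, rfl⟩, ?_⟩
  apply sieg_not_normalizes S hrk hr h5 hv₁.1 h12 hu0' hu1 hu2
  intro x
  rfl

/-- **FO-BR4** (exact skeleton signature) -/
theorem exists_omega_not_normalizes (S : OStr ρ Q τ B) (hr : r.Prime) (hrk : finrank F L = r)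
    (hn : 4 * r ≤ Fintype.card ι) : ∃ g ∈ Cfsg.Geo.omegaGL ⇑Q, ¬ Normalizes ρ g := by
  obtain ⟨s, hs, -⟩ := Cfsg.Agent.Lib.Helper26.S5701GEO.exists_lsing_perp S hrk hr.pos hn 0
  exact exists_omega_not_normalizes_aux S hrk hr.two_le hn ⟨s, hs⟩

end Cfsg.Agent.Lib.Helper24.S5701BR4
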