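import Mathlib
import Cfsg.Agent.Lib.Helper9.OExtDefs
import Cfsg.Agent.Lib.Helper13.OrthParab
import Cfsg.Agent.Lib.Helper15.S5701FOF0

/-!
# S5701 FO-F2, sub-piece (a) (helper24): the commutator of two `F`-Siegel elements

`[ρ_{v,b}, ρ_{w,c}] = ρ_{w, polar(b,c) v}` when `v, w` are singular, `v ⟂ w, b, c` and `w ⟂ b, c`.
-/

set_option autoImplicit false

namespace Cfsg.Agent.Lib.Helper24.S5701F2a

open Matrix Module QuadraticMap Cfsg.Agent.Lib.Helper7.SpExt Cfsg.Agent.Lib.Helper9.OExt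
  Cfsg.Agent.Lib.Helper6 Cfsg.Agent.Lib.Helper13 Cfsg.Agent.Lib.Helper15.S5701F0

variable {F : Type*} [Field F] {ι : Type} [Fintype ι] [DecidableEq ι] {Q : QuadraticForm F (ι → F)}

theorem siegIso_congr2 {u u' w w' : ι → F} (hu : Q u = 0) (huw : polar (⇑Q) u w = 0)
    (hu' : Q u' = 0) (huw' : polar (⇑Q) u' w' = 0) (e1 : u = u') (e2 : w = w') :
    siegIso Q u w hu huw = siegIso Q u' w' hu' huw' := by
  subst e1
  subst e2
  rfl

/-- the commutator of two Siegel isometries -/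
theorem siegIso_comm {v w b c : ι → F} (hv : Q v = 0) (hw : Q w = 0)
    (hvw : polar (⇑Q) v w = 0) (hvb : polar (⇑Q) v b = 0) (hvc : polar (⇑Q) v c = 0)
    (hwb : polar (⇑Q) w b = 0) (hwc : polar (⇑Q) w c = 0)
    (hwv : polar (⇑Q) w (polar (⇑Q) b c • v) = 0) :
    siegIso Q v b hv hvb * siegIso Q w c hw hwc * (siegIso Q v b hv hvb)⁻¹
        * (siegIso Q w c hw hwc)⁻¹
      = siegIso Q w (polar (⇑Q) b c • v) hw hwv := by
  have hbw : polar (⇑Q) b w = 0 := by rw [polar_comm]; exact hwb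
  have e1 : gact Q (siegIso Q v b hv hvb) w = w := by
    rw [gact_siegIso, hbw, hvw]
    simp
  have e2 : gact Q (siegIso Q v b hv hvb) c = c + polar (⇑Q) b c • v := by
    rw [gact_siegIso, hvc]
    simp
  have hw1 : polar (⇑Q) w (c + polar (⇑Q) b c • v) = 0 := by
    rw [polar_add_right, hwc, hwv, add_zero]
  have h1 : siegIso Q v b hv hvb * siegIso Q w c hw hwc * (siegIso Q v b hv hvb)⁻¹
      = siegIso Q w (c + polar (⇑Q) b c • v) hw hw1 := by
    rw [conj_siegIso]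
    exact siegIso_congr2 _ _ _ _ e1 e2
  have hwnc : polar (⇑Q) w (-c) = 0 := by rw [polar_neg_right, hwc, neg_zero]
  rw [h1, siegIso_inv Q w c hw hwc, siegIso_mul Q w _ _ hw hw1 hwnc]
  apply siegIso_congr2 _ _ _ _ rfl
  abel

/-- **FO-F2 (a)**: commutator of the root groups, `SiegIn` form -/
theorem SiegIn.comm {H : Subgroup (GL ι F)} {v w b c : ι → F} (hv : Q v = 0) (hw : Q w = 0)
    (hvw : polar (⇑Q) v w = 0) (hvb : polar (⇑Q) v b = 0) (hvc : polar (⇑Q) v c = 0)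
    (hwb : polar (⇑Q) w b = 0) (hwc : polar (⇑Q) w c = 0)
    (h1 : SiegIn Q H v b) (h2 : SiegIn Q H w c) :
    SiegIn Q H w (polar (⇑Q) b c • v) := by
  have hwv : polar (⇑Q) w (polar (⇑Q) b c • v) = 0 := by
    rw [polar_smul_right, polar_comm (⇑Q) w v, hvw, smul_zero]
  rw [siegIn_iff hw hwv, ← siegIso_comm hv hw hvw hvb hvc hwb hwc hwv]
  rw [siegIn_iff hv hvb] at h1
  rw [siegIn_iff hw hwc] at h2
  have := H.mul_mem (H.mul_mem (H.mul_mem h1 h2) (H.inv_mem h1)) (H.inv_mem h2)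
  exact this

/-- the same, swapped to a Siegel element with first vector `v` -/
theorem SiegIn.comm_swap {H : Subgroup (GL ι F)} {v w b c : ι → F} (hv : Q v = 0) (hw : Q w = 0)
    (hvw : polar (⇑Q) v w = 0) (hvb : polar (⇑Q) v b = 0) (hvc : polar (⇑Q) v c = 0)
    (hwb : polar (⇑Q) w b = 0) (hwc : polar (⇑Q) w c = 0)
    (h1 : SiegIn Q H v b) (h2 : SiegIn Q H w c) :
    SiegIn Q H v ((-polar (⇑Q) b c) • w) := by
  have h := SiegIn.comm hv hw hvw hvb hvc hwb hwc h1 h2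
  intro g hg
  apply h g
  intro x
  rw [hg x]
  congr 1
  -- sieg Q v ((-t) • w) = sieg Q w (t • v)
  apply matrix_ext_mulVec
  intro y
  rw [sieg_mulVec, sieg_mulVec, Q_smul, Q_smul, hv, hw]
  simp only [polar_smul_left, smul_eq_mul, mul_zero, zero_mul, sub_zero, smul_smul]
  ext i
  simp only [Pi.add_apply, Pi.smul_apply, smul_eq_mul]
  ring

end Cfsg.Agent.Lib.Helper24.S5701F2a
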