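import Mathlib
import Cfsg.Prelude.Def_GeometricClasses
import Cfsg.Prelude.Def_LieClassical
import Cfsg.Agent.Lib.Helper6.HeisU1
import Cfsg.Agent.Lib.Helper24.Heis3
import Cfsg.Agent.Lib.Helper24.HeisCard
import Cfsg.Agent.Lib.Helper24.S5784X1d

/-!
# S5778 NF3: the normal form of `3^(1+2)` inside `GU_3(q)`, `q ≡ 2 mod 3` (helper24)

An absolutely irreducible symplectic-type subgroup `R` of order `27` of `GL_3(F)`, `|F| = q²`, `q ≡ 2 mod 3`, contained
in the similarity group of the standard hermitian form, is conjugate under `GU_3(q)` to the standard Heisenberg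
group `{c X^k Z^j : c³ = 1}` written with any chosen primitive cube root of unity `ω`.
The linear normal form and the unitary adjustment are helper6's (`Heis3.struct`, `HeisU.exists_unitary_conj`).
-/

set_option autoImplicit false
set_option linter.unusedSectionVars false

namespace Cfsg.Agent.Lib.Helper24.S5778NF3

open Matrix Cfsg Cfsg.Geo Cfsg.Agent.Lib.Helper24.Heis Cfsg.Agent.Lib.Helper6.Heis3

variable {F : Type*} [Field F]

theorem root_of_cube {ω : F} (hω : ω ^ 3 = 1) (h1 : ω ≠ 1) : ω ^ 2 + ω + 1 = 0 := by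
  have h : (ω - 1) * (ω ^ 2 + ω + 1) = 0 := by linear_combination hω
  rcases mul_eq_zero.mp h with h | h
  · exact absurd (sub_eq_zero.mp h) h1
  · exact h

theorem three_ne_zero_of_root {ω : F} (hω : ω ^ 3 = 1) (h1 : ω ≠ 1) : (3 : F) ≠ 0 := by
  intro h3
  apply h1
  have h : (ω - 1) ^ 3 = 0 := by linear_combination hω + (-(ω ^ 2) + ω) * h3
  exact sub_eq_zero.mp (pow_eq_zero_iff (by norm_num) |>.mp h)

theorem isPrimitiveRoot_of_cube {ω : F} (hω : ω ^ 3 = 1) (h1 : ω ≠ 1) : IsPrimitiveRoot ω 3 := by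
  rw [IsPrimitiveRoot.iff (by norm_num)]
  refine ⟨hω, fun l hl0 hl3 => ?_⟩
  interval_cases l
  · simpa using h1
  · intro h2
    apply h1
    have : ω ^ 3 = ω ^ 2 * ω := by ring
    rw [hω, h2, one_mul] at this
    exact this.symm

/-- the values of `chi3 ω` are cube roots of unity -/
theorem chi3_mem_roots {ω : F} (hω : ω ^ 3 = 1) (j y : Fin 3) :
    ∃ u ∈ rootsOfUnity 3 F, (u : F) = chi3 ω j y := by
  have h0 : ω ≠ 0 := ne_zero_of_pow_three hω
  refine ⟨(Units.mk0 ω h0) ^ ((j * y : Fin 3) : ℕ), ?_, ?_⟩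
  · rw [mem_rootsOfUnity]
    apply Units.ext
    rw [← pow_mul, mul_comm, pow_mul, Units.val_pow_eq_pow_val, Units.val_pow_eq_pow_val, Units.val_mk0, hω, one_pow,
      Units.val_one]
  · rw [Units.val_pow_eq_pow_val, Units.val_mk0]
    rfl

/-- the standard group `3^(1+2) = {c X^k Z^j : c³ = 1}` of order `27` -/
def std27 {ω : F} (hω : ω ^ 3 = 1) : Subgroup (GL (Fin 3) F) :=
  heisGroup (isBichar_chi3 hω) (rootsOfUnity 3 F) (chi3_mem_roots hω)

theorem mem_std27 {ω : F} (hω : ω ^ 3 = 1) (x : GL (Fin 3) F) :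
    x ∈ std27 hω ↔ ∃ (c : F) (j k : Fin 3), c ^ 3 = 1 ∧ (x : Matrix (Fin 3) (Fin 3) F) = hm (chi3 ω) c j k := by
  unfold std27
  rw [mem_heisGroup]
  constructor
  · rintro ⟨c, hc, j, k, h⟩
    refine ⟨(c : F), j, k, ?_, h⟩
    rw [mem_rootsOfUnity] at hc
    rw [← Units.val_pow_eq_pow_val, hc, Units.val_one]
  · rintro ⟨c, j, k, hc, h⟩
    have hc0 : c ≠ 0 := by
      rintro rfl
      norm_num at hc
    refine ⟨Units.mk0 c hc0, ?_, j, k, h⟩
    rw [mem_rootsOfUnity]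
    apply Units.ext
    rw [Units.val_pow_eq_pow_val, Units.val_mk0, hc, Units.val_one]

theorem card_std27 {ω : F} (hω : ω ^ 3 = 1) (h1 : ω ≠ 1) : Nat.card (std27 hω) = 27 := by
  unfold std27
  rw [card_heisGroup (isBichar_chi3 hω) (nondegL_chi3 hω h1), (isPrimitiveRoot_of_cube hω h1).card_rootsOfUnity]
  simp

theorem Zm_eq_hm_one {ω : F} : Zm ω = hm (chi3 ω) 1 1 0 := by
  ext x y
  fin_cases x <;> fin_cases y <;> simp [Zm, hm, chi3]

theorem Zm_eq_hm_two {ω : F} (hω : ω ^ 3 = 1) : Zm (ω ^ 2) = hm (chi3 ω) 1 2 0 := by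
  have h4 : (ω ^ 2) ^ 2 = ω := by
    have : (ω ^ 2) ^ 2 = ω ^ 3 * ω := by ring
    rw [this, hω, one_mul]
  ext x y
  fin_cases x <;> fin_cases y <;> simp [Zm, hm, chi3, h4]

theorem Xm_eq_hm {ω : F} : (Xm : Matrix (Fin 3) (Fin 3) F) = hm (chi3 ω) 1 0 1 := by
  ext x y
  fin_cases x <;> fin_cases y <;> simp [Xm, hm, chi3]

/-- helper6's standard group is the standard Heisenberg group -/
theorem R0_eq_std27 (γ : F) (hγ : γ ^ 2 + γ + 1 = 0) (hcard : Nat.card (R0 γ hγ) = 27) {ω : F}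
    (hω : ω ^ 3 = 1) (h1 : ω ≠ 1) : R0 γ hγ = std27 hω := by
  have hfin : Finite (std27 hω) := Nat.finite_of_card_ne_zero (by rw [card_std27 hω h1]; norm_num)
  refine Subgroup.eq_of_le_of_card_ge ?_ (by rw [card_std27 hω h1, hcard])
  unfold R0
  rw [Subgroup.closure_le]
  rintro x (rfl | rfl)
  · rw [SetLike.mem_coe, mem_std27]
    rcases cube_root_cases γ ω hγ hω with h | h | h
    · exact absurd h h1
    · refine ⟨1, 1, 0, one_pow 3, ?_⟩
      rw [ZU_val, ← h, Zm_eq_hm_one]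
    · have hγω : γ = ω ^ 2 := by
        have hγ3 := gamma_cube γ hγ
        have : ω ^ 2 = γ ^ 3 * γ := by rw [h]; ring
        rw [this, hγ3, one_mul]
      refine ⟨1, 2, 0, one_pow 3, ?_⟩
      rw [ZU_val, hγω, Zm_eq_hm_two hω]
  · rw [SetLike.mem_coe, mem_std27]
    exact ⟨1, 0, 1, one_pow 3, by rw [XU_val, Xm_eq_hm]⟩

variable [Fintype F] {q : ℕ}

/-- a similarity of the hermitian form whose cube is the identity is an isometry, when `q ≡ 2 mod 3` -/
theorem mem_GU_of_sim (hF : Fintype.card F = q ^ 2) (hq : q % 3 = 2) (x : GL (Fin 3) F)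
    (hx : x ∈ similarityGroup (hermForm 3 F q)) (hx3 : x ^ 3 = 1) : x ∈ GU 3 F q := by
  obtain ⟨c, hc⟩ := hx
  have he : hermForm 3 F q (Pi.single 0 1) (Pi.single 0 1) = 1 := by
    unfold hermForm
    rw [Finset.sum_eq_single 0]
    · simp
    · intro b _ hb
      simp [hb]
    · intro h
      exact absurd (Finset.mem_univ _) h
  have hc3 : (c : F) ^ 3 = 1 := by
    have h3 : ∀ u v : Fin 3 → F, hermForm 3 F q (((x ^ 3 : GL (Fin 3) F) : Matrix (Fin 3) (Fin 3) F) *ᵥ u)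
        (((x ^ 3 : GL (Fin 3) F) : Matrix (Fin 3) (Fin 3) F) *ᵥ v) = (c : F) ^ 3 * hermForm 3 F q u v := by
      intro u v
      have e : ((x ^ 3 : GL (Fin 3) F) : Matrix (Fin 3) (Fin 3) F) =
          (x : Matrix (Fin 3) (Fin 3) F) * ((x : Matrix (Fin 3) (Fin 3) F) * (x : Matrix (Fin 3) (Fin 3) F)) := by
        rw [Units.val_pow_eq_pow_val]
        rw [pow_succ, pow_two, mul_assoc]
      rw [e, ← Matrix.mulVec_mulVec, ← Matrix.mulVec_mulVec, ← Matrix.mulVec_mulVec, ← Matrix.mulVec_mulVec, hc, hc,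
        hc]
      ring
    have := h3 (Pi.single 0 1) (Pi.single 0 1)
    rw [hx3, Units.val_one, Matrix.one_mulVec, he, mul_one] at this
    exact this.symm
  have hcq : (c : F) ^ q = c := by
    have h1 := hc (Pi.single 0 1) (Pi.single 0 1)
    rw [he, mul_one] at h1
    rw [← h1]
    exact Cfsg.Agent.Lib.Helper24.S5784X1.herm_self_pow hF _
  have hc1 : (c : F) = 1 := by
    obtain ⟨k, hk⟩ : ∃ k, q = 3 * k + 2 := ⟨q / 3, by omega⟩
    rw [hk, pow_add, pow_mul, hc3, one_pow, one_mul] at hcq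
    have h0 : (c : F) ≠ 0 := c.ne_zero
    have : (c : F) * ((c : F) - 1) = 0 := by linear_combination hcq
    rcases mul_eq_zero.mp this with h | h
    · exact absurd h h0
    · exact sub_eq_zero.mp h
  intro u v
  have := hc u v
  rw [hc1, one_mul] at this
  exact this

/-- **NF3**: the normal form of `3^(1+2)` in `GU_3(q)`, as an equality of subgroups -/
theorem exists_conj_std27 (hF : Fintype.card F = q ^ 2) (hq : q % 3 = 2) (R : Subgroup (GL (Fin 3) F))
    (hR : IsSymplecticTypeGroup 3 R) (hsim : R ≤ similarityGroup (hermForm 3 F q)) (hcard : Nat.card R = 27)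
    (hZ : Nat.card (Subgroup.center R) = 3) {ω : F} (hω : ω ^ 3 = 1) (hω1 : ω ≠ 1) :
    ∃ g : GL (Fin 3) F, g ∈ GU 3 F q ∧ R = (std27 hω).map (MulAut.conj g).toMonoidHom := by
  classical
  have hRe : ∀ u ∈ R, u ^ 3 = 1 := by
    intro u hu
    have := Monoid.pow_exponent_eq_one (⟨u, hu⟩ : R)
    rw [hR.exponent_eq] at this
    exact congrArg Subtype.val this
  have hRU : R ≤ GU 3 F q := fun x hx => mem_GU_of_sim hF hq x (hsim hx) (hRe x hx)
  have hfin : Finite R := Nat.finite_of_card_ne_zero (by rw [hcard]; norm_num)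
  obtain ⟨x₀, y₀, hx₀, hy₀, hxy₀⟩ : ∃ x y : GL (Fin 3) F, x ∈ R ∧ y ∈ R ∧ x * y ≠ y * x := by
    by_contra hcon
    push Not at hcon
    have htop : Subgroup.center R = ⊤ := by
      rw [eq_top_iff]
      intro a _
      rw [Subgroup.mem_center_iff]
      intro b
      apply Subtype.ext
      exact hcon b a b.2 a.2
    rw [htop, Subgroup.card_top, hcard] at hZ
    norm_num at hZ
  have h3F := three_ne_zero_of_root hω hω1
  obtain ⟨γ, hγ, g₀, hRg₀⟩ := struct ω (root_of_cube hω hω1) h3F R hcard hRe x₀ y₀ hx₀ hy₀ hxy₀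
  obtain ⟨g, hgU, hgg₀⟩ := Cfsg.Agent.Lib.Helper6.HeisU.exists_unitary_conj hF γ hγ h3F (by omega) g₀
    (by rw [← hRg₀]; exact hRU)
  have hRg : R = (R0 γ hγ).map (MulAut.conj g).toMonoidHom := by rw [hgg₀]; exact hRg₀
  have hcard0 := card_R0_of_map γ hγ g R hcard hRg
  refine ⟨g, hgU, ?_⟩
  rw [hRg, R0_eq_std27 γ hγ hcard0 hω hω1]

/-- **NF3**, explicit form: `x ∈ R` iff `g⁻¹ x g = c X^k Z^j` with `c³ = 1` -/
theorem exists_conj_heis27 (hF : Fintype.card F = q ^ 2) (hq : q % 3 = 2) (R : Subgroup (GL (Fin 3) F))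
    (hR : IsSymplecticTypeGroup 3 R) (habs : ActsAbsolutelyIrreducibly (matrixSet R))
    (hsim : R ≤ similarityGroup (hermForm 3 F q)) (hcard : Nat.card R = 27)
    (hZ : Nat.card (Subgroup.center R) = 3) {ω : F} (hω : ω ^ 3 = 1) (hω1 : ω ≠ 1) :
    ∃ g : GL (Fin 3) F, g ∈ GU 3 F q ∧ ∀ x : GL (Fin 3) F, x ∈ R ↔
      ∃ (c : F) (j k : Fin 3), c ^ 3 = 1 ∧
        ((g⁻¹ * x * g : GL (Fin 3) F) : Matrix (Fin 3) (Fin 3) F) = hm (chi3 ω) c j k := by
  obtain ⟨g, hgU, hRg⟩ := exists_conj_std27 hF hq R hR hsim hcard hZ hω hω1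
  refine ⟨g, hgU, fun x => ?_⟩
  rw [← mem_std27 hω, hRg]
  constructor
  · rintro ⟨u, hu, rfl⟩
    have : g⁻¹ * (MulAut.conj g).toMonoidHom u * g = u := by
      simp [MulAut.conj_apply, mul_assoc]
    rw [this]
    exact hu
  · intro h
    refine ⟨g⁻¹ * x * g, h, ?_⟩
    simp [MulAut.conj_apply, mul_assoc]

/-- the normaliser of `R` is the conjugate of the normaliser of the standard group -/
theorem exists_conj_normalizer (hF : Fintype.card F = q ^ 2) (hq : q % 3 = 2) (R : Subgroup (GL (Fin 3) F))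
    (hR : IsSymplecticTypeGroup 3 R) (hsim : R ≤ similarityGroup (hermForm 3 F q)) (hcard : Nat.card R = 27)
    (hZ : Nat.card (Subgroup.center R) = 3) {ω : F} (hω : ω ^ 3 = 1) (hω1 : ω ≠ 1) :
    ∃ g : GL (Fin 3) F, g ∈ GU 3 F q ∧ R = (std27 hω).map (MulAut.conj g).toMonoidHom ∧
      subgroupNormalizer R = (subgroupNormalizer (std27 hω)).map (MulAut.conj g).toMonoidHom ∧
      ∀ x : GL (Fin 3) F, x ∈ subgroupNormalizer R ↔ g⁻¹ * x * g ∈ subgroupNormalizer (std27 hω) := by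
  obtain ⟨g, hgU, hRg⟩ := exists_conj_std27 hF hq R hR hsim hcard hZ hω hω1
  have hN : subgroupNormalizer R = (subgroupNormalizer (std27 hω)).map (MulAut.conj g).toMonoidHom := by
    unfold subgroupNormalizer
    rw [Subgroup.map_equiv_normalizer_eq, ← hRg]
  refine ⟨g, hgU, hRg, hN, fun x => ?_⟩
  rw [hN]
  constructor
  · rintro ⟨u, hu, rfl⟩
    have : g⁻¹ * (MulAut.conj g).toMonoidHom u * g = u := by
      simp [MulAut.conj_apply, mul_assoc]
    rw [this]
    exact hu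
  · intro h
    refine ⟨g⁻¹ * x * g, h, ?_⟩
    simp [MulAut.conj_apply, mul_assoc]

end Cfsg.Agent.Lib.Helper24.S5778NF3
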