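import Mathlib
import Cfsg.Prelude.Def_GeometricClasses
import Cfsg.Agent.Lib.Helper24.Heis
import Cfsg.Agent.Lib.Helper24.HeisGroup
import Cfsg.Agent.Lib.Helper24.HeisCard
import Cfsg.Agent.Lib.Helper24.HeisFourier

/-!
# S5784 X1 (helper10's farm-out), part a: the group `Fˣ ∘ 2^(1+4)` in `GL_4(F)` and its monomial normalisers (helper24)

`V4 = Fin 2 × Fin 2 = (ℤ/2)²`, `chi4 j y = (-1)^(j·y)`.  The Heisenberg matrices `hm chi4 c j k` (`c ≠ 0`) form the
group `R128 = Fˣ ∘ 2^(1+4)`.  `monomial_normalizes`: a monomial matrix with entries `a y` (`a y ^ 4 = 1`,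
`(∏ a) ^ 2 = 1`) normalises them; the Hadamard matrix `four chi4` normalises them as well (`four_mul_hm`).
-/

set_option autoImplicit false

namespace Cfsg.Agent.Lib.Helper24.S5784X1

open Matrix Cfsg Cfsg.Geo Cfsg.Agent.Lib.Helper24.Heis

/-- the Klein four-group `(ℤ/2)²` -/
abbrev V4 := Fin 2 × Fin 2

/-! ### decidable facts about `V4` -/

set_option maxRecDepth 100000 in
/-- every permutation of `(ℤ/2)²` is affine -/
theorem perm_affine : ∀ π : V4 → V4, (∀ x y, π x = π y → x = y) → ∀ k : V4, ∃ k' : V4,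
    ∀ y, π (y + k) = π y + k' := by
  decide

theorem univ_val : ∀ k y z : V4, k ≠ 0 → z ≠ y → z ≠ y + k →
    (Finset.univ : Finset V4).val = {y, y + k, z, z + k} := by
  decide

theorem add_add_self : ∀ y k : V4, y + k + k = y := by decide

theorem neg_eq : ∀ y : V4, -y = y := by decide

variable {F : Type*} [Field F]

/-! ### the sign bicharacter -/

/-- the sign character of `ℤ/2` -/
def chi2 (j y : Fin 2) : F := if j = 1 ∧ y = 1 then -1 else 1

theorem chi2_symm (j y : Fin 2) : chi2 (F := F) j y = chi2 y j := by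
  unfold chi2
  simp only [and_comm]

theorem isBichar_chi2 : IsBichar (chi2 (F := F)) where
  add_left := by
    intro j j' y
    unfold chi2
    fin_cases j <;> fin_cases j' <;> fin_cases y <;> simp
  add_right := by
    intro j y y'
    unfold chi2
    fin_cases j <;> fin_cases y <;> fin_cases y' <;> simp
  ne_zero := by
    intro j y
    unfold chi2
    split_ifs <;> simp

theorem nondegR_chi2 (h2 : (2 : F) ≠ 0) : NondegR (chi2 (F := F)) := by
  intro z hz
  refine ⟨1, ?_⟩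
  have hz1 : z = 1 := by
    fin_cases z
    · exact absurd rfl hz
    · rfl
  subst hz1
  unfold chi2
  rw [if_pos ⟨rfl, rfl⟩]
  intro h
  apply h2
  linear_combination -h

/-- the sign bicharacter of `(ℤ/2)²` -/
def chi4 : V4 → V4 → F := prodChar chi2 chi2

theorem isBichar_chi4 : IsBichar (chi4 (F := F)) := isBichar_chi2.prod isBichar_chi2

theorem chi4_symm (j y : V4) : chi4 (F := F) j y = chi4 y j := by
  unfold chi4 prodChar
  rw [chi2_symm j.1, chi2_symm j.2]

theorem nondegR_chi4 (h2 : (2 : F) ≠ 0) : NondegR (chi4 (F := F)) := by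
  rintro ⟨z, z'⟩ hz
  by_cases hz0 : z = 0
  · subst hz0
    have hz' : z' ≠ 0 := by
      rintro rfl
      exact hz rfl
    obtain ⟨j, hj⟩ := nondegR_chi2 h2 z' hz'
    refine ⟨(0, j), ?_⟩
    unfold chi4 prodChar
    rw [isBichar_chi2.zero_left, one_mul]
    exact hj
  · obtain ⟨j, hj⟩ := nondegR_chi2 h2 z hz0
    refine ⟨(j, 0), ?_⟩
    unfold chi4 prodChar
    rw [isBichar_chi2.zero_left, mul_one]
    exact hj

theorem nondegL_chi4 (h2 : (2 : F) ≠ 0) : NondegL (chi4 (F := F)) := by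
  intro z hz
  obtain ⟨j, hj⟩ := nondegR_chi4 h2 z hz
  exact ⟨j, by rwa [chi4_symm]⟩

theorem chi2_mul_self (j y : Fin 2) : chi2 (F := F) j y * chi2 j y = 1 := by
  unfold chi2
  split_ifs <;> simp

theorem chi4_mul_self (j y : V4) : chi4 (F := F) j y * chi4 j y = 1 := by
  unfold chi4 prodChar
  linear_combination (chi2 j.2 y.2 * chi2 j.2 y.2) * chi2_mul_self (F := F) j.1 y.1 + chi2_mul_self (F := F) j.2 y.2

theorem prod_V4 (h : V4 → F) : ∏ y, h y = h (0, 0) * h (0, 1) * (h (1, 0) * h (1, 1)) := by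
  rw [Fintype.prod_prod_type, Fin.prod_univ_two, Fin.prod_univ_two, Fin.prod_univ_two]

theorem prod_chi4 (j : V4) : ∏ y, chi4 (F := F) j y = 1 := by
  rw [prod_V4]
  unfold chi4 prodChar chi2
  obtain ⟨j₁, j₂⟩ := j
  fin_cases j₁ <;> fin_cases j₂ <;> simp

/-! ### constants times sign characters -/

/-- the functions `c · chi4 j` -/
def IsAffChar (ψ : V4 → F) : Prop := (∀ y z, ψ y ^ 2 = ψ z ^ 2) ∧ ∀ z, ∏ y, ψ y = ψ z ^ 4

theorem IsAffChar.comp {ψ : V4 → F} (hψ : IsAffChar ψ) (π : Equiv.Perm V4) : IsAffChar (ψ ∘ π) := by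
  refine ⟨fun y z => hψ.1 _ _, fun z => ?_⟩
  have h := hψ.2 (π z)
  show ∏ y, ψ (π y) = ψ (π z) ^ 4
  rw [← h]
  exact Equiv.prod_comp π ψ

theorem IsAffChar.exists {ψ : V4 → F} (hψ : IsAffChar ψ) (h0 : ∀ y, ψ y ≠ 0) :
    ∃ c : F, c ≠ 0 ∧ ∃ j : V4, ∀ y, ψ y = c * chi4 j y := by
  obtain ⟨c, hc⟩ : ∃ c, c = ψ (0, 0) := ⟨_, rfl⟩
  have hc0 : c ≠ 0 := hc ▸ h0 _
  have ha := hψ.1 (1, 0) (0, 0)
  have hb := hψ.1 (0, 1) (0, 0)
  have hp := hψ.2 (0, 0)
  rw [prod_V4, ← hc] at hp
  rw [← hc] at ha hb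
  have key : ∀ (a b : F), a ^ 2 = c ^ 2 → b ^ 2 = c ^ 2 → c * b * (a * ψ (1, 1)) = c ^ 4 →
      ψ (1, 1) * c = a * b := by
    intro a b ha hb hp
    have ha0 : a ≠ 0 := by
      intro h
      rw [h, zero_pow two_ne_zero] at ha
      exact hc0 (pow_eq_zero_iff (two_ne_zero) |>.mp ha.symm)
    have hb0 : b ≠ 0 := by
      intro h
      rw [h, zero_pow two_ne_zero] at hb
      exact hc0 (pow_eq_zero_iff (two_ne_zero) |>.mp hb.symm)
    have h3 : (a * b * c) * (ψ (1, 1) * c - a * b) = 0 := by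
      linear_combination c * hp - (b ^ 2 * c) * ha - (c ^ 3) * hb
    rcases mul_eq_zero.mp h3 with h4 | h4
    · exact absurd h4 (mul_ne_zero (mul_ne_zero ha0 hb0) hc0)
    · exact sub_eq_zero.mp h4
  have hd := key _ _ ha hb hp
  rcases sq_eq_sq_iff_eq_or_eq_neg.mp ha with ha' | ha' <;> rcases sq_eq_sq_iff_eq_or_eq_neg.mp hb with hb' | hb'
  · refine ⟨c, hc0, (0, 0), ?_⟩
    rw [ha', hb'] at hd
    have hd' : ψ (1, 1) = c := by
      have : c * (ψ (1, 1) - c) = 0 := by linear_combination hd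
      rcases mul_eq_zero.mp this with h | h
      · exact absurd h hc0
      · exact sub_eq_zero.mp h
    intro y
    unfold chi4 prodChar chi2
    obtain ⟨y₁, y₂⟩ := y
    fin_cases y₁ <;> fin_cases y₂ <;> simp [← hc, ha', hb', hd']
  · refine ⟨c, hc0, (0, 1), ?_⟩
    rw [ha', hb'] at hd
    have hd' : ψ (1, 1) = -c := by
      have : c * (ψ (1, 1) + c) = 0 := by linear_combination hd
      rcases mul_eq_zero.mp this with h | h
      · exact absurd h hc0
      · exact eq_neg_of_add_eq_zero_left h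
    intro y
    unfold chi4 prodChar chi2
    obtain ⟨y₁, y₂⟩ := y
    fin_cases y₁ <;> fin_cases y₂ <;> simp [← hc, ha', hb', hd']
  · refine ⟨c, hc0, (1, 0), ?_⟩
    rw [ha', hb'] at hd
    have hd' : ψ (1, 1) = -c := by
      have : c * (ψ (1, 1) + c) = 0 := by linear_combination hd
      rcases mul_eq_zero.mp this with h | h
      · exact absurd h hc0
      · exact eq_neg_of_add_eq_zero_left h
    intro y
    unfold chi4 prodChar chi2
    obtain ⟨y₁, y₂⟩ := y
    fin_cases y₁ <;> fin_cases y₂ <;> simp [← hc, ha', hb', hd']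
  · refine ⟨c, hc0, (1, 1), ?_⟩
    rw [ha', hb'] at hd
    have hd' : ψ (1, 1) = c := by
      have : c * (ψ (1, 1) - c) = 0 := by linear_combination hd
      rcases mul_eq_zero.mp this with h | h
      · exact absurd h hc0
      · exact sub_eq_zero.mp h
    intro y
    unfold chi4 prodChar chi2
    obtain ⟨y₁, y₂⟩ := y
    fin_cases y₁ <;> fin_cases y₂ <;> simp [← hc, ha', hb', hd']

end Cfsg.Agent.Lib.Helper24.S5784X1
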