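import Mathlib
import Cfsg.Prelude.Def_GeometricClasses
import Cfsg.Agent.Lib.Helper24.S5784X1a

/-!
# S5784 X1, part b: monomial matrices of `SU_4(3)`-type normalise `Fˣ ∘ 2^(1+4)` (helper24)
-/

set_option autoImplicit false

namespace Cfsg.Agent.Lib.Helper24.S5784X1

open Matrix Cfsg Cfsg.Geo Cfsg.Agent.Lib.Helper24.Heis

variable {F : Type*} [Field F]

/-- the key computation: the ratio function of a diagonal matrix of `SU_4(3)`-type is a constant times a sign
character -/
theorem isAffChar_ratio (a : V4 → F) (ha : ∀ y, a y ^ 4 = 1) (hdet : (∏ y, a y) ^ 2 = 1) (j k : V4) :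
    IsAffChar (fun y => a (y + k) * chi4 j y * (a y)⁻¹) := by
  have ha0 : ∀ y, a y ≠ 0 := by
    intro y h
    have := ha y
    rw [h] at this
    norm_num at this
  have hχ2 : ∀ y, chi4 (F := F) j y ^ 2 = 1 := fun y => by rw [pow_two]; exact chi4_mul_self j y
  -- the squares
  obtain ⟨s, hs⟩ : ∃ s : V4 → F, ∀ y, s y = a y ^ 2 := ⟨fun y => a y ^ 2, fun _ => rfl⟩
  have hs2 : ∀ y, s y * s y = 1 := by
    intro y
    rw [hs]
    linear_combination ha y
  have hsprod : ∏ y, s y = 1 := by
    simp only [hs]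
    rw [Finset.prod_pow]
    exact hdet
  have hsq : ∀ y, (a (y + k) * chi4 j y * (a y)⁻¹) ^ 2 = s (y + k) * s y := by
    intro y
    have h1 : ((a y)⁻¹) ^ 2 = s y := by
      rw [hs]
      have := ha y
      have h0 := ha0 y
      field_simp
      linear_combination -this
    rw [mul_pow, mul_pow, hχ2, mul_one, h1, ← hs (y + k)]
  have ht : ∀ y z, s (y + k) * s y = s (z + k) * s z := by
    intro y z
    by_cases hk : k = 0
    · subst hk
      rw [add_zero, add_zero, hs2, hs2]
    by_cases hzy : z = y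
    · rw [hzy]
    by_cases hzy' : z = y + k
    · rw [hzy', add_add_self, mul_comm]
    have hu := univ_val k y z hk hzy hzy'
    have hp : ∏ x, s x = s y * (s (y + k) * (s z * s (z + k))) := by
      rw [Finset.prod_eq_multiset_prod, hu]
      simp
    rw [hsprod] at hp
    -- `t y * t z = 1` and `t z * t z = 1`
    have h3 : (s (z + k) * s z) * (s (z + k) * s z) = 1 := by
      linear_combination (s z * s z) * hs2 (z + k) + hs2 z
    linear_combination (-(s (y + k) * s y)) * h3 - (s (z + k) * s z) * hp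
  refine ⟨fun y z => ?_, fun z => ?_⟩
  · show (a (y + k) * chi4 j y * (a y)⁻¹) ^ 2 = (a (z + k) * chi4 j z * (a z)⁻¹) ^ 2
    rw [hsq, hsq]
    exact ht y z
  · show ∏ y, a (y + k) * chi4 j y * (a y)⁻¹ = (a (z + k) * chi4 j z * (a z)⁻¹) ^ 4
    have h4 : (a (z + k) * chi4 j z * (a z)⁻¹) ^ 4 = 1 := by
      have h5 : (chi4 (F := F) j z) ^ 4 = 1 := by
        have : (chi4 (F := F) j z) ^ 4 = (chi4 j z ^ 2) ^ 2 := by ring
        rw [this, hχ2, one_pow]
      rw [mul_pow, mul_pow, ha, h5, inv_pow, ha, inv_one, mul_one, mul_one]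
    rw [h4, Finset.prod_mul_distrib, Finset.prod_mul_distrib, prod_chi4, mul_one, Finset.prod_inv_distrib]
    have h6 : ∏ y, a (y + k) = ∏ y, a y := Equiv.prod_comp (Equiv.addRight k) a
    rw [h6]
    have h7 : ∏ y, a y ≠ 0 := Finset.prod_ne_zero_iff.mpr (fun y _ => ha0 y)
    exact mul_inv_cancel₀ h7

/-- a monomial matrix with entries `a y`, `a y ^ 4 = 1`, `(∏ a) ^ 2 = 1`, normalises the Heisenberg matrices -/
theorem monomial_normalizes (M : Matrix V4 V4 F) (π : Equiv.Perm V4) (a : V4 → F)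
    (hM : ∀ x y, M x y = if x = π y then a y else 0) (ha : ∀ y, a y ^ 4 = 1) (hdet : (∏ y, a y) ^ 2 = 1)
    (c : F) (hc : c ≠ 0) (j k : V4) :
    ∃ (c' : F) (j' k' : V4), c' ≠ 0 ∧ M * hm chi4 c j k = hm chi4 c' j' k' * M := by
  have ha0 : ∀ y, a y ≠ 0 := by
    intro y h
    have := ha y
    rw [h] at this
    norm_num at this
  obtain ⟨k', hk'⟩ := perm_affine π (fun x y h => π.injective h) k
  have h1 := (isAffChar_ratio a ha hdet j k).comp π.symm
  obtain ⟨c'', hc'', j', hj'⟩ := h1.exists (by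
    intro y
    show a (π.symm y + k) * chi4 j (π.symm y) * (a (π.symm y))⁻¹ ≠ 0
    exact mul_ne_zero (mul_ne_zero (ha0 _) (isBichar_chi4.ne_zero _ _)) (inv_ne_zero (ha0 _)))
  have hval : ∀ y, a (y + k) * chi4 j y = c'' * chi4 j' (π y) * a y := by
    intro y
    have h2 := hj' (π y)
    have h3 : a (y + k) * chi4 j y * (a y)⁻¹ = c'' * chi4 j' (π y) := by
      have : (fun y => a (y + k) * chi4 j y * (a y)⁻¹) (π.symm (π y)) = c'' * chi4 j' (π y) := h2
      rwa [Equiv.symm_apply_apply] at this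
    have h0 := ha0 y
    field_simp at h3
    linear_combination h3
  refine ⟨c * c'', j', k', mul_ne_zero hc hc'', ?_⟩
  ext x y
  rw [Matrix.mul_apply, Matrix.mul_apply, Finset.sum_eq_single (y + k), Finset.sum_eq_single (π y)]
  · rw [hM, hM, hm_apply, hm_apply, if_pos rfl, if_pos rfl, hk']
    by_cases hx : x = π y + k'
    · rw [if_pos hx, if_pos hx]
      linear_combination c * hval y
    · rw [if_neg hx, if_neg hx, zero_mul, zero_mul]
  · intro z _ hz
    rw [hM, if_neg hz, mul_zero]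
  · intro hn
    exact absurd (Finset.mem_univ _) hn
  · intro z _ hz
    rw [hm_apply, if_neg hz, mul_zero]
  · intro hn
    exact absurd (Finset.mem_univ _) hn

end Cfsg.Agent.Lib.Helper24.S5784X1
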