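import Mathlib
import Cfsg.Prelude.Def_GeometricClasses
import Cfsg.Agent.Lib.Helper24.S5784X1b
import Cfsg.Agent.Lib.Helper24.Heis3

/-!
# S5784 X1, part c: the group `R128 = Fˣ ∘ 2^(1+4) ≤ GL (Fin 2 × Fin 2) F`, `|F| = 9`, and the Hadamard matrix (helper24)
-/

set_option autoImplicit false
set_option linter.unusedSectionVars false

namespace Cfsg.Agent.Lib.Helper24.S5784X1

open Matrix Cfsg Cfsg.Geo Cfsg.Agent.Lib.Helper24.Heis
open scoped Kronecker

variable {F : Type*} [Field F] [Fintype F]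

theorem three_eq_zero (hF : Fintype.card F = 3 ^ 2) : (3 : F) = 0 := by
  have h := Nat.cast_card_eq_zero F
  rw [hF] at h
  have h9 : (3 : F) * 3 = 0 := by
    have : ((3 ^ 2 : ℕ) : F) = 3 * 3 := by norm_num
    rw [← this]
    exact h
  rcases mul_eq_zero.mp h9 with h6 | h6 <;> exact h6

theorem two_ne_zero9 (hF : Fintype.card F = 3 ^ 2) : (2 : F) ≠ 0 := by
  intro h2
  have h3 := three_eq_zero hF
  have : (1 : F) = 0 := by linear_combination h3 - h2
  exact one_ne_zero this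

theorem four_eq_one (hF : Fintype.card F = 3 ^ 2) : (4 : F) = 1 := by
  linear_combination three_eq_zero hF

theorem card_V4_ne_zero (hF : Fintype.card F = 3 ^ 2) : ((Fintype.card V4 : ℕ) : F) ≠ 0 := by
  have : ((Fintype.card V4 : ℕ) : F) = 4 := by
    rw [Fintype.card_prod, Fintype.card_fin]
    norm_num
  rw [this, four_eq_one hF]
  exact one_ne_zero

theorem card_V4_eq_one (hF : Fintype.card F = 3 ^ 2) : ((Fintype.card V4 : ℕ) : F) = 1 := by
  have : ((Fintype.card V4 : ℕ) : F) = 4 := by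
    rw [Fintype.card_prod, Fintype.card_fin]
    norm_num
  rw [this, four_eq_one hF]

/-- cubing is additive in characteristic three -/
theorem cube_add (hF : Fintype.card F = 3 ^ 2) (a b : F) : (a + b) ^ 3 = a ^ 3 + b ^ 3 := by
  linear_combination (a ^ 2 * b + a * b ^ 2) * three_eq_zero hF

/-- the group `Fˣ ∘ 2^(1+4)` -/
def R128 : Subgroup (GL V4 F) :=
  heisGroup (isBichar_chi4 (F := F)) ⊤ (values_mem_top isBichar_chi4.ne_zero)

theorem card_R128 (hF : Fintype.card F = 3 ^ 2) : Nat.card (R128 (F := F)) = 128 := by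
  unfold R128
  rw [card_heisGroup isBichar_chi4 (nondegL_chi4 (two_ne_zero9 hF)), Subgroup.card_top, Nat.card_units,
    Nat.card_eq_fintype_card, hF, Fintype.card_prod, Fintype.card_fin]
  norm_num

theorem isPGroup_R128 (hF : Fintype.card F = 3 ^ 2) : IsPGroup 2 (R128 (F := F)) :=
  IsPGroup.of_card (n := 7) (by rw [card_R128 hF]; norm_num)

theorem absIrred_R128 (hF : Fintype.card F = 3 ^ 2) : ActsAbsolutelyIrreducibly (matrixSet (R128 (F := F))) :=
  heis_absIrred isBichar_chi4 (nondegR_chi4 (two_ne_zero9 hF)) (card_V4_ne_zero hF) ⊤ _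

/-- a matrix intertwining the Heisenberg matrices normalises `R128` -/
theorem conj_mem_R128 (N : GL V4 F)
    (hN : ∀ (c : F), c ≠ 0 → ∀ j k : V4, ∃ (c' : F) (j' k' : V4), c' ≠ 0 ∧
      (N : Matrix V4 V4 F) * hm chi4 c j k = hm chi4 c' j' k' * (N : Matrix V4 V4 F))
    (g : GL V4 F) (hg : g ∈ R128 (F := F)) : N * g * N⁻¹ ∈ R128 (F := F) := by
  obtain ⟨c, -, j, k, hgv⟩ := hg
  obtain ⟨c', j', k', hc', heq⟩ := hN (c : F) c.ne_zero j k
  refine ⟨Units.mk0 c' hc', Subgroup.mem_top _, j', k', ?_⟩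
  rw [Units.val_mul, Units.val_mul, hgv, heq, mul_assoc, ← Units.val_mul, mul_inv_cancel, Units.val_one, mul_one]
  rfl

/-- the Hadamard matrix -/
noncomputable def W4 (hF : Fintype.card F = 3 ^ 2) : GL V4 F :=
  fourUnit (isBichar_chi4 (F := F)) chi4_symm (nondegR_chi4 (two_ne_zero9 hF)) (card_V4_ne_zero hF)

theorem W4_val (hF : Fintype.card F = 3 ^ 2) : ((W4 hF : GL V4 F) : Matrix V4 V4 F) = four chi4 := rfl

theorem fourBar_chi4 : fourBar (chi4 (F := F)) = four chi4 := by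
  ext x y
  unfold fourBar four
  rw [neg_eq]

theorem W4_mul_self (hF : Fintype.card F = 3 ^ 2) : W4 hF * W4 hF = 1 := by
  apply Units.ext
  rw [Units.val_mul, W4_val, Units.val_one]
  have h := four_mul_fourBar (isBichar_chi4 (F := F)) chi4_symm (nondegR_chi4 (two_ne_zero9 hF))
  rw [fourBar_chi4, card_V4_eq_one hF, one_smul] at h
  exact h

theorem W4_inv (hF : Fintype.card F = 3 ^ 2) : (W4 hF)⁻¹ = W4 hF :=
  inv_eq_of_mul_eq_one_right (W4_mul_self hF)

theorem W4_conj_mem (hF : Fintype.card F = 3 ^ 2) (g : GL V4 F) (hg : g ∈ R128 (F := F)) :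
    W4 hF * g * (W4 hF)⁻¹ ∈ R128 (F := F) := by
  refine conj_mem_R128 (W4 hF) ?_ g hg
  intro c hc j k
  refine ⟨c * chi4 k (-j), k, -j, mul_ne_zero hc (isBichar_chi4.ne_zero _ _), ?_⟩
  rw [W4_val]
  exact four_mul_hm isBichar_chi4 chi4_symm c j k

theorem W4_transpose (hF : Fintype.card F = 3 ^ 2) :
    ((W4 hF : GL V4 F) : Matrix V4 V4 F)ᵀ = ((W4 hF : GL V4 F) : Matrix V4 V4 F) := by
  ext x y
  rw [Matrix.transpose_apply, W4_val]
  unfold four
  exact chi4_symm y x

theorem chi4_cube (j y : V4) : chi4 (F := F) j y ^ 3 = chi4 j y := by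
  have h := chi4_mul_self (F := F) j y
  linear_combination chi4 j y * h

theorem W4_map_cube (hF : Fintype.card F = 3 ^ 2) :
    ((W4 hF : GL V4 F) : Matrix V4 V4 F).map (fun x => x ^ 3) = ((W4 hF : GL V4 F) : Matrix V4 V4 F) := by
  ext x y
  rw [Matrix.map_apply, W4_val]
  unfold four
  exact chi4_cube x y

theorem W4_unitary (hF : Fintype.card F = 3 ^ 2) :
    ((W4 hF : GL V4 F) : Matrix V4 V4 F)ᵀ * ((W4 hF : GL V4 F) : Matrix V4 V4 F).map (fun x => x ^ 3) = 1 := by
  rw [W4_transpose, W4_map_cube, ← Units.val_mul, W4_mul_self, Units.val_one]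

theorem four_chi4_eq_kron : four (chi4 (F := F)) = four chi2 ⊗ₖ four chi2 := by
  ext ⟨x₁, x₂⟩ ⟨y₁, y₂⟩
  rfl

theorem det_four_chi2 : (four (chi2 (F := F))).det = -2 := by
  rw [Matrix.det_fin_two]
  unfold four chi2
  simp
  ring

theorem W4_det (hF : Fintype.card F = 3 ^ 2) : ((W4 hF : GL V4 F) : Matrix V4 V4 F).det = 1 := by
  rw [W4_val, four_chi4_eq_kron, Matrix.det_kronecker, det_four_chi2, Fintype.card_fin]
  linear_combination (5 : F) * three_eq_zero hF

theorem W4_mulVec_single (hF : Fintype.card F = 3 ^ 2) :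
    ((W4 hF : GL V4 F) : Matrix V4 V4 F) *ᵥ Pi.single 0 1 = fun _ => 1 := by
  funext x
  rw [Matrix.mulVec_single_one, W4_val]
  show four chi4 x 0 = 1
  unfold four
  exact isBichar_chi4.zero_right x

/-- monomial matrices of `SU_4(3)`-type normalise `R128` -/
theorem monomial_conj_mem (M : GL V4 F) (π : Equiv.Perm V4) (a : V4 → F)
    (hM : ∀ x y, (M : Matrix V4 V4 F) x y = if x = π y then a y else 0) (ha : ∀ y, a y ^ 4 = 1)
    (hdet : (∏ y, a y) ^ 2 = 1) (g : GL V4 F) (hg : g ∈ R128 (F := F)) : M * g * M⁻¹ ∈ R128 (F := F) :=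
  conj_mem_R128 M (fun c hc j k => monomial_normalizes (M : Matrix V4 V4 F) π a hM ha hdet c hc j k) g hg

end Cfsg.Agent.Lib.Helper24.S5784X1
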