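import Mathlib
import Cfsg.Prelude.Def_GeometricClasses
import Cfsg.Agent.Lib.Helper24.S5784X1c
import Cfsg.Agent.Lib.Helper24.S5784X1d
import Cfsg.Agent.Lib.Helper24.AschU92b
import Cfsg.Agent.Lib.Helper12.S5781TR
import Cfsg.Agent.Lib.Helper10.SUCorPU6b

/-!
# S5784 X1 (helper10's farm-out): the stabiliser of an orthonormal frame is not maximal in `SU_4(3)` (helper24)

It normalises `R = Fˣ ∘ 2^(1+4)` (in the frame basis: `c • X_k Z_j`, `X_k` the translations of `(ℤ/2)²` and `Z_j` the
sign characters), and so does the Hadamard matrix, which is not monomial; `SU_4(3)` does not normalise `R`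
(helper10's `not_su_le_normalizer_of_pGroup`).
-/

set_option autoImplicit false
set_option linter.unusedSectionVars false

namespace Cfsg.Agent.Lib.Helper24.S5784X1

open Matrix Cfsg Cfsg.Geo Cfsg.Agent.Lib.Helper13.TNM Cfsg.Agent.Lib.Helper24.Heis
open Cfsg.Agent.Lib.Helper12.S5781TR

variable {F : Type*} [Field F] [Fintype F]

/-- cubing -/
def cu3 (x : F) : F := x ^ 3

theorem cu3_zero : cu3 (0 : F) = 0 := by unfold cu3; norm_num

theorem cu3_one : cu3 (1 : F) = 1 := by unfold cu3; norm_num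

theorem cu3_mul (a b : F) : cu3 (a * b) = cu3 a * cu3 b := by unfold cu3; ring

theorem cu3_add (hF : Fintype.card F = 3 ^ 2) (a b : F) : cu3 (a + b) = cu3 a + cu3 b := cube_add hF a b

theorem chi4_norm (j y : V4) : chi4 (F := F) j y * cu3 (chi4 j y) = 1 := by
  unfold cu3
  rw [chi4_cube]
  exact chi4_mul_self j y

/-- the monomial shape of an element of the frame stabiliser, in the frame coordinates -/
theorem exists_monomial (hF : Fintype.card F = 3 ^ 2) (D : Fin 4 → Submodule F (Fin 4 → F))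
    (u : Fin 4 → (Fin 4 → F)) (hu : ∀ i, D i = Submodule.span F {u i})
    (h1 : ∀ i, hermForm 4 F 3 (u i) (u i) = 1) (e : Fin 4 ≃ V4) (P : GL (Fin 4) F)
    (hP : ∀ r i, (P : Matrix (Fin 4) (Fin 4) F) r i = u i r) (g : GL (Fin 4) F)
    (hg : g ∈ decompositionStabilizer D ⊓ (GU 4 F 3 ⊓ specialLinear (Fin 4) F)) :
    ∃ (M : GL V4 F) (π : Equiv.Perm V4) (a : V4 → F), psi e P M = g ∧
      (∀ x y, (M : Matrix V4 V4 F) x y = if x = π y then a y else 0) ∧ (∀ y, a y ^ 4 = 1) ∧
      (∏ y, a y) ^ 2 = 1 := by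
  obtain ⟨⟨σ, hσ⟩, hgU, hgS⟩ := hg
  -- the transported matrix
  obtain ⟨M, hM⟩ : ∃ M : GL V4 F, M = (glReindex e.symm).symm (P⁻¹ * g * P) := ⟨_, rfl⟩
  have hpsi : psi e P M = g := by
    show P * glReindex e.symm M * P⁻¹ = g
    rw [hM, MulEquiv.apply_symm_apply]
    group
  -- the frame vectors
  have hTT : ∀ y : V4, TT e P (Pi.single y 1) = u (e.symm y) := by
    intro y
    unfold TT
    have h2 : (Pi.single y (1 : F) : V4 → F) ∘ e = Pi.single (e.symm y) 1 := by
      funext i
      simp only [Function.comp_apply, Pi.single_apply]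
      by_cases h : i = e.symm y
      · rw [if_pos h, if_pos (by rw [h, Equiv.apply_symm_apply])]
      · rw [if_neg h, if_neg (fun h' => h (by rw [← h', Equiv.symm_apply_apply]))]
    rw [h2, Matrix.mulVec_single_one]
    funext r
    exact hP r _
  -- the action on the frame
  have hact : ∀ i, ∃ a : F, (g : Matrix (Fin 4) (Fin 4) F) *ᵥ u i = a • u (σ i) := by
    intro i
    have h2 : (g : Matrix (Fin 4) (Fin 4) F) *ᵥ u i ∈ D (σ i) := by
      rw [← hσ i]
      refine ⟨u i, ?_, by rw [Matrix.toLin'_apply]⟩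
      rw [hu i]
      exact Submodule.mem_span_singleton_self _
    rw [hu (σ i), Submodule.mem_span_singleton] at h2
    obtain ⟨a, ha⟩ := h2
    exact ⟨a, ha.symm⟩
  choose a ha using hact
  have ha4 : ∀ i, a i ^ 4 = 1 := by
    intro i
    have h2 : hermForm 4 F 3 ((g : Matrix (Fin 4) (Fin 4) F) *ᵥ u i) ((g : Matrix (Fin 4) (Fin 4) F) *ᵥ u i) =
        hermForm 4 F 3 (u i) (u i) := hgU (u i) (u i)
    rw [ha i, herm_smul_left', herm_smul_right', h1, h1, mul_one] at h2
    linear_combination h2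
  let π : Equiv.Perm V4 := (e.symm.trans σ).trans e
  have hcol : ∀ y : V4, (M : Matrix V4 V4 F) *ᵥ Pi.single y 1 = a (e.symm y) • Pi.single (π y) 1 := by
    intro y
    apply TT_injective e P
    rw [← psi_mulVec, hpsi, hTT, ha, TT_smul, hTT]
    show a (e.symm y) • u (σ (e.symm y)) = a (e.symm y) • u (e.symm (e (σ (e.symm y))))
    rw [Equiv.symm_apply_apply]
  have hent : ∀ x y, (M : Matrix V4 V4 F) x y = if x = π y then a (e.symm y) else 0 := by
    intro x y
    have h2 := congrFun (hcol y) x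
    rw [Matrix.mulVec_single_one] at h2
    have h3 : (M : Matrix V4 V4 F) x y = (a (e.symm y) • (Pi.single (π y) 1 : V4 → F)) x := h2
    rw [h3, Pi.smul_apply, Pi.single_apply, smul_eq_mul]
    split_ifs <;> simp
  -- the determinant
  have hdetg : (g : Matrix (Fin 4) (Fin 4) F).det = 1 := by
    have h2 : Matrix.GeneralLinearGroup.det g = 1 := hgS
    have h3 := congrArg Units.val h2
    rwa [Matrix.GeneralLinearGroup.val_det_apply, Units.val_one] at h3
  have hdetM : (M : Matrix V4 V4 F).det = 1 := by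
    rw [← hdetg, ← hpsi, psi_val, Matrix.det_units_conj, Matrix.det_submatrix_equiv_self]
  have hdetM' : (M : Matrix V4 V4 F).det = ((Equiv.Perm.sign π : ℤˣ) : ℤ) * ∏ y, a (e.symm y) := by
    rw [Matrix.det_apply', Finset.sum_eq_single π]
    · congr 1
      apply Finset.prod_congr rfl
      intro y _
      rw [hent, if_pos rfl]
    · intro τ _ hτ
      obtain ⟨y, hy⟩ : ∃ y, τ y ≠ π y := by
        by_contra h
        push Not at h
        exact hτ (Equiv.ext h)
      rw [Finset.prod_eq_zero (Finset.mem_univ y) (by rw [hent, if_neg hy]), mul_zero]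
    · intro h
      exact absurd (Finset.mem_univ _) h
  refine ⟨M, π, fun y => a (e.symm y), hpsi, hent, fun y => ha4 _, ?_⟩
  have hsign : (((Equiv.Perm.sign π : ℤˣ) : ℤ) : F) ^ 2 = 1 := by
    rcases Int.units_eq_one_or (Equiv.Perm.sign π) with h | h <;> simp [h]
  have h5 := hdetM
  rw [hdetM'] at h5
  have h6 := congrArg (fun x => x ^ 2) h5
  simp only [mul_pow, hsign, one_mul, one_pow] at h6
  exact h6

theorem frame_not_maximal_su43 (hF : Fintype.card F = 3 ^ 2) (D : Fin 4 → Submodule F (Fin 4 → F))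
    (hD : IsNondegenerateMDecomposition (hermForm 4 F 3) 1 D) :
    ∃ K : Subgroup (GL (Fin 4) F), decompositionStabilizer D ⊓ (GU 4 F 3 ⊓ specialLinear (Fin 4) F) < K ∧
      K < GU 4 F 3 ⊓ specialLinear (Fin 4) F := by
  obtain ⟨u, hu, h1, h0⟩ := exists_orthonormal_frame hF D hD
  obtain ⟨P, hP, hPU⟩ := exists_frame_gl u h1 h0
  obtain ⟨e⟩ : Nonempty (Fin 4 ≃ V4) := ⟨Fintype.equivOfCardEq (by simp)⟩
  have hσ : (fun x : F => x ^ 3) = cu3 := rfl
  rw [hσ] at hPU
  -- the form in the frame coordinates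
  have hstd : ∀ x y : V4 → F, hermForm 4 F 3 (TT e P x) (TT e P y) = 1 * formOfGram cu3 1 x y := by
    intro x y
    unfold TT
    rw [herm_eq_fog, hσ, formOfGram_mulVec cu3 cu3_zero (cu3_add hF) cu3_mul, Matrix.mul_one, hPU, one_mul]
    unfold formOfGram
    rw [← Equiv.sum_comp e]
    refine Finset.sum_congr rfl fun i _ => ?_
    rw [← Equiv.sum_comp e]
    refine Finset.sum_congr rfl fun k _ => ?_
    simp only [Function.comp_apply, Matrix.one_apply, EmbeddingLike.apply_eq_iff_eq]
  -- the group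
  let R : Subgroup (GL (Fin 4) F) := (R128 (F := F)).map (psi e P)
  have hR2 : IsPGroup 2 R := (isPGroup_R128 hF).map (psi e P)
  have hschur := (absIrred_map e P (R128 (F := F)) (absIrred_R128 hF)).2
  have hsim : R ≤ similarityGroup (hermForm 4 F 3) := by
    rintro g ⟨g₀, hg₀, rfl⟩
    obtain ⟨c', -, j, k, hgv⟩ := hg₀
    have hmult : (c' : F) * cu3 (c' : F) ≠ 0 := by
      unfold cu3
      exact mul_ne_zero c'.ne_zero (pow_ne_zero _ c'.ne_zero)
    refine ⟨Units.mk0 _ hmult, fun v w => ?_⟩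
    obtain ⟨x, rfl⟩ := TT_surj e P v
    obtain ⟨y, rfl⟩ := TT_surj e P w
    rw [psi_mulVec, psi_mulVec, hstd, hstd, formOfGram_mulVec cu3 cu3_zero (cu3_add hF) cu3_mul, hgv, Matrix.mul_one,
      Cfsg.Agent.Lib.Helper24.U92.hm_unitary cu3 cu3_zero cu3_mul chi4 chi4_norm,
      Cfsg.Agent.Lib.Helper24.U92.fog_smul_one, Units.val_mk0]
    ring
  have h3 : (3 : F) = 0 := three_eq_zero hF
  have hchar : ringChar F = 3 := CharP.ringChar_of_prime_eq_zero Nat.prime_three (by exact_mod_cast h3)
  haveI : CharP F 3 := hchar ▸ ringChar.charP F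
  have hnot : ¬ GU 4 F 3 ⊓ specialLinear (Fin 4) F ≤ subgroupNormalizer R :=
    Cfsg.Agent.Lib.Helper10.SUCorPU6b.not_su_le_normalizer_of_pGroup hF (by norm_num) (by omega) 2 Nat.prime_two R
      hR2 hschur hsim 3 inferInstance (by norm_num)
  -- the frame stabiliser normalises `R`
  have hconj : ∀ g ∈ decompositionStabilizer D ⊓ (GU 4 F 3 ⊓ specialLinear (Fin 4) F), ∀ r ∈ R,
      g * r * g⁻¹ ∈ R := by
    intro g hg r hr
    obtain ⟨M, π, a, hpsi, hent, ha4, hdet⟩ := exists_monomial hF D u hu h1 e P hP g hg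
    obtain ⟨r₀, hr₀, rfl⟩ := hr
    refine ⟨M * r₀ * M⁻¹, monomial_conj_mem M π a hent ha4 hdet r₀ hr₀, ?_⟩
    rw [map_mul, map_mul, map_inv, hpsi]
  have hle : decompositionStabilizer D ⊓ (GU 4 F 3 ⊓ specialLinear (Fin 4) F) ≤
      subgroupNormalizer R ⊓ (GU 4 F 3 ⊓ specialLinear (Fin 4) F) := by
    refine le_inf ?_ inf_le_right
    intro g hg
    unfold subgroupNormalizer
    rw [Subgroup.mem_normalizer_iff]
    intro r
    constructor
    · exact hconj g hg r
    · intro hr
      have := hconj g⁻¹ (Subgroup.inv_mem _ hg) _ hr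
      have e1 : g⁻¹ * (g * r * g⁻¹) * g⁻¹⁻¹ = r := by group
      rwa [e1] at this
  -- the Hadamard element
  have hWconj : ∀ r ∈ R, psi e P (W4 hF) * r * (psi e P (W4 hF))⁻¹ ∈ R := by
    rintro r ⟨r₀, hr₀, rfl⟩
    refine ⟨W4 hF * r₀ * (W4 hF)⁻¹, W4_conj_mem hF r₀ hr₀, ?_⟩
    rw [map_mul, map_mul, map_inv]
  have hWinv : (psi e P (W4 hF))⁻¹ = psi e P (W4 hF) := by
    rw [← map_inv, W4_inv]
  have hWN : psi e P (W4 hF) ∈ subgroupNormalizer R := by
    unfold subgroupNormalizer
    rw [Subgroup.mem_normalizer_iff]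
    intro r
    constructor
    · exact hWconj r
    · intro hr
      have := hWconj _ hr
      rw [hWinv] at this
      have e1 : psi e P (W4 hF) * (psi e P (W4 hF) * r * psi e P (W4 hF)) * psi e P (W4 hF) = r := by
        have h2 : psi e P (W4 hF) * psi e P (W4 hF) = 1 := by
          rw [← map_mul, W4_mul_self, map_one]
        calc psi e P (W4 hF) * (psi e P (W4 hF) * r * psi e P (W4 hF)) * psi e P (W4 hF)
            = (psi e P (W4 hF) * psi e P (W4 hF)) * r * (psi e P (W4 hF) * psi e P (W4 hF)) := by group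
          _ = r := by rw [h2, one_mul, mul_one]
      rw [hWinv] at hr
      rwa [e1] at this
  have hWU : psi e P (W4 hF) ∈ GU 4 F 3 := by
    unfold GU
    rw [psi_mem_preserving_iff e P one_ne_zero hstd,
      preserves_iff cu3 cu3_zero cu3_one (cu3_add hF) cu3_mul, Matrix.mul_one]
    exact W4_unitary hF
  have hWS : psi e P (W4 hF) ∈ specialLinear (Fin 4) F := by
    show Matrix.GeneralLinearGroup.det (psi e P (W4 hF)) = 1
    apply Units.ext
    rw [Matrix.GeneralLinearGroup.val_det_apply, psi_val, Matrix.det_units_conj, Matrix.det_submatrix_equiv_self,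
      W4_det hF, Units.val_one]
  have hWD : psi e P (W4 hF) ∉ decompositionStabilizer D := by
    rintro ⟨σ, hσ'⟩
    have h2 : ((psi e P (W4 hF) : GL (Fin 4) F) : Matrix (Fin 4) (Fin 4) F) *ᵥ TT e P (Pi.single 0 1) ∈
        D (σ (e.symm 0)) := by
      rw [← hσ' (e.symm 0)]
      refine ⟨TT e P (Pi.single 0 1), ?_, by rw [Matrix.toLin'_apply]⟩
      rw [hu (e.symm 0)]
      have h4 : TT e P (Pi.single (0 : V4) (1 : F)) = u (e.symm 0) := by
        unfold TT
        have h5 : (Pi.single (0 : V4) (1 : F) : V4 → F) ∘ e = Pi.single (e.symm 0) 1 := by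
          funext i
          simp only [Function.comp_apply, Pi.single_apply]
          by_cases h : i = e.symm 0
          · rw [if_pos h, if_pos (by rw [h, Equiv.apply_symm_apply])]
          · rw [if_neg h, if_neg (fun h' => h (by rw [← h', Equiv.symm_apply_apply]))]
        rw [h5, Matrix.mulVec_single_one]
        funext r
        exact hP r _
      rw [h4]
      exact Submodule.mem_span_singleton_self _
    rw [psi_mulVec, W4_mulVec_single, hu, Submodule.mem_span_singleton] at h2
    obtain ⟨t, ht⟩ := h2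
    have h6 : u (σ (e.symm 0)) = TT e P (Pi.single (e (σ (e.symm 0))) 1) := by
      unfold TT
      have h5 : (Pi.single (e (σ (e.symm 0))) (1 : F) : V4 → F) ∘ e = Pi.single (σ (e.symm 0)) 1 := by
        funext i
        simp only [Function.comp_apply, Pi.single_apply, EmbeddingLike.apply_eq_iff_eq]
      rw [h5, Matrix.mulVec_single_one]
      funext r
      exact (hP r _).symm
    rw [h6, ← TT_smul] at ht
    have h7 := TT_injective e P ht
    -- evaluate at a point different from `e (σ (e.symm 0))`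
    obtain ⟨x, hx⟩ : ∃ x : V4, x ≠ e (σ (e.symm 0)) := exists_ne _
    have h8 := congrFun h7 x
    rw [Pi.smul_apply, Pi.single_apply, if_neg hx, smul_zero] at h8
    exact zero_ne_one h8
  refine ⟨subgroupNormalizer R ⊓ (GU 4 F 3 ⊓ specialLinear (Fin 4) F), ?_, ?_⟩
  · refine lt_of_le_of_ne hle ?_
    intro heq
    have h2 : psi e P (W4 hF) ∈ subgroupNormalizer R ⊓ (GU 4 F 3 ⊓ specialLinear (Fin 4) F) :=
      ⟨hWN, hWU, hWS⟩
    rw [← heq] at h2
    exact hWD h2.1
  · refine lt_of_le_of_ne inf_le_right ?_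
    intro heq
    apply hnot
    rw [← heq]
    exact inf_le_left

end Cfsg.Agent.Lib.Helper24.S5784X1
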