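import Mathlib
import Cfsg.Prelude.Def_GeometricClasses
import Cfsg.Agent.Lib.Helper24.S5876Defs

/-!
# S5876 FO-P1, part A: the Fitting decomposition of `b - 1` for a matrix `b`
-/

set_option autoImplicit false

namespace Cfsg.Agent.Lib.Helper24.S5876

open Matrix Module

variable {F : Type*} [Field F] {n : ℕ}

/-- the operator `b - 1` -/
noncomputable def fOp (b : GL (Fin n) F) : Module.End F (Fin n → F) :=
  Matrix.toLin' (b : Matrix (Fin n) (Fin n) F) - 1

/-- the generalised fixed space of `b` -/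
noncomputable def genK (b : GL (Fin n) F) : Submodule F (Fin n → F) :=
  ⨆ k : ℕ, LinearMap.ker (fOp b ^ k)

/-- the Fitting complement of the generalised fixed space of `b` -/
noncomputable def genI (b : GL (Fin n) F) : Submodule F (Fin n → F) :=
  ⨅ k : ℕ, LinearMap.range (fOp b ^ k)

theorem isCompl_genK_genI (b : GL (Fin n) F) : IsCompl (genK b) (genI b) :=
  LinearMap.isCompl_iSup_ker_pow_iInf_range_pow (fOp b)

theorem exists_pow_eq (b : GL (Fin n) F) :
    ∃ N : ℕ, genK b = LinearMap.ker (fOp b ^ N) ∧ genI b = LinearMap.range (fOp b ^ N) := by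
  have h1 := LinearMap.eventually_iSup_ker_pow_eq (fOp b)
  have h2 := LinearMap.eventually_iInf_range_pow_eq (fOp b)
  obtain ⟨N, hN1, hN2⟩ := (h1.and h2).exists
  exact ⟨N, hN1, hN2⟩

theorem fixS_le_genK (b : GL (Fin n) F) : fixS b ≤ genK b := by
  intro v hv
  refine Submodule.mem_iSup_of_mem 1 ?_
  rw [LinearMap.mem_ker, pow_one]
  rw [mem_fixS] at hv
  unfold fOp
  rw [LinearMap.sub_apply, Matrix.toLin'_apply, hv, Module.End.one_apply, sub_self]

theorem fOp_conj (h b : GL (Fin n) F) :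
    fOp (h * b * h⁻¹) * Matrix.toLin' (h : Matrix (Fin n) (Fin n) F)
      = Matrix.toLin' (h : Matrix (Fin n) (Fin n) F) * fOp b := by
  unfold fOp
  rw [sub_mul, mul_sub, one_mul, mul_one]
  congr 1
  rw [Module.End.mul_eq_comp, Module.End.mul_eq_comp, ← Matrix.toLin'_mul, ← Matrix.toLin'_mul,
    ← Units.val_mul, ← Units.val_mul]
  congr 2
  group

theorem fOp_pow_conj (h b : GL (Fin n) F) (k : ℕ) :
    fOp (h * b * h⁻¹) ^ k * Matrix.toLin' (h : Matrix (Fin n) (Fin n) F)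
      = Matrix.toLin' (h : Matrix (Fin n) (Fin n) F) * fOp b ^ k := by
  have hs : SemiconjBy (Matrix.toLin' (h : Matrix (Fin n) (Fin n) F)) (fOp b) (fOp (h * b * h⁻¹)) :=
    (fOp_conj h b).symm
  exact (hs.pow_right k).eq.symm

theorem map_genK_le (h b : GL (Fin n) F) :
    (genK b).map (Matrix.toLin' (h : Matrix (Fin n) (Fin n) F)) ≤ genK (h * b * h⁻¹) := by
  unfold genK
  rw [Submodule.map_iSup]
  refine iSup_le fun k => le_trans ?_ (le_iSup _ k)
  rintro _ ⟨x, hx, rfl⟩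
  have hx' : (fOp b ^ k) x = 0 := hx
  rw [LinearMap.mem_ker]
  calc (fOp (h * b * h⁻¹) ^ k) (Matrix.toLin' (h : Matrix (Fin n) (Fin n) F) x)
      = (fOp (h * b * h⁻¹) ^ k * Matrix.toLin' (h : Matrix (Fin n) (Fin n) F)) x := rfl
    _ = (Matrix.toLin' (h : Matrix (Fin n) (Fin n) F) * fOp b ^ k) x := by rw [fOp_pow_conj]
    _ = 0 := by rw [Module.End.mul_apply, hx', map_zero]

theorem map_genI_le (h b : GL (Fin n) F) :
    (genI b).map (Matrix.toLin' (h : Matrix (Fin n) (Fin n) F)) ≤ genI (h * b * h⁻¹) := by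
  unfold genI
  refine le_iInf fun k => ?_
  rintro _ ⟨x, hx, rfl⟩
  have hx' := (Submodule.mem_iInf _).mp hx k
  obtain ⟨y, rfl⟩ := hx'
  refine ⟨Matrix.toLin' (h : Matrix (Fin n) (Fin n) F) y, ?_⟩
  calc (fOp (h * b * h⁻¹) ^ k) (Matrix.toLin' (h : Matrix (Fin n) (Fin n) F) y)
      = (fOp (h * b * h⁻¹) ^ k * Matrix.toLin' (h : Matrix (Fin n) (Fin n) F)) y := rfl
    _ = (Matrix.toLin' (h : Matrix (Fin n) (Fin n) F) * fOp b ^ k) y := by rw [fOp_pow_conj]
    _ = _ := rfl

/-- `h⁻¹ (h v) = v` -/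
theorem toLin'_inv_apply (h : GL (Fin n) F) (v : Fin n → F) :
    Matrix.toLin' ((h⁻¹ : GL (Fin n) F) : Matrix (Fin n) (Fin n) F)
      (Matrix.toLin' (h : Matrix (Fin n) (Fin n) F) v) = v := by
  rw [← LinearMap.comp_apply, ← Matrix.toLin'_mul, ← Units.val_mul, inv_mul_cancel, Units.val_one,
    Matrix.toLin'_one, LinearMap.id_apply]

theorem toLin'_apply_inv (h : GL (Fin n) F) (v : Fin n → F) :
    Matrix.toLin' (h : Matrix (Fin n) (Fin n) F)
      (Matrix.toLin' ((h⁻¹ : GL (Fin n) F) : Matrix (Fin n) (Fin n) F) v) = v := by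
  rw [← LinearMap.comp_apply, ← Matrix.toLin'_mul, ← Units.val_mul, mul_inv_cancel, Units.val_one,
    Matrix.toLin'_one, LinearMap.id_apply]

theorem toLin'_injective (h : GL (Fin n) F) :
    Function.Injective (Matrix.toLin' (h : Matrix (Fin n) (Fin n) F)) :=
  Function.LeftInverse.injective (toLin'_inv_apply h)

theorem le_map_of_map_inv_le (h : GL (Fin n) F) {X Y : Submodule F (Fin n → F)}
    (hXY : X.map (Matrix.toLin' ((h⁻¹ : GL (Fin n) F) : Matrix (Fin n) (Fin n) F)) ≤ Y) :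
    X ≤ Y.map (Matrix.toLin' (h : Matrix (Fin n) (Fin n) F)) := by
  intro x hx
  exact ⟨_, hXY (Submodule.mem_map_of_mem hx), toLin'_apply_inv h x⟩

theorem finrank_map_toLin' (h : GL (Fin n) F) (X : Submodule F (Fin n → F)) :
    finrank F (X.map (Matrix.toLin' (h : Matrix (Fin n) (Fin n) F))) = finrank F X :=
  (Submodule.equivMapOfInjective _ (toLin'_injective h) X).finrank_eq.symm

end Cfsg.Agent.Lib.Helper24.S5876
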