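import Mathlib
import Cfsg.Prelude.Def_GeometricClasses
import Cfsg.Agent.Lib.Helper24.S5876Defs
import Cfsg.Agent.Lib.Helper24.S5876P1A

/-!
# S5876 FO-P1, part B: invariant subspaces split along the Fitting decomposition
-/

set_option autoImplicit false

namespace Cfsg.Agent.Lib.Helper24.S5876

open Matrix Module

variable {F : Type*} [Field F] {n : ℕ}

theorem fOp_mem_of_map_le (b : GL (Fin n) F) (W : Submodule F (Fin n → F))
    (hW : W.map (Matrix.toLin' (b : Matrix (Fin n) (Fin n) F)) ≤ W) :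
    ∀ x ∈ W, fOp b x ∈ W := by
  intro x hx
  unfold fOp
  rw [LinearMap.sub_apply, Module.End.one_apply]
  exact W.sub_mem (hW (Submodule.mem_map_of_mem hx)) hx

/-- (F1) a `b`-invariant subspace splits along the Fitting decomposition of `b - 1` -/
theorem le_sup_inf_genK_genI (b : GL (Fin n) F) (W : Submodule F (Fin n → F))
    (hW : W.map (Matrix.toLin' (b : Matrix (Fin n) (Fin n) F)) ≤ W) :
    W ≤ (W ⊓ genK b) ⊔ (W ⊓ genI b) := by
  have hfW : ∀ x ∈ W, fOp b x ∈ W := fOp_mem_of_map_le b W hW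
  obtain ⟨N, hK, hI⟩ := exists_pow_eq b
  have hc := LinearMap.isCompl_iSup_ker_pow_iInf_range_pow ((fOp b).restrict hfW)
  obtain ⟨M, hM⟩ := (LinearMap.eventually_iSup_ker_pow_eq ((fOp b).restrict hfW)).exists
  intro w hw
  have hw' : (⟨w, hw⟩ : W) ∈ (⨆ k, LinearMap.ker (((fOp b).restrict hfW) ^ k)) ⊔
      (⨅ k, LinearMap.range (((fOp b).restrict hfW) ^ k)) := by
    rw [hc.sup_eq_top]; trivial
  obtain ⟨u, hu, v, hv, huv⟩ := Submodule.mem_sup.mp hw'
  rw [hM] at hu
  have hv' := (Submodule.mem_iInf _).mp hv N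
  have h1 : (u : Fin n → F) ∈ W ⊓ genK b := by
    refine ⟨u.2, ?_⟩
    refine Submodule.mem_iSup_of_mem M ?_
    rw [LinearMap.mem_ker]
    have h3 := LinearMap.mem_ker.mp hu
    rw [Module.End.pow_restrict M] at h3
    have h4 := congrArg Subtype.val h3
    simpa using h4
  have h2 : (v : Fin n → F) ∈ W ⊓ genI b := by
    refine ⟨v.2, ?_⟩
    rw [hI]
    obtain ⟨y, hy⟩ := hv'
    rw [Module.End.pow_restrict N] at hy
    refine ⟨y, ?_⟩
    have h4 := congrArg Subtype.val hy
    simpa using h4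
  have h5 : w = u + v := by
    have h4 := congrArg Subtype.val huv
    simpa using h4.symm
  rw [h5]
  exact Submodule.add_mem_sup h1 h2

/-- a power of `b - 1` killing the generalised fixed space, injective on its complement, and
preserving every `b`-invariant subspace -/
theorem exists_kill (b : GL (Fin n) F) :
    ∃ f : Module.End F (Fin n → F), (∀ x ∈ genK b, f x = 0) ∧ (∀ x ∈ genI b, f x = 0 → x = 0) ∧
      ∀ W : Submodule F (Fin n → F),
        W.map (Matrix.toLin' (b : Matrix (Fin n) (Fin n) F)) ≤ W → ∀ x ∈ W, f x ∈ W := by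
  obtain ⟨N, hK, hI⟩ := exists_pow_eq b
  refine ⟨fOp b ^ N, ?_, ?_, ?_⟩
  · intro x hx
    rw [hK] at hx
    exact hx
  · intro x hx h0
    have h1 : x ∈ genK b := by rw [hK]; exact h0
    have h2 := (isCompl_genK_genI b).disjoint
    exact (Submodule.disjoint_def.mp h2) x h1 hx
  · intro W hW x hx
    exact Module.End.pow_apply_mem_of_forall_mem N (fOp_mem_of_map_le b W hW) x hx

/-- if the generalised fixed space of `b` is everything then `b` is unipotent -/
theorem unipotent_of_genK_eq_top (b : GL (Fin n) F) (h : genK b = ⊤) :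
    ∃ k : ℕ, (Matrix.toLin' (b : Matrix (Fin n) (Fin n) F) - 1) ^ k = 0 := by
  obtain ⟨N, hK, hI⟩ := exists_pow_eq b
  refine ⟨N, ?_⟩
  rw [hK] at h
  exact LinearMap.ker_eq_top.mp h

end Cfsg.Agent.Lib.Helper24.S5876
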