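import Mathlib
import Cfsg.Prelude.Def_GeometricClasses
import Cfsg.Agent.Lib.Helper24.S5876Defs
import Cfsg.Agent.Lib.Helper24.S5876P1A
import Cfsg.Agent.Lib.Helper24.S5876P1B

/-!
# S5876 FO-P1, part C: independence of separated subspaces, and the family of intersections of
generalised fixed spaces
-/

set_option autoImplicit false

namespace Cfsg.Agent.Lib.Helper24.S5876

open Matrix Module

variable {F : Type*} [Field F] {n : ℕ}

theorem finset_sup_mapsTo {ι : Type*} (D : ι → Submodule F (Fin n → F)) (s : Finset ι)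
    (f : Module.End F (Fin n → F)) (h : ∀ l ∈ s, ∀ x ∈ D l, f x ∈ D l) :
    ∀ x ∈ s.sup D, f x ∈ s.sup D := by
  have h1 : s.sup D ≤ (s.sup D).comap f := by
    refine Finset.sup_le fun l hl x hx => ?_
    exact (Finset.le_sup hl : D l ≤ s.sup D) (h l hl x hx)
  exact fun x hx => h1 hx

/-- subspaces separated from `X` by suitable operators have sum disjoint from `X` -/
theorem disjoint_finset_sup_of_sep {ι : Type*} (D : ι → Submodule F (Fin n → F))
    (X : Submodule F (Fin n → F)) (s : Finset ι)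
    (hsep : ∀ j ∈ s, ∃ f : Module.End F (Fin n → F), (∀ x ∈ D j, f x = 0) ∧
      (∀ x ∈ X, f x = 0 → x = 0) ∧ (∀ x ∈ X, f x ∈ X) ∧ ∀ l ∈ s, ∀ x ∈ D l, f x ∈ D l) :
    Disjoint X (s.sup D) := by
  classical
  induction s using Finset.induction_on with
  | empty => simp
  | insert j0 s hj0 ih =>
    have ih' : Disjoint X (s.sup D) := by
      apply ih
      intro j hj
      obtain ⟨f, h1, h2, h3, h4⟩ := hsep j (Finset.mem_insert_of_mem hj)
      exact ⟨f, h1, h2, h3, fun l hl => h4 l (Finset.mem_insert_of_mem hl)⟩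
    obtain ⟨f, h1, h2, h3, h4⟩ := hsep j0 (Finset.mem_insert_self j0 s)
    rw [Finset.sup_insert, Submodule.disjoint_def]
    intro x hxX hx
    obtain ⟨u, hu, v, hv, rfl⟩ := Submodule.mem_sup.mp hx
    have hfv : f v ∈ s.sup D :=
      finset_sup_mapsTo D s f (fun l hl => h4 l (Finset.mem_insert_of_mem hl)) v hv
    have h7 : f (u + v) = f v := by rw [map_add, h1 u hu, zero_add]
    have h5 : f (u + v) ∈ X := h3 _ hxX
    have h6 : f (u + v) = 0 := Submodule.disjoint_def.mp ih' _ h5 (h7 ▸ hfv)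
    exact h2 _ hxX h6

/-- the family of intersections of generalised fixed spaces of members of `C` -/
def IsFam (C : Set (GL (Fin n) F)) (X : Submodule F (Fin n → F)) : Prop :=
  ∃ T : Set (GL (Fin n) F), T ⊆ C ∧ X = ⨅ b ∈ T, genK b

theorem isFam_genK {C : Set (GL (Fin n) F)} {b : GL (Fin n) F} (hb : b ∈ C) :
    IsFam C (genK b) :=
  ⟨{b}, Set.singleton_subset_iff.mpr hb, iInf_singleton.symm⟩

theorem IsFam.inf_genK {C : Set (GL (Fin n) F)} {X : Submodule F (Fin n → F)} (hX : IsFam C X)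
    {b : GL (Fin n) F} (hb : b ∈ C) : IsFam C (X ⊓ genK b) := by
  obtain ⟨T, hT, rfl⟩ := hX
  exact ⟨insert b T, Set.insert_subset hb hT, by rw [iInf_insert, inf_comm]⟩

theorem IsFam.map_le {C : Set (GL (Fin n) F)} {X : Submodule F (Fin n → F)} (hX : IsFam C X)
    (hcomm : ∀ b ∈ C, ∀ c ∈ C, b * c = c * b) {b : GL (Fin n) F} (hb : b ∈ C) :
    X.map (Matrix.toLin' (b : Matrix (Fin n) (Fin n) F)) ≤ X := by
  obtain ⟨T, hT, rfl⟩ := hX
  refine le_iInf₂ fun c hc => ?_
  have h1 : (⨅ b ∈ T, genK b) ≤ genK c := iInf₂_le c hc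
  have h2 := map_genK_le b c
  have h3 : b * c * b⁻¹ = c := by
    rw [hcomm b hb c (hT hc), mul_inv_cancel_right]
  rw [h3] at h2
  exact le_trans (Submodule.map_mono h1) h2

theorem IsFam.map {C : Set (GL (Fin n) F)} {X : Submodule F (Fin n → F)} (hX : IsFam C X)
    (h : GL (Fin n) F) (hC : ∀ c ∈ C, h * c * h⁻¹ ∈ C) (hC' : ∀ c ∈ C, h⁻¹ * c * h ∈ C) :
    IsFam C (X.map (Matrix.toLin' (h : Matrix (Fin n) (Fin n) F))) := by
  obtain ⟨T, hT, rfl⟩ := hX
  refine ⟨{c | h⁻¹ * c * h ∈ T}, ?_, ?_⟩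
  · intro c hc
    have hc' : h⁻¹ * c * h ∈ T := hc
    have h1 := hC (h⁻¹ * c * h) (hT hc')
    have h2 : h * (h⁻¹ * c * h) * h⁻¹ = c := by group
    rwa [h2] at h1
  · apply le_antisymm
    · refine le_iInf₂ fun c hc => ?_
      have hc' : h⁻¹ * c * h ∈ T := hc
      have h1 : (⨅ b ∈ T, genK b) ≤ genK (h⁻¹ * c * h) := iInf₂_le (h⁻¹ * c * h) hc'
      have h2 := map_genK_le h (h⁻¹ * c * h)
      have h3 : h * (h⁻¹ * c * h) * h⁻¹ = c := by group
      rw [h3] at h2
      exact le_trans (Submodule.map_mono h1) h2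
    · apply le_map_of_map_inv_le
      refine le_iInf₂ fun b hb => ?_
      have hmem : h * b * h⁻¹ ∈ {c | h⁻¹ * c * h ∈ T} := by
        show h⁻¹ * (h * b * h⁻¹) * h ∈ T
        have h3 : h⁻¹ * (h * b * h⁻¹) * h = b := by group
        rw [h3]; exact hb
      have h1 : (⨅ c ∈ {c | h⁻¹ * c * h ∈ T}, genK c) ≤ genK (h * b * h⁻¹) := iInf₂_le _ hmem
      have h2 := map_genK_le h⁻¹ (h * b * h⁻¹)
      have h3 : h⁻¹ * (h * b * h⁻¹) * h⁻¹⁻¹ = b := by group
      rw [h3] at h2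
      exact le_trans (Submodule.map_mono h1) h2

end Cfsg.Agent.Lib.Helper24.S5876
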