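import Mathlib
import Cfsg.Prelude.Def_GeometricClasses
import Cfsg.Agent.Lib.Helper24.S5876Defs
import Cfsg.Agent.Lib.Helper24.S5876P1A
import Cfsg.Agent.Lib.Helper24.S5876P1B
import Cfsg.Agent.Lib.Helper24.S5876P1C

/-!
# S5876 FO-P1, part D: an element of an abelian subgroup normalised by an irreducible primitive
group that fixes a nonzero vector is unipotent
-/

set_option autoImplicit false

namespace Cfsg.Agent.Lib.Helper24.S5876

open Matrix Module

variable {F : Type*} [Field F] {n : ℕ}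

theorem finite_submodule [Fintype F] : Finite (Submodule F (Fin n → F)) :=
  Finite.of_injective (fun S : Submodule F (Fin n → F) => (S : Set (Fin n → F)))
    SetLike.coe_injective

set_option maxHeartbeats 1600000 in
theorem genK_eq_top_of_fix [Fintype F] (G : Subgroup (GL (Fin n) F))
    (hirr : Cfsg.Geo.ActsIrreducibly (Cfsg.Geo.matrixSet G))
    (hprim : ∀ (m t : ℕ) (D : Fin t → Submodule F (Fin n → F)), 2 ≤ t →
      Cfsg.Geo.IsMDecomposition m D → ¬ G ≤ Cfsg.Geo.decompositionStabilizer D)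
    (A : Subgroup (GL (Fin n) F)) (hN : NormBy G A)
    (hcomm : ∀ a ∈ A, ∀ b ∈ A, a * b = b * a) (a : GL (Fin n) F) (ha : a ∈ A)
    (hfix : fixS a ≠ ⊥) : genK a = ⊤ := by
  classical
  obtain ⟨C, hCdef⟩ : ∃ C : Set (GL (Fin n) F), C = {b | ∃ h ∈ G, b = h * a * h⁻¹} := ⟨_, rfl⟩
  have hCmem : ∀ b, b ∈ C ↔ ∃ h ∈ G, b = h * a * h⁻¹ := by intro b; rw [hCdef]; rfl
  have haC : a ∈ C := (hCmem a).mpr ⟨1, G.one_mem, by group⟩
  have hCA : ∀ b ∈ C, b ∈ A := by
    intro b hb
    obtain ⟨h, hh, rfl⟩ := (hCmem b).mp hb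
    exact hN h hh a ha
  have hCcomm : ∀ b ∈ C, ∀ c ∈ C, b * c = c * b :=
    fun b hb c hc => hcomm b (hCA b hb) c (hCA c hc)
  have hCconj : ∀ g ∈ G, ∀ c ∈ C, g * c * g⁻¹ ∈ C := by
    intro g hg c hc
    obtain ⟨h, hh, rfl⟩ := (hCmem c).mp hc
    exact (hCmem _).mpr ⟨g * h, G.mul_mem hg hh, by group⟩
  have hCconj' : ∀ g ∈ G, ∀ c ∈ C, g⁻¹ * c * g ∈ C := by
    intro g hg c hc
    have h1 := hCconj g⁻¹ (G.inv_mem hg) c hc
    rwa [inv_inv] at h1
  -- a minimal nonzero member of the family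
  have hgenKa : genK a ≠ ⊥ := fun h0 => hfix (le_bot_iff.mp (h0 ▸ fixS_le_genK a))
  have hne : ∃ d : ℕ, ∃ X, IsFam C X ∧ X ≠ ⊥ ∧ finrank F X = d :=
    ⟨_, genK a, isFam_genK haC, hgenKa, rfl⟩
  obtain ⟨W, hWfam, hWne, hWd⟩ := Nat.find_spec hne
  have hWmin : ∀ X, IsFam C X → X ≠ ⊥ → finrank F W ≤ finrank F X := by
    intro X hX hX0
    rw [hWd]
    exact Nat.find_min' hne ⟨X, hX, hX0, rfl⟩
  -- atoms lie inside or outside each generalised fixed space
  have hA1 : ∀ X, IsFam C X → finrank F X = finrank F W → ∀ b ∈ C,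
      X ≤ genK b ∨ X ≤ genI b := by
    intro X hX hXd b hb
    by_cases h0 : X ⊓ genK b = ⊥
    · right
      have h1 := le_sup_inf_genK_genI b X (hX.map_le hCcomm hb)
      rw [h0, bot_sup_eq] at h1
      exact le_trans h1 inf_le_right
    · left
      have h1 := hWmin _ (hX.inf_genK hb) h0
      have h2 : X ⊓ genK b = X :=
        Submodule.eq_of_le_of_finrank_le inf_le_left (by rw [hXd]; exact h1)
      rw [← h2]; exact inf_le_right
  -- distinct atoms are separated
  have hA2 : ∀ X Y, IsFam C X → finrank F X = finrank F W → IsFam C Y →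
      finrank F Y = finrank F W → X ≠ Y → ∃ b ∈ C, X ≤ genK b ∧ Y ≤ genI b := by
    intro X Y hX hXd hY hYd hXY
    by_contra hcon
    push Not at hcon
    apply hXY
    obtain ⟨T, hT, hXT⟩ := hX
    have h1 : Y ≤ X := by
      rw [hXT]
      refine le_iInf₂ fun c hc => ?_
      have h2 : X ≤ genK c := by rw [hXT]; exact iInf₂_le c hc
      rcases hA1 Y hY hYd c (hT hc) with h3 | h3
      · exact h3
      · exact absurd h3 (hcon c (hT hc) h2)
    exact (Submodule.eq_of_le_of_finrank_le h1 (by rw [hXd, hYd])).symm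
  -- the orbit of `W`
  obtain ⟨Ω, hΩdef⟩ : ∃ Ω : Set (Submodule F (Fin n → F)),
      Ω = {X | ∃ g ∈ G, X = W.map (Matrix.toLin' (g : Matrix (Fin n) (Fin n) F))} := ⟨_, rfl⟩
  have hΩmem : ∀ X, X ∈ Ω ↔ ∃ g ∈ G, X = W.map (Matrix.toLin' (g : Matrix (Fin n) (Fin n) F)) := by
    intro X; rw [hΩdef]; rfl
  have hWΩ : W ∈ Ω := (hΩmem W).mpr ⟨1, G.one_mem, by simp⟩
  have hΩfam : ∀ X ∈ Ω, IsFam C X ∧ finrank F X = finrank F W := by
    intro X hX
    obtain ⟨g, hg, rfl⟩ := (hΩmem X).mp hX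
    exact ⟨hWfam.map g (hCconj g hg) (hCconj' g hg), finrank_map_toLin' g W⟩
  have hΩmap : ∀ g ∈ G, ∀ X ∈ Ω, X.map (Matrix.toLin' (g : Matrix (Fin n) (Fin n) F)) ∈ Ω := by
    intro g hg X hX
    obtain ⟨h, hh, rfl⟩ := (hΩmem X).mp hX
    refine (hΩmem _).mpr ⟨g * h, G.mul_mem hg hh, ?_⟩
    rw [Units.val_mul, Matrix.toLin'_mul, Submodule.map_comp]
  -- the sum of the orbit is everything
  have hU : (⨆ X : Ω, (X : Submodule F (Fin n → F))) = ⊤ := by
    have hinv : ∀ s ∈ Cfsg.Geo.matrixSet G,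
        (⨆ X : Ω, (X : Submodule F (Fin n → F))).map (Matrix.toLin' s)
          ≤ ⨆ X : Ω, (X : Submodule F (Fin n → F)) := by
      rintro s ⟨g, hg, rfl⟩
      rw [Submodule.map_iSup]
      refine iSup_le fun X => ?_
      exact le_iSup (fun X : Ω => (X : Submodule F (Fin n → F))) ⟨_, hΩmap g hg X.1 X.2⟩
    rcases hirr _ hinv with h | h
    · exfalso
      apply hWne
      have h1 : W ≤ ⨆ X : Ω, (X : Submodule F (Fin n → F)) :=
        le_iSup (fun X : Ω => (X : Submodule F (Fin n → F))) ⟨W, hWΩ⟩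
      rw [h] at h1
      exact le_bot_iff.mp h1
    · exact h
  haveI : Finite (Submodule F (Fin n → F)) := finite_submodule
  haveI : Finite Ω := Subtype.finite
  obtain ⟨e⟩ : Nonempty (Ω ≃ Fin (Nat.card Ω)) := ⟨Finite.equivFin Ω⟩
  by_cases ht : 2 ≤ Nat.card Ω
  · exfalso
    obtain ⟨D, hD⟩ : ∃ D : Fin (Nat.card Ω) → Submodule F (Fin n → F),
        ∀ i, D i = ((e.symm i : Ω) : Submodule F (Fin n → F)) := ⟨_, fun _ => rfl⟩
    have hDfam : ∀ i, IsFam C (D i) ∧ finrank F (D i) = finrank F W := by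
      intro i; rw [hD]; exact hΩfam _ (e.symm i).2
    have hDinj : ∀ i j, i ≠ j → D i ≠ D j := by
      intro i j hij h1
      rw [hD, hD] at h1
      exact hij (e.symm.injective (Subtype.ext h1))
    have hdec : Cfsg.Geo.IsMDecomposition (finrank F W) D := by
      refine ⟨ht, ?_, fun i => (hDfam i).2, ?_, ?_⟩
      · rcases Nat.eq_zero_or_pos (finrank F W) with h0 | h0
        · exact absurd (Submodule.finrank_eq_zero.mp h0) hWne
        · exact h0
      · rw [iSupIndep_iff_supIndep_univ]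
        intro s _ i _ his
        apply disjoint_finset_sup_of_sep
        intro j hj
        have hji : j ≠ i := fun h1 => his (h1 ▸ hj)
        obtain ⟨b, hb, h1, h2⟩ := hA2 (D j) (D i) (hDfam j).1 (hDfam j).2 (hDfam i).1 (hDfam i).2
          (hDinj j i hji)
        obtain ⟨f, hf1, hf2, hf3⟩ := exists_kill b
        refine ⟨f, fun x hx => hf1 x (h1 hx), fun x hx => hf2 x (h2 hx), ?_, ?_⟩
        · exact hf3 (D i) ((hDfam i).1.map_le hCcomm hb)
        · intro l _
          exact hf3 (D l) ((hDfam l).1.map_le hCcomm hb)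
      · rw [← hU]
        have h1 : (⨆ i, D i) = ⨆ i, ((e.symm i : Ω) : Submodule F (Fin n → F)) :=
          iSup_congr hD
        rw [h1]
        exact e.symm.iSup_comp (g := fun X : Ω => (X : Submodule F (Fin n → F)))
    apply hprim _ _ D ht hdec
    intro g hg
    have hinj : Function.Injective (fun X : Ω =>
        (⟨(X : Submodule F (Fin n → F)).map (Matrix.toLin' (g : Matrix (Fin n) (Fin n) F)),
          hΩmap g hg X.1 X.2⟩ : Ω)) := by
      intro X Y hXY
      have h1 := congrArg Subtype.val hXY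
      exact Subtype.ext (Submodule.map_injective_of_injective (toLin'_injective g) h1)
    have hbij := Finite.injective_iff_bijective.mp hinj
    refine ⟨(e.symm.trans (Equiv.ofBijective _ hbij)).trans e, fun i => ?_⟩
    rw [hD, hD, Equiv.trans_apply, Equiv.trans_apply, Equiv.symm_apply_apply,
      Equiv.ofBijective_apply]
  · -- the orbit is a single subspace
    have hsub : Subsingleton Ω := by
      rw [← Finite.card_le_one_iff_subsingleton]
      omega
    have hWtop : W = ⊤ := by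
      rw [← hU]
      apply le_antisymm
      · exact le_iSup (fun X : Ω => (X : Submodule F (Fin n → F))) ⟨W, hWΩ⟩
      · refine iSup_le fun X => ?_
        rw [Subsingleton.elim X ⟨W, hWΩ⟩]
    rcases hA1 W hWfam rfl a haC with h1 | h1
    · rw [hWtop] at h1
      exact top_le_iff.mp h1
    · exfalso
      apply hfix
      rw [hWtop] at h1
      have h2 : fixS a ≤ genK a ⊓ genI a :=
        le_inf (fixS_le_genK a) (le_trans le_top h1)
      rw [(isCompl_genK_genI a).inf_eq_bot] at h2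
      exact le_bot_iff.mp h2

end Cfsg.Agent.Lib.Helper24.S5876
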