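import Mathlib
import Cfsg.Prelude.Def_GeometricClasses
import Cfsg.Agent.Lib.Helper24.S5876Defs
import Cfsg.Agent.Lib.Helper24.S5876P1D
import Cfsg.Agent.Lib.Helper21.S5876FOP1U

/-!
# S5876 FO-P1: abelian subgroups normalised by an irreducible primitive linear group are semiregular
-/

set_option autoImplicit false

namespace Cfsg.Agent.Lib.Helper24.S5876

open Matrix Module

variable {F : Type*} [Field F] {n : ℕ}

/-- FO-P1 (Clifford + primitivity): abelian subgroups normalised by an irreducible primitive `G`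
are semiregular. -/
theorem semiReg_of_primitive [Fintype F] (G : Subgroup (GL (Fin n) F))
    (hirr : Cfsg.Geo.ActsIrreducibly (Cfsg.Geo.matrixSet G))
    (hprim : ∀ (m t : ℕ) (D : Fin t → Submodule F (Fin n → F)), 2 ≤ t →
      Cfsg.Geo.IsMDecomposition m D → ¬ G ≤ Cfsg.Geo.decompositionStabilizer D) :
    SemiReg G := by
  intro A hAG hN hcomm a ha ha1
  by_contra hfix
  have h1 := genK_eq_top_of_fix G hirr hprim A hN hcomm a ha hfix
  exact ha1 (Cfsg.Agent.Lib.Helper21.S5876P1U.eq_one_of_unipotent G A hirr hAG hN hcomm a ha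
    (unipotent_of_genK_eq_top a h1))

end Cfsg.Agent.Lib.Helper24.S5876
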