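import Mathlib
import Cfsg.Agent.Lib.Helper24.SigmaOdd
import Cfsg.Agent.Lib.Helper2.Integrality
import Cfsg.Agent.Lib.Helper2.DirectProduct
import Cfsg.Agent.Lib.Helper7.Kulshammer
import Cfsg.Agent.Lib.Helper7.Induced
import Cfsg.Agent.Lib.Helper7.PPrimeNormal
import Cfsg.Agent.Lib.Helper2.NormalInduction
import Cfsg.Agent.Lib.Helper2.Expansion

/-!
# Characters fixed by a power map inverting odd-order elements, over a normal subgroup of odd
index: the parity lemma (helper24 library)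

`N ⊴ G` of odd index, `k` coprime to `|G|` with `g ^ k = g⁻¹` for `g` of odd order.

* `pow_succ_mem_of_odd_index`: `g ^ (k + 1) ∈ N` for all `g`;
* `sum_eq_add_two_mul_of_inv`: pairing `q ↔ q⁻¹` in a group of odd order;
* `classInner_restrict_parity`: for `χ₁ χ₂ ∈ Irr(G)` fixed by the power map,
  `[χ₁|_N, χ₂|_N]` is a natural number which is odd iff `χ₁ = χ₂`.
-/

set_option autoImplicit false
set_option linter.unusedSectionVars false
set_option linter.style.haveILetI false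

open scoped ComplexConjugate
open Cfsg.Agent.Lib.Helper2

namespace Cfsg.Agent.Lib.Helper24

section Pairing

/-- in a group of odd order, only the identity is its own inverse -/
theorem eq_one_of_inv_eq_self_of_odd {Q : Type*} [Group Q] [Finite Q] (hodd : Odd (Nat.card Q))
    {q : Q} (h : q⁻¹ = q) : q = 1 := by
  have h2 : q ^ 2 = 1 := by
    rw [pow_two]
    nth_rewrite 1 [← h]
    exact inv_mul_cancel q
  have h3 : orderOf q ∣ 2 := orderOf_dvd_of_pow_eq_one h2
  have h4 : orderOf q ∣ Nat.card Q := orderOf_dvd_natCard q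
  have h5 : Nat.Coprime (Nat.card Q) 2 := Nat.Coprime.symm (Nat.coprime_two_left.mpr hodd)
  have h6 : orderOf q = 1 := Nat.eq_one_of_dvd_coprimes h5 h4 h3
  exact orderOf_eq_one_iff.mp h6

/-- pairing `q ↔ q⁻¹` in a group of odd order -/
theorem sum_eq_add_two_mul_of_inv {Q : Type*} [Group Q] [Fintype Q] (hodd : Odd (Nat.card Q))
    (A : Q → ℂ) (hinv : ∀ q, A q⁻¹ = A q) (hint : ∀ q, IsIntegral ℤ (A q)) :
    ∃ z : ℂ, IsIntegral ℤ z ∧ ∑ q, A q = A 1 + 2 * z := by
  classical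
  letI : LinearOrder Q := LinearOrder.lift' (Fintype.equivFin Q) (Equiv.injective _)
  refine ⟨∑ q, if q < q⁻¹ then A q else 0, ?_, ?_⟩
  · apply IsIntegral.sum
    intro q _
    split_ifs
    · exact hint q
    · exact isIntegral_zero
  · have h1 : ∀ q : Q, A q = (if q = 1 then A q else 0) + (if q < q⁻¹ then A q else 0)
        + (if q⁻¹ < q then A q else 0) := by
      intro q
      by_cases hq : q = 1
      · subst hq
        simp
      · have hne : q⁻¹ ≠ q := fun h => hq (eq_one_of_inv_eq_self_of_odd hodd h)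
        rcases lt_trichotomy q q⁻¹ with h | h | h
        · rw [if_neg hq, if_pos h, if_neg (not_lt.mpr h.le)]
          ring
        · exact absurd h.symm hne
        · rw [if_neg hq, if_neg (not_lt.mpr h.le), if_pos h]
          ring
    have h2 : ∑ q : Q, (if q⁻¹ < q then A q else 0) = ∑ q : Q, (if q < q⁻¹ then A q else 0) := by
      rw [← Equiv.sum_comp (Equiv.inv Q)]
      apply Finset.sum_congr rfl
      intro q _
      simp only [Equiv.inv_apply, inv_inv, hinv]
    rw [Finset.sum_congr rfl (fun q _ => h1 q), Finset.sum_add_distrib, Finset.sum_add_distrib,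
      h2, Finset.sum_ite_eq' Finset.univ (1 : Q) A]
    simp only [Finset.mem_univ, if_true]
    ring

end Pairing

section Star

variable {G : Type*} [Group G] [Finite G] (N : Subgroup G) [hN : N.Normal]

/-- `g ^ (k + 1) ∈ N` when `N` has odd index and the power map inverts odd-order elements -/
theorem pow_succ_mem_of_odd_index (hidx : Odd N.index) (k : ℕ)
    (hk₂ : ∀ g : G, Odd (orderOf g) → g ^ k = g⁻¹) (g : G) : g ^ (k + 1) ∈ N := by
  obtain ⟨a, ha⟩ : ∃ a, a = (Nat.card G).factorization 2 := ⟨_, rfl⟩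
  obtain ⟨r, hr⟩ : ∃ r, r = ordCompl[2] (Nat.card G) := ⟨_, rfl⟩
  have hcard : Nat.card G = 2 ^ a * r := by
    rw [ha, hr]
    exact (Nat.ordProj_mul_ordCompl_eq_self (Nat.card G) 2).symm
  have hrodd : Odd r := by
    rw [← Nat.not_even_iff_odd, even_iff_two_dvd, hr]
    exact Nat.not_dvd_ordCompl Nat.prime_two Nat.card_pos.ne'
  have hu : (g ^ (2 ^ a)) ^ r = 1 := by
    rw [← pow_mul, ← hcard]
    exact pow_card_eq_one'
  have huodd : Odd (orderOf (g ^ (2 ^ a))) := by
    obtain ⟨c, hc⟩ := orderOf_dvd_of_pow_eq_one hu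
    rw [hc] at hrodd
    exact (Nat.odd_mul.mp hrodd).1
  have h1 := hk₂ _ huodd
  have h2 : g ^ (2 ^ a * (k + 1)) = 1 := by
    rw [pow_mul, pow_succ, h1]
    exact inv_mul_cancel _
  have h3 : ((g : G ⧸ N)) ^ (2 ^ a * (k + 1)) = 1 := by
    rw [← QuotientGroup.mk_pow, h2]
    rfl
  have h4 : orderOf (g : G ⧸ N) ∣ 2 ^ a * (k + 1) := orderOf_dvd_of_pow_eq_one h3
  have h5 : orderOf (g : G ⧸ N) ∣ N.index := by
    have : Nat.card (G ⧸ N) = N.index := rfl
    rw [← this]
    exact orderOf_dvd_natCard _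
  have h6 : Nat.Coprime (orderOf (g : G ⧸ N)) (2 ^ a) := by
    apply Nat.Coprime.pow_right
    apply Nat.Coprime.symm
    rw [Nat.coprime_two_left]
    obtain ⟨c, hc⟩ := h5
    rw [hc] at hidx
    exact (Nat.odd_mul.mp hidx).1
  have h7 : orderOf (g : G ⧸ N) ∣ k + 1 := h6.dvd_of_dvd_mul_left h4
  have h8 : ((g : G ⧸ N)) ^ (k + 1) = 1 := orderOf_dvd_iff_pow_eq_one.mp h7
  rw [← QuotientGroup.mk_pow] at h8
  exact (QuotientGroup.eq_one_iff _).mp h8

theorem mk_pow_eq_inv (hidx : Odd N.index) (k : ℕ)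
    (hk₂ : ∀ g : G, Odd (orderOf g) → g ^ k = g⁻¹) (g : G) :
    ((g ^ k : G) : G ⧸ N) = ((g : G ⧸ N))⁻¹ := by
  have h := pow_succ_mem_of_odd_index N hidx k hk₂ g
  have h1 : (((g ^ (k + 1) : G)) : G ⧸ N) = 1 := (QuotientGroup.eq_one_iff _).mpr h
  rw [pow_succ, QuotientGroup.mk_mul] at h1
  exact eq_inv_of_mul_eq_one_left h1

end Star

section CosetAvg

variable {G : Type*} [Group G] [Fintype G] (N : Subgroup G) [hN : N.Normal] [Fintype N]

open Classical in
/-- the indicator function of `N` -/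
noncomputable def subInd : G → ℂ := fun y => if y ∈ N then 1 else 0

theorem subInd_isClassFunction : Cfsg.IsClassFunction G (subInd N) := by
  intro g x
  unfold subInd
  have h : x * g * x⁻¹ ∈ N ↔ g ∈ N := by
    constructor
    · intro h
      have h1 := hN.conj_mem _ h x⁻¹
      have h2 : x⁻¹ * (x * g * x⁻¹) * x⁻¹⁻¹ = g := by group
      rw [h2] at h1
      exact h1
    · intro h
      exact hN.conj_mem _ h x
  by_cases hg : g ∈ N
  · rw [if_pos (h.mpr hg), if_pos hg]
  · rw [if_neg (fun h' => hg (h.mp h')), if_neg hg]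

theorem sum_subInd_mul (f : G → ℂ) : ∑ g : G, subInd N g * f g = ∑ n : N, f n := by
  rw [← sum_extendByZero N (fun n : N => f n)]
  apply Finset.sum_congr rfl
  intro y _
  unfold subInd
  by_cases hy : y ∈ N
  · rw [if_pos hy, one_mul, Cfsg.Agent.Lib.Helper7.extendByZero_apply_mem N _ hy]
  · rw [if_neg hy, zero_mul, Cfsg.Agent.Lib.Helper7.extendByZero_apply_not_mem N _ hy]

open Classical in
/-- the average of `φ` over a coset of `N` -/
noncomputable def cosetAvg (φ : G → ℂ) (q : G ⧸ N) : ℂ :=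
  (Nat.card N : ℂ)⁻¹ * ∑ g : G, if (g : G ⧸ N) = q then φ g else 0

theorem sum_cosetAvg [Fintype (G ⧸ N)] (φ : G → ℂ) :
    ∑ q : G ⧸ N, cosetAvg N φ q = (Nat.card N : ℂ)⁻¹ * ∑ g : G, φ g := by
  classical
  unfold cosetAvg
  rw [← Finset.mul_sum, Finset.sum_comm]
  congr 1
  apply Finset.sum_congr rfl
  intro g _
  rw [Finset.sum_ite_eq Finset.univ (g : G ⧸ N) (fun _ => φ g)]
  simp

theorem cosetAvg_mk (φ : G → ℂ) (x : G) :
    cosetAvg N φ (x : G ⧸ N) = (Nat.card N : ℂ)⁻¹ * ∑ y : G, φ (x * y) * subInd N y := by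
  classical
  unfold cosetAvg subInd
  congr 1
  rw [← Equiv.sum_comp (Equiv.mulLeft x)]
  apply Finset.sum_congr rfl
  intro y _
  show (if (((x * y : G)) : G ⧸ N) = (x : G ⧸ N) then φ (x * y) else 0) = _
  have h : (((x * y : G)) : G ⧸ N) = (x : G ⧸ N) ↔ y ∈ N := by
    rw [QuotientGroup.eq]
    have h1 : (x * y)⁻¹ * x = y⁻¹ := by group
    rw [h1, inv_mem_iff]
  by_cases hy : y ∈ N
  · rw [if_pos (h.mpr hy), if_pos hy, mul_one]
  · rw [if_neg (fun h' => hy (h.mp h')), if_neg hy, mul_zero]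

theorem cosetAvg_one (φ : G → ℂ) :
    cosetAvg N φ 1 = (Nat.card N : ℂ)⁻¹ * ∑ n : N, φ n := by
  have h := cosetAvg_mk N φ 1
  rw [QuotientGroup.mk_one] at h
  rw [h, ← sum_subInd_mul N φ]
  congr 1
  apply Finset.sum_congr rfl
  intro y _
  rw [one_mul, mul_comm]

theorem cosetAvg_inv (hidx : Odd N.index) (k : ℕ) (hk : k.Coprime (Nat.card G))
    (hk₂ : ∀ g : G, Odd (orderOf g) → g ^ k = g⁻¹) (φ : G → ℂ) (hφ : ∀ g, φ (g ^ k) = φ g)
    (q : G ⧸ N) : cosetAvg N φ q⁻¹ = cosetAvg N φ q := by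
  classical
  unfold cosetAvg
  congr 1
  rw [← Equiv.sum_comp (powCoprime hk.symm)]
  apply Finset.sum_congr rfl
  intro g _
  rw [powCoprime_apply, hφ, mk_pow_eq_inv N hidx k hk₂ g]
  simp only [inv_inj]

theorem cosetAvg_sum_smul {ι : Type*} (s : Finset ι) (c : ι → ℂ) (f : ι → G → ℂ) (x : G) :
    cosetAvg N (∑ i ∈ s, c i • f i) (x : G ⧸ N) = ∑ i ∈ s, c i * cosetAvg N (f i) (x : G ⧸ N) := by
  simp only [cosetAvg_mk, Finset.sum_apply, Pi.smul_apply, smul_eq_mul, Finset.sum_mul,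
    Finset.mul_sum]
  rw [Finset.sum_comm]
  apply Finset.sum_congr rfl
  intro i _
  apply Finset.sum_congr rfl
  intro y _
  ring

/-- a constituent of the restriction to `N` of which is trivial has `N` in its kernel -/
theorem const_on_of_restrict_over_one (β : Cfsg.IrrCharacter G)
    (hne : Cfsg.classInner (fun n : N => (β : G → ℂ) n) (fun _ : N => (1 : ℂ)) ≠ 0) :
    ∀ n ∈ N, (β : G → ℂ) n = (β : G → ℂ) 1 := by
  have hβcf : Cfsg.IsClassFunction G (β : G → ℂ) := IrrCharacter.isClassFunction β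
  have hne' : Cfsg.classInner (Cfsg.indFun N (fun _ : N => (1 : ℂ))) (β : G → ℂ) ≠ 0 := by
    rw [frobenius_reciprocity N _ _ hβcf]
    rw [← classInner_conj_symm]
    intro h
    apply hne
    have := congrArg (starRingEnd ℂ) h
    simpa using this
  exact Cfsg.Agent.Lib.Helper25.const_on_of_over_one N β.2 hne'

theorem cosetAvg_irr_isIntegral (β : Cfsg.IrrCharacter G) (x : G) :
    IsIntegral ℤ (cosetAvg N (β : G → ℂ) (x : G ⧸ N)) := by
  have hN0 : (Nat.card N : ℂ) ≠ 0 := Nat.cast_ne_zero.mpr Nat.card_pos.ne'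
  rw [cosetAvg_mk,
    Cfsg.Agent.Lib.Helper7.sum_char_mul_classFunction β.2 _ (subInd_isClassFunction N) x]
  have hci : Cfsg.classInner (fun n : N => (β : G → ℂ) n) (fun _ : N => (1 : ℂ))
      = (Nat.card N : ℂ)⁻¹ * ∑ n : N, (β : G → ℂ) n := by
    rw [classInner_def]
    congr 1
    apply Finset.sum_congr rfl
    intro n _
    simp
  by_cases h0 : Cfsg.classInner (fun n : N => (β : G → ℂ) n) (fun _ : N => (1 : ℂ)) = 0
  · have h1 : omega (β : G → ℂ) (subInd N) = 0 := by
      unfold omega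
      rw [sum_subInd_mul N (β : G → ℂ)]
      rw [hci] at h0
      have h2 : ∑ n : N, (β : G → ℂ) n = 0 := by
        rcases mul_eq_zero.mp h0 with h | h
        · exact absurd h (inv_ne_zero hN0)
        · exact h
      rw [h2, zero_div]
    rw [h1, mul_zero, mul_zero]
    exact isIntegral_zero
  · have hker := const_on_of_restrict_over_one N β h0
    have hne1 : (β : G → ℂ) 1 ≠ 0 := Cfsg.Agent.Lib.Helper25.irr_one_ne_zero β.2
    have h1 : omega (β : G → ℂ) (subInd N) = (Nat.card N : ℂ) := by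
      unfold omega
      rw [sum_subInd_mul N (β : G → ℂ)]
      have h2 : ∑ n : N, (β : G → ℂ) n = (Nat.card N : ℂ) * (β : G → ℂ) 1 := by
        rw [Finset.sum_congr rfl (fun (n : N) _ => hker (n : G) n.2), Finset.sum_const, Finset.card_univ,
          nsmul_eq_mul, Nat.card_eq_fintype_card]
      rw [h2]
      field_simp
    rw [h1]
    have h3 : (Nat.card N : ℂ)⁻¹ * ((β : G → ℂ) x * (Nat.card N : ℂ)) = (β : G → ℂ) x := by
      field_simp
    rw [h3]
    exact Cfsg.Agent.Lib.Helper7.irr_value_isIntegral β x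

theorem cosetAvg_isIntegral {φ : G → ℂ} (hφ : Cfsg.IsCharacter G φ) (q : G ⧸ N) :
    IsIntegral ℤ (cosetAvg N φ q) := by
  classical
  haveI : Fintype (Cfsg.IrrCharacter G) := Fintype.ofFinite _
  obtain ⟨x, rfl⟩ := QuotientGroup.mk_surjective q
  have hexp := classFunction_expansion φ (Cfsg.Agent.Lib.Helper25.isClassFunction_of_char hφ)
  rw [hexp, cosetAvg_sum_smul]
  apply IsIntegral.sum
  intro β _
  apply IsIntegral.mul
  · obtain ⟨n, hn⟩ := classInner_isCharacter_nat hφ (Cfsg.Agent.Lib.Helper25.isCharacter_of_irr β.2)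
    rw [hn]
    exact isIntegral_algebraMap (R := ℤ) (A := ℂ) (x := (n : ℤ)) |> fun h => by simpa using h
  · exact cosetAvg_irr_isIntegral N β x

end CosetAvg

section Parity

variable {G : Type*} [Group G] [Fintype G] (N : Subgroup G) [hN : N.Normal] [Fintype N]

/-- **Parity lemma**: for irreducible characters `χ₁ χ₂` of `G` fixed by the power map, the
inner product of their restrictions to the normal subgroup `N` of odd index is odd iff
`χ₁ = χ₂`. -/
theorem classInner_restrict_parity (hidx : Odd N.index) (k : ℕ) (hk : k.Coprime (Nat.card G))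
    (hk₂ : ∀ g : G, Odd (orderOf g) → g ^ k = g⁻¹) (χ₁ χ₂ : Cfsg.IrrCharacter G)
    (h₁ : ∀ g, (χ₁ : G → ℂ) (g ^ k) = (χ₁ : G → ℂ) g)
    (h₂ : ∀ g, (χ₂ : G → ℂ) (g ^ k) = (χ₂ : G → ℂ) g) :
    ∃ m : ℕ, Cfsg.classInner (fun n : N => (χ₁ : G → ℂ) n) (fun n : N => (χ₂ : G → ℂ) n)
      = (m : ℂ) ∧ (Odd m ↔ χ₁ = χ₂) := by
  classical
  haveI : Fintype (G ⧸ N) := Fintype.ofFinite _
  have hc₁ : Cfsg.IsCharacter G (χ₁ : G → ℂ) := Cfsg.Agent.Lib.Helper25.isCharacter_of_irr χ₁.2
  have hc₂ : Cfsg.IsCharacter G (χ₂ : G → ℂ) := Cfsg.Agent.Lib.Helper25.isCharacter_of_irr χ₂.2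
  obtain ⟨m, hm⟩ := classInner_isCharacter_nat (IsCharacter.restrict hc₁ N)
    (IsCharacter.restrict hc₂ N)
  refine ⟨m, hm, ?_⟩
  have hφc : Cfsg.IsCharacter G ((χ₁ : G → ℂ) * (fun g => conj ((χ₂ : G → ℂ) g))) :=
    isCharacter_mul hc₁ (Cfsg.Agent.Lib.Helper25.isCharacter_of_irr (isIrrCharacter_conj χ₂.2))
  obtain ⟨φ, hφ⟩ : ∃ φ : G → ℂ, φ = (χ₁ : G → ℂ) * (fun g => conj ((χ₂ : G → ℂ) g)) := ⟨_, rfl⟩
  rw [← hφ] at hφc
  have hφa : ∀ g, φ g = (χ₁ : G → ℂ) g * conj ((χ₂ : G → ℂ) g) := by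
    intro g; rw [hφ]; rfl
  have hφk : ∀ g, φ (g ^ k) = φ g := by
    intro g
    rw [hφa, hφa, h₁, h₂]
  have hodd : Odd (Nat.card (G ⧸ N)) := hidx
  obtain ⟨z, hz, hsum⟩ := sum_eq_add_two_mul_of_inv hodd (cosetAvg N φ)
    (cosetAvg_inv N hidx k hk hk₂ φ hφk) (cosetAvg_isIntegral N hφc)
  rw [sum_cosetAvg, cosetAvg_one] at hsum
  have hN0 : (Nat.card N : ℂ) ≠ 0 := Nat.cast_ne_zero.mpr Nat.card_pos.ne'
  have hA1 : (Nat.card N : ℂ)⁻¹ * ∑ n : N, φ n = (m : ℂ) := by
    rw [← hm, classInner_def]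
    congr 1
    apply Finset.sum_congr rfl
    intro n _
    rw [hφa]
  have hcard : (Nat.card G : ℂ) = (Nat.card N : ℂ) * (N.index : ℂ) := by
    exact_mod_cast (Subgroup.card_mul_index N).symm
  have hG0 : (Nat.card G : ℂ) ≠ 0 := Nat.cast_ne_zero.mpr Nat.card_pos.ne'
  have hAll : (Nat.card N : ℂ)⁻¹ * ∑ g : G, φ g
      = (N.index : ℂ) * (if χ₁ = χ₂ then 1 else 0) := by
    have h1 := classInner_irrCharacter χ₁ χ₂
    rw [classInner_def] at h1
    have h2 : ∑ g : G, φ g = (Nat.card G : ℂ) * (if χ₁ = χ₂ then 1 else 0) := by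
      rw [← h1, ← mul_assoc, mul_inv_cancel₀ hG0, one_mul]
      apply Finset.sum_congr rfl
      intro g _
      rw [hφa]
    rw [h2, hcard]
    field_simp
  rw [hA1, hAll] at hsum
  by_cases heq : χ₁ = χ₂
  · rw [if_pos heq, mul_one] at hsum
    have hzq : z = (((N.index : ℚ) - (m : ℚ)) / 2 : ℚ) := by
      push_cast
      rw [hsum]
      ring
    obtain ⟨w, hw⟩ := exists_int_of_isIntegral_of_rat _ hzq hz
    rw [hw] at hsum
    have h3 : (N.index : ℤ) = (m : ℤ) + 2 * w := by exact_mod_cast hsum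
    constructor
    · intro _; exact heq
    · intro _
      have h4 : Odd (N.index : ℤ) := by exact_mod_cast hidx
      rw [h3] at h4
      have h5 : Odd (m : ℤ) := by
        rcases Int.even_or_odd (m : ℤ) with he | ho
        · exact absurd (he.add (even_two_mul w)) (Int.not_even_iff_odd.mpr h4)
        · exact ho
      exact_mod_cast h5
  · rw [if_neg heq, mul_zero] at hsum
    have hzq : z = ((-(m : ℚ)) / 2 : ℚ) := by
      push_cast
      have : (m : ℂ) = - (2 * z) := by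
        have := hsum
        linear_combination -this
      rw [this]
      ring
    obtain ⟨w, hw⟩ := exists_int_of_isIntegral_of_rat _ hzq hz
    rw [hw] at hsum
    have h3 : (0 : ℤ) = (m : ℤ) + 2 * w := by exact_mod_cast hsum
    constructor
    · intro hm_odd
      exfalso
      have h5 : Odd (m : ℤ) := by exact_mod_cast hm_odd
      have h6 : Even ((m : ℤ) + 2 * w) := by rw [← h3]; exact ⟨0, rfl⟩
      have h7 : Odd ((m : ℤ) + 2 * w) := h5.add_even (even_two_mul w)
      exact (Int.not_even_iff_odd.mpr h7) h6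
    · intro h; exact absurd h heq

end Parity

end Cfsg.Agent.Lib.Helper24
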