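import Mathlib
import Cfsg.Agent.Lib.Helper24.SigmaOdd2
import Cfsg.Agent.Lib.Helper2.Clifford
import Cfsg.Agent.Lib.Helper2.Ito
import Cfsg.Agent.Lib.Helper11.Clifford

/-!
# Characters fixed by a power map over a normal subgroup of odd index: existence and uniqueness
(helper24 library)

`N ⊴ G` of odd index, `k` coprime to `|G|`, `k ^ (2 ^ e) ≡ 1 mod |G|`, `g ^ k = g⁻¹` for `g`
of odd order, `θ ∈ Irr(N)` with `θ (n ^ k) = θ n`.

* `sigma_fixed_over_unique`: at most one `χ ∈ Irr(G)` over `θ` is fixed by the power map;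
* `exists_sigma_fixed_over`: there is one.
-/

set_option autoImplicit false
set_option linter.unusedSectionVars false
set_option linter.style.haveILetI false

open scoped ComplexConjugate
open Cfsg.Agent.Lib.Helper2

namespace Cfsg.Agent.Lib.Helper24

section Unique

variable {G : Type*} [Group G] [Fintype G] (N : Subgroup G) [hN : N.Normal] [Fintype N]

/-- uniqueness of the character over `θ` fixed by the power map -/
theorem sigma_fixed_over_unique (hidx : Odd N.index) (k : ℕ) (hk : k.Coprime (Nat.card G))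
    (hk₂ : ∀ g : G, Odd (orderOf g) → g ^ k = g⁻¹) {θ : N → ℂ} (hθ : Cfsg.IsIrrCharacter N θ)
    (χ₁ χ₂ : Cfsg.IrrCharacter G)
    (h₁ : ∀ g, (χ₁ : G → ℂ) (g ^ k) = (χ₁ : G → ℂ) g)
    (h₂ : ∀ g, (χ₂ : G → ℂ) (g ^ k) = (χ₂ : G → ℂ) g)
    (ho₁ : Cfsg.classInner (fun n : N => (χ₁ : G → ℂ) n) θ ≠ 0)
    (ho₂ : Cfsg.classInner (fun n : N => (χ₂ : G → ℂ) n) θ ≠ 0) : χ₁ = χ₂ := by
  classical
  obtain ⟨m₁₁, hm₁₁, hp₁₁⟩ := classInner_restrict_parity N hidx k hk hk₂ χ₁ χ₁ h₁ h₁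
  obtain ⟨m₂₂, hm₂₂, hp₂₂⟩ := classInner_restrict_parity N hidx k hk hk₂ χ₂ χ₂ h₂ h₂
  obtain ⟨m₁₂, hm₁₂, hp₁₂⟩ := classInner_restrict_parity N hidx k hk hk₂ χ₁ χ₂ h₁ h₂
  have hc₁ := clifford_restriction N χ₁.2 hθ ho₁
  have hc₂ := clifford_restriction N χ₂.2 hθ ho₂
  have hθc : Cfsg.IsCharacter N θ := Cfsg.Agent.Lib.Helper25.isCharacter_of_irr hθ
  obtain ⟨e₁, he₁⟩ := classInner_isCharacter_nat
    (IsCharacter.restrict (Cfsg.Agent.Lib.Helper25.isCharacter_of_irr χ₁.2) N) hθc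
  obtain ⟨e₂, he₂⟩ := classInner_isCharacter_nat
    (IsCharacter.restrict (Cfsg.Agent.Lib.Helper25.isCharacter_of_irr χ₂.2) N) hθc
  rw [he₁] at hc₁
  rw [he₂] at hc₂
  obtain ⟨S, hS⟩ : ∃ S : N → ℂ, S = ∑ᶠ ψ ∈ {ψ : N → ℂ | ∃ g : G, ψ = conjFun N g θ}, ψ := ⟨_, rfl⟩
  rw [← hS] at hc₁ hc₂
  rw [hc₁, classInner_smul_left, classInner_smul_right, Complex.conj_natCast] at hm₁₁
  rw [hc₂, classInner_smul_left, classInner_smul_right, Complex.conj_natCast] at hm₂₂
  rw [hc₁, hc₂, classInner_smul_left, classInner_smul_right, Complex.conj_natCast] at hm₁₂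
  have hsq : (m₁₂ : ℂ) * (m₁₂ : ℂ) = (m₁₁ : ℂ) * (m₂₂ : ℂ) := by
    rw [← hm₁₁, ← hm₂₂, ← hm₁₂]
    ring
  have hsq' : m₁₂ * m₁₂ = m₁₁ * m₂₂ := by exact_mod_cast hsq
  have ho11 : Odd m₁₁ := hp₁₁.mpr rfl
  have ho22 : Odd m₂₂ := hp₂₂.mpr rfl
  have ho12 : Odd m₁₂ := by
    have h1 : Odd (m₁₂ * m₁₂) := by rw [hsq']; exact ho11.mul ho22
    exact (Nat.odd_mul.mp h1).1
  exact hp₁₂.mp ho12

end Unique

section Exists

variable {G : Type*} [Group G] [Fintype G] (N : Subgroup G) [hN : N.Normal] [Fintype N]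

theorem pow_pow_eq_self_of_modEq (k e : ℕ) (hke : k ^ (2 ^ e) ≡ 1 [MOD Nat.card G]) (g : G) :
    g ^ (k ^ (2 ^ e)) = g := by
  rw [← pow_mod_natCard, hke, pow_mod_natCard, pow_one]

/-- existence of a character over `θ` fixed by the power map -/
theorem exists_sigma_fixed_over (hidx : Odd N.index) (k e : ℕ) (hk : k.Coprime (Nat.card G))
    (hke : k ^ (2 ^ e) ≡ 1 [MOD Nat.card G])
    (θ : Cfsg.IrrCharacter N) (hθ : ∀ n : N, (θ : N → ℂ) (n ^ k) = (θ : N → ℂ) n) :
    ∃ χ : Cfsg.IrrCharacter G, Cfsg.classInner (fun n : N => (χ : G → ℂ) n) (θ : N → ℂ) ≠ 0 ∧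
      ∀ g : G, (χ : G → ℂ) (g ^ k) = (χ : G → ℂ) g := by
  classical
  haveI : Fintype (Cfsg.IrrCharacter G) := Fintype.ofFinite _
  haveI : Fact (Nat.Prime 2) := ⟨Nat.prime_two⟩
  have hθc : Cfsg.IsCharacter N (θ : N → ℂ) := Cfsg.Agent.Lib.Helper25.isCharacter_of_irr θ.2
  have he : ∀ χ : Cfsg.IrrCharacter G, ∃ n : ℕ,
      Cfsg.classInner (fun n : N => (χ : G → ℂ) n) (θ : N → ℂ) = (n : ℂ) := fun χ =>
    classInner_isCharacter_nat
      (IsCharacter.restrict (Cfsg.Agent.Lib.Helper25.isCharacter_of_irr χ.2) N) hθc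
  choose ef hef using he
  have hkN : k.Coprime (Nat.card N) :=
    Nat.Coprime.coprime_dvd_right (Subgroup.card_subgroup_dvd_card N) hk
  have hetw : ∀ χ, ef (twistIrr k hk χ) = ef χ := by
    intro χ
    have h1 := hef (twistIrr k hk χ)
    have h4 := Cfsg.Agent.Lib.Helper11.classInner_comp_pow_coprime k hkN
      (fun m : N => (χ : G → ℂ) m) (θ : N → ℂ)
    have h5 : (fun g : N => (θ : N → ℂ) (g ^ k)) = (θ : N → ℂ) := funext hθ
    rw [h5, hef χ] at h4
    have h6 : (fun n : N => (twistIrr k hk χ : G → ℂ) n)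
        = fun g : N => (fun m : N => (χ : G → ℂ) m) (g ^ k) := by
      funext n
      rw [twistIrr_apply]
      simp
    rw [h6, h4] at h1
    exact_mod_cast h1.symm
  -- the norm of the induced character
  have hco : ∀ χ : Cfsg.IrrCharacter G,
      Cfsg.classInner (Cfsg.indFun N (θ : N → ℂ)) (χ : G → ℂ) = (ef χ : ℂ) := by
    intro χ
    rw [frobenius_reciprocity N _ _ (IrrCharacter.isClassFunction χ), ← classInner_conj_symm,
      hef χ, Complex.conj_natCast]
  have hexp := classFunction_expansion (Cfsg.indFun N (θ : N → ℂ))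
    (indFun_isClassFunction N (θ : N → ℂ))
  have hnorm : Cfsg.classInner (Cfsg.indFun N (θ : N → ℂ)) (Cfsg.indFun N (θ : N → ℂ))
      = ∑ χ : Cfsg.IrrCharacter G, (ef χ : ℂ) ^ 2 := by
    conv_lhs => arg 1; rw [hexp]
    rw [classInner_sum_left]
    apply Finset.sum_congr rfl
    intro χ _
    rw [classInner_smul_left, hco χ, ← classInner_conj_symm, hco χ, Complex.conj_natCast]
    ring
  have hT := Cfsg.Agent.Lib.Helper11.classInner_indFun_self_of_irr N θ.2
  obtain ⟨T, hTdef⟩ : ∃ T : Subgroup G, T = inertia N (θ : N → ℂ) := ⟨_, rfl⟩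
  have hTcard : Nat.card {g : G // Cfsg.Agent.Lib.Helper11.conjFn N g (θ : N → ℂ) = (θ : N → ℂ)}
      = Nat.card T := by
    rw [hTdef]
    rfl
  have hNT : N ≤ T := by
    rw [hTdef]
    exact le_inertia N (IrrCharacter.isClassFunction θ)
  obtain ⟨c, hc⟩ : Nat.card N ∣ Nat.card T := Subgroup.card_dvd_of_le hNT
  have hcodd : Odd c := by
    have h1 : Nat.card T ∣ Nat.card G := Subgroup.card_subgroup_dvd_card T
    have h2 : Nat.card G = Nat.card N * N.index := (Subgroup.card_mul_index N).symm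
    rw [hc, h2] at h1
    have h3 : c ∣ N.index := Nat.dvd_of_mul_dvd_mul_left Nat.card_pos h1
    obtain ⟨d, hd⟩ := h3
    rw [hd] at hidx
    exact (Nat.odd_mul.mp hidx).1
  have hN0 : (Nat.card N : ℂ) ≠ 0 := Nat.cast_ne_zero.mpr Nat.card_pos.ne'
  have hsumc : ∑ χ : Cfsg.IrrCharacter G, (ef χ) ^ 2 = c := by
    have : ((∑ χ : Cfsg.IrrCharacter G, (ef χ) ^ 2 : ℕ) : ℂ) = (c : ℂ) := by
      push_cast
      rw [← hnorm, hT, hTcard, hc]
      push_cast
      field_simp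
    exact_mod_cast this
  -- the characters with odd multiplicity
  have hXodd : Odd (Fintype.card {χ : Cfsg.IrrCharacter G // Odd (ef χ)}) := by
    rw [Fintype.card_subtype]
    rw [← hsumc, Finset.odd_sum_iff_odd_card_odd] at hcodd
    have : (Finset.univ.filter fun χ : Cfsg.IrrCharacter G => Odd (ef χ ^ 2))
        = Finset.univ.filter fun χ : Cfsg.IrrCharacter G => Odd (ef χ) := by
      apply Finset.filter_congr
      intro χ _
      rw [pow_two, Nat.odd_mul]
      tauto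
    rw [this] at hcodd
    exact hcodd
  obtain ⟨f, hf⟩ : ∃ f : Function.End {χ : Cfsg.IrrCharacter G // Odd (ef χ)},
      ∀ x, (f x).1 = twistIrr k hk x.1 :=
    ⟨fun x => ⟨twistIrr k hk x.1, by rw [hetw]; exact x.2⟩, fun x => rfl⟩
  have hiter : ∀ (j : ℕ) (x : {χ : Cfsg.IrrCharacter G // Odd (ef χ)}) (g : G),
      (((f ^ j) x).1 : G → ℂ) g = (x.1 : G → ℂ) (g ^ (k ^ j)) := by
    intro j
    induction j with
    | zero =>
      intro x g
      rw [pow_zero, pow_zero, pow_one]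
      rfl
    | succ j ih =>
      intro x g
      rw [pow_succ]
      show (((f ^ j) (f x)).1 : G → ℂ) g = _
      rw [ih (f x) g, hf x, twistIrr_apply, ← pow_mul, ← pow_succ]
  have hfpow : f ^ 2 ^ e = 1 := by
    funext x
    apply Subtype.ext
    apply Subtype.ext
    funext g
    rw [hiter, pow_pow_eq_self_of_modEq k e hke g]
    rfl
  have hex : ∃ x, f x = x := by
    by_contra hno
    push Not at hno
    have hmod := Equiv.Perm.card_fixedPoints_modEq (p := 2) (n := e) hfpow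
    have hemp : IsEmpty (Function.fixedPoints f) := ⟨fun y => hno y.1 y.2⟩
    have hmod' : Fintype.card {χ : Cfsg.IrrCharacter G // Odd (ef χ)} ≡ 0 [MOD 2] := by
      have h0 : Fintype.card (Function.fixedPoints f) = 0 := Fintype.card_eq_zero_iff.mpr hemp
      convert hmod using 2
      convert h0.symm
    unfold Nat.ModEq at hmod'
    rw [Nat.odd_iff] at hXodd
    rw [hXodd] at hmod'
    exact absurd hmod' (by norm_num)
  obtain ⟨x, hx⟩ := hex
  refine ⟨x.1, ?_, ?_⟩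
  · rw [hef x.1]
    have : ef x.1 ≠ 0 := by
      intro h0
      have := x.2
      rw [h0] at this
      exact (Nat.not_odd_iff_even.mpr ⟨0, rfl⟩) this
    exact_mod_cast this
  · intro g
    have h1 : f x = x := hx
    have h2 : (((f x).1 : Cfsg.IrrCharacter G) : G → ℂ) g = (x.1 : G → ℂ) g := by rw [h1]
    rw [hf x, twistIrr_apply] at h2
    exact h2

end Exists

end Cfsg.Agent.Lib.Helper24
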