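import Mathlib
import Cfsg.Agent.Lib.Helper24.SigmaOdd3
import Cfsg.Agent.Lib.Helper25.DetSolv
import Cfsg.Agent.Lib.Helper2.SylowExtend

/-!
# Characters fixed by a power map over a normal subgroup of odd index: extensions
(helper24 library)

`N ⊴ G` of odd index, `k` coprime to `|G|`, `g ^ k = g⁻¹` for `g` of odd order.  A `G`-invariant
`θ ∈ Irr(N)` with `θ (n ^ k) = θ n` has an extension `χ ∈ Irr(G)` with `χ (g ^ k) = χ g`
(`exists_sigma_fixed_extension`).  No solvability of `G ⧸ N` is needed (Isaacs 11.31 via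
`Helper2.SylowExtend`).
-/

set_option autoImplicit false
set_option linter.unusedSectionVars false
set_option linter.style.haveILetI false

open scoped ComplexConjugate
open Cfsg Cfsg.Agent.Lib.Helper2 Cfsg.Agent.Lib.Helper7 Cfsg.Agent.Lib.Helper11
  Cfsg.Agent.Lib.Helper25

namespace Cfsg.Agent.Lib.Helper24

universe u

section Adjust

variable {G : Type u} [Group G] [Finite G] (N : Subgroup G) [hN : N.Normal]

/-- an extension can be replaced by one fixed by the power map -/
theorem exists_sigma_fixed_extension_of_extension (hidx : Odd N.index) (k : ℕ)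
    (hk : k.Coprime (Nat.card G)) (hk₂ : ∀ g : G, Odd (orderOf g) → g ^ k = g⁻¹)
    {θ : N → ℂ} (hθ : IsIrrCharacter N θ) (hθk : ∀ n : N, θ (n ^ k) = θ n)
    {ψ : G → ℂ} (hψ : IsIrrCharacter G ψ) (hψN : ∀ n : N, ψ n = θ n) :
    ∃ χ : G → ℂ, IsIrrCharacter G χ ∧ (∀ n : N, χ n = θ n) ∧ ∀ g, χ (g ^ k) = χ g := by
  classical
  haveI : Fintype G := Fintype.ofFinite G
  have hψσ : IsIrrCharacter G (fun g => ψ (g ^ k)) := isIrrCharacter_pow_coprime k hk hψ
  have hψσN : ∀ n : N, (fun g => ψ (g ^ k)) n = θ n := by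
    intro n
    have h1 := hψN (n ^ k)
    rw [hθk] at h1
    simpa using h1
  obtain ⟨β, hβN, hβ⟩ := exists_hom_of_two_extensions N hθ hψ hψσ hψN hψσN
  obtain ⟨j, hj⟩ : ∃ j, N.index + 1 = 2 * j := by
    obtain ⟨c, hc⟩ := hidx
    exact ⟨c + 1, by omega⟩
  have hβidx : ∀ g : G, β g ^ N.index = 1 := by
    intro g
    rw [← map_pow]
    exact hβN ⟨g ^ N.index, Subgroup.pow_index_mem N g⟩
  have hβk : ∀ g : G, β (g ^ k) = (β g)⁻¹ := by
    intro g
    have h1 := hβN ⟨g ^ (k + 1), pow_succ_mem_of_odd_index N hidx k hk₂ g⟩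
    simp only at h1
    rw [pow_succ, map_mul] at h1
    exact eq_inv_of_mul_eq_one_left h1
  refine ⟨coeFunHom G (β ^ j) * ψ, ?_, ?_, ?_⟩
  · exact isIrrCharacter_linear_mul (isCharacter_coeFunHom (β ^ j)).1
      (isCharacter_coeFunHom (β ^ j)).2 hψ
  · intro n
    rw [Pi.mul_apply, coeFunHom_apply, MonoidHom.pow_apply, hβN n, one_pow, Units.val_one,
      one_mul, hψN]
  · intro g
    have h1 : ψ (g ^ k) = coeFunHom G β g * ψ g := by
      have := congrFun hβ g
      simpa using this
    rw [Pi.mul_apply, Pi.mul_apply, h1, coeFunHom_apply, coeFunHom_apply, coeFunHom_apply,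
      MonoidHom.pow_apply, MonoidHom.pow_apply, hβk, ← mul_assoc]
    congr 1
    have h2 : ((β g)⁻¹ ^ j * β g : ℂˣ) = β g ^ j := by
      have h3 : β g ^ j * β g ^ j = β g := by
        rw [← pow_add, ← two_mul, ← hj, pow_succ, hβidx, one_mul]
      rw [inv_pow, inv_mul_eq_iff_eq_mul, h3]
    rw [← Units.val_mul, h2]

end Adjust

section Solvable

/-- transport of the power-map hypothesis to a subgroup -/
theorem odd_pow_inv_subgroup {G : Type u} [Group G] (k : ℕ)
    (hk₂ : ∀ g : G, Odd (orderOf g) → g ^ k = g⁻¹) (M : Subgroup G) :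
    ∀ g : M, Odd (orderOf g) → g ^ k = g⁻¹ := by
  intro g hg
  apply Subtype.ext
  rw [Subgroup.coe_pow, Subgroup.coe_inv]
  apply hk₂
  rw [Subgroup.orderOf_coe]
  exact hg

/-- solvable quotient of odd order: an invariant character fixed by the power map has an
extension fixed by the power map -/
theorem exists_sigma_fixed_extension_solvable :
    ∀ (m : ℕ) (G : Type u) [Group G] [Finite G] (N : Subgroup G) [hN : N.Normal],
      N.index = m → Odd N.index → Group.IsSolvable (G ⧸ N) → ∀ (k : ℕ),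
      k.Coprime (Nat.card G) → (∀ g : G, Odd (orderOf g) → g ^ k = g⁻¹) →
      ∀ (θ : N → ℂ), IsIrrCharacter N θ → (∀ n : N, θ (n ^ k) = θ n) →
      (∀ (g : G) (n : N), θ ⟨g * n * g⁻¹, hN.conj_mem (n : G) n.2 g⟩ = θ n) →
      ∃ χ : G → ℂ, IsIrrCharacter G χ ∧ (∀ n : N, χ n = θ n) ∧ ∀ g, χ (g ^ k) = χ g := by
  intro m
  induction m using Nat.strong_induction_on with
  | _ m ih =>
  intro G _ _ N hN hm hidx hsolv k hk hk₂ θ hθ hθk hinv
  classical
  by_cases htop : N = ⊤
  · subst htop
    refine ⟨fun g => θ ⟨g, Subgroup.mem_top g⟩, ?_, fun n => rfl, ?_⟩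
    · exact isIrrCharacter_comp_equiv (Subgroup.topEquiv (G := G)).symm hθ
    · intro g
      exact hθk ⟨g, Subgroup.mem_top g⟩
  · obtain ⟨M, hMn, hNM, hMprime⟩ := exists_normal_prime_index N hsolv htop
    haveI := hMn
    have hidxmul : (N.subgroupOf M).index * M.index = N.index := Subgroup.relIndex_mul_index hNM
    have hidxlt : (N.subgroupOf M).index < m := by
      rw [← hm, ← hidxmul]
      have h2 := hMprime.two_le
      have hpos : 0 < (N.subgroupOf M).index :=
        Nat.pos_of_ne_zero Subgroup.index_ne_zero_of_finite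
      nlinarith
    have hidx' := hidx
    rw [← hidxmul] at hidx'
    have hodd' : Odd (N.subgroupOf M).index := (Nat.odd_mul.mp hidx').1
    have hoddM : Odd M.index := (Nat.odd_mul.mp hidx').2
    have hsolv' : Group.IsSolvable (↥M ⧸ N.subgroupOf M) :=
      isSolvable_subgroupOf_quotient N M hsolv
    have hkM : k.Coprime (Nat.card M) :=
      Nat.Coprime.coprime_dvd_right (Subgroup.card_subgroup_dvd_card M) hk
    have hk₂M := odd_pow_inv_subgroup k hk₂ M
    have hθ' : IsIrrCharacter (N.subgroupOf M) (subFn N M θ) := isIrrCharacter_subFn hNM hθ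
    have hinv' := subFn_invariant (H := M) hinv
    have hθk' : ∀ n : N.subgroupOf M, subFn N M θ (n ^ k) = subFn N M θ n := by
      intro n
      rw [subFn_apply, subFn_apply]
      have h1 := hθk ⟨((n : M) : G), Subgroup.mem_subgroupOf.mp n.2⟩
      rw [← h1]
      congr 1
    obtain ⟨η, hη, hηN, hηk⟩ := ih (N.subgroupOf M).index hidxlt ↥M (N.subgroupOf M) rfl hodd'
      hsolv' k hkM hk₂M (subFn N M θ) hθ' hθk' hinv'
    -- η is G-invariant
    have hηinv : ∀ (g : G) (x : M), η ⟨g * x * g⁻¹, hMn.conj_mem (x : G) x.2 g⟩ = η x := by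
      intro g x
      let c : M ≃* M := MulAut.conjNormal g
      have hc : ∀ y : M, ((c y : M) : G) = g * y * g⁻¹ := fun y => MulAut.conjNormal_apply g y
      have hηg : IsIrrCharacter M (η ∘ c) := isIrrCharacter_comp_equiv c hη
      have hηgN : ∀ n : N.subgroupOf M, (η ∘ c) n = subFn N M θ n := by
        intro n
        have hmem : c (n : M) ∈ N.subgroupOf M := by
          rw [Subgroup.mem_subgroupOf, hc]
          exact hN.conj_mem _ (Subgroup.mem_subgroupOf.mp n.2) g
        have h1 := hηN ⟨c (n : M), hmem⟩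
        show η (c (n : M)) = _
        rw [h1, subFn_apply, subFn_apply]
        have h2 := hinv g ⟨((n : M) : G), Subgroup.mem_subgroupOf.mp n.2⟩
        rw [← h2]
        congr 1
      have hηgk : ∀ y : M, (η ∘ c) (y ^ k) = (η ∘ c) y := by
        intro y
        show η (c (y ^ k)) = η (c y)
        rw [map_pow, hηk]
      haveI : Fintype M := Fintype.ofFinite M
      haveI : Fintype (N.subgroupOf M) := Fintype.ofFinite _
      have hov : ∀ (ξ : M → ℂ), (∀ n : N.subgroupOf M, ξ n = subFn N M θ n) →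
          classInner (fun n : N.subgroupOf M => ξ n) (subFn N M θ) ≠ 0 := by
        intro ξ hξ
        have h1 : (fun n : N.subgroupOf M => ξ n) = subFn N M θ := funext hξ
        rw [h1]
        have h2 := classInner_irrCharacter_self (⟨subFn N M θ, hθ'⟩ : IrrCharacter (N.subgroupOf M))
        rw [h2]
        exact one_ne_zero
      have huniq := sigma_fixed_over_unique (N.subgroupOf M) hodd' k hkM hk₂M hθ'
        (⟨η ∘ c, hηg⟩ : IrrCharacter M) (⟨η, hη⟩ : IrrCharacter M) hηgk hηk
        (hov _ hηgN) (hov _ hηN)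
      have h4 : (η ∘ c) x = η x := by
        have := congrArg (fun ξ : IrrCharacter M => (ξ : M → ℂ) x) huniq
        exact this
      rw [← h4]
      show η _ = η (c x)
      congr 1
    have hcyc : IsCyclic (G ⧸ M) := by
      haveI : Fact (M.index.Prime) := ⟨hMprime⟩
      exact isCyclic_of_prime_card (p := M.index) rfl
    obtain ⟨ψ, hψ, hψM⟩ := CyclicExt.exists_irr_extension M hcyc η hη hηinv
    obtain ⟨χ, hχ, hχM, hχk⟩ := exists_sigma_fixed_extension_of_extension M hoddM k hk hk₂ hη hηk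
      hψ hψM
    refine ⟨χ, hχ, ?_, hχk⟩
    intro n
    have h1 := hχM ⟨(n : G), hNM n.2⟩
    have h2 := hηN ⟨⟨(n : G), hNM n.2⟩, Subgroup.mem_subgroupOf.mpr n.2⟩
    simp only at h1 h2
    rw [h1, h2]
    rfl

end Solvable

section General

variable {G : Type u} [Group G] [Finite G] (N : Subgroup G) [hN : N.Normal]

/-- `N ⊴ G` of odd index: a `G`-invariant irreducible character of `N` fixed by the power map
has an extension to `G` fixed by the power map. -/
theorem exists_sigma_fixed_extension (hidx : Odd N.index) (k : ℕ) (hk : k.Coprime (Nat.card G))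
    (hk₂ : ∀ g : G, Odd (orderOf g) → g ^ k = g⁻¹) {θ : N → ℂ} (hθ : IsIrrCharacter N θ)
    (hθk : ∀ n : N, θ (n ^ k) = θ n)
    (hinv : ∀ (g : G) (n : N), θ ⟨g * n * g⁻¹, hN.conj_mem (n : G) n.2 g⟩ = θ n) :
    ∃ χ : G → ℂ, IsIrrCharacter G χ ∧ (∀ n : N, χ n = θ n) ∧ ∀ g, χ (g ^ k) = χ g := by
  classical
  have hsyl : ∀ p : ℕ, p.Prime → ∃ (P : Subgroup G) (hNP : N ≤ P) (η : P → ℂ),
      Nat.Coprime P.index p ∧ Cfsg.IsCharacter P η ∧ ∀ n : N, η ⟨(n : G), hNP n.2⟩ = θ n := by
    intro p hp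
    haveI : Fact p.Prime := ⟨hp⟩
    obtain ⟨Q⟩ : Nonempty (Sylow p (G ⧸ N)) := inferInstance
    obtain ⟨P, hPdef⟩ : ∃ P : Subgroup G,
        P = (Q : Subgroup (G ⧸ N)).comap (QuotientGroup.mk' N) := ⟨_, rfl⟩
    have hNP : N ≤ P := by
      intro n hn
      rw [hPdef, Subgroup.mem_comap]
      have h1 : QuotientGroup.mk' N n = 1 := (QuotientGroup.eq_one_iff n).mpr hn
      rw [h1]
      exact one_mem _
    have hPidx : P.index = (Q : Subgroup (G ⧸ N)).index := by
      rw [hPdef]
      exact Subgroup.index_comap_of_surjective _ (QuotientGroup.mk'_surjective N)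
    have hcop : Nat.Coprime P.index p := by
      rw [hPidx, Nat.coprime_comm, Nat.Prime.coprime_iff_not_dvd hp]
      exact Q.not_dvd_index
    have hpg : IsPGroup p (↥P ⧸ N.subgroupOf P) := by
      intro x
      obtain ⟨y, rfl⟩ := QuotientGroup.mk_surjective x
      have hmemP : ∀ g : G, g ∈ P ↔ QuotientGroup.mk' N g ∈ (Q : Subgroup (G ⧸ N)) := by
        intro g
        rw [hPdef]
        exact Subgroup.mem_comap
      have hy : QuotientGroup.mk' N (y : G) ∈ (Q : Subgroup (G ⧸ N)) := (hmemP y).mp y.2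
      obtain ⟨j, hj⟩ := Q.2 ⟨_, hy⟩
      refine ⟨j, ?_⟩
      have h1 : (QuotientGroup.mk' N (y : G)) ^ p ^ j = 1 := by
        have h2 := congrArg Subtype.val hj
        simpa using h2
      rw [← QuotientGroup.mk_pow, QuotientGroup.eq_one_iff, Subgroup.mem_subgroupOf,
        Subgroup.coe_pow]
      rw [← map_pow] at h1
      exact (QuotientGroup.eq_one_iff _).mp h1
    have hsolv : Group.IsSolvable (↥P ⧸ N.subgroupOf P) := by
      haveI := hpg.isNilpotent
      exact IsNilpotent.to_isSolvable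
    have hidxmul : (N.subgroupOf P).index * P.index = N.index := Subgroup.relIndex_mul_index hNP
    have hidx' := hidx
    rw [← hidxmul] at hidx'
    have hodd' : Odd (N.subgroupOf P).index := (Nat.odd_mul.mp hidx').1
    have hkP : k.Coprime (Nat.card P) :=
      Nat.Coprime.coprime_dvd_right (Subgroup.card_subgroup_dvd_card P) hk
    have hk₂P := odd_pow_inv_subgroup k hk₂ P
    have hθk' : ∀ n : N.subgroupOf P, subFn N P θ (n ^ k) = subFn N P θ n := by
      intro n
      rw [subFn_apply, subFn_apply]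
      have h1 := hθk ⟨((n : P) : G), Subgroup.mem_subgroupOf.mp n.2⟩
      rw [← h1]
      congr 1
    obtain ⟨η, hη, hηN, _⟩ := exists_sigma_fixed_extension_solvable _ ↥P (N.subgroupOf P) rfl
      hodd' hsolv k hkP hk₂P (subFn N P θ) (isIrrCharacter_subFn hNP hθ) hθk'
      (subFn_invariant (H := P) hinv)
    refine ⟨P, hNP, η, hcop, isCharacter_of_irr hη, ?_⟩
    intro n
    have h2 := hηN ⟨⟨(n : G), hNP n.2⟩, Subgroup.mem_subgroupOf.mpr n.2⟩
    simp only at h2
    rw [h2]
    rfl
  obtain ⟨ψ, hψ, hψN⟩ := SylowExtend.main N θ hθ hinv hsyl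
  exact exists_sigma_fixed_extension_of_extension N hidx k hk hk₂ hθ hθk hψ hψN

end General

end Cfsg.Agent.Lib.Helper24
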