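import Cfsg.Agent.Lib.Helper24.SylAltB1
import Cfsg.Agent.Lib.Helper24.SylAltB2

/-!
S2221 farm (architect helper28), piece [B3] (SPARE, sub-namespace `Helper24`): `exists_mulEquiv`.
-/

set_option autoImplicit false

namespace Cfsg.Agent.Lib.Helper28.SylAlt

open SW Equiv

variable {m : ℕ}

namespace Helper24

/-- `Fin m × ZMod 2 ≃ {x : Fin n // x < 2 m}`. -/
def fEquiv (n : ℕ) (h : 2 * m ≤ n) : Fin m × ZMod 2 ≃ {x : Fin n // (x : ℕ) < 2 * m} :=
  ((Equiv.refl (Fin m)).prodCongr (ZMod.finEquiv 2).symm.toEquiv).trans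
    (finProdFinEquiv.trans ((finCongr (Nat.mul_comm m 2)).trans (Fin.castLEquiv h)))

/-- the embedding `SW m → Perm (Fin n)`. -/
def phi0 (n : ℕ) (h : 2 * m ≤ n) : SW m →* Perm (Fin n) :=
  (Perm.extendDomainHom (fEquiv n h)).comp SW.actHom

theorem phi0_injective (n : ℕ) (h : 2 * m ≤ n) : Function.Injective (phi0 (m := m) n h) := by
  intro a b hab
  exact actHom_injective (Perm.extendDomainHom_injective (fEquiv n h) hab)

theorem sign_phi0 (n : ℕ) (h : 2 * m ≤ n) (a : SW m) :
    Perm.sign (phi0 n h a) = Perm.sign (SW.act a) := by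
  show Perm.sign ((SW.act a).extendDomain (fEquiv n h)) = _
  exact Perm.sign_extendDomain _ _

theorem phi0_mem_alt (n : ℕ) (h : 2 * m ≤ n) (T : Subgroup (Perm (Fin m))) (a : ↥(Y T)) :
    phi0 n h a.1 ∈ alternatingGroup (Fin n) := by
  rw [Perm.mem_alternatingGroup, sign_phi0, sign_act, if_pos (mem_Y.mp a.2).2]

/-- the embedding `Y T → A_n`. -/
def phi (n : ℕ) (h : 2 * m ≤ n) (T : Subgroup (Perm (Fin m))) :
    ↥(Y T) →* ↥(alternatingGroup (Fin n)) :=
  MonoidHom.codRestrict ((phi0 n h).comp (Y T).subtype) (alternatingGroup (Fin n))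
    (fun a => phi0_mem_alt n h T a)

theorem phi_injective (n : ℕ) (h : 2 * m ≤ n) (T : Subgroup (Perm (Fin m))) :
    Function.Injective (phi n h T) := by
  intro a b hab
  have h1 : phi0 n h a.1 = phi0 n h b.1 := congrArg Subtype.val hab
  exact Subtype.ext (phi0_injective n h h1)

theorem val2_factorial (n : ℕ) (hn : n = 2 * m ∨ n = 2 * m + 1) :
    (n.factorial).factorization 2 = (m.factorial).factorization 2 + m := by
  have : Fact (Nat.Prime 2) := ⟨Nat.prime_two⟩
  rw [Nat.factorization_def _ Nat.prime_two, Nat.factorization_def _ Nat.prime_two]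
  rcases hn with rfl | rfl
  · exact padicValNat_factorial_mul m
  · rw [padicValNat_factorial_mul_add m (by norm_num : 1 < 2)]
    exact padicValNat_factorial_mul m

theorem card_range (n : ℕ) (hm : 1 ≤ m) (hn : n = 2 * m ∨ n = 2 * m + 1)
    (T : Sylow 2 (Perm (Fin m))) (h : 2 * m ≤ n) :
    Nat.card ↥(phi n h (T : Subgroup (Perm (Fin m)))).range =
      2 ^ (Nat.card ↥(alternatingGroup (Fin n))).factorization 2 := by
  have : Fact (Nat.Prime 2) := ⟨Nat.prime_two⟩
  have hnt : Nontrivial (Fin n) := Fin.nontrivial_iff_two_le.mpr (by omega)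
  have h1 : Nat.card ↥(phi n h (T : Subgroup (Perm (Fin m)))).range =
      Nat.card ↥(Y (T : Subgroup (Perm (Fin m)))) :=
    (Nat.card_congr (MonoidHom.ofInjective (phi_injective n h _)).toEquiv).symm
  rw [h1, card_Y _ hm, Sylow.card_eq_multiplicity T, Nat.card_perm, Nat.card_eq_fintype_card,
    Fintype.card_fin, nat_card_alternatingGroup, Nat.card_eq_fintype_card, Fintype.card_fin]
  have hdvd : 2 ∣ n.factorial := Nat.dvd_factorial (by norm_num) (by omega)
  rw [Nat.factorization_div hdvd, Finsupp.coe_tsub, Pi.sub_apply, val2_factorial n hn,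
    Nat.Prime.factorization_self Nat.prime_two, ← pow_add]
  congr 1
  omega

end Helper24

open Helper24 in
theorem Helper24.exists_mulEquiv_spare (n : ℕ) (hm : 1 ≤ m) (hn : n = 2 * m ∨ n = 2 * m + 1)
    (T : Sylow 2 (Perm (Fin m))) (P : Sylow 2 (alternatingGroup (Fin n))) :
    Nonempty (↥(Y (T : Subgroup (Perm (Fin m)))) ≃* ↥(P : Subgroup (alternatingGroup (Fin n)))) := by
  have : Fact (Nat.Prime 2) := ⟨Nat.prime_two⟩
  have h : 2 * m ≤ n := by omega
  let Q : Sylow 2 (alternatingGroup (Fin n)) :=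
    Sylow.ofCard (phi n h (T : Subgroup (Perm (Fin m)))).range (card_range n hm hn T h)
  exact ⟨(MonoidHom.ofInjective (phi_injective n h _)).trans (Sylow.equiv Q P)⟩

end Cfsg.Agent.Lib.Helper28.SylAlt
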