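import Mathlib
import Cfsg.Agent.Lib.Helper2.RelGallagher
import Cfsg.Agent.Lib.Helper25.DefectZeroQuot
import Cfsg.Agent.Lib.Helper25.DetGallagher
import Cfsg.Agent.Lib.Helper24.CentralCase

/-!
# Reduction to a central subgroup via a character-triple isomorphism (helper24 library)

`N ≤ G` normal in `Γ`, `θ ∈ Irr N` invariant in `Γ`.  Given a finite central extension
`π : Γh → Γ`, a lift `ι : N → Γh` with normal image `Nh` and a character `τ` of `Γh` extending `θ`
(see `Helper2.CentralExt`), the irreducible characters of `G` over `θ` correspond to the irreducible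
characters of `G* = π⁻¹(G)/Nh` with a prescribed central character on `Z* = π⁻¹(N)/Nh`, which is
central in `Γ* = Γh/Nh`.  Combined with `CentralCase.central_case` this gives Isaacs 13.28.
-/

set_option autoImplicit false
set_option linter.unusedSectionVars false
set_option linter.style.haveILetI false
set_option linter.unusedVariables false

namespace Cfsg.Agent.Lib.Helper24.TripleIso

open Cfsg Cfsg.Agent.Lib Cfsg.Agent.Lib.Helper2 Cfsg.Agent.Lib.Helper2.GlPG
  Cfsg.Agent.Lib.Helper2.GlSolv Cfsg.Agent.Lib.Helper2.Rel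
open scoped ComplexConjugate

universe u

section TypeLevel

/-- descent of an irreducible character along a surjection -/
theorem exists_descent {X Y : Type u} [Group X] [Finite X] [Group Y] (f : X →* Y)
    (hf : Function.Surjective f) {ψ : X → ℂ} (hψ : IsIrrCharacter X ψ)
    (hk : ∀ x, f x = 1 → ψ x = ψ 1) :
    ∃ φ : Y → ℂ, IsIrrCharacter Y φ ∧ ∀ x, ψ x = φ (f x) := by
  obtain ⟨ψ', hψ', h⟩ := Helper25.exists_deflation f.ker hψ (fun n hn => hk n hn)
  let e : X ⧸ f.ker ≃* Y := QuotientGroup.quotientKerEquivOfSurjective f hf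
  haveI : Finite (X ⧸ f.ker) := inferInstance
  refine ⟨ψ' ∘ e.symm, Helper11.isIrrCharacter_comp_equiv e.symm hψ', fun x => ?_⟩
  rw [h x, Function.comp_apply]
  apply congrArg
  rw [MulEquiv.eq_symm_apply]
  rfl

variable {X G' Y N' : Type u} [Group X] [Fintype X] [Group G'] [Fintype G'] [Group Y] [Fintype Y]
  [Group N'] [Fintype N']

/-- the restriction of `η` to `ker f` is irreducible, and inner products over `ker f` are inner
products over `N'` -/
theorem ker_facts (f : X →* Y) (ιX : N' →* X) (hιinj : Function.Injective ιX)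
    (hιker : ∀ x, f x = 1 ↔ ∃ n, ιX n = x) [Fintype f.ker]
    (η : X → ℂ) (hη : IsCharacter X η) (θ : N' → ℂ) (hθ : IsIrrCharacter N' θ)
    (hηθ : ∀ n, η (ιX n) = θ n) :
    IsIrrCharacter X η ∧ IsIrrCharacter f.ker (fun n : f.ker => η n) ∧
    ∀ ψ : X → ℂ, classInner (fun n : f.ker => ψ n) (fun n : f.ker => η n)
      = classInner (fun n : N' => ψ (ιX n)) θ := by
  have hmem : ∀ n, ιX n ∈ f.ker := fun n => (hιker _).2 ⟨n, rfl⟩
  let g : N' →* f.ker := ιX.codRestrict f.ker hmem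
  have hg : ∀ n, ((g n : f.ker) : X) = ιX n := fun n => rfl
  have hgs : Function.Surjective g := by
    intro y
    obtain ⟨n, hn⟩ := (hιker (y : X)).1 y.2
    exact ⟨n, Subtype.ext hn⟩
  refine ⟨?_, ?_, ?_⟩
  · apply Helper25.isIrrCharacter_of_comp_irr ιX hη
    have : (fun n => η (ιX n)) = θ := funext hηθ
    rw [this]
    exact hθ
  · apply Helper25.isIrrCharacter_of_comp_irr g
      (IsCharacter.comp hη f.ker.subtype)
    have : (fun x : N' => η (f.ker.subtype (g x))) = θ := by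
      funext n
      show η ((g n : f.ker) : X) = θ n
      rw [hg, hηθ]
    show IsIrrCharacter N' (fun x : N' => η (f.ker.subtype (g x)))
    rw [this]
    exact hθ
  · intro ψ
    rw [← Helper25.classInner_comp_surjective g hgs]
    have : (fun n : N' => η ((g n : f.ker) : X)) = θ := by
      funext n
      rw [hg, hηθ]
    rw [this]
    rfl

theorem exists_beta0 (πG : X →* G') (hπG : Function.Surjective πG) (f : X →* Y)
    (hf : Function.Surjective f) (ιX : N' →* X) (hιinj : Function.Injective ιX)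
    (hιker : ∀ x, f x = 1 ↔ ∃ n, ιX n = x)
    (η : X → ℂ) (hη : IsCharacter X η) (θ : N' → ℂ) (hθ : IsIrrCharacter N' θ)
    (hηθ : ∀ n, η (ιX n) = θ n) (χ₀ : G' → ℂ) (hχ₀ : IsIrrCharacter G' χ₀)
    (hover : classInner (fun n => χ₀ (πG (ιX n))) θ ≠ 0) :
    ∃ β₀ : Y → ℂ, IsIrrCharacter Y β₀ ∧ ∀ x, χ₀ (πG x) = β₀ (f x) * η x := by
  classical
  haveI : Fintype f.ker := Fintype.ofFinite _
  obtain ⟨hηirr, hηK, hinner⟩ := ker_facts f ιX hιinj hιker η hη θ hθ hηθ
  obtain ⟨-, -, h3⟩ := RelG.gallagher_type f.ker hηirr hηK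
  have hχh : IsIrrCharacter X (fun x => χ₀ (πG x)) := Helper25.isIrrCharacter_comp πG hπG hχ₀
  have e : classInner (fun n : f.ker => χ₀ (πG n)) (fun n : f.ker => η n)
      = classInner (fun n : N' => χ₀ (πG (ιX n))) θ := hinner (fun x => χ₀ (πG x))
  obtain ⟨βt, hβt, hβtk, hβtη⟩ := h3 _ hχh (by rw [e]; exact hover)
  obtain ⟨β₀, hβ₀, hβ₀f⟩ := exists_descent f hf hβt (fun x hx => hβtk x hx)
  refine ⟨β₀, hβ₀, fun x => ?_⟩
  have := congrFun hβtη x
  rw [Pi.mul_apply, hβ₀f] at this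
  exact this.symm

theorem exists_chi (πG : X →* G') (hπG : Function.Surjective πG) (f : X →* Y)
    (hf : Function.Surjective f) (ιX : N' →* X) (hιinj : Function.Injective ιX)
    (hιker : ∀ x, f x = 1 ↔ ∃ n, ιX n = x)
    (η : X → ℂ) (hη : IsCharacter X η) (θ : N' → ℂ) (hθ : IsIrrCharacter N' θ)
    (hηθ : ∀ n, η (ιX n) = θ n) (χ₀ : G' → ℂ) (β₀ β : Y → ℂ) (hβ₀ : IsIrrCharacter Y β₀)
    (hβ : IsIrrCharacter Y β) (h0 : ∀ x, χ₀ (πG x) = β₀ (f x) * η x)
    (hcen : ∀ x, πG x = 1 → β (f x) * β₀ 1 = β₀ (f x) * β 1) :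
    ∃ χ : G' → ℂ, IsIrrCharacter G' χ ∧ ∀ x, χ (πG x) = β (f x) * η x := by
  classical
  haveI : Fintype f.ker := Fintype.ofFinite _
  obtain ⟨hηirr, hηK, hinner⟩ := ker_facts f ιX hιinj hιker η hη θ hθ hηθ
  obtain ⟨h1, -, -⟩ := RelG.gallagher_type f.ker hηirr hηK
  have hβt : IsIrrCharacter X (fun x => β (f x)) := Helper25.isIrrCharacter_comp f hf hβ
  have hψ : IsIrrCharacter X ((fun x => β (f x)) * η) := by
    apply h1 _ hβt
    intro n hn
    show β (f n) = β (f 1)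
    rw [MonoidHom.mem_ker.1 hn, map_one]
  have hb0 : β₀ 1 ≠ 0 := IsIrrCharacter.apply_one_ne_zero hβ₀
  obtain ⟨χ, hχ, hχf⟩ := exists_descent πG hπG hψ (by
    intro x hx
    rw [Pi.mul_apply, Pi.mul_apply, map_one]
    have e1 := h0 x
    have e2 := h0 1
    rw [hx] at e1
    rw [map_one, map_one] at e2
    have e3 := hcen x hx
    have e4 : β₀ (f x) * η x = β₀ 1 * η 1 := by rw [← e1, ← e2]
    apply mul_right_cancel₀ hb0
    calc β (f x) * η x * β₀ 1 = (β (f x) * β₀ 1) * η x := by ring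
      _ = β₀ (f x) * η x * β 1 := by rw [e3]; ring
      _ = β₀ 1 * η 1 * β 1 := by rw [e4]
      _ = β 1 * η 1 * β₀ 1 := by ring)
  refine ⟨χ, hχ, fun x => ?_⟩
  rw [← hχf x, Pi.mul_apply]

end TypeLevel

section Star

variable {Γ Γh : Type u} [Group Γ] [Group Γh] (π : Γh →* Γ) (Nh : Subgroup Γh) [hNh : Nh.Normal]

/-- the image in `Γh ⧸ Nh` of the preimage of `H` -/
def starSub (H : Subgroup Γ) : Subgroup (Γh ⧸ Nh) := (H.comap π).map (QuotientGroup.mk' Nh)

theorem mk_mem_starSub {H : Subgroup Γ} (hle : ∀ y ∈ Nh, π y ∈ H) (x : Γh) :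
    (QuotientGroup.mk' Nh x) ∈ starSub π Nh H ↔ π x ∈ H := by
  constructor
  · rintro ⟨y, hy, hyx⟩
    have h1 : y⁻¹ * x ∈ Nh := QuotientGroup.eq.1 hyx
    have h2 : π (y⁻¹ * x) ∈ H := hle _ h1
    have h3 : π x = π y * π (y⁻¹ * x) := by
      rw [← map_mul]
      apply congrArg
      group
    rw [h3]
    exact mul_mem hy h2
  · intro h
    exact ⟨x, h, rfl⟩

instance starSub_normal (H : Subgroup Γ) [hH : H.Normal] : (starSub π Nh H).Normal :=
  Subgroup.Normal.map (hH.comap π) _ (QuotientGroup.mk'_surjective Nh)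

theorem comap_starSub {H : Subgroup Γ} (hle : ∀ y ∈ Nh, π y ∈ H) :
    (starSub π Nh H).comap (QuotientGroup.mk' Nh) = H.comap π := by
  ext x
  rw [Subgroup.mem_comap, mk_mem_starSub π Nh hle, Subgroup.mem_comap]

theorem starSub_mono {H K : Subgroup Γ} (h : H ≤ K) : starSub π Nh H ≤ starSub π Nh K :=
  Subgroup.map_mono (Subgroup.comap_mono h)

theorem index_starSub (hπ : Function.Surjective π) {H : Subgroup Γ} (hle : ∀ y ∈ Nh, π y ∈ H) :
    (starSub π Nh H).index = H.index := by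
  rw [← Subgroup.index_comap_of_surjective (starSub π Nh H) (QuotientGroup.mk'_surjective Nh),
    comap_starSub π Nh hle, Subgroup.index_comap_of_surjective H hπ]

theorem relIndex_starSub (hπ : Function.Surjective π) {G N : Subgroup Γ}
    (hle : ∀ y ∈ Nh, π y ∈ N) :
    (starSub π Nh N).relIndex (starSub π Nh G) = N.relIndex G := by
  have h1 : N.relIndex G = (N.comap π).relIndex (G.comap π) := by
    rw [Subgroup.relIndex_comap, Subgroup.map_comap_eq_self_of_surjective hπ]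
  have h2 : (starSub π Nh N).relIndex (starSub π Nh G) = (N.comap π).relIndex (G.comap π) := by
    rw [← comap_starSub π Nh hle, Subgroup.relIndex_comap]
    rfl
  rw [h1, h2]

theorem starSub_le_center {N : Subgroup Γ}
    (hdec : ∀ x : Γh, π x ∈ N → ∃ y ∈ Nh, ∃ z ∈ Subgroup.center Γh, x = y * z) :
    starSub π Nh N ≤ Subgroup.center (Γh ⧸ Nh) := by
  rintro w ⟨x, hx, rfl⟩
  obtain ⟨y, hy, z, hz, rfl⟩ := hdec x hx
  rw [Subgroup.mem_center_iff]
  intro v
  obtain ⟨v', rfl⟩ := QuotientGroup.mk'_surjective Nh v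
  have hy1 : QuotientGroup.mk' Nh y = 1 := (QuotientGroup.eq_one_iff y).2 hy
  rw [map_mul, hy1, one_mul, ← map_mul, ← map_mul, (Subgroup.mem_center_iff.1 hz) v']

/-- the canonical surjection `π⁻¹(G) → G*` -/
def fS (G : Subgroup Γ) : ↥(G.comap π) →* ↥(starSub π Nh G) :=
  (QuotientGroup.mk' Nh).subgroupMap (G.comap π)

theorem fS_coe (G : Subgroup Γ) (x : ↥(G.comap π)) :
    ((fS π Nh G x : starSub π Nh G) : Γh ⧸ Nh) = QuotientGroup.mk' Nh (x : Γh) := rfl

theorem fS_surjective (G : Subgroup Γ) : Function.Surjective (fS π Nh G) :=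
  MonoidHom.subgroupMap_surjective (QuotientGroup.mk' Nh) (G.comap π)

theorem solvable_of_maps {A B C : Type*} [Group A] [Group B] [Group C] (i : A →* B)
    (hi : Function.Injective i) (s : A →* C) (hs : Function.Surjective s)
    (hB : Group.IsSolvable B) : Group.IsSolvable C := by
  haveI := hB
  haveI hA : Group.IsSolvable A := solvable_of_solvable_injective hi
  exact solvable_of_surjective hs

theorem solvable_top (G : Subgroup Γ) [hG : G.Normal] (hle : ∀ y ∈ Nh, π y ∈ G)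
    (h : Group.IsSolvable (Γ ⧸ G)) : Group.IsSolvable ((Γh ⧸ Nh) ⧸ starSub π Nh G) := by
  haveI : (G.comap π).Normal := hG.comap π
  let i : Γh ⧸ (G.comap π) →* Γ ⧸ G := QuotientGroup.map _ _ π le_rfl
  let s : Γh ⧸ (G.comap π) →* (Γh ⧸ Nh) ⧸ starSub π Nh G :=
    QuotientGroup.map _ _ (QuotientGroup.mk' Nh) (Subgroup.le_comap_map _ _)
  refine solvable_of_maps i ?_ s ?_ h
  · rw [injective_iff_map_eq_one]
    intro a
    induction a using QuotientGroup.induction_on with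
    | H x =>
      intro hx
      have : i (x : Γh ⧸ (G.comap π)) = ((π x : Γ) : Γ ⧸ G) := rfl
      rw [this, QuotientGroup.eq_one_iff] at hx
      exact (QuotientGroup.eq_one_iff x).2 hx
  · intro c
    induction c using QuotientGroup.induction_on with
    | H c' =>
      obtain ⟨x, rfl⟩ := QuotientGroup.mk'_surjective Nh c'
      exact ⟨(x : Γh ⧸ (G.comap π)), rfl⟩

theorem solvable_bot (G N : Subgroup Γ) [hG : G.Normal] [hN : N.Normal]
    (hle : ∀ y ∈ Nh, π y ∈ N)
    (h : Group.IsSolvable (G ⧸ N.subgroupOf G)) :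
    Group.IsSolvable (starSub π Nh G ⧸ (starSub π Nh N).subgroupOf (starSub π Nh G)) := by
  haveI : (N.comap π).Normal := hN.comap π
  let i : ↥(G.comap π) ⧸ (N.comap π).subgroupOf (G.comap π) →* G ⧸ N.subgroupOf G :=
    QuotientGroup.map _ _ (π.subgroupComap G) (by
      intro x hx
      exact hx)
  let s : ↥(G.comap π) ⧸ (N.comap π).subgroupOf (G.comap π) →*
      starSub π Nh G ⧸ (starSub π Nh N).subgroupOf (starSub π Nh G) :=
    QuotientGroup.map _ _ (fS π Nh G) (by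
      intro x hx
      rw [Subgroup.mem_comap, Subgroup.mem_subgroupOf]
      exact ⟨(x : Γh), Subgroup.mem_subgroupOf.1 hx, rfl⟩)
  refine solvable_of_maps i ?_ s ?_ h
  · rw [injective_iff_map_eq_one]
    intro a
    induction a using QuotientGroup.induction_on with
    | H x =>
      intro hx
      have : i (x : ↥(G.comap π) ⧸ (N.comap π).subgroupOf (G.comap π))
          = ((π.subgroupComap G x : G) : G ⧸ N.subgroupOf G) := rfl
      rw [this, QuotientGroup.eq_one_iff] at hx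
      exact (QuotientGroup.eq_one_iff x).2 hx
  · intro c
    induction c using QuotientGroup.induction_on with
    | H c' =>
      obtain ⟨x, rfl⟩ := fS_surjective π Nh G c'
      exact ⟨(x : ↥(G.comap π) ⧸ (N.comap π).subgroupOf (G.comap π)), rfl⟩

end Star

section Main

open Classical

variable {Γ Γh : Type u} [Group Γ] [Fintype Γ] [Group Γh] [Fintype Γh]

/-- **Isaacs 13.28 from a central extension.** -/
theorem triple_main (G N : Subgroup Γ) [hG : G.Normal] [hN : N.Normal] (hNG : N ≤ G)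
    (hcop : (G.index).Coprime (N.relIndex G))
    (hsolv : Group.IsSolvable (Γ ⧸ G) ∨ Group.IsSolvable (G ⧸ N.subgroupOf G))
    (π : Γh →* Γ) (hπ : Function.Surjective π)
    (Nh : Subgroup Γh) [hNh : Nh.Normal]
    (ι : N →* Γh) (hιπ : ∀ n : N, π (ι n) = n) (hιmem : ∀ y, y ∈ Nh ↔ ∃ n, ι n = y)
    (hdec : ∀ x : Γh, π x ∈ N → ∃ y ∈ Nh, ∃ z ∈ Subgroup.center Γh, x = y * z)
    (τ : Γh → ℂ) (hτ : IsCharacter Γh τ) (θ : IrrCharacter N)
    (hτθ : ∀ n, τ (ι n) = (θ : N → ℂ) n) :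
    ∃ χ : IrrCharacter G, cinn (res hNG (χ : G → ℂ)) (θ : N → ℂ) ≠ 0 ∧
      ∀ x : Γ, InvUnder G x (χ : G → ℂ) := by
  haveI : Fintype (Γh ⧸ Nh) := Fintype.ofFinite _
  have hleN : ∀ y ∈ Nh, π y ∈ N := by
    intro y hy
    obtain ⟨n, rfl⟩ := (hιmem y).1 hy
    rw [hιπ]
    exact n.2
  have hleG : ∀ y ∈ Nh, π y ∈ G := fun y hy => hNG (hleN y hy)
  have hZG : starSub π Nh N ≤ starSub π Nh G := starSub_mono π Nh hNG
  have hZc := starSub_le_center π Nh hdec
  have hcop' : (starSub π Nh G).index.Coprime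
      ((starSub π Nh N).relIndex (starSub π Nh G)) := by
    rw [index_starSub π Nh hπ hleG, relIndex_starSub π Nh hπ hleN]
    exact hcop
  have hsolv' : Group.IsSolvable ((Γh ⧸ Nh) ⧸ starSub π Nh G) ∨
      Group.IsSolvable (starSub π Nh G ⧸ (starSub π Nh N).subgroupOf (starSub π Nh G)) := by
    rcases hsolv with h | h
    · exact Or.inl (solvable_top π Nh G hleG h)
    · exact Or.inr (solvable_bot π Nh G N hleN h)
  -- type-level data
  obtain ⟨πG, hπGdef⟩ : ∃ πG : ↥(G.comap π) →* G, πG = π.subgroupComap G := ⟨_, rfl⟩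
  have hπGc : ∀ x, ((πG x : G) : Γ) = π (x : Γh) := by
    intro x
    rw [hπGdef]
    rfl
  have hπGs : Function.Surjective πG := by
    intro g
    obtain ⟨x, hx⟩ := hπ (g : Γ)
    have hxm : x ∈ G.comap π := by
      show π x ∈ G
      rw [hx]
      exact g.2
    exact ⟨⟨x, hxm⟩, Subtype.ext (by rw [hπGc]; exact hx)⟩
  have hιG : ∀ n : N, ι n ∈ G.comap π := by
    intro n
    show π (ι n) ∈ G
    rw [hιπ]
    exact hNG n.2
  obtain ⟨ιX, hιXdef⟩ : ∃ ιX : N →* ↥(G.comap π), ιX = ι.codRestrict (G.comap π) hιG :=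
    ⟨_, rfl⟩
  have hιXc : ∀ n, ((ιX n : ↥(G.comap π)) : Γh) = ι n := by
    intro n
    rw [hιXdef]
    rfl
  have hιXinj : Function.Injective ιX := by
    intro a b hab
    have h1 : π ((ιX a : ↥(G.comap π)) : Γh) = π ((ιX b : ↥(G.comap π)) : Γh) := by rw [hab]
    rw [hιXc, hιXc, hιπ, hιπ] at h1
    exact Subtype.ext h1
  have hιker : ∀ x : ↥(G.comap π), fS π Nh G x = 1 ↔ ∃ n, ιX n = x := by
    intro x
    have h1 : fS π Nh G x = 1 ↔ (x : Γh) ∈ Nh := by
      rw [← Subtype.coe_inj, fS_coe, Subgroup.coe_one, QuotientGroup.mk'_apply,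
        QuotientGroup.eq_one_iff]
    rw [h1, hιmem]
    constructor
    · rintro ⟨n, hn⟩
      exact ⟨n, Subtype.ext (by rw [hιXc, hn])⟩
    · rintro ⟨n, rfl⟩
      exact ⟨n, (hιXc n).symm⟩
  obtain ⟨η, hηdef⟩ : ∃ η : ↥(G.comap π) → ℂ, η = fun x : ↥(G.comap π) => τ (x : Γh) := ⟨_, rfl⟩
  have hη : IsCharacter ↥(G.comap π) η := by
    rw [hηdef]
    exact IsCharacter.comp hτ (G.comap π).subtype
  have hηθ : ∀ n, η (ιX n) = (θ : N → ℂ) n := by
    intro n
    rw [hηdef]
    show τ ((ιX n : ↥(G.comap π)) : Γh) = _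
    rw [hιXc, hτθ]
  obtain ⟨χ₀, hχ₀⟩ := Rel.rel_exists_over hNG θ
  have hover : classInner (fun n => (χ₀ : G → ℂ) (πG (ιX n))) (θ : N → ℂ) ≠ 0 := by
    rw [cinn_eq] at hχ₀
    have : (fun n => (χ₀ : G → ℂ) (πG (ιX n))) = res hNG (χ₀ : G → ℂ) := by
      funext n
      rw [res_apply]
      apply congrArg
      apply Subtype.ext
      rw [hπGc, hιXc, hιπ]
    rw [this]
    exact hχ₀
  obtain ⟨β₀, hβ₀, h0⟩ := exists_beta0 πG hπGs (fS π Nh G) (fS_surjective π Nh G) ιX hιXinj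
    hιker η hη θ θ.2 hηθ χ₀ χ₀.2 hover
  obtain ⟨β, hβinv, hβcen⟩ := CentralCase.central_case (starSub π Nh G) (starSub π Nh N) hZG hZc
    hcop' hsolv' ⟨β₀, hβ₀⟩
  have hcen : ∀ x, πG x = 1 → (β : ↥(starSub π Nh G) → ℂ) (fS π Nh G x) * β₀ 1
      = β₀ (fS π Nh G x) * (β : ↥(starSub π Nh G) → ℂ) 1 := by
    intro x hx
    apply hβcen
    rw [fS_coe, mk_mem_starSub π Nh hleN]
    have : π (x : Γh) = 1 := by
      rw [← hπGc, hx]
      rfl
    rw [this]
    exact one_mem _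
  obtain ⟨χ, hχ, hχf⟩ := exists_chi πG hπGs (fS π Nh G) (fS_surjective π Nh G) ιX hιXinj
    hιker η hη θ θ.2 hηθ χ₀ β₀ β hβ₀ β.2 h0 hcen
  refine ⟨⟨χ, hχ⟩, ?_, ?_⟩
  · have hres : res hNG χ = (β : ↥(starSub π Nh G) → ℂ) 1 • (θ : N → ℂ) := by
      funext n
      rw [res_apply, Pi.smul_apply, smul_eq_mul]
      have h1 : (⟨(n : Γ), hNG n.2⟩ : G) = πG (ιX n) := by
        apply Subtype.ext
        rw [hπGc, hιXc, hιπ]
      rw [h1, hχf, hηθ, (hιker (ιX n)).2 ⟨n, rfl⟩]
    show cinn (res hNG χ) (θ : N → ℂ) ≠ 0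
    rw [hres, cinn_eq, classInner_smul_left, classInner_irrCharacter_self, mul_one]
    exact IsIrrCharacter.apply_one_ne_zero β.2
  · intro x g g' hgg'
    obtain ⟨xh, hxh⟩ := hπ x
    obtain ⟨gh, hgh⟩ := hπGs g
    have hmem : xh * (gh : Γh) * xh⁻¹ ∈ G.comap π := (hG.comap π).conj_mem _ gh.2 xh
    have hg' : g' = πG ⟨xh * gh * xh⁻¹, hmem⟩ := by
      apply Subtype.ext
      rw [hgg', hπGc]
      show x * g * x⁻¹ = π (xh * gh * xh⁻¹)
      rw [map_mul, map_mul, map_inv, hxh, ← hπGc, hgh]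
    show χ g' = χ g
    rw [hg', ← hgh, hχf, hχf]
    congr 1
    · apply hβinv (QuotientGroup.mk' Nh xh) (fS π Nh G gh) (fS π Nh G ⟨_, hmem⟩)
      rw [fS_coe, fS_coe, map_mul, map_mul, map_inv]
    · rw [hηdef]
      exact IsCharacter.isClassFunction hτ (gh : Γh) xh

end Main

end Cfsg.Agent.Lib.Helper24.TripleIso
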