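import Mathlib
import Cfsg.Agent.Lib.Helper24.GaloisAvg
import Cfsg.Agent.Lib.Helper24.SchurBound
import Cfsg.Agent.Lib.Helper24.Loc
import Cfsg.Agent.Lib.Helper11.GaloisTwist

/-!
# The normalized trace on the `2`-power cyclotomic fields (helper24 library)

`twoTrace a` is a (chosen) average of the Galois automorphisms of `ℚ(ζ)`, `ζ` a primitive
`2^(a+1)`-th root of unity; the powers `ζ^i`, `i < 2^a`, are orthonormal for the form
`twoTrace (x * conj y)`, and every algebraic integer of the field is a `ℤ`-combination of them.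
-/

set_option autoImplicit false

namespace Cfsg.Agent.Lib.Helper24

open scoped ComplexConjugate
open Polynomial

/-- chosen automorphism of `ℂ` raising the `m`-th roots of unity to the `t`-th power -/
noncomputable def sigmaPow (m t : ℕ) : ℂ ≃+* ℂ := by
  classical
  exact if h : m ≠ 0 ∧ t.Coprime m then
    (haveI : NeZero m := ⟨h.1⟩
     Classical.choose (Cfsg.Agent.Lib.Helper11.exists_ringEquiv_complex_pow m t h.2))
  else RingEquiv.refl ℂ

theorem sigmaPow_spec (m t : ℕ) (hm : m ≠ 0) (ht : t.Coprime m) (z : ℂ) (hz : z ^ m = 1) :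
    sigmaPow m t z = z ^ t := by
  unfold sigmaPow
  rw [dif_pos ⟨hm, ht⟩]
  haveI : NeZero m := ⟨hm⟩
  exact Classical.choose_spec (Cfsg.Agent.Lib.Helper11.exists_ringEquiv_complex_pow m t ht) z hz

/-- the normalized trace -/
noncomputable def twoTrace (a : ℕ) (x : ℂ) : ℂ :=
  ((2 ^ a : ℕ) : ℂ)⁻¹ * ∑ t ∈ (Finset.range (2 * 2 ^ a)).filter (fun t => ¬ 2 ∣ t),
    sigmaPow (2 * 2 ^ a) t x

theorem twoTrace_add (a : ℕ) (x y : ℂ) : twoTrace a (x + y) = twoTrace a x + twoTrace a y := by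
  unfold twoTrace
  rw [← mul_add, ← Finset.sum_add_distrib]
  congr 1
  apply Finset.sum_congr rfl
  intro t _
  rw [map_add]

theorem twoTrace_zero (a : ℕ) : twoTrace a 0 = 0 := by
  unfold twoTrace
  simp

theorem twoTrace_sum (a : ℕ) {ι : Type*} (s : Finset ι) (f : ι → ℂ) :
    twoTrace a (∑ i ∈ s, f i) = ∑ i ∈ s, twoTrace a (f i) := by
  classical
  induction s using Finset.induction_on with
  | empty => simp [twoTrace_zero]
  | insert i s hi ih => rw [Finset.sum_insert hi, Finset.sum_insert hi, twoTrace_add, ih]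

theorem twoTrace_intCast_mul (a : ℕ) (c : ℤ) (x : ℂ) :
    twoTrace a ((c : ℂ) * x) = (c : ℂ) * twoTrace a x := by
  unfold twoTrace
  rw [mul_left_comm]
  congr 1
  rw [Finset.mul_sum]
  apply Finset.sum_congr rfl
  intro t _
  rw [map_mul, map_intCast]

theorem twoTrace_natCast_mul (a : ℕ) (c : ℕ) (x : ℂ) :
    twoTrace a ((c : ℂ) * x) = (c : ℂ) * twoTrace a x := by
  have := twoTrace_intCast_mul a (c : ℤ) x
  simpa using this

theorem odd_coprime_two_mul_pow (a t : ℕ) (ht : ¬ 2 ∣ t) : t.Coprime (2 * 2 ^ a) := by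
  rw [← pow_succ']
  apply Nat.Coprime.pow_right
  rw [Nat.coprime_comm, Nat.Prime.coprime_iff_not_dvd Nat.prime_two]
  exact ht

theorem two_mul_pow_ne_zero (a : ℕ) : 2 * 2 ^ a ≠ 0 := by positivity

/-- the trace of a root of unity -/
theorem twoTrace_root (a : ℕ) (w : ℂ) (hw : w ^ (2 * 2 ^ a) = 1) :
    twoTrace a w = (if w = 1 then 2 else 0) - (if w ^ 2 = 1 then 1 else 0) := by
  unfold twoTrace
  have h1 : ∑ t ∈ (Finset.range (2 * 2 ^ a)).filter (fun t => ¬ 2 ∣ t),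
      sigmaPow (2 * 2 ^ a) t w
      = ∑ t ∈ (Finset.range (2 * 2 ^ a)).filter (fun t => ¬ 2 ∣ t), w ^ t := by
    apply Finset.sum_congr rfl
    intro t ht
    rw [Finset.mem_filter] at ht
    exact sigmaPow_spec _ t (two_mul_pow_ne_zero a) (odd_coprime_two_mul_pow a t ht.2) w hw
  rw [h1, sum_pow_coprime 2 Nat.prime_two (2 ^ a) w hw]
  have hN : ((2 ^ a : ℕ) : ℂ) ≠ 0 := Nat.cast_ne_zero.mpr (pow_ne_zero _ two_ne_zero)
  rw [mul_sub]
  congr 1
  · split_ifs
    · push_cast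
      field_simp
    · rw [mul_zero]
  · split_ifs
    · rw [inv_mul_cancel₀ hN]
    · rw [mul_zero]

theorem twoTrace_one (a : ℕ) : twoTrace a 1 = 1 := by
  rw [twoTrace_root a 1 (one_pow _), if_pos rfl, if_pos (one_pow _)]
  norm_num

theorem twoTrace_natCast (a : ℕ) (n : ℕ) : twoTrace a (n : ℂ) = (n : ℂ) := by
  have := twoTrace_natCast_mul a n 1
  rwa [mul_one, twoTrace_one, mul_one] at this

section Roots

variable (a : ℕ) (ζ : ℂ) (hζ : IsPrimitiveRoot ζ (2 * 2 ^ a))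

theorem conj_pow_eq_inv {ζ : ℂ} {a : ℕ} (hζ : IsPrimitiveRoot ζ (2 * 2 ^ a)) (j : ℕ) :
    conj (ζ ^ j) = (ζ ^ j)⁻¹ := by
  have h1 : ‖ζ ^ j‖ = 1 := by
    rw [norm_pow, hζ.norm'_eq_one (two_mul_pow_ne_zero a), one_pow]
  exact (Complex.inv_eq_conj h1).symm

/-- orthonormality of the powers of `ζ` -/
theorem twoTrace_pow_mul_conj_pow {ζ : ℂ} {a : ℕ} (hζ : IsPrimitiveRoot ζ (2 * 2 ^ a))
    (i j : ℕ) (hi : i < 2 ^ a) (hj : j < 2 ^ a) :
    twoTrace a (ζ ^ i * conj (ζ ^ j)) = if i = j then 1 else 0 := by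
  have hζ0 : ζ ≠ 0 := hζ.ne_zero (two_mul_pow_ne_zero a)
  have hw : (ζ ^ i * conj (ζ ^ j)) ^ (2 * 2 ^ a) = 1 := by
    have e1 : (ζ ^ i) ^ (2 * 2 ^ a) = 1 := by
      rw [← pow_mul, mul_comm, pow_mul, hζ.pow_eq_one, one_pow]
    have e2 : (ζ ^ j) ^ (2 * 2 ^ a) = 1 := by
      rw [← pow_mul, mul_comm, pow_mul, hζ.pow_eq_one, one_pow]
    rw [conj_pow_eq_inv hζ, mul_pow, inv_pow, e1, e2, inv_one, mul_one]
  rw [twoTrace_root a _ hw]
  have h1 : ζ ^ i * conj (ζ ^ j) = 1 ↔ i = j := by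
    rw [conj_pow_eq_inv hζ, mul_inv_eq_one₀ (pow_ne_zero _ hζ0)]
    constructor
    · intro h
      exact hζ.pow_inj (by omega) (by omega) h
    · intro h
      rw [h]
  have h2 : (ζ ^ i * conj (ζ ^ j)) ^ 2 = 1 ↔ i = j := by
    rw [conj_pow_eq_inv hζ, mul_pow, inv_pow, mul_inv_eq_one₀ (pow_ne_zero _ (pow_ne_zero _ hζ0)),
      ← pow_mul, ← pow_mul]
    constructor
    · intro h
      have := hζ.pow_inj (by omega) (by omega) h
      omega
    · intro h
      rw [h]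
  by_cases hij : i = j
  · rw [if_pos (h1.mpr hij), if_pos (h2.mpr hij), if_pos hij]
    norm_num
  · rw [if_neg (fun h => hij (h1.mp h)), if_neg (fun h => hij (h2.mp h)), if_neg hij]
    norm_num

/-- the trace form on `ℤ`-combinations of the powers of `ζ` -/
theorem twoTrace_sum_mul_conj_sum {ζ : ℂ} {a : ℕ} (hζ : IsPrimitiveRoot ζ (2 * 2 ^ a))
    (c d : ℕ → ℤ) :
    twoTrace a ((∑ i ∈ Finset.range (2 ^ a), (c i : ℂ) * ζ ^ i)
      * conj (∑ j ∈ Finset.range (2 ^ a), (d j : ℂ) * ζ ^ j))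
      = ((∑ i ∈ Finset.range (2 ^ a), c i * d i : ℤ) : ℂ) := by
  rw [map_sum, Finset.sum_mul_sum, twoTrace_sum]
  push_cast
  apply Finset.sum_congr rfl
  intro i hi
  rw [twoTrace_sum]
  rw [Finset.sum_eq_single i]
  · rw [map_mul, map_intCast]
    have e : (c i : ℂ) * ζ ^ i * ((d i : ℂ) * conj (ζ ^ i))
        = ((c i * d i : ℤ) : ℂ) * (ζ ^ i * conj (ζ ^ i)) := by
      push_cast
      ring
    rw [e, twoTrace_intCast_mul,
      twoTrace_pow_mul_conj_pow hζ i i (Finset.mem_range.mp hi) (Finset.mem_range.mp hi),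
      if_pos rfl, mul_one]
    push_cast
    rfl
  · intro j hj hji
    rw [map_mul, map_intCast]
    have e : (c i : ℂ) * ζ ^ i * ((d j : ℂ) * conj (ζ ^ j))
        = ((c i * d j : ℤ) : ℂ) * (ζ ^ i * conj (ζ ^ j)) := by
      push_cast
      ring
    rw [e, twoTrace_intCast_mul,
      twoTrace_pow_mul_conj_pow hζ i j (Finset.mem_range.mp hi) (Finset.mem_range.mp hj),
      if_neg (fun h => hji h.symm), mul_zero]
  · intro h
    exact absurd hi h

theorem sum_single_zero {a : ℕ} (ζ : ℂ) :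
    ∑ j ∈ Finset.range (2 ^ a), (((if j = 0 then (1 : ℤ) else 0 : ℤ)) : ℂ) * ζ ^ j = 1 := by
  rw [Finset.sum_eq_single 0]
  · simp
  · intro j _ hj
    rw [if_neg hj]
    simp
  · intro h
    exact absurd (Finset.mem_range.mpr (pow_pos two_pos a)) h

/-- the trace of a `ℤ`-combination of the powers of `ζ` is its constant coefficient -/
theorem twoTrace_sum_pow {ζ : ℂ} {a : ℕ} (hζ : IsPrimitiveRoot ζ (2 * 2 ^ a)) (c : ℕ → ℤ) :
    twoTrace a (∑ i ∈ Finset.range (2 ^ a), (c i : ℂ) * ζ ^ i) = (c 0 : ℂ) := by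
  have h := twoTrace_sum_mul_conj_sum hζ c (fun j => if j = 0 then 1 else 0)
  rw [sum_single_zero ζ, map_one, mul_one] at h
  rw [h]
  congr 1
  rw [Finset.sum_eq_single 0]
  · simp
  · intro j _ hj
    rw [if_neg hj, mul_zero]
  · intro h
    exact absurd (Finset.mem_range.mpr (pow_pos two_pos a)) h

/-- coefficient extraction -/
theorem twoTrace_mul_conj_pow {ζ : ℂ} {a : ℕ} (hζ : IsPrimitiveRoot ζ (2 * 2 ^ a)) (c : ℕ → ℤ)
    (j : ℕ) (hj : j < 2 ^ a) :
    twoTrace a ((∑ i ∈ Finset.range (2 ^ a), (c i : ℂ) * ζ ^ i) * conj (ζ ^ j)) = (c j : ℂ) := by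
  have h := twoTrace_sum_mul_conj_sum hζ c (fun i => if i = j then 1 else 0)
  have e : ∑ i ∈ Finset.range (2 ^ a), (((if i = j then (1 : ℤ) else 0 : ℤ)) : ℂ) * ζ ^ i
      = ζ ^ j := by
    rw [Finset.sum_eq_single j]
    · simp
    · intro i _ hi
      rw [if_neg hi]
      simp
    · intro h
      exact absurd (Finset.mem_range.mpr hj) h
  rw [e] at h
  rw [h]
  congr 1
  rw [Finset.sum_eq_single j]
  · simp
  · intro i _ hi
    rw [if_neg hi, mul_zero]
  · intro h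
    exact absurd (Finset.mem_range.mpr hj) h

theorem pow_half_eq_neg_one {ζ : ℂ} {a : ℕ} (hζ : IsPrimitiveRoot ζ (2 * 2 ^ a)) :
    ζ ^ (2 ^ a) = -1 := by
  have h1 : (ζ ^ (2 ^ a)) ^ 2 = 1 := by
    rw [← pow_mul, mul_comm, hζ.pow_eq_one]
  have h2 : ζ ^ (2 ^ a) ≠ 1 := by
    intro h
    have := hζ.dvd_of_pow_eq_one _ h
    have h3 : 2 * 2 ^ a ≤ 2 ^ a := Nat.le_of_dvd (pow_pos two_pos a) this
    have h4 : 0 < 2 ^ a := pow_pos two_pos a
    omega
  have h3 : (ζ ^ (2 ^ a) - 1) * (ζ ^ (2 ^ a) + 1) = 0 := by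
    ring_nf
    rw [← pow_mul, mul_comm] at h1
    ring_nf at h1
    rw [h1]
    ring
  rcases mul_eq_zero.mp h3 with h | h
  · exact absurd (sub_eq_zero.mp h) h2
  · exact eq_neg_of_add_eq_zero_left h

/-- the trace of the conjugate of a power of `ζ` -/
theorem twoTrace_conj_pow {ζ : ℂ} {a : ℕ} (hζ : IsPrimitiveRoot ζ (2 * 2 ^ a)) (m : ℕ)
    (hm : m < 2 * 2 ^ a) :
    twoTrace a (conj (ζ ^ m)) = if m = 0 then 1 else if m = 2 ^ a then -1 else 0 := by
  have hζ0 : ζ ≠ 0 := hζ.ne_zero (two_mul_pow_ne_zero a)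
  have hw : (conj (ζ ^ m)) ^ (2 * 2 ^ a) = 1 := by
    rw [← map_pow, ← pow_mul, mul_comm, pow_mul, hζ.pow_eq_one, one_pow, map_one]
  rw [twoTrace_root a _ hw]
  have h1 : conj (ζ ^ m) = 1 ↔ m = 0 := by
    rw [conj_pow_eq_inv hζ, inv_eq_one]
    constructor
    · intro h
      have := hζ.pow_inj hm (by positivity : 0 < 2 * 2 ^ a) (by rw [h, pow_zero])
      exact this
    · intro h
      rw [h, pow_zero]
  have h2 : (conj (ζ ^ m)) ^ 2 = 1 ↔ (m = 0 ∨ m = 2 ^ a) := by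
    rw [conj_pow_eq_inv hζ, inv_pow, inv_eq_one, ← pow_mul]
    constructor
    · intro h
      have hdvd := hζ.dvd_of_pow_eq_one _ h
      obtain ⟨c, hc⟩ := hdvd
      have h4 : 0 < 2 ^ a := pow_pos two_pos a
      have hc2 : c < 2 := by
        by_contra hcon
        push Not at hcon
        have : 2 * 2 ^ a * 2 ≤ 2 * 2 ^ a * c := Nat.mul_le_mul_left _ hcon
        omega
      interval_cases c
      · left; omega
      · right; omega
    · rintro (h | h)
      · rw [h, zero_mul, pow_zero]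
      · rw [h, mul_comm, hζ.pow_eq_one]
  by_cases hm0 : m = 0
  · rw [if_pos (h1.mpr hm0), if_pos (h2.mpr (Or.inl hm0)), if_pos hm0]
    norm_num
  · rw [if_neg (fun h => hm0 (h1.mp h)), if_neg hm0]
    by_cases hmN : m = 2 ^ a
    · rw [if_pos (h2.mpr (Or.inr hmN)), if_pos hmN]
      norm_num
    · rw [if_neg (fun h => (h2.mp h).elim hm0 hmN), if_neg hmN]
      norm_num

/-- a real `ℤ`-combination of powers of `ζ` has antisymmetric higher coefficients -/
theorem coeff_of_real {ζ : ℂ} {a : ℕ} (hζ : IsPrimitiveRoot ζ (2 * 2 ^ a)) (c : ℕ → ℤ)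
    (hreal : conj (∑ i ∈ Finset.range (2 ^ a), (c i : ℂ) * ζ ^ i)
      = ∑ i ∈ Finset.range (2 ^ a), (c i : ℂ) * ζ ^ i)
    (j : ℕ) (hj1 : 1 ≤ j) (hj : j < 2 ^ a) : c j = - c (2 ^ a - j) := by
  have h1 := twoTrace_mul_conj_pow hζ c j hj
  rw [← hreal, map_sum, Finset.sum_mul, twoTrace_sum] at h1
  have h2 : ∀ i ∈ Finset.range (2 ^ a),
      twoTrace a (conj ((c i : ℂ) * ζ ^ i) * conj (ζ ^ j))
        = if i = 2 ^ a - j then -(c i : ℂ) else 0 := by
    intro i hi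
    have hi' := Finset.mem_range.mp hi
    rw [map_mul, map_intCast, mul_assoc, ← map_mul, ← pow_add, twoTrace_intCast_mul,
      twoTrace_conj_pow hζ (i + j) (by omega)]
    have h0 : i + j ≠ 0 := by omega
    rw [if_neg h0]
    by_cases h : i = 2 ^ a - j
    · rw [if_pos h, if_pos (by omega)]
      ring
    · rw [if_neg h, if_neg (by omega), mul_zero]
  rw [Finset.sum_congr rfl h2, Finset.sum_ite_eq' (Finset.range (2 ^ a)) (2 ^ a - j),
    if_pos (Finset.mem_range.mpr (by omega))] at h1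
  have h3 : ((- c (2 ^ a - j) : ℤ) : ℂ) = ((c j : ℤ) : ℂ) := by
    push_cast
    exact h1
  exact (Int.cast_injective h3).symm

/-- the sum of the higher coefficients of a real element vanishes -/
theorem sum_coeff_of_real {ζ : ℂ} {a : ℕ} (hζ : IsPrimitiveRoot ζ (2 * 2 ^ a)) (c : ℕ → ℤ)
    (hreal : conj (∑ i ∈ Finset.range (2 ^ a), (c i : ℂ) * ζ ^ i)
      = ∑ i ∈ Finset.range (2 ^ a), (c i : ℂ) * ζ ^ i) :
    ∑ i ∈ Finset.range (2 ^ a), c i = c 0 := by
  have hN : 0 < 2 ^ a := pow_pos two_pos a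
  have h1 : Finset.range (2 ^ a) = insert 0 (Finset.Ico 1 (2 ^ a)) := by
    ext i
    simp only [Finset.mem_range, Finset.mem_insert, Finset.mem_Ico]
    omega
  rw [h1, Finset.sum_insert (by simp)]
  have h2 : ∑ i ∈ Finset.Ico 1 (2 ^ a), c i = 0 := by
    have h3 : ∑ i ∈ Finset.Ico 1 (2 ^ a), c i = ∑ i ∈ Finset.Ico 1 (2 ^ a), - c (2 ^ a - i) := by
      apply Finset.sum_congr rfl
      intro i hi
      rw [Finset.mem_Ico] at hi
      exact coeff_of_real hζ c hreal i hi.1 hi.2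
    have h4 : ∑ i ∈ Finset.Ico 1 (2 ^ a), c (2 ^ a - i) = ∑ i ∈ Finset.Ico 1 (2 ^ a), c i := by
      have := Finset.sum_Ico_reflect c 1 (m := 2 ^ a) (n := 2 ^ a) (by omega)
      rw [this]
      congr 1
      congr 1 <;> omega
    rw [Finset.sum_neg_distrib, h4] at h3
    omega
  rw [h2, add_zero]

end Roots

section Integers

/-- the algebraic integers of the `2`-power cyclotomic field are `ℤ`-combinations of the first
`2^a` powers of a primitive `2^(a+1)`-th root of unity -/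
theorem exists_int_repr (a : ℕ) : ∃ ζ : ℂ, IsPrimitiveRoot ζ (2 * 2 ^ a) ∧
    ∀ x ∈ cycloSub (2 * 2 ^ a), IsIntegral ℤ x →
      ∃ c : ℕ → ℤ, x = ∑ i ∈ Finset.range (2 ^ a), (c i : ℂ) * ζ ^ i := by
  classical
  obtain ⟨N, hN⟩ : ∃ N : ℕ, N = 2 * 2 ^ a := ⟨_, rfl⟩
  haveI : NeZero N := ⟨by rw [hN]; exact two_mul_pow_ne_zero a⟩
  rw [← hN]
  haveI : IsCyclotomicExtension {N} ℚ (CyclotomicField N ℚ) :=
    CyclotomicField.isCyclotomicExtension N ℚ
  set ζ0 : CyclotomicField N ℚ := IsCyclotomicExtension.zeta N ℚ (CyclotomicField N ℚ) with hζ0def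
  have hζ0 : IsPrimitiveRoot ζ0 N := IsCyclotomicExtension.zeta_spec N ℚ (CyclotomicField N ℚ)
  let emb : CyclotomicField N ℚ →ₐ[ℚ] ℂ := IsAlgClosed.lift
  have hinj : Function.Injective emb := emb.toRingHom.injective
  have hζ : IsPrimitiveRoot (emb ζ0) N := hζ0.map_of_injective hinj
  refine ⟨emb ζ0, hζ, ?_⟩
  intro x hx hint
  have hrange : cycloSub N ≤ emb.toRingHom.fieldRange := by
    apply Subfield.closure_le.mpr
    intro z hz
    obtain ⟨k, _, hk⟩ := hζ.eq_pow_of_pow_eq_one hz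
    exact ⟨ζ0 ^ k, by rw [← hk]; exact map_pow emb ζ0 k⟩
  obtain ⟨β, hβ⟩ := hrange hx
  have hβ' : emb β = x := hβ
  have hintβ : IsIntegral ℤ β := by
    have h1 : IsIntegral ℤ (emb β) := by rw [hβ']; exact hint
    exact (isIntegral_algHom_iff (emb.restrictScalars ℤ) hinj).mp h1
  have hcl := IsCyclotomicExtension.Rat.isIntegralClosure_adjoin_singleton hζ0
  obtain ⟨y, hy⟩ := hcl.isIntegral_iff.mp hintβ
  have hmem : β ∈ Algebra.adjoin ℤ ({ζ0} : Set (CyclotomicField N ℚ)) := by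
    rw [← hy]
    exact y.2
  rw [Algebra.adjoin_singleton_eq_range_aeval] at hmem
  obtain ⟨f, hf⟩ := hmem
  have hf' : Polynomial.aeval ζ0 f = β := hf
  -- reduce modulo `X ^ (2^a) + 1`
  have hmonic : (X ^ (2 ^ a) + 1 : ℤ[X]).Monic := by
    apply Polynomial.monic_X_pow_add
    rw [Polynomial.degree_one]
    exact_mod_cast pow_pos two_pos a
  have hζhalf : ζ0 ^ (2 ^ a) = -1 := by
    apply hinj
    rw [map_pow, map_neg, map_one]
    apply pow_half_eq_neg_one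
    rw [← hN]
    exact hζ
  have hroot : Polynomial.aeval ζ0 (X ^ (2 ^ a) + 1 : ℤ[X]) = 0 := by
    rw [map_add, map_pow, Polynomial.aeval_X, map_one, hζhalf]
    ring
  have hmod : Polynomial.aeval ζ0 (f %ₘ (X ^ (2 ^ a) + 1)) = β := by
    rw [← hf']
    conv_rhs => rw [← Polynomial.modByMonic_add_div f (X ^ (2 ^ a) + 1 : ℤ[X])]
    rw [map_add, map_mul, hroot, zero_mul, add_zero]
  have hnd : (X ^ (2 ^ a) + 1 : ℤ[X]).natDegree = 2 ^ a := by
    have e : (X ^ (2 ^ a) + 1 : ℤ[X]) = X ^ (2 ^ a) + C 1 := by rw [map_one]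
    rw [e, Polynomial.natDegree_X_pow_add_C]
  have hdeg : (f %ₘ (X ^ (2 ^ a) + 1 : ℤ[X])).natDegree < 2 ^ a := by
    have h1 := Polynomial.natDegree_modByMonic_lt f hmonic (by
      intro h
      have h2 := congrArg Polynomial.natDegree h
      rw [hnd, Polynomial.natDegree_one] at h2
      exact absurd h2 (pow_pos two_pos a).ne')
    rwa [hnd] at h1
  refine ⟨fun i => (f %ₘ (X ^ (2 ^ a) + 1 : ℤ[X])).coeff i, ?_⟩
  rw [← hβ', ← hmod, Polynomial.aeval_eq_sum_range' hdeg, map_sum]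
  apply Finset.sum_congr rfl
  intro i _
  rw [zsmul_eq_mul, map_mul, map_intCast, map_pow]

end Integers

section Parity

variable {M : Ideal Cfsg.AlgInt}

/-- a `2`-adic unit has odd coefficient sum -/
theorem odd_sum_coeff_of_not_memLocalIdeal (hM : Cfsg.IsPModular 2 M) {ζ : ℂ} {a : ℕ}
    (hζ : IsPrimitiveRoot ζ (2 * 2 ^ a)) (c : ℕ → ℤ)
    (h : ¬ Cfsg.MemLocalIdeal M (∑ i ∈ Finset.range (2 ^ a), (c i : ℂ) * ζ ^ i)) :
    Odd (∑ i ∈ Finset.range (2 ^ a), c i) := by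
  by_contra hodd
  rw [Int.not_odd_iff_even] at hodd
  apply h
  have hζ1 : ∀ i : ℕ, Cfsg.MemLocalIdeal M (ζ ^ i - 1) := by
    intro i
    apply memLocalIdeal_sub_one_of_pow_eq_one hM (k := a + 1)
    rw [← pow_mul, mul_comm, pow_mul, pow_succ', hζ.pow_eq_one, one_pow]
  have h1 : ∑ i ∈ Finset.range (2 ^ a), (c i : ℂ) * ζ ^ i
      = ∑ i ∈ Finset.range (2 ^ a), (c i : ℂ) * (ζ ^ i - 1)
        + ((∑ i ∈ Finset.range (2 ^ a), c i : ℤ) : ℂ) := by
    push_cast
    rw [← Finset.sum_add_distrib]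
    apply Finset.sum_congr rfl
    intro i _
    ring
  rw [h1]
  apply memLocalIdeal_add hM
  · apply memLocalIdeal_sum hM
    intro i _
    exact memLocalIdeal_mul_left hM (memLocalRing_intCast hM _) (hζ1 i)
  · obtain ⟨r, hr⟩ := hodd
    rw [hr]
    have e : ((r + r : ℤ) : ℂ) = ((2 : ℕ) : ℂ) * (r : ℂ) := by
      push_cast
      ring
    rw [e]
    exact memLocalIdeal_mul_right hM ((memLocalIdeal_natCast_iff hM 2).mpr dvd_rfl)
      (memLocalRing_intCast hM _)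

end Parity

end Cfsg.Agent.Lib.Helper24
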