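import Mathlib

/-!
# Winter's theorem: arithmetic and elementary group-theoretic preliminaries (helper24 library)
-/

set_option autoImplicit false

namespace Cfsg.Agent.Lib.Helper24.Winter

/-- the conclusion of Winter's theorem -/
def Good (p n : ℕ) : Prop :=
  ∃ q : ℕ, IsPrimePow q ∧ q ∣ n ∧
    ((q : ℤ) ≡ -1 [ZMOD p] ∨ (q : ℤ) ≡ 0 [ZMOD p] ∨ (q : ℤ) ≡ 1 [ZMOD p])

theorem Good.mono {p n n' : ℕ} (h : Good p n) (hd : n ∣ n') : Good p n' := by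
  obtain ⟨q, hq, hqn, hc⟩ := h
  exact ⟨q, hq, hqn.trans hd, hc⟩

theorem good_of_dvd {p n : ℕ} (hp : p.Prime) (h : p ∣ n) : Good p n := by
  refine ⟨p, hp.isPrimePow, h, Or.inr (Or.inl ?_)⟩
  rw [Int.modEq_zero_iff_dvd]

theorem good_of_modEq_one {p q n : ℕ} (hq : IsPrimePow q) (hqn : q ∣ n) (h : q ≡ 1 [MOD p]) :
    Good p n := by
  refine ⟨q, hq, hqn, Or.inr (Or.inr ?_)⟩
  have := (Int.natCast_modEq_iff).2 h
  simpa using this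

/-- `s^k ≡ s^c` modulo `p` with `c < k` and `p ≠ s` gives a good divisor of `s^k` -/
theorem good_of_pow_modEq {p s k c : ℕ} (hp : p.Prime) (hs : s.Prime) (hps : p ≠ s) (hck : c < k)
    (h : s ^ k ≡ s ^ c [MOD p]) : Good p (s ^ k) := by
  have hk : k = c + (k - c) := by omega
  have h1 : s ^ c * s ^ (k - c) ≡ s ^ c * 1 [MOD p] := by
    rw [← pow_add, ← hk, mul_one]
    exact h
  have hcop : Nat.Coprime p (s ^ c) :=
    Nat.Coprime.pow_right c ((Nat.coprime_primes hp hs).2 hps)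
  have h2 : s ^ (k - c) ≡ 1 [MOD p] := Nat.ModEq.cancel_left_of_coprime hcop.gcd_eq_one h1
  refine good_of_modEq_one (q := s ^ (k - c)) ?_ ?_ h2
  · exact ⟨s, k - c, hs.prime, by omega, rfl⟩
  · exact pow_dvd_pow s (by omega)

/-- `(r^m)^2 ≡ d₀^2` modulo `p` with `d₀` a proper divisor of `r^m` and `p ≠ r` gives a good
divisor of `r^m` -/
theorem good_of_sq_modEq {p r m d₀ : ℕ} (hp : p.Prime) (hr : r.Prime) (hpr : p ≠ r)
    (hd₀ : d₀ ∣ r ^ m) (hlt : d₀ < r ^ m) (h : (r ^ m) ^ 2 ≡ d₀ ^ 2 [MOD p]) : Good p (r ^ m) := by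
  obtain ⟨m₀, hm₀, rfl⟩ := (Nat.dvd_prime_pow hr).1 hd₀
  have hm₀lt : m₀ < m := by
    by_contra hge
    have : m = m₀ := by omega
    rw [this] at hlt
    exact lt_irrefl _ hlt
  have hm : m = m₀ + (m - m₀) := by omega
  have h1 : (r ^ m₀) ^ 2 * (r ^ (m - m₀)) ^ 2 ≡ (r ^ m₀) ^ 2 * 1 [MOD p] := by
    rw [← mul_pow, ← pow_add, ← hm, mul_one]
    exact h
  have hcop : Nat.Coprime p ((r ^ m₀) ^ 2) :=
    Nat.Coprime.pow_right 2 (Nat.Coprime.pow_right m₀ ((Nat.coprime_primes hp hr).2 hpr))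
  have h2 : (r ^ (m - m₀)) ^ 2 ≡ 1 [MOD p] :=
    Nat.ModEq.cancel_left_of_coprime hcop.gcd_eq_one h1
  have hq : IsPrimePow (r ^ (m - m₀)) := ⟨r, m - m₀, hr.prime, by omega, rfl⟩
  have hqd : r ^ (m - m₀) ∣ r ^ m := pow_dvd_pow r (by omega)
  have h3 : ((r ^ (m - m₀) : ℕ) : ℤ) ^ 2 ≡ 1 [ZMOD p] := by
    have := (Int.natCast_modEq_iff).2 h2
    simpa using this
  have h4 : (p : ℤ) ∣ (((r ^ (m - m₀) : ℕ) : ℤ) - 1) * (((r ^ (m - m₀) : ℕ) : ℤ) + 1) := by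
    have := (Int.modEq_iff_dvd.1 h3.symm)
    have e : (((r ^ (m - m₀) : ℕ) : ℤ) - 1) * (((r ^ (m - m₀) : ℕ) : ℤ) + 1)
        = ((r ^ (m - m₀) : ℕ) : ℤ) ^ 2 - 1 := by ring
    rw [e]
    exact this
  have hpi : Prime (p : ℤ) := Nat.prime_iff_prime_int.1 hp
  rcases hpi.dvd_or_dvd h4 with h5 | h5
  · refine ⟨r ^ (m - m₀), hq, hqd, Or.inr (Or.inr ?_)⟩
    exact (Int.modEq_iff_dvd.2 h5).symm
  · refine ⟨r ^ (m - m₀), hq, hqd, Or.inl ?_⟩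
    apply Int.modEq_iff_dvd.2
    have e : (-1 : ℤ) - ((r ^ (m - m₀) : ℕ) : ℤ) = -(((r ^ (m - m₀) : ℕ) : ℤ) + 1) := by ring
    rw [e]
    exact (dvd_neg).2 h5

end Cfsg.Agent.Lib.Helper24.Winter
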