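import Mathlib
import Cfsg.Agent.Lib.Helper24.FRAction
import Cfsg.Agent.Lib.Helper11.Clifford
import Cfsg.Agent.Lib.Helper7.CentralHom

/-!
# Winter's theorem: character-theoretic lemmas (helper24 library)

* `nAct`, `stab`, `degree_eq_index_stab_mul`: Clifford's degree formula for a normal subgroup.
* `exists_sq`: a subgroup `H` of class two with centre `A` central in `G` has `|H : A|` a square.
-/

set_option autoImplicit false

namespace Cfsg.Agent.Lib.Helper24.Winter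

open Cfsg Cfsg.Agent.Lib.Helper2 Cfsg.Agent.Lib.Helper24 Cfsg.Agent.Lib.Helper24.FRC
open scoped ComplexConjugate

section Cliff

variable {G : Type*} [Group G] [Fintype G] (M : Subgroup G) [hM : M.Normal] [Fintype M]

/-- an element of `G` as an element of the normalizer of the normal subgroup `M` -/
def nmk (g : G) : Subgroup.normalizer (M : Set G) :=
  ⟨g, by rw [Subgroup.normalizer_eq_top]; exact Subgroup.mem_top g⟩

theorem nmk_coe (g : G) : ((nmk M g : Subgroup.normalizer (M : Set G)) : G) = g := rfl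

theorem nmk_one : nmk M 1 = 1 := rfl

theorem nmk_mul (a b : G) : nmk M (a * b) = nmk M a * nmk M b := rfl

/-- the action of `G` on the irreducible characters of a normal subgroup -/
@[reducible] noncomputable def nAct : MulAction G (Cfsg.IrrCharacter M) where
  smul g ν := conjIrr M (nmk M g) ν
  one_smul ν := by
    show conjIrr M (nmk M 1) ν = ν
    rw [nmk_one, conjIrr_one]
  mul_smul a b ν := by
    show conjIrr M (nmk M (a * b)) ν = conjIrr M (nmk M a) (conjIrr M (nmk M b) ν)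
    rw [nmk_mul, conjIrr_mul]

/-- the inertia group of `θ` -/
noncomputable def stab (θ : Cfsg.IrrCharacter M) : Subgroup G :=
  @MulAction.stabilizer G (Cfsg.IrrCharacter M) _ (nAct M) θ

theorem mem_stab (θ : Cfsg.IrrCharacter M) (g : G) :
    g ∈ stab M θ ↔ conjIrr M (nmk M g) θ = θ := Iff.rfl

theorem conjIrr_nmk_apply (g : G) (θ : Cfsg.IrrCharacter M) (k : M) :
    (conjIrr M (nmk M g) θ).1 k
      = θ.1 ⟨g⁻¹ * k * g, by
          have := hM.conj_mem k k.2 g⁻¹
          simpa using this⟩ := by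
  rw [conjIrr_apply]
  apply congrArg
  apply Subtype.ext
  rw [normalizerMonoidHom_inv_coe]
  rfl

/-- Clifford's degree formula -/
theorem degree_eq_index_stab_mul (χ : Cfsg.IrrCharacter G) (θ : Cfsg.IrrCharacter M)
    (hθ : Cfsg.classInner (fun m : M => (χ : G → ℂ) m) (θ : M → ℂ) ≠ 0) :
    Cfsg.charDegree (χ : G → ℂ) = (stab M θ).index *
      (natInner (fun m : M => (χ : G → ℂ) m) (θ : M → ℂ) * Cfsg.charDegree (θ : M → ℂ)) := by
  classical
  haveI : Fintype (Cfsg.IrrCharacter M) := Fintype.ofFinite _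
  letI := nAct M
  have hχM : Cfsg.IsCharacter M (fun m : M => (χ : G → ℂ) m) :=
    IsCharacter.restrict (IsIrrCharacter.isCharacter χ.2) M
  have hcf : Cfsg.IsClassFunction G (χ : G → ℂ) :=
    IsCharacter.isClassFunction (IsIrrCharacter.isCharacter χ.2)
  have h1 := degree_expansion hχM
  have h2 : Cfsg.charDegree (fun m : M => (χ : G → ℂ) m) = Cfsg.charDegree (χ : G → ℂ) := by
    have h1 := Cfsg.Agent.Lib.Helper25.char_one_eq_charDegree hχM
    have h2 := Cfsg.Agent.Lib.Helper25.char_one_eq_charDegree (IsIrrCharacter.isCharacter χ.2)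
    have h3 : (χ : G → ℂ) ((1 : M) : G) = (χ : G → ℂ) 1 := rfl
    rw [h3, h2] at h1
    exact_mod_cast h1.symm
  rw [h2] at h1
  -- terms outside the orbit vanish, terms on the orbit are constant
  have hterm : ∀ ν : Cfsg.IrrCharacter M,
      natInner (fun m : M => (χ : G → ℂ) m) (ν : M → ℂ) * Cfsg.charDegree (ν : M → ℂ)
        = if ν ∈ MulAction.orbit G θ then
            natInner (fun m : M => (χ : G → ℂ) m) (θ : M → ℂ) * Cfsg.charDegree (θ : M → ℂ)
          else 0 := by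
    intro ν
    by_cases hν : ν ∈ MulAction.orbit G θ
    · rw [if_pos hν]
      obtain ⟨g, rfl⟩ := hν
      show natInner (fun m : M => (χ : G → ℂ) m) ((conjIrr M (nmk M g) θ : Cfsg.IrrCharacter M) : M → ℂ)
        * Cfsg.charDegree ((conjIrr M (nmk M g) θ : Cfsg.IrrCharacter M) : M → ℂ) = _
      rw [natInner_conjIrr M hcf, charDegree_conjIrr]
    · rw [if_neg hν]
      have : natInner (fun m : M => (χ : G → ℂ) m) (ν : M → ℂ) = 0 := by
        by_contra hne
        apply hν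
        have hne' : Cfsg.classInner (fun m : M => (χ : G → ℂ) m) (ν : M → ℂ) ≠ 0 := by
          rw [← natInner_cast hχM (IsIrrCharacter.isCharacter ν.2)]
          exact_mod_cast hne
        obtain ⟨g, hg⟩ := Cfsg.Agent.Lib.Helper11.clifford_conj M χ.2 θ.2 ν.2 hθ hne'
        refine ⟨g⁻¹, ?_⟩
        apply Subtype.ext
        show (conjIrr M (nmk M g⁻¹) θ).1 = ν.1
        rw [hg]
        funext k
        rw [conjIrr_nmk_apply, Cfsg.Agent.Lib.Helper11.conjFn_apply]
        apply congrArg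
        apply Subtype.ext
        simp
      rw [this, zero_mul]
  rw [Finset.sum_congr rfl (fun ν _ => hterm ν), ← Finset.sum_filter, Finset.sum_const,
    smul_eq_mul] at h1
  rw [h1]
  congr 1
  have h3 : (stab M θ).index = (MulAction.orbit G θ).ncard := MulAction.index_stabilizer G θ
  rw [h3, Set.ncard_eq_toFinset_card']
  congr 1
  ext ν
  simp

theorem charDegree_dvd_of_constituent (χ : Cfsg.IrrCharacter G) (θ : Cfsg.IrrCharacter M)
    (hθ : Cfsg.classInner (fun m : M => (χ : G → ℂ) m) (θ : M → ℂ) ≠ 0) :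
    Cfsg.charDegree (θ : M → ℂ) ∣ Cfsg.charDegree (χ : G → ℂ) := by
  rw [degree_eq_index_stab_mul M χ θ hθ]
  exact ⟨(stab M θ).index * natInner (fun m : M => (χ : G → ℂ) m) (θ : M → ℂ), by ring⟩

theorem index_stab_dvd (χ : Cfsg.IrrCharacter G) (θ : Cfsg.IrrCharacter M)
    (hθ : Cfsg.classInner (fun m : M => (χ : G → ℂ) m) (θ : M → ℂ) ≠ 0) :
    (stab M θ).index ∣ Cfsg.charDegree (χ : G → ℂ) := by
  rw [degree_eq_index_stab_mul M χ θ hθ]
  exact Dvd.intro _ rfl

end Cliff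

section SQ

variable {G : Type*} [Group G] [Fintype G]

/-- Let `χ` be a faithful irreducible character of `G`, `A ≤ H ≤ G` with `A` central in `G`,
`[H, H] ≤ A` and `Z(H) ≤ A`.  Then some irreducible constituent `θ` of `χ_H` has
`θ(1)^2 = |H : A|`. -/
theorem exists_sq (χ : Cfsg.IrrCharacter G)
    (hfaith : ∀ g : G, (χ : G → ℂ) g = (χ : G → ℂ) 1 → g = 1)
    (H A : Subgroup G) [Fintype H] (hAH : A ≤ H) (hAc : A ≤ Subgroup.center G)
    (hHH : ∀ u ∈ H, ∀ v ∈ H, u * v * u⁻¹ * v⁻¹ ∈ A)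
    (hZ : ∀ u ∈ H, (∀ v ∈ H, u * v = v * u) → u ∈ A) :
    ∃ θ : Cfsg.IrrCharacter H,
      Cfsg.classInner (fun h : H => (χ : G → ℂ) h) (θ : H → ℂ) ≠ 0 ∧
      Nat.card H = (Cfsg.charDegree (θ : H → ℂ)) ^ 2 * Nat.card A := by
  classical
  obtain ⟨ω, hω⟩ := Cfsg.Agent.Lib.Helper7.exists_central_hom χ A hAc
  have hχ1 : (χ : G → ℂ) 1 ≠ 0 := Cfsg.Agent.Lib.Helper25.irr_one_ne_zero χ.2
  have hωfaith : ∀ a : A, ω a = 1 → (a : G) = 1 := by
    intro a ha
    apply hfaith
    have := hω a 1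
    rw [mul_one, ha] at this
    simpa using this
  have hχH : Cfsg.IsCharacter H (fun h : H => (χ : G → ℂ) h) :=
    IsCharacter.restrict (IsIrrCharacter.isCharacter χ.2) H
  have hne : (fun h : H => (χ : G → ℂ) h) ≠ 0 := by
    intro h
    have := congrFun h 1
    exact hχ1 this
  obtain ⟨θ, Ψ, hΨ, hsum⟩ := exists_irr_add_of_ne_zero hχH hne
  have hθθ : Cfsg.classInner (θ : H → ℂ) (θ : H → ℂ) = 1 := by
    have := Cfsg.Agent.Lib.Helper25.irr_classInner θ.2 θ.2
    rw [if_pos rfl] at this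
    exact this
  have hθc : Cfsg.classInner (fun h : H => (χ : G → ℂ) h) (θ : H → ℂ) ≠ 0 := by
    obtain ⟨b, hb⟩ := classInner_isCharacter_nat hΨ (IsIrrCharacter.isCharacter θ.2)
    rw [hsum, classInner_add_left, hθθ, hb]
    have : (1 : ℂ) + (b : ℂ) = ((1 + b : ℕ) : ℂ) := by push_cast; ring
    rw [this]
    exact_mod_cast (by omega : 1 + b ≠ 0)
  refine ⟨θ, hθc, ?_⟩
  have hA'c : A.subgroupOf H ≤ Subgroup.center H := by
    intro a ha
    rw [Subgroup.mem_center_iff]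
    intro h
    apply Subtype.ext
    have := Subgroup.mem_center_iff.1 (hAc (Subgroup.mem_subgroupOf.1 ha)) (h : G)
    simpa using this
  obtain ⟨ω', hω'⟩ := Cfsg.Agent.Lib.Helper7.exists_central_hom θ (A.subgroupOf H) hA'c
  -- comparison of the two central characters
  have hcmp : ∀ a' : A.subgroupOf H,
      ((ω ⟨((a' : H) : G), Subgroup.mem_subgroupOf.1 a'.2⟩ : ℂˣ) : ℂ) * conj ((ω' a' : ℂˣ) : ℂ)
        = 1 := by
    intro a'
    have hs : ∑ h : H, (χ : G → ℂ) h * conj ((θ : H → ℂ) h)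
        = ∑ h : H, (χ : G → ℂ) (((a' : H) * h : H) : G) * conj ((θ : H → ℂ) ((a' : H) * h)) :=
      (Equiv.sum_comp (Equiv.mulLeft (a' : H))
        (fun h : H => (χ : G → ℂ) h * conj ((θ : H → ℂ) h))).symm
    have ht : ∀ h : H, (χ : G → ℂ) (((a' : H) * h : H) : G) * conj ((θ : H → ℂ) ((a' : H) * h))
        = (((ω ⟨((a' : H) : G), Subgroup.mem_subgroupOf.1 a'.2⟩ : ℂˣ) : ℂ)
            * conj ((ω' a' : ℂˣ) : ℂ)) * ((χ : G → ℂ) h * conj ((θ : H → ℂ) h)) := by
      intro h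
      have e1 : (χ : G → ℂ) (((a' : H) * h : H) : G)
          = ((ω ⟨((a' : H) : G), Subgroup.mem_subgroupOf.1 a'.2⟩ : ℂˣ) : ℂ) * (χ : G → ℂ) h :=
        hω ⟨((a' : H) : G), Subgroup.mem_subgroupOf.1 a'.2⟩ (h : G)
      have e2 : (θ : H → ℂ) ((a' : H) * h) = ((ω' a' : ℂˣ) : ℂ) * (θ : H → ℂ) h := hω' a' h
      rw [e1, e2, map_mul]
      ring
    have h1 : Cfsg.classInner (fun h : H => (χ : G → ℂ) h) (θ : H → ℂ)
        = (((ω ⟨((a' : H) : G), Subgroup.mem_subgroupOf.1 a'.2⟩ : ℂˣ) : ℂ)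
            * conj ((ω' a' : ℂˣ) : ℂ))
          * Cfsg.classInner (fun h : H => (χ : G → ℂ) h) (θ : H → ℂ) := by
      rw [classInner_def]
      conv_lhs => rw [hs, Finset.sum_congr rfl (fun h _ => ht h), ← Finset.mul_sum]
      ring
    have h2 : (1 - ((ω ⟨((a' : H) : G), Subgroup.mem_subgroupOf.1 a'.2⟩ : ℂˣ) : ℂ)
        * conj ((ω' a' : ℂˣ) : ℂ))
        * Cfsg.classInner (fun h : H => (χ : G → ℂ) h) (θ : H → ℂ) = 0 := by
      linear_combination h1
    rcases mul_eq_zero.1 h2 with h3 | h3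
    · linear_combination -h3
    · exact absurd h3 hθc
  have hθcf : Cfsg.IsClassFunction H (θ : H → ℂ) :=
    IsCharacter.isClassFunction (IsIrrCharacter.isCharacter θ.2)
  -- θ vanishes off A
  have hvan : ∀ h : H, (h : G) ∉ A → (θ : H → ℂ) h = 0 := by
    intro h hh
    have hnc : ¬ ∀ v ∈ H, (h : G) * v = v * h := fun hall => hh (hZ h h.2 hall)
    push Not at hnc
    obtain ⟨k, hkH, hk⟩ := hnc
    have haA : k * h * k⁻¹ * (h : G)⁻¹ ∈ A := hHH k hkH h h.2
    have ha1 : k * h * k⁻¹ * (h : G)⁻¹ ≠ 1 := by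
      intro h1
      apply hk
      have : k * (h : G) = (k * h * k⁻¹ * (h : G)⁻¹) * h * k := by group
      rw [h1] at this
      rw [this]
      group
    let a' : A.subgroupOf H := ⟨⟨k * h * k⁻¹ * (h : G)⁻¹, hAH haA⟩, Subgroup.mem_subgroupOf.2 haA⟩
    have hcl : (θ : H → ℂ) ((⟨k, hkH⟩ : H) * h * (⟨k, hkH⟩ : H)⁻¹) = (θ : H → ℂ) h :=
      hθcf h ⟨k, hkH⟩
    have e : ((⟨k, hkH⟩ : H) * h * (⟨k, hkH⟩ : H)⁻¹ : H) = (a' : H) * h := by
      apply Subtype.ext
      show k * (h : G) * k⁻¹ = (k * h * k⁻¹ * (h : G)⁻¹) * h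
      group
    rw [e, hω' a' h] at hcl
    have hne1 : ((ω' a' : ℂˣ) : ℂ) ≠ 1 := by
      intro h1
      have h2 := hcmp a'
      rw [h1, map_one, mul_one] at h2
      exact ha1 (hωfaith ⟨k * h * k⁻¹ * (h : G)⁻¹, haA⟩ (Units.ext h2))
    have h3 : (((ω' a' : ℂˣ) : ℂ) - 1) * (θ : H → ℂ) h = 0 := by linear_combination hcl
    rcases mul_eq_zero.1 h3 with h4 | h4
    · exact absurd (by linear_combination h4) hne1
    · exact h4
  -- on A the absolute value is the degree
  have hnorm : ∀ h : H, (h : G) ∈ A →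
      (θ : H → ℂ) h * conj ((θ : H → ℂ) h) = ((Cfsg.charDegree (θ : H → ℂ) : ℕ) : ℂ) ^ 2 := by
    intro h hh
    let a' : A.subgroupOf H := ⟨h, Subgroup.mem_subgroupOf.2 hh⟩
    have e : (θ : H → ℂ) h = ((ω' a' : ℂˣ) : ℂ) * (θ : H → ℂ) 1 := by
      have := hω' a' 1
      rw [mul_one] at this
      exact this
    have hn : ‖((ω' a' : ℂˣ) : ℂ)‖ = 1 := by
      apply Complex.norm_eq_one_of_pow_eq_one (n := orderOf a') _ (orderOf_pos a').ne'
      rw [← Units.val_pow_eq_pow_val, ← map_pow, pow_orderOf_eq_one, map_one, Units.val_one]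
    have h1 : ((ω' a' : ℂˣ) : ℂ) * conj ((ω' a' : ℂˣ) : ℂ) = 1 := by
      rw [Complex.mul_conj, Complex.normSq_eq_norm_sq, hn]
      simp
    rw [e, Cfsg.Agent.Lib.Helper25.char_one_eq_charDegree (IsIrrCharacter.isCharacter θ.2),
      map_mul, Complex.conj_natCast]
    linear_combination ((Cfsg.charDegree (θ : H → ℂ) : ℕ) : ℂ) ^ 2 * h1
  have hsum1 : ∑ h : H, (θ : H → ℂ) h * conj ((θ : H → ℂ) h) = (Nat.card H : ℂ) := by
    have h1 := hθθ
    rw [classInner_def] at h1
    have hH : (Nat.card H : ℂ) ≠ 0 := by exact_mod_cast Nat.card_pos.ne'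
    field_simp at h1
    linear_combination h1
  have hcardA : (Finset.univ.filter (fun h : H => (h : G) ∈ A)).card = Nat.card A := by
    have h1 : Nat.card (A.subgroupOf H) = Nat.card A :=
      Nat.card_congr (Subgroup.subgroupOfEquivOfLe hAH).toEquiv
    rw [← h1, Nat.card_eq_fintype_card, Fintype.card_subtype]
    congr 1
  have hsplit : ∑ h : H, (θ : H → ℂ) h * conj ((θ : H → ℂ) h)
      = (Nat.card A : ℂ) * ((Cfsg.charDegree (θ : H → ℂ) : ℕ) : ℂ) ^ 2 := by
    rw [← Finset.sum_filter_add_sum_filter_not Finset.univ (fun h : H => (h : G) ∈ A)]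
    have h1 : ∑ h ∈ Finset.univ.filter (fun h : H => (h : G) ∈ A),
        (θ : H → ℂ) h * conj ((θ : H → ℂ) h)
        = ∑ _h ∈ Finset.univ.filter (fun h : H => (h : G) ∈ A),
          ((Cfsg.charDegree (θ : H → ℂ) : ℕ) : ℂ) ^ 2 :=
      Finset.sum_congr rfl (fun h hh => hnorm h (Finset.mem_filter.1 hh).2)
    have h2 : ∑ h ∈ Finset.univ.filter (fun h : H => ¬ (h : G) ∈ A),
        (θ : H → ℂ) h * conj ((θ : H → ℂ) h) = 0 := by
      apply Finset.sum_eq_zero
      intro h hh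
      rw [hvan h (Finset.mem_filter.1 hh).2, zero_mul]
    rw [h1, h2, Finset.sum_const, add_zero, nsmul_eq_mul, hcardA]
  rw [hsum1] at hsplit
  have : ((Nat.card H : ℕ) : ℂ) = ((Cfsg.charDegree (θ : H → ℂ) ^ 2 * Nat.card A : ℕ) : ℂ) := by
    rw [hsplit]
    push_cast
    ring
  exact_mod_cast this

end SQ

end Cfsg.Agent.Lib.Helper24.Winter
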