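import Mathlib

/-!
# Winter's theorem: group-theoretic lemmas (helper24 library)

* `card_modEq_card_inf_centralizer`: fixed-point congruence for a `p`-element acting on a normal
  subgroup by conjugation.
* `commute_of_conj_eq_mul`: coprime-action lemma.
* `nrm` and `commute_of_commute_fixed`: the radical of the commutator form on the fixed points of a
  coprime automorphism is trivial.
-/

set_option autoImplicit false

namespace Cfsg.Agent.Lib.Helper24.Winter

open Subgroup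

section FPC

variable {X : Type*} [Group X] [Finite X] {p : ℕ} [Fact p.Prime]

/-- fixed-point congruence: a `p`-element `y` acting by conjugation on a normal subgroup `V` -/
theorem card_modEq_card_inf_centralizer (V : Subgroup X) [V.Normal] (y : X)
    (hy : IsPGroup p (Subgroup.zpowers y)) :
    Nat.card V ≡ Nat.card ↥(V ⊓ Subgroup.centralizer ({y} : Set X)) [MOD p] := by
  classical
  let φ : (Subgroup.zpowers y) →* MulAut V :=
    (MulAut.conjNormal (H := V)).comp (Subgroup.zpowers y).subtype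
  letI : MulAction (Subgroup.zpowers y) V := MulAction.compHom V φ
  have h1 := hy.card_modEq_card_fixedPoints V
  have hsmul : ∀ (g : Subgroup.zpowers y) (v : V), ((g • v : V) : X) = (g : X) * v * (g : X)⁻¹ := by
    intro g v
    show ((φ g) v : X) = _
    exact MulAut.conjNormal_apply (g : X) v
  have key : ∀ v : V, v ∈ MulAction.fixedPoints (Subgroup.zpowers y) V ↔
      (v : X) ∈ V ⊓ Subgroup.centralizer ({y} : Set X) := by
    intro v
    rw [MulAction.mem_fixedPoints, Subgroup.mem_inf, Subgroup.mem_centralizer_iff]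
    constructor
    · intro h
      refine ⟨v.2, ?_⟩
      intro w hw
      rw [Set.mem_singleton_iff] at hw
      subst hw
      have h2 := h ⟨w, Subgroup.mem_zpowers w⟩
      have h3 := congrArg Subtype.val h2
      rw [hsmul] at h3
      simp only at h3
      calc w * (v : X) = w * v * w⁻¹ * w := by group
        _ = v * w := by rw [h3]
    · rintro ⟨_, h⟩ g
      apply Subtype.ext
      rw [hsmul]
      have hy' : y ∈ Subgroup.centralizer ({(v : X)} : Set X) := by
        rw [Subgroup.mem_centralizer_iff]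
        intro w hw
        rw [Set.mem_singleton_iff] at hw
        subst hw
        exact (h y rfl).symm
      have hg : (g : X) ∈ Subgroup.centralizer ({(v : X)} : Set X) :=
        (Subgroup.zpowers_le.2 hy') g.2
      rw [Subgroup.mem_centralizer_iff] at hg
      have h4 := hg (v : X) rfl
      calc (g : X) * v * (g : X)⁻¹ = (v * g) * (g : X)⁻¹ := by rw [h4]
        _ = v := by group
  have hcard : Nat.card (MulAction.fixedPoints (Subgroup.zpowers y) V)
      = Nat.card ↥(V ⊓ Subgroup.centralizer ({y} : Set X)) := by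
    apply Nat.card_congr
    exact
      { toFun := fun v => ⟨(v.1 : X), (key v.1).1 v.2⟩
        invFun := fun w => ⟨⟨w.1, (Subgroup.mem_inf.1 w.2).1⟩, (key _).2 w.2⟩
        left_inv := fun v => rfl
        right_inv := fun w => rfl }
  rw [hcard] at h1
  exact h1

end FPC

section COP

variable {X : Type*} [Group X]

/-- if `x g x⁻¹ = g a` with `a` commuting with `x`, `x ^ o = 1` and `a` has no `o`-torsion, then
`x` commutes with `g` -/
theorem commute_of_conj_eq_mul {x g a : X} {o : ℕ} (hx : x ^ o = 1)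
    (ha : x * g * x⁻¹ = g * a) (hxa : x * a = a * x) (hao : a ^ o = 1 → a = 1) :
    x * g = g * x := by
  have key : ∀ j : ℕ, x ^ j * g * (x ^ j)⁻¹ = g * a ^ j := by
    intro j
    induction j with
    | zero => simp
    | succ j ih =>
      have hxaj : x * a ^ j = a ^ j * x := by
        have : Commute x a := hxa
        exact (this.pow_right j).eq
      calc x ^ (j + 1) * g * (x ^ (j + 1))⁻¹
          = x * (x ^ j * g * (x ^ j)⁻¹) * x⁻¹ := by
            rw [pow_succ']; group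
        _ = x * (g * a ^ j) * x⁻¹ := by rw [ih]
        _ = (x * g * x⁻¹) * (x * a ^ j) * x⁻¹ := by group
        _ = (g * a) * (a ^ j * x) * x⁻¹ := by rw [ha, hxaj]
        _ = g * a ^ (j + 1) := by rw [pow_succ']; group
  have h1 := key o
  rw [hx] at h1
  have h2 : a ^ o = 1 := by
    have : g = g * a ^ o := by simpa using h1
    have h3 : g * 1 = g * a ^ o := by rw [mul_one]; exact this
    exact (mul_left_cancel h3).symm
  have h3 := hao h2
  rw [h3, mul_one] at ha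
  calc x * g = x * g * x⁻¹ * x := by group
    _ = g * x := by rw [ha]

end COP

section Norm

variable {X : Type*} [Group X]

/-- the ordered product `∏_{j<k} x^{-j} c x^{j}` -/
def nrm (x c : X) : ℕ → X
  | 0 => 1
  | (k + 1) => nrm x c k * ((x ^ k)⁻¹ * c * x ^ k)

theorem nrm_zero (x c : X) : nrm x c 0 = 1 := rfl

theorem nrm_succ (x c : X) (k : ℕ) : nrm x c (k + 1) = nrm x c k * ((x ^ k)⁻¹ * c * x ^ k) := rfl

theorem conj_nrm (x c : X) (k : ℕ) : x⁻¹ * nrm x c k * x = c⁻¹ * nrm x c (k + 1) := by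
  induction k with
  | zero => simp [nrm]
  | succ k ih =>
    calc x⁻¹ * nrm x c (k + 1) * x
        = (x⁻¹ * nrm x c k * x) * (x⁻¹ * ((x ^ k)⁻¹ * c * x ^ k) * x) := by
          rw [nrm_succ]; group
      _ = c⁻¹ * nrm x c (k + 1) * ((x ^ (k + 1))⁻¹ * c * x ^ (k + 1)) := by
          rw [ih, pow_succ]; group
      _ = c⁻¹ * nrm x c (k + 1 + 1) := by
          rw [nrm_succ x c (k + 1)]; group

theorem conj_nrm_of_pow_eq_one (x c : X) {o : ℕ} (hx : x ^ o = 1) :
    x⁻¹ * nrm x c o * x = c⁻¹ * nrm x c o * c := by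
  rw [conj_nrm, nrm_succ, hx]
  group

theorem nrm_mem {C : Subgroup X} {x c : X} (hC : ∀ v ∈ C, x⁻¹ * v * x ∈ C) (hc : c ∈ C) (k : ℕ) :
    nrm x c k ∈ C := by
  have hpow : ∀ j : ℕ, (x ^ j)⁻¹ * c * x ^ j ∈ C := by
    intro j
    induction j with
    | zero => simpa using hc
    | succ j ih =>
      have := hC _ ih
      have e : (x ^ (j + 1))⁻¹ * c * x ^ (j + 1) = x⁻¹ * ((x ^ j)⁻¹ * c * x ^ j) * x := by
        rw [pow_succ]; group
      rw [e]
      exact this
  induction k with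
  | zero => exact C.one_mem
  | succ k ih => exact C.mul_mem ih (hpow k)

/-- Let `A ≤ C` with `A` central and `[C, C] ≤ A`, `x` normalizing `C` with `x ^ o = 1` and `A`
without `o`-torsion.  If `z ∈ C` is fixed by `x` modulo `A` and commutes with every element of
`C` fixed by `x` modulo `A`, then `z` is central in `C`. -/
theorem commute_of_commute_fixed {A C : Subgroup X} (hAcent : ∀ a ∈ A, ∀ g : X, a * g = g * a)
    (hCC : ∀ u ∈ C, ∀ v ∈ C, u * v * u⁻¹ * v⁻¹ ∈ A)
    {x : X} {o : ℕ} (hx : x ^ o = 1) (hxC : ∀ v ∈ C, x⁻¹ * v * x ∈ C)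
    (htor : ∀ a ∈ A, a ^ o = 1 → a = 1)
    {z : X} (hzC : z ∈ C) (hzx : x⁻¹ * z * x * z⁻¹ ∈ A)
    (hz : ∀ v ∈ C, x⁻¹ * v * x * v⁻¹ ∈ A → z * v = v * z)
    {c : X} (hc : c ∈ C) : z * c = c * z := by
  -- the map `f v = z v z⁻¹ v⁻¹`
  have hf1 : ∀ v ∈ C, ∀ w ∈ C,
      z * (v * w) * z⁻¹ * (v * w)⁻¹ = (z * v * z⁻¹ * v⁻¹) * (z * w * z⁻¹ * w⁻¹) := by
    intro v hv w hw
    have h1 := hAcent _ (hCC z hzC w hw) v⁻¹
    calc z * (v * w) * z⁻¹ * (v * w)⁻¹
        = (z * v * z⁻¹ * v⁻¹) * (v * ((z * w * z⁻¹ * w⁻¹) * v⁻¹)) := by group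
      _ = (z * v * z⁻¹ * v⁻¹) * (v * (v⁻¹ * (z * w * z⁻¹ * w⁻¹))) := by rw [h1]
      _ = (z * v * z⁻¹ * v⁻¹) * (z * w * z⁻¹ * w⁻¹) := by group
  have hf2 : ∀ v ∈ C, z * (x⁻¹ * v * x) * z⁻¹ * (x⁻¹ * v * x)⁻¹ = z * v * z⁻¹ * v⁻¹ := by
    intro v hv
    -- `x z x⁻¹ = a⁻¹ z` where `a = x⁻¹ z x z⁻¹`
    obtain ⟨a, haA, ha⟩ : ∃ a ∈ A, x * z * x⁻¹ = a * z := by
      refine ⟨(x⁻¹ * z * x * z⁻¹)⁻¹, A.inv_mem hzx, ?_⟩
      have h1 := hAcent _ (A.inv_mem hzx) x
      calc x * z * x⁻¹ = (x * (x⁻¹ * z * x * z⁻¹)⁻¹) * x⁻¹ * z := by group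
        _ = ((x⁻¹ * z * x * z⁻¹)⁻¹ * x) * x⁻¹ * z := by rw [h1]
        _ = (x⁻¹ * z * x * z⁻¹)⁻¹ * z := by group
    have h2 := hAcent _ (hCC z hzC v hv) x
    have h3 := hAcent a haA (z * v * z⁻¹)
    have h3' := hAcent a haA (v * z⁻¹)
    calc z * (x⁻¹ * v * x) * z⁻¹ * (x⁻¹ * v * x)⁻¹
        = x⁻¹ * ((x * z * x⁻¹) * v * (x * z * x⁻¹)⁻¹ * v⁻¹) * x := by group
      _ = x⁻¹ * ((a * z) * v * (a * z)⁻¹ * v⁻¹) * x := by rw [ha]
      _ = x⁻¹ * ((a * (z * v * z⁻¹)) * a⁻¹ * v⁻¹) * x := by group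
      _ = x⁻¹ * (((z * v * z⁻¹) * a) * a⁻¹ * v⁻¹) * x := by rw [h3]
      _ = x⁻¹ * ((z * v * z⁻¹ * v⁻¹) * x) := by group
      _ = x⁻¹ * (x * (z * v * z⁻¹ * v⁻¹)) := by rw [h2]
      _ = z * v * z⁻¹ * v⁻¹ := by group
  have hpowmem : ∀ j : ℕ, (x ^ j)⁻¹ * c * x ^ j ∈ C := by
    intro j
    induction j with
    | zero => simpa using hc
    | succ j ih =>
      have := hxC _ ih
      have e : (x ^ (j + 1))⁻¹ * c * x ^ (j + 1) = x⁻¹ * ((x ^ j)⁻¹ * c * x ^ j) * x := by
        rw [pow_succ]; group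
      rw [e]
      exact this
  have hf2' : ∀ j : ℕ, z * ((x ^ j)⁻¹ * c * x ^ j) * z⁻¹ * ((x ^ j)⁻¹ * c * x ^ j)⁻¹
      = z * c * z⁻¹ * c⁻¹ := by
    intro j
    induction j with
    | zero => simp
    | succ j ih =>
      have e : (x ^ (j + 1))⁻¹ * c * x ^ (j + 1) = x⁻¹ * ((x ^ j)⁻¹ * c * x ^ j) * x := by
        rw [pow_succ]; group
      rw [e, hf2 _ (hpowmem j), ih]
  have hf3 : ∀ k : ℕ, z * nrm x c k * z⁻¹ * (nrm x c k)⁻¹ = (z * c * z⁻¹ * c⁻¹) ^ k := by
    intro k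
    induction k with
    | zero => simp [nrm]
    | succ k ih =>
      rw [nrm_succ, hf1 _ (nrm_mem hxC hc k) _ (hpowmem k), ih, hf2' k, pow_succ]
  -- the norm is fixed modulo `A`
  have hN : nrm x c o ∈ C := nrm_mem hxC hc o
  have hNfix : x⁻¹ * nrm x c o * x * (nrm x c o)⁻¹ ∈ A := by
    rw [conj_nrm_of_pow_eq_one x c hx]
    have := hCC c⁻¹ (C.inv_mem hc) (nrm x c o) hN
    simpa using this
  have h5 := hz _ hN hNfix
  have h6 : (z * c * z⁻¹ * c⁻¹) ^ o = 1 := by
    rw [← hf3 o]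
    calc z * nrm x c o * z⁻¹ * (nrm x c o)⁻¹ = (nrm x c o * z) * z⁻¹ * (nrm x c o)⁻¹ := by rw [h5]
      _ = 1 := by group
  have h7 := htor _ (hCC z hzC c hc) h6
  calc z * c = (z * c * z⁻¹ * c⁻¹) * c * z := by group
    _ = c * z := by rw [h7, one_mul]

end Norm

end Cfsg.Agent.Lib.Helper24.Winter
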