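import Mathlib
import Cfsg.Agent.Lib.Helper24.WinterGroup

/-!
# Winter's theorem: the second centre of a normal `r`-subgroup as a critical subgroup
(helper24 library)
-/

set_option autoImplicit false

namespace Cfsg.Agent.Lib.Helper24.Winter

open Subgroup

section SecondCenter

variable {G : Type*} [Group G]

/-- the elements of `R` commuting with `R` modulo the normal subgroup `A` -/
def secondCenter (R A : Subgroup G) [hA : A.Normal] : Subgroup G where
  carrier := {c | c ∈ R ∧ ∀ g ∈ R, c * g * c⁻¹ * g⁻¹ ∈ A}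
  one_mem' := ⟨R.one_mem, fun g _ => by simpa using A.one_mem⟩
  mul_mem' := by
    rintro c₁ c₂ ⟨h1, h1'⟩ ⟨h2, h2'⟩
    refine ⟨R.mul_mem h1 h2, fun g hg => ?_⟩
    have e : c₁ * c₂ * g * (c₁ * c₂)⁻¹ * g⁻¹
        = (c₁ * (c₂ * g * c₂⁻¹ * g⁻¹) * c₁⁻¹) * (c₁ * g * c₁⁻¹ * g⁻¹) := by group
    rw [e]
    exact A.mul_mem (hA.conj_mem _ (h2' g hg) c₁) (h1' g hg)
  inv_mem' := by
    rintro c ⟨h1, h1'⟩
    refine ⟨R.inv_mem h1, fun g hg => ?_⟩
    have e : c⁻¹ * g * c⁻¹⁻¹ * g⁻¹ = c⁻¹ * (c * g * c⁻¹ * g⁻¹)⁻¹ * c⁻¹⁻¹ := by group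
    rw [e]
    exact hA.conj_mem _ (A.inv_mem (h1' g hg)) c⁻¹

theorem mem_secondCenter (R A : Subgroup G) [A.Normal] (c : G) :
    c ∈ secondCenter R A ↔ c ∈ R ∧ ∀ g ∈ R, c * g * c⁻¹ * g⁻¹ ∈ A := Iff.rfl

theorem secondCenter_le (R A : Subgroup G) [A.Normal] : secondCenter R A ≤ R := fun _ h => h.1

instance secondCenter_normal (R A : Subgroup G) [hR : R.Normal] [hA : A.Normal] :
    (secondCenter R A).Normal := by
  constructor
  rintro c ⟨h1, h1'⟩ h
  refine ⟨hR.conj_mem c h1 h, fun g hg => ?_⟩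
  have hg' : h⁻¹ * g * h ∈ R := by
    have := hR.conj_mem g hg h⁻¹
    simpa using this
  have e : h * c * h⁻¹ * g * (h * c * h⁻¹)⁻¹ * g⁻¹
      = h * (c * (h⁻¹ * g * h) * c⁻¹ * (h⁻¹ * g * h)⁻¹) * h⁻¹ := by group
  rw [e]
  exact hA.conj_mem _ (h1' _ hg') h

end SecondCenter

section Crit

variable {G : Type*} [Group G] [Finite G]

/-- if the centre of the second centre `C` of `R` lies in `A`, then `C_R(C) ≤ A` -/
theorem inf_centralizer_secondCenter_le {r : ℕ} [Fact r.Prime] (R A : Subgroup G)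
    [hR : R.Normal] [hA : A.Normal] (hRr : IsPGroup r R)
    (hZ : ∀ u ∈ secondCenter R A, (∀ v ∈ secondCenter R A, u * v = v * u) → u ∈ A) :
    R ⊓ Subgroup.centralizer (secondCenter R A : Set G) ≤ A := by
  classical
  by_contra hnot
  obtain ⟨d₀, hd₀D, hd₀A⟩ := SetLike.not_le_iff_exists.1 hnot
  have hDn : (R ⊓ Subgroup.centralizer (secondCenter R A : Set G)).Normal :=
    Subgroup.normal_inf_normal _ _
  haveI hDbn : ((R ⊓ Subgroup.centralizer (secondCenter R A : Set G)).map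
      (QuotientGroup.mk' A)).Normal :=
    Subgroup.Normal.map hDn _ (QuotientGroup.mk'_surjective A)
  have hDbr : IsPGroup r ((R ⊓ Subgroup.centralizer (secondCenter R A : Set G)).map
      (QuotientGroup.mk' A)) := (hRr.to_le inf_le_left).map _
  have hdvd : r ∣ Nat.card ((R ⊓ Subgroup.centralizer (secondCenter R A : Set G)).map
      (QuotientGroup.mk' A)) := by
    rcases hDbr.card_eq_or_dvd with h | h
    · exfalso
      have h1 := Subgroup.card_eq_one.1 h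
      have h2 : (QuotientGroup.mk' A) d₀ ∈ (R ⊓ Subgroup.centralizer
          (secondCenter R A : Set G)).map (QuotientGroup.mk' A) := ⟨d₀, hd₀D, rfl⟩
      rw [h1, Subgroup.mem_bot] at h2
      exact hd₀A ((QuotientGroup.eq_one_iff d₀).1 h2)
    · exact h
  let φ : R →* MulAut ((R ⊓ Subgroup.centralizer (secondCenter R A : Set G)).map
      (QuotientGroup.mk' A)) :=
    (MulAut.conjNormal (H := (R ⊓ Subgroup.centralizer (secondCenter R A : Set G)).map
      (QuotientGroup.mk' A))).comp ((QuotientGroup.mk' A).comp R.subtype)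
  letI : MulAction R ((R ⊓ Subgroup.centralizer (secondCenter R A : Set G)).map
      (QuotientGroup.mk' A)) := MulAction.compHom _ φ
  have hsmul : ∀ (g : R) (b : (R ⊓ Subgroup.centralizer (secondCenter R A : Set G)).map
      (QuotientGroup.mk' A)), ((g • b : _) : G ⧸ A)
        = (QuotientGroup.mk' A (g : G)) * b * (QuotientGroup.mk' A (g : G))⁻¹ := by
    intro g b
    show ((φ g) b : G ⧸ A) = _
    exact MulAut.conjNormal_apply _ b
  have h1 : (1 : (R ⊓ Subgroup.centralizer (secondCenter R A : Set G)).map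
      (QuotientGroup.mk' A)) ∈ MulAction.fixedPoints R _ := by
    intro g
    apply Subtype.ext
    rw [hsmul]
    simp
  obtain ⟨b, hb, hb1⟩ := hRr.exists_fixed_point_of_prime_dvd_card_of_fixed_point _ hdvd h1
  obtain ⟨d, hdD, hdb⟩ := b.2
  apply hb1
  apply Subtype.ext
  rw [← hdb]
  symm
  apply (QuotientGroup.eq_one_iff d).2
  have hdR : d ∈ R := (Subgroup.mem_inf.1 hdD).1
  have hdC : d ∈ secondCenter R A := by
    refine ⟨hdR, fun g hg => ?_⟩
    have h2 := hb ⟨g, hg⟩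
    have h3 := congrArg Subtype.val h2
    rw [hsmul] at h3
    simp only at h3
    rw [← hdb, ← map_mul, ← map_inv, ← map_mul] at h3
    have h4 : (g * d * g⁻¹)⁻¹ * d ∈ A := (QuotientGroup.eq).1 h3
    have h5 := hA.conj_mem _ h4 d
    have e : d * ((g * d * g⁻¹)⁻¹ * d) * d⁻¹ = d * g * d⁻¹ * g⁻¹ := by group
    rw [e] at h5
    exact h5
  apply hZ d hdC
  intro v hv
  exact (Subgroup.mem_centralizer_iff.1 (Subgroup.mem_inf.1 hdD).2 v hv).symm

/-- a `p`-element not centralizing `R` acts nontrivially on the second centre modulo `A` -/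
theorem exists_not_mem_of_not_centralize {p r : ℕ} (hp : p.Prime) (hr : r.Prime) (hpr : p ≠ r)
    (R A : Subgroup G) [hR : R.Normal] [hA : A.Normal] (hAR : A ≤ R)
    (hAc : A ≤ Subgroup.center G) (hRr : IsPGroup r R)
    (hcrit : R ⊓ Subgroup.centralizer (secondCenter R A : Set G) ≤ A)
    (x : G) (hx : IsPGroup p (Subgroup.zpowers x)) (hxR : ¬ ∀ g ∈ R, x * g = g * x) :
    ∃ c ∈ secondCenter R A, x⁻¹ * c * x * c⁻¹ ∉ A := by
  classical
  haveI : Fact p.Prime := ⟨hp⟩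
  haveI : Fact r.Prime := ⟨hr⟩
  by_contra hall
  push Not at hall
  apply hxR
  obtain ⟨ko, hko⟩ := (IsPGroup.iff_card).1 hx
  rw [Nat.card_zpowers] at hko
  have hxo : x ^ (p ^ ko) = 1 := by rw [← hko]; exact pow_orderOf_eq_one x
  obtain ⟨j, hj⟩ := (IsPGroup.iff_card).1 hRr
  have htor : ∀ a ∈ A, a ^ (p ^ ko) = 1 → a = 1 := by
    intro a ha h
    have h1 : orderOf a ∣ p ^ ko := orderOf_dvd_of_pow_eq_one h
    have h2 : orderOf a ∣ r ^ j := by
      rw [← hj]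
      have : orderOf (⟨a, hAR ha⟩ : R) = orderOf a := Subgroup.orderOf_mk a (hAR ha)
      rw [← this]
      exact orderOf_dvd_natCard _
    have hcop : Nat.Coprime (p ^ ko) (r ^ j) :=
      Nat.Coprime.pow _ _ ((Nat.coprime_primes hp hr).2 hpr)
    have h3 : orderOf a ∣ 1 := by
      have := Nat.dvd_gcd h1 h2
      rwa [hcop.gcd_eq_one] at this
    exact orderOf_eq_one_iff.1 (Nat.dvd_one.1 h3)
  have hAcent : ∀ a ∈ A, ∀ g : G, a * g = g * a := by
    intro a ha g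
    exact (Subgroup.mem_center_iff.1 (hAc ha) g).symm
  have hCn : (secondCenter R A).Normal := inferInstance
  -- step 1: `x` centralizes the second centre
  have hstep1 : ∀ c ∈ secondCenter R A, x * c = c * x := by
    intro c hc
    have hc' : x * c * x⁻¹ ∈ secondCenter R A := hCn.conj_mem c hc x
    have h1 := hall _ hc'
    have e1 : x⁻¹ * (x * c * x⁻¹) * x * (x * c * x⁻¹)⁻¹ = c * (x * c * x⁻¹)⁻¹ := by group
    rw [e1] at h1
    have haA : c⁻¹ * (x * c * x⁻¹) ∈ A := by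
      have h2 := hA.conj_mem _ (A.inv_mem h1) c⁻¹
      have e2 : c⁻¹ * (c * (x * c * x⁻¹)⁻¹)⁻¹ * c⁻¹⁻¹ = c⁻¹ * (x * c * x⁻¹) := by group
      rw [e2] at h2
      exact h2
    apply commute_of_conj_eq_mul (a := c⁻¹ * (x * c * x⁻¹)) hxo (by group)
      ((hAcent _ haA x).symm) (htor _ haA)
  -- step 2: `x` centralizes `R`
  intro g hg
  have hg' : x * g * x⁻¹ ∈ R := hR.conj_mem g hg x
  have haR : g⁻¹ * (x * g * x⁻¹) ∈ R := R.mul_mem (R.inv_mem hg) hg'
  have haC : g⁻¹ * (x * g * x⁻¹) ∈ Subgroup.centralizer (secondCenter R A : Set G) := by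
    rw [Subgroup.mem_centralizer_iff]
    intro c hc
    have hu : c * g * c⁻¹ * g⁻¹ ∈ A := hc.2 g hg
    have hux : x * (c * g * c⁻¹ * g⁻¹) * x⁻¹ = c * g * c⁻¹ * g⁻¹ := by
      have := hAcent _ hu x
      calc x * (c * g * c⁻¹ * g⁻¹) * x⁻¹ = (c * g * c⁻¹ * g⁻¹ * x) * x⁻¹ := by rw [this]
        _ = c * g * c⁻¹ * g⁻¹ := by group
    have hxc : x * c * x⁻¹ = c := by
      rw [hstep1 c hc]
      group
    have key : c * g * c⁻¹ * g⁻¹ = c * (x * g * x⁻¹) * c⁻¹ * (x * g * x⁻¹)⁻¹ := by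
      have e : x * (c * g * c⁻¹ * g⁻¹) * x⁻¹
          = (x * c * x⁻¹) * (x * g * x⁻¹) * (x * c * x⁻¹)⁻¹ * (x * g * x⁻¹)⁻¹ := by group
      rw [← hux, e, hxc]
    have h1 : c⁻¹ * (g⁻¹ * (x * g * x⁻¹)) = (g⁻¹ * (x * g * x⁻¹)) * c⁻¹ := by
      calc c⁻¹ * (g⁻¹ * (x * g * x⁻¹))
          = g⁻¹ * c⁻¹ * (c * g * c⁻¹ * g⁻¹) * (x * g * x⁻¹) := by group
        _ = g⁻¹ * c⁻¹ * (c * (x * g * x⁻¹) * c⁻¹ * (x * g * x⁻¹)⁻¹) * (x * g * x⁻¹) := by
            rw [← key]
        _ = (g⁻¹ * (x * g * x⁻¹)) * c⁻¹ := by group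
    calc c * (g⁻¹ * (x * g * x⁻¹))
        = c * ((g⁻¹ * (x * g * x⁻¹)) * c⁻¹) * c := by group
      _ = c * (c⁻¹ * (g⁻¹ * (x * g * x⁻¹))) * c := by rw [h1]
      _ = g⁻¹ * (x * g * x⁻¹) * c := by group
  have haA : g⁻¹ * (x * g * x⁻¹) ∈ A := hcrit (Subgroup.mem_inf.2 ⟨haR, haC⟩)
  exact commute_of_conj_eq_mul (a := g⁻¹ * (x * g * x⁻¹)) hxo (by group)
    ((hAcent _ haA x).symm) (htor _ haA)

end Crit

end Cfsg.Agent.Lib.Helper24.Winter
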