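import Mathlib
import Cfsg.Agent.Lib.Helper4.MinNormal
import Cfsg.Agent.Lib.Helper24.WinterBasic
import Cfsg.Agent.Lib.Helper24.WinterGroup

/-!
# Winter's theorem: primitive solvable permutation groups (helper24 library)

If `Hm` is a core-free maximal subgroup of a finite solvable group `X` and `p` divides `|X|`, then
the index of `Hm` has a prime power divisor `q ≡ 0, 1 (mod p)`.
-/

set_option autoImplicit false

namespace Cfsg.Agent.Lib.Helper24.Winter

open Subgroup Cfsg.Agent.Lib.Helper4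
open scoped Pointwise

theorem good_index_of_coatom {X : Type*} [Group X] [Finite X] [Group.IsSolvable X] {p : ℕ}
    (hp : p.Prime) (Hm : Subgroup X) (hHm : IsCoatom Hm) (hcore : Hm.normalCore = ⊥)
    (hpX : p ∣ Nat.card X) : Good p Hm.index := by
  classical
  haveI : Fact p.Prime := ⟨hp⟩
  haveI : Nontrivial X := by
    rw [← Finite.one_lt_card_iff_nontrivial]
    exact lt_of_lt_of_le hp.one_lt (Nat.le_of_dvd Nat.card_pos hpX)
  obtain ⟨B, hB⟩ := exists_minNormal (G := X)
  haveI hBn : B.Normal := hB.1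
  have hBab : B ≤ Subgroup.centralizer (B : Set X) := hB.le_centralizer
  obtain ⟨s, hs, hBp⟩ := hB.exists_isPGroup hBab
  haveI : Fact s.Prime := ⟨hs⟩
  obtain ⟨k, hk⟩ := (IsPGroup.iff_card).1 hBp
  have hcomm : ∀ b ∈ B, ∀ b' ∈ B, b * b' = b' * b := by
    intro b hb b' hb'
    exact (Subgroup.mem_centralizer_iff.1 (hBab hb') b hb)
  -- `B` is not contained in `Hm`
  have hBH : ¬ B ≤ Hm := by
    intro h
    have h1 : B ≤ Hm.normalCore := (Subgroup.normal_le_normalCore (H := Hm) (N := B)).2 h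
    rw [hcore] at h1
    exact hB.2.1 (le_bot_iff.1 h1)
  have hsup : B ⊔ Hm = ⊤ := by
    have hlt : Hm < B ⊔ Hm :=
      lt_of_le_of_ne le_sup_right (fun h => hBH (h ▸ le_sup_left))
    exact hHm.2 _ hlt
  have hdec : ∀ g : X, ∃ b ∈ B, ∃ h ∈ Hm, b * h = g := by
    intro g
    have hg : g ∈ B ⊔ Hm := by rw [hsup]; exact Subgroup.mem_top g
    exact Subgroup.mem_sup_of_normal_left.1 hg
  -- a subgroup of `Hm` normalized by `Hm` and centralized by `B` is trivial
  have hkey : ∀ Z : Subgroup X, Z ≤ Hm → (∀ z ∈ Z, ∀ h ∈ Hm, h * z * h⁻¹ ∈ Z) →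
      (∀ z ∈ Z, ∀ b ∈ B, b * z * b⁻¹ = z) → Z = ⊥ := by
    intro Z hZH hZn hZB
    have hZnorm : Z.Normal := by
      constructor
      intro z hz g
      obtain ⟨b, hb, h, hh, rfl⟩ := hdec g
      have h1 : h * z * h⁻¹ ∈ Z := hZn z hz h hh
      have h2 := hZB _ h1 b hb
      have e : b * h * z * (b * h)⁻¹ = b * (h * z * h⁻¹) * b⁻¹ := by group
      rw [e, h2]
      exact h1
    have h1 : Z ≤ Hm.normalCore := (Subgroup.normal_le_normalCore (H := Hm) (N := Z)).2 hZH
    rw [hcore] at h1
    exact le_bot_iff.1 h1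
  have hinf : B ⊓ Hm = ⊥ := by
    apply hkey _ inf_le_right
    · intro z hz h hh
      exact Subgroup.mem_inf.2 ⟨hBn.conj_mem z (Subgroup.mem_inf.1 hz).1 h,
        Hm.mul_mem (Hm.mul_mem hh (Subgroup.mem_inf.1 hz).2) (Hm.inv_mem hh)⟩
    · intro z hz b hb
      rw [hcomm b hb z (Subgroup.mem_inf.1 hz).1]
      group
  have hcompl : Subgroup.IsComplement' B Hm := by
    apply Subgroup.isComplement'_of_disjoint_and_mul_eq_univ (disjoint_iff.2 hinf)
    rw [Set.eq_univ_iff_forall]
    intro g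
    obtain ⟨b, hb, h, hh, rfl⟩ := hdec g
    exact Set.mul_mem_mul hb hh
  have hidx : Hm.index = s ^ k := by rw [hcompl.index_eq_card, hk]
  have hcardX : Nat.card X = s ^ k * Nat.card Hm := by
    rw [← hidx, Subgroup.index_mul_card]
  rw [hidx]
  have hk0 : k ≠ 0 := by
    intro h0
    rw [h0, pow_zero] at hk
    exact hB.2.1 (Subgroup.card_eq_one.1 hk)
  by_cases hps : p = s
  · subst hps
    exact good_of_dvd hp (dvd_pow_self p hk0)
  -- `p` divides `|Hm|`
  have hpH : p ∣ Nat.card Hm := by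
    rw [hcardX] at hpX
    rcases (Nat.Prime.dvd_mul hp).1 hpX with h | h
    · exact absurd ((Nat.prime_dvd_prime_iff_eq hp hs).1 (hp.dvd_of_dvd_pow h)) hps
    · exact h
  obtain ⟨y, hy⟩ := exists_prime_orderOf_dvd_card' (G := Hm) p hpH
  have hy1 : (y : X) ≠ 1 := by
    intro h
    have : y = 1 := Subtype.ext h
    rw [this, orderOf_one] at hy
    exact hp.one_lt.ne hy
  have hyo : orderOf (y : X) = p := by rw [Subgroup.orderOf_coe, hy]
  -- `y` does not centralize `B`
  have hnc : ¬ ∀ b ∈ B, b * (y : X) = (y : X) * b := by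
    intro hall
    have hZ : Hm ⊓ Subgroup.centralizer (B : Set X) = ⊥ := by
      apply hkey _ inf_le_left
      · intro z hz h hh
        refine Subgroup.mem_inf.2 ⟨Hm.mul_mem (Hm.mul_mem hh (Subgroup.mem_inf.1 hz).1)
          (Hm.inv_mem hh), ?_⟩
        exact (Subgroup.normal_centralizer (H := B)).conj_mem z (Subgroup.mem_inf.1 hz).2 h
      · intro z hz b hb
        have := Subgroup.mem_centralizer_iff.1 (Subgroup.mem_inf.1 hz).2 b hb
        rw [this]
        group
    have hyZ : (y : X) ∈ Hm ⊓ Subgroup.centralizer (B : Set X) := by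
      refine Subgroup.mem_inf.2 ⟨y.2, ?_⟩
      rw [Subgroup.mem_centralizer_iff]
      intro b hb
      exact hall b hb
    rw [hZ, Subgroup.mem_bot] at hyZ
    exact hy1 hyZ
  -- fixed point congruence
  have hyp : IsPGroup p (Subgroup.zpowers (y : X)) := by
    apply IsPGroup.of_card (n := 1)
    rw [Nat.card_zpowers, hyo, pow_one]
  have hcong := card_modEq_card_inf_centralizer B (y : X) hyp
  have hlt : B ⊓ Subgroup.centralizer ({(y : X)} : Set X) < B := by
    refine lt_of_le_of_ne inf_le_left ?_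
    intro h
    apply hnc
    intro b hb
    have : b ∈ B ⊓ Subgroup.centralizer ({(y : X)} : Set X) := by rw [h]; exact hb
    have h2 := Subgroup.mem_centralizer_iff.1 (Subgroup.mem_inf.1 this).2 (y : X) rfl
    exact h2.symm
  have hdvd : Nat.card ↥(B ⊓ Subgroup.centralizer ({(y : X)} : Set X)) ∣ s ^ k := by
    rw [← hk]
    exact Subgroup.card_dvd_of_le inf_le_left
  obtain ⟨c, hck, hc⟩ := (Nat.dvd_prime_pow hs).1 hdvd
  have hclt : c < k := by
    by_contra hge
    have hck' : c = k := by omega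
    have : Nat.card ↥(B ⊓ Subgroup.centralizer ({(y : X)} : Set X)) = Nat.card B := by
      rw [hc, hk, hck']
    have := Subgroup.eq_of_le_of_card_ge (inf_le_left : B ⊓ Subgroup.centralizer ({(y : X)} : Set X) ≤ B)
      (by rw [this])
    exact hlt.ne this
  rw [hk, hc] at hcong
  exact good_of_pow_modEq hp hs hps hclt hcong

end Cfsg.Agent.Lib.Helper24.Winter
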