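import Mathlib
import Cfsg.Agent.Lib.Helper25.Kernel
import Cfsg.Agent.Lib.Helper24.WinterBasic
import Cfsg.Agent.Lib.Helper24.WinterChar

/-!
# Winter's theorem: the inductive step through a proper normal subgroup containing the Sylow
subgroup (helper24 library)
-/

set_option autoImplicit false

namespace Cfsg.Agent.Lib.Helper24.Winter

open Cfsg Cfsg.Agent.Lib.Helper2
open scoped ComplexConjugate

universe u

/-- the inductive hypothesis of Winter's theorem below `N` -/
def WinterIH (p N : ℕ) : Prop :=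
  ∀ (G' : Type u) [Group G'] [Finite G'], Nat.card G' < N → Group.IsSolvable G' →
    ∀ χ' : Cfsg.IrrCharacter G', (∀ g : G', (χ' : G' → ℂ) g = (χ' : G' → ℂ) 1 → g = 1) →
    ∀ P' : Sylow p G', ¬ (P' : Subgroup G').Normal → Good p (Cfsg.charDegree (χ' : G' → ℂ))

theorem good_of_le_normal {G : Type u} [Group G] [Finite G] (hsolv : Group.IsSolvable G) {p : ℕ}
    (hp : p.Prime) (χ : Cfsg.IrrCharacter G)
    (hfaith : ∀ g : G, (χ : G → ℂ) g = (χ : G → ℂ) 1 → g = 1)
    (P : Sylow p G) (hP : ¬ (P : Subgroup G).Normal)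
    (M : Subgroup G) [hMn : M.Normal] (hM : M ≠ ⊤) (hPM : (P : Subgroup G) ≤ M)
    (IH : WinterIH.{u} p (Nat.card G)) :
    Good p (Cfsg.charDegree (χ : G → ℂ)) := by
  classical
  haveI : Fact p.Prime := ⟨hp⟩
  haveI : Fintype G := Fintype.ofFinite G
  haveI : Fintype M := Fintype.ofFinite M
  haveI : Fintype (Cfsg.IrrCharacter M) := Fintype.ofFinite _
  -- the Sylow subgroup of `M`
  have hPMcoe : ((P.subtype hPM : Sylow p M) : Subgroup M) = (P : Subgroup G).subgroupOf M :=
    Sylow.coe_subtype P hPM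
  have hPMn : ¬ ((P.subtype hPM : Sylow p M) : Subgroup M).Normal := by
    intro hn
    apply hP
    haveI := hn
    haveI : ((P.subtype hPM : Sylow p M) : Subgroup M).Characteristic :=
      Sylow.characteristic_of_normal (P.subtype hPM) hn
    have h1 : (((P.subtype hPM : Sylow p M) : Subgroup M).map M.subtype).Normal :=
      ConjAct.normal_of_characteristic_of_normal
    have e : ((P.subtype hPM : Sylow p M) : Subgroup M).map M.subtype = (P : Subgroup G) := by
      rw [hPMcoe, Subgroup.map_subgroupOf_eq_of_le hPM]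
    rw [e] at h1
    exact h1
  -- kernels of the irreducible characters of `M`
  have hK : ∀ ν : Cfsg.IrrCharacter M, ∃ K : Subgroup M, K.Normal ∧
      ∀ g, g ∈ K ↔ (ν : M → ℂ) g = (ν : M → ℂ) 1 :=
    fun ν => Cfsg.Agent.Lib.Helper25.exists_kernel (IsIrrCharacter.isCharacter ν.2)
  choose K hKn hKmem using hK
  have hχM : Cfsg.IsCharacter M (fun m : M => (χ : G → ℂ) m) :=
    IsCharacter.restrict (IsIrrCharacter.isCharacter χ.2) M
  have hexp := classFunction_expansion (fun m : M => (χ : G → ℂ) m)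
    (IsCharacter.isClassFunction hχM)
  -- some constituent has a non-normal Sylow image
  have hex : ∃ ν : Cfsg.IrrCharacter M,
      Cfsg.classInner (fun m : M => (χ : G → ℂ) m) (ν : M → ℂ) ≠ 0 ∧
      ¬ (((P.subtype hPM : Sylow p M) : Subgroup M) ⊔ K ν).Normal := by
    by_contra hall
    push Not at hall
    apply hPMn
    let D : Subgroup M :=
      ⨅ ν : {ν : Cfsg.IrrCharacter M //
        Cfsg.classInner (fun m : M => (χ : G → ℂ) m) (ν : M → ℂ) ≠ 0},
        ((P.subtype hPM : Sylow p M) : Subgroup M) ⊔ K ν.1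
    have hDn : D.Normal := Subgroup.normal_iInf_normal (fun ν => hall ν.1 ν.2)
    have hPD : ((P.subtype hPM : Sylow p M) : Subgroup M) ≤ D := le_iInf (fun ν => le_sup_left)
    obtain ⟨a, ha⟩ := (IsPGroup.iff_card).1 (P.subtype hPM).2
    have hDp : IsPGroup p D := by
      intro d
      refine ⟨a, ?_⟩
      apply Subtype.ext
      apply Subtype.ext
      apply hfaith
      show (χ : G → ℂ) (((d : M) ^ (p ^ a) : M) : G) = (χ : G → ℂ) 1
      have h1 := congrFun hexp ((d : M) ^ (p ^ a))
      have h2 := congrFun hexp 1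
      simp only [Finset.sum_apply, Pi.smul_apply, smul_eq_mul] at h1 h2
      have h3 : (χ : G → ℂ) ((1 : M) : G) = (χ : G → ℂ) 1 := rfl
      rw [← h3, h1, h2]
      apply Finset.sum_congr rfl
      intro ν _
      by_cases hν : Cfsg.classInner (fun m : M => (χ : G → ℂ) m) (ν : M → ℂ) = 0
      · rw [hν, zero_mul, zero_mul]
      · congr 1
        rw [← hKmem ν]
        haveI := hKn ν
        have hd : (d : M) ∈ ((P.subtype hPM : Sylow p M) : Subgroup M) ⊔ K ν := by
          have := d.2
          exact (iInf_le (fun ν : {ν : Cfsg.IrrCharacter M //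
            Cfsg.classInner (fun m : M => (χ : G → ℂ) m) (ν : M → ℂ) ≠ 0} =>
            ((P.subtype hPM : Sylow p M) : Subgroup M) ⊔ K ν.1) ⟨ν, hν⟩) this
        obtain ⟨y, hy, k, hk, hyk⟩ := Subgroup.mem_sup_of_normal_right.1 hd
        have hyp : y ^ (p ^ a) = 1 := by
          have := pow_card_eq_one' (G := ((P.subtype hPM : Sylow p M) : Subgroup M)) (x := ⟨y, hy⟩)
          rw [ha] at this
          exact congrArg Subtype.val this
        have hq : (QuotientGroup.mk' (K ν)) ((d : M) ^ (p ^ a)) = 1 := by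
          rw [map_pow, ← hyk, map_mul]
          have hk1 : (QuotientGroup.mk' (K ν)) k = 1 := (QuotientGroup.eq_one_iff k).2 hk
          rw [hk1, mul_one, ← map_pow, hyp, map_one]
        exact (QuotientGroup.eq_one_iff _).1 hq
    have := (P.subtype hPM).is_maximal' hDp hPD
    rw [← this]
    exact hDn
  obtain ⟨ν, hν, hνn⟩ := hex
  haveI := hKn ν
  -- the quotient
  have hcard : Nat.card (M ⧸ K ν) < Nat.card G := by
    have h1 : Nat.card (M ⧸ K ν) ≤ Nat.card M :=
      Nat.card_le_card_of_surjective _ (QuotientGroup.mk'_surjective (K ν))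
    have h2 : Nat.card M < Nat.card G := by
      apply lt_of_le_of_ne (Subgroup.card_le_card_group M)
      intro h
      exact hM (Subgroup.eq_top_of_card_eq M h)
    omega
  haveI : Group.IsSolvable M := inferInstance
  have hsolv' : Group.IsSolvable (M ⧸ K ν) := inferInstance
  obtain ⟨ψ, hψ, hψν⟩ := Cfsg.Agent.Lib.Helper25.exists_deflation (K ν) ν.2
    (fun n hn => (hKmem ν n).1 hn)
  have hψfaith : ∀ g : M ⧸ K ν, ψ g = ψ 1 → g = 1 := by
    intro g hg
    obtain ⟨m, rfl⟩ := QuotientGroup.mk'_surjective (K ν) g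
    have h1 : (ν : M → ℂ) m = (ν : M → ℂ) 1 := by
      rw [hψν m, hψν 1]
      exact hg
    exact (QuotientGroup.eq_one_iff m).2 ((hKmem ν m).2 h1)
  have hP'n : ¬ (((P.subtype hPM : Sylow p M).mapSurjective
      (QuotientGroup.mk'_surjective (K ν)) : Sylow p (M ⧸ K ν)) : Subgroup (M ⧸ K ν)).Normal := by
    intro hn
    apply hνn
    have h1 : ((((P.subtype hPM : Sylow p M).mapSurjective
      (QuotientGroup.mk'_surjective (K ν)) : Sylow p (M ⧸ K ν)) : Subgroup (M ⧸ K ν)).comap
        (QuotientGroup.mk' (K ν))).Normal := Subgroup.Normal.comap hn _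
    rw [Sylow.coe_mapSurjective, Subgroup.comap_map_eq, QuotientGroup.ker_mk'] at h1
    exact h1
  have hgood := IH (M ⧸ K ν) hcard hsolv' ⟨ψ, hψ⟩ hψfaith _ hP'n
  have hdeg : Cfsg.charDegree ψ = Cfsg.charDegree (ν : M → ℂ) := by
    unfold Cfsg.charDegree
    rw [hψν 1]
    rfl
  rw [show Cfsg.charDegree ((⟨ψ, hψ⟩ : Cfsg.IrrCharacter (M ⧸ K ν)) : M ⧸ K ν → ℂ)
    = Cfsg.charDegree (ν : M → ℂ) from hdeg] at hgood
  exact hgood.mono (charDegree_dvd_of_constituent M χ ν hν)

end Cfsg.Agent.Lib.Helper24.Winter
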