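import Mathlib
import Cfsg.Agent.Lib.Helper24.WinterBasic
import Cfsg.Agent.Lib.Helper24.WinterChar
import Cfsg.Agent.Lib.Helper24.WinterPrim
import Cfsg.Agent.Lib.Helper24.WinterStep

/-!
# Winter's theorem: the case of a non-invariant constituent (helper24 library)
-/

set_option autoImplicit false

namespace Cfsg.Agent.Lib.Helper24.Winter

open Cfsg Cfsg.Agent.Lib.Helper2
open scoped ComplexConjugate

universe u

/-- a maximal subgroup `Hm` with core `N`, and a `p`-element outside `N` -/
theorem good_index_of_coatom_of_core {G : Type u} [Group G] [Finite G] [Group.IsSolvable G]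
    {p : ℕ} (hp : p.Prime) (Hm : Subgroup G) (hHm : IsCoatom Hm)
    (N : Subgroup G) [hN : N.Normal] (hNH : N ≤ Hm)
    (hmax : ∀ K : Subgroup G, K.Normal → K ≤ Hm → K ≤ N)
    (y : G) (hyN : y ∉ N) (hyp : IsPGroup p (Subgroup.zpowers y)) : Good p Hm.index := by
  classical
  haveI : Fact p.Prime := ⟨hp⟩
  have hker : (QuotientGroup.mk' N).ker ≤ Hm := by
    rw [QuotientGroup.ker_mk']
    exact hNH
  have hsurj := QuotientGroup.mk'_surjective N
  have hcomap : (Hm.map (QuotientGroup.mk' N)).comap (QuotientGroup.mk' N) = Hm := by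
    rw [Subgroup.comap_map_eq, sup_eq_left.2 hker]
  have hco : IsCoatom (Hm.map (QuotientGroup.mk' N)) := by
    constructor
    · intro h
      apply hHm.1
      rw [← hcomap, h, Subgroup.comap_top]
    · intro Kb hlt
      have h1 : Hm < Kb.comap (QuotientGroup.mk' N) := by
        have := (Subgroup.comap_lt_comap_of_surjective hsurj).2 hlt
        rwa [hcomap] at this
      have h2 := hHm.2 _ h1
      rw [← Subgroup.map_comap_eq_self_of_surjective hsurj Kb, h2, ← MonoidHom.range_eq_map,
        MonoidHom.range_eq_top.2 hsurj]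
  have hcore : (Hm.map (QuotientGroup.mk' N)).normalCore = ⊥ := by
    have h1 : ((Hm.map (QuotientGroup.mk' N)).normalCore.comap (QuotientGroup.mk' N)) ≤ Hm := by
      have := Subgroup.comap_mono (f := QuotientGroup.mk' N)
        (Subgroup.normalCore_le (Hm.map (QuotientGroup.mk' N)))
      rwa [hcomap] at this
    have hn : ((Hm.map (QuotientGroup.mk' N)).normalCore.comap (QuotientGroup.mk' N)).Normal :=
      Subgroup.Normal.comap inferInstance _
    have h2 := hmax _ hn h1
    have h3 := Subgroup.map_mono (f := QuotientGroup.mk' N) h2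
    rw [Subgroup.map_comap_eq_self_of_surjective hsurj, QuotientGroup.map_mk'_self] at h3
    exact le_bot_iff.1 h3
  have hidx' : (Hm.map (QuotientGroup.mk' N)).index = Hm.index :=
    Subgroup.index_map_eq Hm hsurj hker
  have hpX : p ∣ Nat.card (G ⧸ N) := by
    have hy1 : (QuotientGroup.mk' N) y ≠ 1 := by
      intro h
      exact hyN ((QuotientGroup.eq_one_iff y).1 h)
    have hyb : IsPGroup p (Subgroup.zpowers ((QuotientGroup.mk' N) y)) := by
      rw [← MonoidHom.map_zpowers]
      exact hyp.map _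
    obtain ⟨k, hk⟩ := (IsPGroup.iff_card).1 hyb
    have hk0 : k ≠ 0 := by
      intro h0
      rw [h0, pow_zero, Subgroup.card_eq_one, Subgroup.zpowers_eq_bot] at hk
      exact hy1 hk
    have h1 : p ∣ Nat.card (Subgroup.zpowers ((QuotientGroup.mk' N) y)) := by
      rw [hk]
      exact dvd_pow_self p hk0
    exact h1.trans (Subgroup.card_subgroup_dvd_card _)
  have := good_index_of_coatom hp _ hco hcore hpX
  rw [hidx'] at this
  exact this

theorem good_of_stab_ne_top {G : Type u} [Group G] [Fintype G] (hsolv : Group.IsSolvable G)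
    {p : ℕ} (hp : p.Prime) (χ : Cfsg.IrrCharacter G)
    (hfaith : ∀ g : G, (χ : G → ℂ) g = (χ : G → ℂ) 1 → g = 1)
    (P : Sylow p G) (hP : ¬ (P : Subgroup G).Normal)
    (M : Subgroup G) [hMn : M.Normal] [Fintype M] (θ : Cfsg.IrrCharacter M)
    (hθ : Cfsg.classInner (fun m : M => (χ : G → ℂ) m) (θ : M → ℂ) ≠ 0)
    (hT : stab M θ ≠ ⊤)
    (IH : WinterIH.{u} p (Nat.card G)) :
    Good p (Cfsg.charDegree (χ : G → ℂ)) := by
  classical
  haveI : Fact p.Prime := ⟨hp⟩
  obtain ⟨Hm, hHm, hTH⟩ := (eq_top_or_exists_le_coatom (stab M θ)).resolve_left hT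
  have hidx : Hm.index ∣ Cfsg.charDegree (χ : G → ℂ) :=
    (Subgroup.index_dvd_of_le hTH).trans (index_stab_dvd M χ θ hθ)
  have hN₀ne : Hm.normalCore ≠ ⊤ := by
    intro h
    apply hHm.1
    have := Subgroup.normalCore_le Hm
    rw [h] at this
    exact top_le_iff.1 this
  by_cases hPN : (P : Subgroup G) ≤ Hm.normalCore
  · exact good_of_le_normal hsolv hp χ hfaith P hP Hm.normalCore hN₀ne hPN IH
  · obtain ⟨y, hyP, hyN⟩ := SetLike.not_le_iff_exists.1 hPN
    have hyp : IsPGroup p (Subgroup.zpowers y) :=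
      P.2.to_le (Subgroup.zpowers_le.2 hyP)
    have := good_index_of_coatom_of_core hp Hm hHm Hm.normalCore (Subgroup.normalCore_le Hm)
      (fun K hK hKH => (Subgroup.normal_le_normalCore (hN := hK)).2 hKH) y hyN hyp
    exact this.mono hidx

end Cfsg.Agent.Lib.Helper24.Winter
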