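import Mathlib
import Cfsg.Agent.Lib.Helper2.Linear
import Cfsg.Agent.Lib.Helper25.LinearChar
import Cfsg.Agent.Lib.Helper24.WinterBasic
import Cfsg.Agent.Lib.Helper24.WinterChar

/-!
# Winter's theorem: quasi-primitive characters (helper24 library)
-/

set_option autoImplicit false

namespace Cfsg.Agent.Lib.Helper24.Winter

open Cfsg Cfsg.Agent.Lib.Helper2
open scoped ComplexConjugate

section QP

variable {G : Type*} [Group G] [Fintype G]

/-- `χ` is quasi-primitive: every constituent of the restriction to a normal subgroup is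
invariant -/
def QP (χ : Cfsg.IrrCharacter G) : Prop :=
  ∀ (M : Subgroup G) [M.Normal] [Fintype M] (θ : Cfsg.IrrCharacter M),
    Cfsg.classInner (fun m : M => (χ : G → ℂ) m) (θ : M → ℂ) ≠ 0 → stab M θ = ⊤

theorem exists_constituent (χ : Cfsg.IrrCharacter G) (H : Subgroup G) [Fintype H] :
    ∃ θ : Cfsg.IrrCharacter H,
      Cfsg.classInner (fun h : H => (χ : G → ℂ) h) (θ : H → ℂ) ≠ 0 := by
  classical
  have hχ1 : (χ : G → ℂ) 1 ≠ 0 := Cfsg.Agent.Lib.Helper25.irr_one_ne_zero χ.2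
  have hχH : Cfsg.IsCharacter H (fun h : H => (χ : G → ℂ) h) :=
    IsCharacter.restrict (IsIrrCharacter.isCharacter χ.2) H
  have hne : (fun h : H => (χ : G → ℂ) h) ≠ 0 := by
    intro h
    have := congrFun h 1
    exact hχ1 this
  obtain ⟨θ, Ψ, hΨ, hsum⟩ := exists_irr_add_of_ne_zero hχH hne
  have hθθ : Cfsg.classInner (θ : H → ℂ) (θ : H → ℂ) = 1 := by
    have := Cfsg.Agent.Lib.Helper25.irr_classInner θ.2 θ.2
    rw [if_pos rfl] at this
    exact this
  refine ⟨θ, ?_⟩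
  obtain ⟨b, hb⟩ := classInner_isCharacter_nat hΨ (IsIrrCharacter.isCharacter θ.2)
  rw [hsum, classInner_add_left, hθθ, hb]
  have : (1 : ℂ) + (b : ℂ) = ((1 + b : ℕ) : ℂ) := by push_cast; ring
  rw [this]
  exact_mod_cast (by omega : 1 + b ≠ 0)

variable (M : Subgroup G) [hM : M.Normal] [Fintype M]

theorem apply_conj_of_stab_eq_top (θ : Cfsg.IrrCharacter M) (hT : stab M θ = ⊤) (g : G) (k : M)
    (k' : M) (hk' : (k' : G) = g⁻¹ * k * g) : (θ : M → ℂ) k' = (θ : M → ℂ) k := by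
  have hg : g ∈ stab M θ := by rw [hT]; exact Subgroup.mem_top g
  rw [mem_stab] at hg
  have h1 := conjIrr_nmk_apply M g θ k
  rw [hg] at h1
  rw [h1]
  apply congrArg
  exact Subtype.ext hk'

/-- a homogeneous restriction -/
theorem eq_mul_of_stab_eq_top (χ : Cfsg.IrrCharacter G) (θ : Cfsg.IrrCharacter M)
    (hθ : Cfsg.classInner (fun m : M => (χ : G → ℂ) m) (θ : M → ℂ) ≠ 0)
    (hT : stab M θ = ⊤) (m : M) :
    (χ : G → ℂ) m = Cfsg.classInner (fun m : M => (χ : G → ℂ) m) (θ : M → ℂ) * (θ : M → ℂ) m := by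
  classical
  haveI : Fintype (Cfsg.IrrCharacter M) := Fintype.ofFinite _
  have hχM : Cfsg.IsCharacter M (fun m : M => (χ : G → ℂ) m) :=
    IsCharacter.restrict (IsIrrCharacter.isCharacter χ.2) M
  have hexp := congrFun (classFunction_expansion (fun m : M => (χ : G → ℂ) m)
    (IsCharacter.isClassFunction hχM)) m
  simp only [Finset.sum_apply, Pi.smul_apply, smul_eq_mul] at hexp
  rw [hexp]
  apply Finset.sum_eq_single θ
  · intro ν _ hνθ
    have : Cfsg.classInner (fun m : M => (χ : G → ℂ) m) (ν : M → ℂ) = 0 := by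
      by_contra hne
      apply hνθ
      obtain ⟨g, hg⟩ := Cfsg.Agent.Lib.Helper11.clifford_conj M χ.2 θ.2 ν.2 hθ hne
      apply Subtype.ext
      rw [hg]
      funext k
      rw [Cfsg.Agent.Lib.Helper11.conjFn_apply]
      exact apply_conj_of_stab_eq_top M θ hT g⁻¹ k _ (by simp)
    rw [this, zero_mul]
  · intro h
    exact absurd (Finset.mem_univ θ) h

end QP

section Central

variable {G : Type*} [Group G] [Fintype G]

/-- for a quasi-primitive faithful character, normal abelian subgroups are central -/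
theorem le_center_of_comm (χ : Cfsg.IrrCharacter G)
    (hfaith : ∀ g : G, (χ : G → ℂ) g = (χ : G → ℂ) 1 → g = 1) (hQP : QP χ)
    (A : Subgroup G) [hA : A.Normal] (hab : ∀ a ∈ A, ∀ b ∈ A, a * b = b * a) :
    A ≤ Subgroup.center G := by
  classical
  haveI : Fintype A := Fintype.ofFinite A
  obtain ⟨θ, hθ⟩ := exists_constituent χ A
  have hT := hQP A θ hθ
  have hab' : ∀ a b : A, a * b = b * a := by
    intro a b
    exact Subtype.ext (hab a a.2 b b.2)
  have hθ1 : (θ : A → ℂ) 1 = 1 := IsIrrCharacter.apply_one_of_comm hab' θ.2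
  have hmul := Cfsg.Agent.Lib.Helper25.linear_char_mul (IsIrrCharacter.isCharacter θ.2) hθ1
  intro a ha
  rw [Subgroup.mem_center_iff]
  intro g
  have hmem : g⁻¹ * a * g ∈ A := by
    have := hA.conj_mem a ha g⁻¹
    simpa using this
  have hinv := apply_conj_of_stab_eq_top A θ hT g ⟨a, ha⟩ ⟨g⁻¹ * a * g, hmem⟩ rfl
  have h1 : (θ : A → ℂ) ((⟨g⁻¹ * a * g, hmem⟩ : A) * (⟨a, ha⟩ : A)⁻¹) = 1 := by
    rw [hmul, hinv, ← hmul, mul_inv_cancel, hθ1]
  have h2 := eq_mul_of_stab_eq_top A χ θ hθ hT ((⟨g⁻¹ * a * g, hmem⟩ : A) * (⟨a, ha⟩ : A)⁻¹)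
  have h3 := eq_mul_of_stab_eq_top A χ θ hθ hT 1
  rw [h1] at h2
  rw [hθ1] at h3
  have h4 : (χ : G → ℂ) (g⁻¹ * a * g * a⁻¹) = (χ : G → ℂ) 1 := by
    have e : (((⟨g⁻¹ * a * g, hmem⟩ : A) * (⟨a, ha⟩ : A)⁻¹ : A) : G) = g⁻¹ * a * g * a⁻¹ := rfl
    rw [← e, h2]
    exact h3.symm
  have h5 := hfaith _ h4
  calc g * a = g * 1 * a := by group
    _ = g * (g⁻¹ * a * g * a⁻¹) * a := by rw [h5]
    _ = a * g := by group

end Central

end Cfsg.Agent.Lib.Helper24.Winter
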