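import Mathlib
import Cfsg.Agent.Lib.Helper1.Hall
import Cfsg.Agent.Lib.Helper24.WinterBasic
import Cfsg.Agent.Lib.Helper24.WinterGroup
import Cfsg.Agent.Lib.Helper24.WinterChar

/-!
# Winter's theorem: the symplectic step (helper24 library)

Let `χ` be a faithful irreducible character of `G`, `A ≤ C` normal subgroups with `A` central,
`[C, C] ≤ A = Z(C)` and `C` an `r`-group.  If a `p`-element `x` (`p ≠ r`) acts nontrivially on
`C / A`, then `χ(1)` has a prime power divisor `q ≡ ±1 (mod p)`.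
-/

set_option autoImplicit false

namespace Cfsg.Agent.Lib.Helper24.Winter

open Cfsg Cfsg.Agent.Lib.Helper2
open scoped ComplexConjugate

section Symp

variable {G : Type*} [Group G] [Fintype G]

/-- the elements of `C` fixed by `x` modulo `A` -/
def fixMod (A C : Subgroup G) [A.Normal] (x : G) : Subgroup G :=
  C ⊓ (Subgroup.centralizer ({(QuotientGroup.mk' A x)} : Set (G ⧸ A))).comap (QuotientGroup.mk' A)

theorem mem_fixMod (A C : Subgroup G) [hA : A.Normal] (x c : G) :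
    c ∈ fixMod A C x ↔ c ∈ C ∧ x⁻¹ * c * x * c⁻¹ ∈ A := by
  unfold fixMod
  rw [Subgroup.mem_inf, Subgroup.mem_comap, Subgroup.mem_centralizer_iff]
  apply and_congr Iff.rfl
  constructor
  · intro h
    have h1 := h _ rfl
    rw [← map_mul, ← map_mul] at h1
    have h2 : (x * c)⁻¹ * (c * x) ∈ A := (QuotientGroup.eq).1 h1
    have h3 := hA.conj_mem _ h2 c
    have e : c * ((x * c)⁻¹ * (c * x)) * c⁻¹ = x⁻¹ * c * x * c⁻¹ := by group
    rw [e] at h3
    exact h3
  · intro h w hw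
    rw [Set.mem_singleton_iff] at hw
    subst hw
    rw [← map_mul, ← map_mul]
    apply (QuotientGroup.eq).2
    have h3 := hA.conj_mem _ h c⁻¹
    have e : c⁻¹ * (x⁻¹ * c * x * c⁻¹) * c⁻¹⁻¹ = (x * c)⁻¹ * (c * x) := by group
    rw [e] at h3
    exact h3

theorem good_of_symplectic (χ : Cfsg.IrrCharacter G)
    (hfaith : ∀ g : G, (χ : G → ℂ) g = (χ : G → ℂ) 1 → g = 1)
    {p r : ℕ} (hp : p.Prime) (hr : r.Prime) (hpr : p ≠ r)
    (A C : Subgroup G) [hA : A.Normal] [hC : C.Normal] (hAC : A ≤ C)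
    (hAc : A ≤ Subgroup.center G)
    (hCC : ∀ u ∈ C, ∀ v ∈ C, u * v * u⁻¹ * v⁻¹ ∈ A)
    (hZ : ∀ u ∈ C, (∀ v ∈ C, u * v = v * u) → u ∈ A)
    (hCr : IsPGroup r C) (x : G) (hx : IsPGroup p (Subgroup.zpowers x))
    (hact : ∃ c ∈ C, x⁻¹ * c * x * c⁻¹ ∉ A) :
    Good p (Cfsg.charDegree (χ : G → ℂ)) := by
  classical
  haveI : Fact p.Prime := ⟨hp⟩
  haveI : Fact r.Prime := ⟨hr⟩
  -- the order of `x`
  obtain ⟨ko, hko⟩ := (IsPGroup.iff_card).1 hx
  rw [Nat.card_zpowers] at hko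
  have hxo : x ^ (p ^ ko) = 1 := by rw [← hko]; exact pow_orderOf_eq_one x
  obtain ⟨j, hj⟩ := (IsPGroup.iff_card).1 hCr
  -- torsion
  have htor : ∀ a ∈ A, a ^ (p ^ ko) = 1 → a = 1 := by
    intro a ha h
    have h1 : orderOf a ∣ p ^ ko := orderOf_dvd_of_pow_eq_one h
    have h2 : orderOf a ∣ r ^ j := by
      rw [← hj]
      have : orderOf (⟨a, hAC ha⟩ : C) = orderOf a := Subgroup.orderOf_mk a (hAC ha)
      rw [← this]
      exact orderOf_dvd_natCard _
    have hcop : Nat.Coprime (p ^ ko) (r ^ j) :=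
      Nat.Coprime.pow _ _ ((Nat.coprime_primes hp hr).2 hpr)
    have h3 : orderOf a ∣ 1 := by
      have := Nat.dvd_gcd h1 h2
      rwa [hcop.gcd_eq_one] at this
    exact orderOf_eq_one_iff.1 (Nat.dvd_one.1 h3)
  have hAcent : ∀ a ∈ A, ∀ g : G, a * g = g * a := by
    intro a ha g
    exact (Subgroup.mem_center_iff.1 (hAc ha) g).symm
  -- step 1: the square for `C`
  obtain ⟨θ, hθc, hθsq⟩ := exists_sq χ hfaith C A hAC hAc hCC hZ
  have hθdvd := charDegree_dvd_of_constituent C χ θ hθc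
  -- step 2: the fixed points
  have hC₀C : fixMod A C x ≤ C := inf_le_left
  have hAC₀ : A ≤ fixMod A C x := by
    intro a ha
    rw [mem_fixMod]
    refine ⟨hAC ha, ?_⟩
    have := hAcent a ha x
    have e : x⁻¹ * a * x * a⁻¹ = x⁻¹ * (a * x) * a⁻¹ := by group
    rw [e, this]
    have e2 : x⁻¹ * (x * a) * a⁻¹ = 1 := by group
    rw [e2]
    exact A.one_mem
  have hC₀ne : fixMod A C x ≠ C := by
    obtain ⟨c, hc, hcA⟩ := hact
    intro h
    have : c ∈ fixMod A C x := by rw [h]; exact hc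
    exact hcA ((mem_fixMod A C x c).1 this).2
  have hxC : ∀ v ∈ C, x⁻¹ * v * x ∈ C := by
    intro v hv
    have := hC.conj_mem v hv x⁻¹
    simpa using this
  -- step 3: the centre of the fixed points
  have hZ₀ : ∀ u ∈ fixMod A C x, (∀ v ∈ fixMod A C x, u * v = v * u) → u ∈ A := by
    intro u hu hcomm
    obtain ⟨huC, hux⟩ := (mem_fixMod A C x u).1 hu
    apply hZ u huC
    intro c hc
    exact commute_of_commute_fixed hAcent hCC hxo hxC htor huC hux
      (fun v hv hvx => hcomm v ((mem_fixMod A C x v).2 ⟨hv, hvx⟩)) hc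
  have hCC₀ : ∀ u ∈ fixMod A C x, ∀ v ∈ fixMod A C x, u * v * u⁻¹ * v⁻¹ ∈ A :=
    fun u hu v hv => hCC u (hC₀C hu) v (hC₀C hv)
  obtain ⟨θ₀, _, hθ₀sq⟩ := exists_sq χ hfaith (fixMod A C x) A hAC₀ hAc hCC₀ hZ₀
  -- step 4: the fixed point congruence in `G ⧸ A`
  have hxbar : IsPGroup p (Subgroup.zpowers (QuotientGroup.mk' A x)) := by
    rw [← MonoidHom.map_zpowers]
    exact hx.map _
  haveI : (C.map (QuotientGroup.mk' A)).Normal :=
    Subgroup.Normal.map hC _ (QuotientGroup.mk'_surjective A)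
  have hcong := card_modEq_card_inf_centralizer (C.map (QuotientGroup.mk' A))
    (QuotientGroup.mk' A x) hxbar
  have hmap : (C.map (QuotientGroup.mk' A)) ⊓
      Subgroup.centralizer ({(QuotientGroup.mk' A x)} : Set (G ⧸ A))
      = (fixMod A C x).map (QuotientGroup.mk' A) := by
    ext w
    constructor
    · rintro ⟨⟨c, hc, rfl⟩, hw⟩
      exact ⟨c, Subgroup.mem_inf.2 ⟨hc, hw⟩, rfl⟩
    · rintro ⟨c, hc, rfl⟩
      exact ⟨⟨c, (Subgroup.mem_inf.1 hc).1, rfl⟩, (Subgroup.mem_inf.1 hc).2⟩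
  rw [hmap] at hcong
  have hA0 : 0 < Nat.card A := Nat.card_pos
  have h1 := Cfsg.Agent.Lib.Helper1.card_map_mk_of_le A hAC
  have h2 := Cfsg.Agent.Lib.Helper1.card_map_mk_of_le A hAC₀
  have hcard1 : Nat.card (C.map (QuotientGroup.mk' A)) = Cfsg.charDegree (θ : C → ℂ) ^ 2 := by
    rw [hθsq] at h1
    exact Nat.eq_of_mul_eq_mul_right hA0 h1
  have hcard2 : Nat.card ((fixMod A C x).map (QuotientGroup.mk' A))
      = Cfsg.charDegree (θ₀ : fixMod A C x → ℂ) ^ 2 := by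
    rw [hθ₀sq] at h2
    exact Nat.eq_of_mul_eq_mul_right hA0 h2
  rw [hcard1, hcard2] at hcong
  -- step 5: arithmetic
  have hd : Cfsg.charDegree (θ : C → ℂ) ∣ r ^ j := by
    rw [← hj, hθsq]
    exact Dvd.dvd.mul_right (dvd_pow_self _ (by norm_num)) _
  obtain ⟨m, _, hm⟩ := (Nat.dvd_prime_pow hr).1 hd
  have hcardle : Nat.card (fixMod A C x) ∣ Nat.card C := Subgroup.card_dvd_of_le hC₀C
  have hd₀ : Cfsg.charDegree (θ₀ : fixMod A C x → ℂ) ∣ r ^ m := by
    rw [← hm]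
    rw [hθsq, hθ₀sq] at hcardle
    have := Nat.dvd_of_mul_dvd_mul_right hA0 hcardle
    exact (Nat.pow_dvd_pow_iff (by norm_num)).1 this
  have hlt : Cfsg.charDegree (θ₀ : fixMod A C x → ℂ) < r ^ m := by
    rw [← hm]
    have hclt : Nat.card (fixMod A C x) < Nat.card C := by
      apply lt_of_le_of_ne (Nat.le_of_dvd Nat.card_pos hcardle)
      intro h
      exact hC₀ne (Subgroup.eq_of_le_of_card_ge hC₀C h.ge)
    rw [hθsq, hθ₀sq] at hclt
    have := Nat.lt_of_mul_lt_mul_right hclt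
    exact lt_of_pow_lt_pow_left₀ 2 (Nat.zero_le _) this
  rw [hm] at hcong
  have hgood := good_of_sq_modEq hp hr hpr hd₀ hlt hcong
  rw [← hm] at hgood
  exact hgood.mono hθdvd

end Symp

end Cfsg.Agent.Lib.Helper24.Winter
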