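import Mathlib
import Cfsg.Agent.Lib.Helper1.Fitting
import Cfsg.Agent.Lib.Helper25.Codegree
import Cfsg.Agent.Lib.Helper24.WinterQP
import Cfsg.Agent.Lib.Helper24.WinterCrit
import Cfsg.Agent.Lib.Helper24.WinterSymp

/-!
# Winter's theorem: the quasi-primitive case (helper24 library)
-/

set_option autoImplicit false

namespace Cfsg.Agent.Lib.Helper24.Winter

open Cfsg Cfsg.Agent.Lib.Helper2 Cfsg.Agent.Lib.Helper1
open scoped ComplexConjugate

universe u

theorem good_of_qp {G : Type u} [Group G] [Fintype G] (hsolv : Group.IsSolvable G)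
    {p : ℕ} (hp : p.Prime) (χ : Cfsg.IrrCharacter G)
    (hfaith : ∀ g : G, (χ : G → ℂ) g = (χ : G → ℂ) 1 → g = 1)
    (P : Sylow p G) (hP : ¬ (P : Subgroup G).Normal) (hQP : QP χ) :
    Good p (Cfsg.charDegree (χ : G → ℂ)) := by
  classical
  haveI : Fact p.Prime := ⟨hp⟩
  haveI := hsolv
  by_cases hpn : p ∣ Cfsg.charDegree (χ : G → ℂ)
  · exact good_of_dvd hp hpn
  -- the `p`-core is central
  have hQc : Cfsg.pCore p G ≤ Subgroup.center G := by
    haveI := pCore_normal (G := G) p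
    haveI : Fintype (Cfsg.pCore p G) := Fintype.ofFinite _
    obtain ⟨θ, hθ⟩ := exists_constituent χ (Cfsg.pCore p G)
    have hT := hQP (Cfsg.pCore p G) θ hθ
    have hd1 := charDegree_dvd_of_constituent (Cfsg.pCore p G) χ θ hθ
    have hd2 : Cfsg.charDegree (θ : Cfsg.pCore p G → ℂ) ∣ Nat.card (Cfsg.pCore p G) :=
      Cfsg.Agent.Lib.Helper25.charDegree_dvd_card θ.2
    obtain ⟨a, ha⟩ := (IsPGroup.iff_card).1 (pCore_isPGroup (G := G) p)
    rw [ha] at hd2
    obtain ⟨b, _, hdb⟩ := (Nat.dvd_prime_pow hp).1 hd2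
    have hb0 : b = 0 := by
      by_contra hne
      apply hpn
      have : p ∣ Cfsg.charDegree (θ : Cfsg.pCore p G → ℂ) := by
        rw [hdb]; exact dvd_pow_self p hne
      exact this.trans hd1
    have hθ1 : (θ : Cfsg.pCore p G → ℂ) 1 = 1 := by
      rw [Cfsg.Agent.Lib.Helper25.char_one_eq_charDegree (IsIrrCharacter.isCharacter θ.2), hdb,
        hb0]
      simp
    have hmul := Cfsg.Agent.Lib.Helper25.linear_char_mul (IsIrrCharacter.isCharacter θ.2) hθ1
    apply le_center_of_comm χ hfaith hQP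
    intro u hu v hv
    have h1 : (θ : Cfsg.pCore p G → ℂ)
        ((⟨u, hu⟩ : Cfsg.pCore p G) * ⟨v, hv⟩ * (⟨u, hu⟩ : Cfsg.pCore p G)⁻¹
          * (⟨v, hv⟩ : Cfsg.pCore p G)⁻¹) = 1 := by
      have e1 : (θ : Cfsg.pCore p G → ℂ) (⟨u, hu⟩ : Cfsg.pCore p G)
          * (θ : Cfsg.pCore p G → ℂ) ((⟨u, hu⟩ : Cfsg.pCore p G)⁻¹) = 1 := by
        rw [← hmul, mul_inv_cancel, hθ1]
      have e2 : (θ : Cfsg.pCore p G → ℂ) (⟨v, hv⟩ : Cfsg.pCore p G)
          * (θ : Cfsg.pCore p G → ℂ) ((⟨v, hv⟩ : Cfsg.pCore p G)⁻¹) = 1 := by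
        rw [← hmul, mul_inv_cancel, hθ1]
      rw [hmul, hmul, hmul]
      linear_combination (θ : Cfsg.pCore p G → ℂ) (⟨v, hv⟩ : Cfsg.pCore p G)
        * (θ : Cfsg.pCore p G → ℂ) ((⟨v, hv⟩ : Cfsg.pCore p G)⁻¹) * e1 + e2
    have h2 := eq_mul_of_stab_eq_top (Cfsg.pCore p G) χ θ hθ hT
      ((⟨u, hu⟩ : Cfsg.pCore p G) * ⟨v, hv⟩ * (⟨u, hu⟩ : Cfsg.pCore p G)⁻¹
          * (⟨v, hv⟩ : Cfsg.pCore p G)⁻¹)
    have h3 := eq_mul_of_stab_eq_top (Cfsg.pCore p G) χ θ hθ hT 1
    rw [h1] at h2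
    rw [hθ1] at h3
    have h4 : (χ : G → ℂ) (u * v * u⁻¹ * v⁻¹) = (χ : G → ℂ) 1 := by
      have e : ((((⟨u, hu⟩ : Cfsg.pCore p G) * ⟨v, hv⟩ * (⟨u, hu⟩ : Cfsg.pCore p G)⁻¹
          * (⟨v, hv⟩ : Cfsg.pCore p G)⁻¹ : Cfsg.pCore p G)) : G) = u * v * u⁻¹ * v⁻¹ := rfl
      rw [← e, h2]
      exact h3.symm
    have h5 := hfaith _ h4
    calc u * v = (u * v * u⁻¹ * v⁻¹) * v * u := by group
      _ = v * u := by rw [h5, one_mul]
  -- some `O_r(G)` is not centralized by `P`
  have hex : ∃ r : ℕ, r.Prime ∧ ∃ x : G, x ∈ (P : Subgroup G) ∧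
      ¬ ∀ g ∈ Cfsg.pCore r G, x * g = g * x := by
    by_contra hall
    push Not at hall
    apply hP
    have h1 : (P : Subgroup G) ≤ Subgroup.centralizer (Cfsg.fittingSubgroup G : Set G) := by
      rw [Subgroup.le_centralizer_iff, fittingSubgroup_eq_iSup_primes]
      apply iSup_le
      intro r g hg
      rw [Subgroup.mem_centralizer_iff]
      intro x hx
      exact hall r r.2 x hx g hg
    have h2 : (P : Subgroup G) ≤ Cfsg.fittingSubgroup G :=
      h1.trans centralizer_fittingSubgroup_le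
    haveI := fittingSubgroup_normal (G := G)
    have hZF : Cfsg.fittingSubgroup G ⊓ Subgroup.centralizer (Cfsg.fittingSubgroup G : Set G)
        ≤ Subgroup.center G := by
      haveI : (Cfsg.fittingSubgroup G ⊓
          Subgroup.centralizer (Cfsg.fittingSubgroup G : Set G)).Normal :=
        Subgroup.normal_inf_normal _ _
      apply le_center_of_comm χ hfaith hQP
      intro a ha b hb
      exact Subgroup.mem_centralizer_iff.1 (Subgroup.mem_inf.1 hb).2 a (Subgroup.mem_inf.1 ha).1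
    have h3 : (P : Subgroup G) ≤ Subgroup.center G :=
      fun y hy => hZF (Subgroup.mem_inf.2 ⟨h2 hy, h1 hy⟩)
    constructor
    intro y hy g
    have := Subgroup.mem_center_iff.1 (h3 hy) g
    rw [this]
    simpa using hy
  obtain ⟨r, hr, x, hxP, hxR⟩ := hex
  haveI : Fact r.Prime := ⟨hr⟩
  have hpr : p ≠ r := by
    rintro rfl
    apply hxR
    intro g hg
    exact Subgroup.mem_center_iff.1 (hQc hg) x
  haveI hRn := pCore_normal (G := G) r
  have hRr : IsPGroup r (Cfsg.pCore r G) := pCore_isPGroup (G := G) r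
  haveI hAn : (Cfsg.pCore r G ⊓ Subgroup.centralizer (Cfsg.pCore r G : Set G)).Normal :=
    Subgroup.normal_inf_normal _ _
  have hAc : Cfsg.pCore r G ⊓ Subgroup.centralizer (Cfsg.pCore r G : Set G)
      ≤ Subgroup.center G := by
    apply le_center_of_comm χ hfaith hQP
    intro a ha b hb
    exact Subgroup.mem_centralizer_iff.1 (Subgroup.mem_inf.1 hb).2 a (Subgroup.mem_inf.1 ha).1
  have hZ : ∀ u ∈ secondCenter (Cfsg.pCore r G)
      (Cfsg.pCore r G ⊓ Subgroup.centralizer (Cfsg.pCore r G : Set G)),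
      (∀ v ∈ secondCenter (Cfsg.pCore r G)
        (Cfsg.pCore r G ⊓ Subgroup.centralizer (Cfsg.pCore r G : Set G)), u * v = v * u) →
      u ∈ Cfsg.pCore r G ⊓ Subgroup.centralizer (Cfsg.pCore r G : Set G) := by
    intro u hu hcomm
    haveI : (secondCenter (Cfsg.pCore r G)
        (Cfsg.pCore r G ⊓ Subgroup.centralizer (Cfsg.pCore r G : Set G)) ⊓
        Subgroup.centralizer (secondCenter (Cfsg.pCore r G)
          (Cfsg.pCore r G ⊓ Subgroup.centralizer (Cfsg.pCore r G : Set G)) : Set G)).Normal :=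
      Subgroup.normal_inf_normal _ _
    have hZc : secondCenter (Cfsg.pCore r G)
        (Cfsg.pCore r G ⊓ Subgroup.centralizer (Cfsg.pCore r G : Set G)) ⊓
        Subgroup.centralizer (secondCenter (Cfsg.pCore r G)
          (Cfsg.pCore r G ⊓ Subgroup.centralizer (Cfsg.pCore r G : Set G)) : Set G)
        ≤ Subgroup.center G := by
      apply le_center_of_comm χ hfaith hQP
      intro a ha b hb
      exact Subgroup.mem_centralizer_iff.1 (Subgroup.mem_inf.1 hb).2 a (Subgroup.mem_inf.1 ha).1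
    have huZ : u ∈ secondCenter (Cfsg.pCore r G)
        (Cfsg.pCore r G ⊓ Subgroup.centralizer (Cfsg.pCore r G : Set G)) ⊓
        Subgroup.centralizer (secondCenter (Cfsg.pCore r G)
          (Cfsg.pCore r G ⊓ Subgroup.centralizer (Cfsg.pCore r G : Set G)) : Set G) := by
      refine Subgroup.mem_inf.2 ⟨hu, ?_⟩
      rw [Subgroup.mem_centralizer_iff]
      intro v hv
      exact (hcomm v hv).symm
    have huc := hZc huZ
    refine Subgroup.mem_inf.2 ⟨hu.1, ?_⟩
    rw [Subgroup.mem_centralizer_iff]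
    intro g _
    exact Subgroup.mem_center_iff.1 huc g
  have hcrit := inf_centralizer_secondCenter_le (Cfsg.pCore r G)
    (Cfsg.pCore r G ⊓ Subgroup.centralizer (Cfsg.pCore r G : Set G)) hRr hZ
  have hx : IsPGroup p (Subgroup.zpowers x) := P.2.to_le (Subgroup.zpowers_le.2 hxP)
  have hact := exists_not_mem_of_not_centralize hp hr hpr (Cfsg.pCore r G)
    (Cfsg.pCore r G ⊓ Subgroup.centralizer (Cfsg.pCore r G : Set G)) inf_le_left hAc hRr hcrit
    x hx hxR
  have hAC : Cfsg.pCore r G ⊓ Subgroup.centralizer (Cfsg.pCore r G : Set G)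
      ≤ secondCenter (Cfsg.pCore r G)
        (Cfsg.pCore r G ⊓ Subgroup.centralizer (Cfsg.pCore r G : Set G)) := by
    intro a ha
    refine ⟨(Subgroup.mem_inf.1 ha).1, fun g hg => ?_⟩
    have := Subgroup.mem_centralizer_iff.1 (Subgroup.mem_inf.1 ha).2 g hg
    have e : a * g * a⁻¹ * g⁻¹ = 1 := by
      rw [← this]
      group
    rw [e]
    exact Subgroup.one_mem _
  exact good_of_symplectic χ hfaith hp hr hpr
    (Cfsg.pCore r G ⊓ Subgroup.centralizer (Cfsg.pCore r G : Set G))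
    (secondCenter (Cfsg.pCore r G)
      (Cfsg.pCore r G ⊓ Subgroup.centralizer (Cfsg.pCore r G : Set G)))
    hAC hAc (fun u hu v hv => hu.2 v hv.1) hZ (hRr.to_le (secondCenter_le _ _)) x hx hact

end Cfsg.Agent.Lib.Helper24.Winter
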