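import Mathlib

/-!
# Helper24 library: the targets `V₄, A₄, S₄, A₅, S₅` of Zassenhaus' theorem, I

* `not_cyclic_sylow_of_klein`: a group containing two distinct commuting involutions has a
  non-cyclic Sylow `2`-subgroup.
* `Target X`: the properties of `X ∈ {V₄, A₄, S₄, A₅, S₅}` used for the uniqueness of the normal
  subgroup `N` in S4291.
-/

set_option autoImplicit false

namespace Cfsg.Agent.Lib.Helper24.ZassN

section Klein

variable {K : Type*} [Group K]

theorem sq_eq_one_of_mem_closure_pair {a b : K} (ha : a * a = 1) (hb : b * b = 1)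
    (hab : a * b = b * a) {x : K} (hx : x ∈ Subgroup.closure ({a, b} : Set K)) :
    x * x = 1 ∧ x * a = a * x ∧ x * b = b * x := by
  induction hx using Subgroup.closure_induction with
  | mem y hy =>
    rcases hy with rfl | rfl
    · exact ⟨ha, rfl, hab⟩
    · exact ⟨hb, hab.symm, rfl⟩
  | one => simp
  | mul y z _ _ hy hz =>
    obtain ⟨hy2, hya, hyb⟩ := hy
    obtain ⟨hz2, hza, hzb⟩ := hz
    have hyz : y * z = z * y := by
      -- `z` is in the closure, hence commutes with `y`, which commutes with `a`, `b`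
      have : ∀ w ∈ Subgroup.closure ({a, b} : Set K), y * w = w * y := by
        intro w hw
        induction hw using Subgroup.closure_induction with
        | mem v hv =>
          rcases hv with rfl | rfl
          · exact hya
          · exact hyb
        | one => simp
        | mul u v _ _ hu hv => rw [← mul_assoc, hu, mul_assoc, hv, mul_assoc]
        | inv u _ hu =>
          calc y * u⁻¹ = u⁻¹ * (u * y) * u⁻¹ := by group
            _ = u⁻¹ * (y * u) * u⁻¹ := by rw [hu]
            _ = u⁻¹ * y := by group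
      exact this z ‹_›
    refine ⟨?_, ?_, ?_⟩
    · calc y * z * (y * z) = y * (z * y) * z := by group
        _ = y * (y * z) * z := by rw [hyz]
        _ = (y * y) * (z * z) := by group
        _ = 1 := by rw [hy2, hz2, one_mul]
    · rw [mul_assoc, hza, ← mul_assoc, hya, mul_assoc]
    · rw [mul_assoc, hzb, ← mul_assoc, hyb, mul_assoc]
  | inv y _ hy =>
    obtain ⟨hy2, hya, hyb⟩ := hy
    have hyi : y⁻¹ = y := by
      rw [inv_eq_iff_mul_eq_one]; exact hy2
    rw [hyi]
    exact ⟨hy2, hya, hyb⟩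

/-- two distinct commuting involutions prevent cyclic Sylow `2`-subgroups -/
theorem not_cyclic_sylow_of_klein [Finite K] (a b : K) (ha : a * a = 1) (hb : b * b = 1)
    (hab : a * b = b * a) (ha1 : a ≠ 1) (hb1 : b ≠ 1) (hne : a ≠ b) :
    ¬ ∀ P : Sylow 2 K, IsCyclic P := by
  intro hcyc
  have hV : IsPGroup 2 (Subgroup.closure ({a, b} : Set K)) := by
    rintro ⟨x, hx⟩
    refine ⟨1, Subtype.ext ?_⟩
    have := (sq_eq_one_of_mem_closure_pair ha hb hab hx).1
    simpa [pow_two] using this
  have : Fact (Nat.Prime 2) := ⟨Nat.prime_two⟩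
  obtain ⟨P, hVP⟩ := hV.exists_le_sylow
  have hPc := hcyc P
  have haP : a ∈ (P : Subgroup K) := hVP (Subgroup.subset_closure (by simp))
  have hbP : b ∈ (P : Subgroup K) := hVP (Subgroup.subset_closure (by simp))
  classical
  have hfin : Fintype P := Fintype.ofFinite P
  have hle := IsCyclic.card_pow_eq_one_le (α := P) (n := 2) (by norm_num)
  have hsub : ∀ x ∈ ({1, ⟨a, haP⟩, ⟨b, hbP⟩} : Finset P), x ^ 2 = 1 := by
    intro x hx
    simp only [Finset.mem_insert, Finset.mem_singleton] at hx
    rcases hx with rfl | rfl | rfl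
    · simp
    · apply Subtype.ext; simp [pow_two, ha]
    · apply Subtype.ext; simp [pow_two, hb]
  have hcard : ({1, ⟨a, haP⟩, ⟨b, hbP⟩} : Finset P).card = 3 := by
    rw [Finset.card_insert_of_notMem, Finset.card_insert_of_notMem, Finset.card_singleton]
    · simp only [Finset.mem_singleton]
      intro h
      exact hne (congrArg Subtype.val h)
    · simp only [Finset.mem_insert, Finset.mem_singleton, not_or]
      constructor
      · intro h
        exact ha1 (congrArg Subtype.val h).symm
      · intro h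
        exact hb1 (congrArg Subtype.val h).symm
  have h3 := le_trans (Finset.card_le_card (fun x hx =>
    Finset.mem_filter.mpr ⟨Finset.mem_univ _, hsub x hx⟩)) hle
  omega

end Klein

section Targets

open Equiv

/-- the properties of the groups `V₄, A₄, S₄, A₅, S₅` used for the uniqueness statement -/
structure Target (X : Type*) [Group X] : Prop where
  fin : Finite X
  four_le : 4 ≤ Nat.card X
  normal_sub : ∀ K : Subgroup X, K.Normal → (∀ P : Sylow 2 K, IsCyclic P) →
    K = ⊥ ∨ (Nat.card X = 4 ∧ Nat.card K = 2)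
  sq_of_four : Nat.card X = 4 → ∀ x : X, x * x = 1

/-- a subgroup containing two distinct commuting involutions has a non-cyclic Sylow
`2`-subgroup -/
theorem not_cyclic_sylow_of_klein_mem {X : Type*} [Group X] [Finite X] (K : Subgroup X) (a b : X)
    (haK : a ∈ K) (hbK : b ∈ K) (ha : a * a = 1) (hb : b * b = 1)
    (hab : a * b = b * a) (ha1 : a ≠ 1) (hb1 : b ≠ 1) (hne : a ≠ b) :
    ¬ ∀ P : Sylow 2 K, IsCyclic P := by
  apply not_cyclic_sylow_of_klein (⟨a, haK⟩ : K) ⟨b, hbK⟩
  · exact Subtype.ext ha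
  · exact Subtype.ext hb
  · exact Subtype.ext hab
  · intro h; exact ha1 (congrArg Subtype.val h)
  · intro h; exact hb1 (congrArg Subtype.val h)
  · intro h; exact hne (congrArg Subtype.val h)

theorem target_dihedral : Target (DihedralGroup 2) where
  fin := inferInstance
  four_le := by rw [DihedralGroup.nat_card]
  sq_of_four := fun _ => by decide
  normal_sub := by
    intro K _ hcyc
    have hdvd : Nat.card K ∣ Nat.card (DihedralGroup 2) := Subgroup.card_subgroup_dvd_card K
    rw [DihedralGroup.nat_card] at hdvd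
    have hle : Nat.card K ≤ 4 := Nat.le_of_dvd (by norm_num) hdvd
    have hpos : 0 < Nat.card K := Nat.card_pos
    have hcases : Nat.card K = 1 ∨ Nat.card K = 2 ∨ Nat.card K = 4 := by
      interval_cases (Nat.card K) <;> simp_all
    rcases hcases with h | h | h
    · left; exact Subgroup.card_eq_one.mp h
    · right; exact ⟨by rw [DihedralGroup.nat_card], h⟩
    · exfalso
      have htop : K = ⊤ := Subgroup.eq_top_of_card_eq K (by rw [h, DihedralGroup.nat_card])
      refine not_cyclic_sylow_of_klein_mem K (DihedralGroup.r 1) (DihedralGroup.sr 0)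
        (by rw [htop]; trivial) (by rw [htop]; trivial) (by decide) (by decide) (by decide)
        (by decide) (by decide) (by decide) hcyc

/-- a fixed `3`-cycle -/
def t3 : Perm (Fin 4) := swap 0 1 * swap 1 2

theorem t3_sign : Perm.sign t3 = 1 := by decide

theorem exists_klein_comm : ∀ g : Perm (Fin 4), g ≠ 1 → ∃ a : Perm (Fin 4), Perm.sign a = 1 ∧
    g * a * g⁻¹ * a⁻¹ ≠ 1 ∧ (g * a * g⁻¹ * a⁻¹) * (g * a * g⁻¹ * a⁻¹) = 1 ∧
    t3 * (g * a * g⁻¹ * a⁻¹) * t3⁻¹ ≠ g * a * g⁻¹ * a⁻¹ ∧
    (g * a * g⁻¹ * a⁻¹) * (t3 * (g * a * g⁻¹ * a⁻¹) * t3⁻¹) =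
      (t3 * (g * a * g⁻¹ * a⁻¹) * t3⁻¹) * (g * a * g⁻¹ * a⁻¹) := by
  decide +kernel

/-- a nontrivial subgroup of `S₄` normalized by `A₄` contains two distinct commuting involutions -/
theorem exists_klein_of_conj_closed (H : Subgroup (Perm (Fin 4)))
    (hconj : ∀ a : Perm (Fin 4), Perm.sign a = 1 → ∀ h ∈ H, a * h * a⁻¹ ∈ H) (hne : H ≠ ⊥) :
    ∃ c d : Perm (Fin 4), c ∈ H ∧ d ∈ H ∧ c * c = 1 ∧ d * d = 1 ∧ c * d = d * c ∧ c ≠ 1 ∧ d ≠ 1 ∧
      c ≠ d := by
  obtain ⟨g, hgH, hg1⟩ : ∃ g ∈ H, g ≠ 1 := by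
    by_contra h
    apply hne
    rw [Subgroup.eq_bot_iff_forall]
    intro x hx
    by_contra hx1
    exact h ⟨x, hx, hx1⟩
  obtain ⟨a, ha, hc1, hc2, hdc, hcd⟩ := exists_klein_comm g hg1
  have hcH : g * a * g⁻¹ * a⁻¹ ∈ H := by
    have h1 : a * g⁻¹ * a⁻¹ ∈ H := hconj a ha _ (H.inv_mem hgH)
    have h2 : g * (a * g⁻¹ * a⁻¹) ∈ H := H.mul_mem hgH h1
    have e : g * a * g⁻¹ * a⁻¹ = g * (a * g⁻¹ * a⁻¹) := by group
    rw [e]; exact h2
  refine ⟨g * a * g⁻¹ * a⁻¹, t3 * (g * a * g⁻¹ * a⁻¹) * t3⁻¹, hcH, hconj t3 t3_sign _ hcH, hc2, ?_,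
    hcd, hc1, ?_, hdc.symm⟩
  · calc t3 * (g * a * g⁻¹ * a⁻¹) * t3⁻¹ * (t3 * (g * a * g⁻¹ * a⁻¹) * t3⁻¹)
        = t3 * ((g * a * g⁻¹ * a⁻¹) * (g * a * g⁻¹ * a⁻¹)) * t3⁻¹ := by group
      _ = 1 := by rw [hc2]; group
  · intro h
    apply hc1
    have : g * a * g⁻¹ * a⁻¹ = t3⁻¹ * (t3 * (g * a * g⁻¹ * a⁻¹) * t3⁻¹) * t3 := by group
    rw [this, h]; group

theorem card_perm_fin (n : ℕ) : Nat.card (Perm (Fin n)) = n.factorial := by
  rw [Nat.card_perm, Nat.card_fin]

theorem card_alt_four : Nat.card (alternatingGroup (Fin 4)) = 12 := by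
  have h := two_mul_nat_card_alternatingGroup (α := Fin 4)
  rw [card_perm_fin] at h
  have : (4 : ℕ).factorial = 24 := by decide
  omega

theorem card_alt_five : Nat.card (alternatingGroup (Fin 5)) = 60 := by
  have h := two_mul_nat_card_alternatingGroup (α := Fin 5)
  rw [card_perm_fin] at h
  have : (5 : ℕ).factorial = 120 := by decide
  omega

theorem target_perm_four : Target (Perm (Fin 4)) where
  fin := inferInstance
  four_le := by rw [card_perm_fin]; decide
  sq_of_four := fun h => by rw [card_perm_fin] at h; exact absurd h (by decide)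
  normal_sub := by
    intro K hK hcyc
    left
    by_contra hne
    obtain ⟨c, d, hc, hd, hc2, hd2, hcd, hc1, hd1, hne'⟩ :=
      exists_klein_of_conj_closed K (fun a _ h hh => hK.conj_mem h hh a) hne
    exact not_cyclic_sylow_of_klein_mem K c d hc hd hc2 hd2 hcd hc1 hd1 hne' hcyc

theorem target_alt_four : Target (alternatingGroup (Fin 4)) where
  fin := inferInstance
  four_le := by rw [card_alt_four]; norm_num
  sq_of_four := fun h => by rw [card_alt_four] at h; exact absurd h (by norm_num)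
  normal_sub := by
    intro K hK hcyc
    left
    by_contra hne
    have hne' : K.map (alternatingGroup (Fin 4)).subtype ≠ ⊥ := by
      intro h
      apply hne
      rw [Subgroup.map_eq_bot_iff, Subgroup.ker_subtype] at h
      exact le_bot_iff.mp h
    obtain ⟨c, d, hc, hd, hc2, hd2, hcd, hc1, hd1, hcd'⟩ :=
      exists_klein_of_conj_closed (K.map (alternatingGroup (Fin 4)).subtype) (by
        intro a ha h hh
        obtain ⟨k, hk, rfl⟩ := Subgroup.mem_map.mp hh
        refine Subgroup.mem_map.mpr ⟨⟨a, Perm.mem_alternatingGroup.mpr ha⟩ * k *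
          ⟨a, Perm.mem_alternatingGroup.mpr ha⟩⁻¹, hK.conj_mem k hk _, ?_⟩
        simp) hne'
    obtain ⟨c', hc'K, rfl⟩ := Subgroup.mem_map.mp hc
    obtain ⟨d', hd'K, rfl⟩ := Subgroup.mem_map.mp hd
    refine not_cyclic_sylow_of_klein_mem K c' d' hc'K hd'K ?_ ?_ ?_ ?_ ?_ ?_ hcyc
    · apply Subtype.ext; simpa using hc2
    · apply Subtype.ext; simpa using hd2
    · apply Subtype.ext; simpa using hcd
    · intro h; apply hc1; rw [h]; rfl
    · intro h; apply hd1; rw [h]; rfl
    · intro h; apply hcd'; rw [h]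

/-- two commuting involutions of `A₅` -/
def k1 : Perm (Fin 5) := swap 0 1 * swap 2 3

/-- two commuting involutions of `A₅` -/
def k2 : Perm (Fin 5) := swap 0 2 * swap 1 3

theorem k1_mem : k1 ∈ alternatingGroup (Fin 5) := by
  rw [Perm.mem_alternatingGroup]; decide

theorem k2_mem : k2 ∈ alternatingGroup (Fin 5) := by
  rw [Perm.mem_alternatingGroup]; decide

theorem k_rel : k1 * k1 = 1 ∧ k2 * k2 = 1 ∧ k1 * k2 = k2 * k1 ∧ k1 ≠ 1 ∧ k2 ≠ 1 ∧ k1 ≠ k2 := by
  decide

theorem target_perm_five : Target (Perm (Fin 5)) where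
  fin := inferInstance
  four_le := by rw [card_perm_fin]; decide
  sq_of_four := fun h => by rw [card_perm_fin] at h; exact absurd h (by decide)
  normal_sub := by
    intro K hK hcyc
    left
    by_contra hne
    have hnt : Nontrivial K := (Subgroup.nontrivial_iff_ne_bot K).mpr hne
    have hle : alternatingGroup (Fin 5) ≤ K :=
      Equiv.Perm.alternatingGroup_le_of_normal (by rw [Nat.card_fin]) hnt
    obtain ⟨h1, h2, h3, h4, h5, h6⟩ := k_rel
    exact not_cyclic_sylow_of_klein_mem K k1 k2 (hle k1_mem) (hle k2_mem) h1 h2 h3 h4 h5 h6 hcyc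

theorem target_alt_five : Target (alternatingGroup (Fin 5)) where
  fin := inferInstance
  four_le := by rw [card_alt_five]; norm_num
  sq_of_four := fun h => by rw [card_alt_five] at h; exact absurd h (by norm_num)
  normal_sub := by
    intro K hK hcyc
    left
    by_contra hne
    have hs : IsSimpleGroup (alternatingGroup (Fin 5)) := alternatingGroup.isSimpleGroup_five
    have htop : K = ⊤ := (hK.eq_bot_or_eq_top).resolve_left hne
    obtain ⟨h1, h2, h3, h4, h5, h6⟩ := k_rel
    refine not_cyclic_sylow_of_klein_mem K ⟨k1, k1_mem⟩ ⟨k2, k2_mem⟩ (by rw [htop]; trivial)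
      (by rw [htop]; trivial) ?_ ?_ ?_ ?_ ?_ ?_ hcyc
    · apply Subtype.ext; simpa using h1
    · apply Subtype.ext; simpa using h2
    · apply Subtype.ext; simpa using h3
    · intro h; exact h4 (congrArg Subtype.val h)
    · intro h; exact h5 (congrArg Subtype.val h)
    · intro h; exact h6 (congrArg Subtype.val h)

end Targets

end Cfsg.Agent.Lib.Helper24.ZassN
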