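import Mathlib
import Cfsg.Agent.Lib.Helper24.ZassN1

/-!
# Helper24 library: the targets `V₄, A₄, S₄, A₅, S₅` of Zassenhaus' theorem, II

* `no_E8`: a group whose Sylow `2`-subgroups are cyclic or generalized quaternion has no
  elementary abelian quotient of order `8`.
* `unique_of_targets`: uniqueness of a normal subgroup with cyclic Sylow subgroups and quotient
  among the targets.
-/

set_option autoImplicit false

namespace Cfsg.Agent.Lib.Helper24.ZassN

section NoE8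

/-- cyclic and generalized quaternion groups have a cyclic subgroup of index at most two -/
theorem exists_zpowers_index_le_two {Q : Type*} [Group Q] [Finite Q]
    (hQ : IsCyclic Q ∨ ∃ n, Nonempty (Q ≃* QuaternionGroup n)) :
    ∃ c : Q, (Subgroup.zpowers c).index = 1 ∨ (Subgroup.zpowers c).index = 2 := by
  rcases hQ with hc | ⟨n, ⟨e⟩⟩
  · obtain ⟨g, hg⟩ := hc.exists_generator
    refine ⟨g, Or.inl ?_⟩
    rw [Subgroup.index_eq_one, eq_top_iff]
    intro x _
    exact hg x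
  · refine ⟨e.symm (QuaternionGroup.a 1), Or.inr ?_⟩
    have hord : orderOf (e.symm (QuaternionGroup.a 1)) = 2 * n := by
      rw [MulEquiv.orderOf_eq, QuaternionGroup.orderOf_a_one]
    have hn : n ≠ 0 := by
      rintro rfl
      have := orderOf_pos (e.symm (QuaternionGroup.a 1))
      omega
    have : NeZero n := ⟨hn⟩
    have hcardQ : Nat.card Q = 4 * n := by
      rw [Nat.card_congr e.toEquiv, Nat.card_eq_fintype_card, QuaternionGroup.card]
    have hmul := Subgroup.card_mul_index (Subgroup.zpowers (e.symm (QuaternionGroup.a 1)))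
    rw [Nat.card_zpowers, hord, hcardQ] at hmul
    have hn0 : 0 < n := Nat.pos_of_ne_zero hn
    have : 2 * n * (Subgroup.zpowers (e.symm (QuaternionGroup.a 1))).index = 2 * n * 2 := by
      rw [hmul]; ring
    exact Nat.eq_of_mul_eq_mul_left (by omega) this

/-- no elementary abelian quotient of order `8` -/
theorem no_E8 {G : Type*} [Group G] [Finite G] (Q : Sylow 2 G)
    (hQ : IsCyclic Q ∨ ∃ n, Nonempty (Q ≃* QuaternionGroup n))
    {E : Type*} [Group E] (hE : Nat.card E = 8) (hexp : ∀ x : E, x * x = 1)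
    (F : G →* E) (hF : Function.Surjective F) : False := by
  have hfinE : Finite E := Nat.finite_of_card_ne_zero (by rw [hE]; norm_num)
  have : Fact (Nat.Prime 2) := ⟨Nat.prime_two⟩
  have hE2 : IsPGroup 2 E := IsPGroup.of_card (n := 3) (by rw [hE]; norm_num)
  have htop : (Q : Subgroup G).map F = ⊤ := by
    have h3 : IsPGroup 2 (⊤ : Subgroup E) := hE2.to_subgroup ⊤
    have := (Q.mapSurjective hF).is_maximal' h3 le_top
    rw [Sylow.coe_mapSurjective] at this
    exact this.symm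
  have hsurj : ∀ y : E, ∃ q : Q, F (q : G) = y := by
    intro y
    have hy : y ∈ (Q : Subgroup G).map F := by rw [htop]; trivial
    obtain ⟨q, hq, rfl⟩ := Subgroup.mem_map.mp hy
    exact ⟨⟨q, hq⟩, rfl⟩
  obtain ⟨c, hc⟩ := exists_zpowers_index_le_two hQ
  -- images of powers of `c`
  have hpow : ∀ q ∈ Subgroup.zpowers c, F ((q : Q) : G) = 1 ∨ F ((q : Q) : G) = F (c : G) := by
    intro q hq
    obtain ⟨k, rfl⟩ := Subgroup.mem_zpowers_iff.mp hq
    have h1 : F (((c ^ k : Q)) : G) = (F (c : G)) ^ k := by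
      rw [Subgroup.coe_zpow, map_zpow]
    rw [h1]
    have h2 : (F (c : G)) ^ (2 : ℤ) = 1 := by
      have := hexp (F (c : G))
      rw [zpow_ofNat, pow_two]; exact this
    rcases Int.emod_two_eq_zero_or_one k with h | h
    · left
      rw [← Int.mul_ediv_add_emod k 2, h, add_zero, zpow_mul, h2, one_zpow]
    · right
      rw [← Int.mul_ediv_add_emod k 2, h, zpow_add, zpow_mul, h2, one_zpow, one_mul, zpow_one]
  -- a coset representative
  obtain ⟨x, hx⟩ : ∃ x : Q, ∀ q : Q, q ∈ Subgroup.zpowers c ∨ x⁻¹ * q ∈ Subgroup.zpowers c := by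
    rcases hc with h1 | h2
    · refine ⟨1, fun q => Or.inl ?_⟩
      rw [Subgroup.index_eq_one] at h1
      rw [h1]; trivial
    · obtain ⟨x, hx⟩ : ∃ x : Q, x ∉ Subgroup.zpowers c := by
        by_contra h
        push Not at h
        have : Subgroup.zpowers c = ⊤ := by
          rw [eq_top_iff]; intro y _; exact h y
        rw [this, Subgroup.index_top] at h2
        omega
      refine ⟨x, fun q => ?_⟩
      by_cases hq : q ∈ Subgroup.zpowers c
      · left; exact hq
      · right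
        rw [Subgroup.mul_mem_iff_of_index_two h2]
        constructor
        · intro h
          exact absurd ((Subgroup.inv_mem_iff _).mp h) hx
        · intro h
          exact absurd h hq
  classical
  have hfin : Fintype E := Fintype.ofFinite E
  have hall : ∀ y : E, y ∈ ({1, F (c : G), F (x : G), F (x : G) * F (c : G)} : Finset E) := by
    intro y
    obtain ⟨q, rfl⟩ := hsurj y
    simp only [Finset.mem_insert, Finset.mem_singleton]
    rcases hx q with hq | hq
    · rcases hpow q hq with h | h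
      · left; exact h
      · right; left; exact h
    · have e : F (q : G) = F (x : G) * F (((x⁻¹ * q : Q)) : G) := by
        rw [← map_mul, ← Subgroup.coe_mul, mul_inv_cancel_left]
      rcases hpow _ hq with h | h
      · right; right; left
        rw [e, h, mul_one]
      · right; right; right
        rw [e, h]
  have hcard : Nat.card E ≤ 4 := by
    rw [Nat.card_eq_fintype_card, ← Finset.card_univ]
    refine le_trans (Finset.card_le_card (fun y _ => hall y)) ?_
    exact Finset.card_le_four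
  omega

end NoE8

section Unique

variable {G : Type*} [Group G] [Finite G]

/-- the image of a subgroup with cyclic Sylow subgroups has cyclic Sylow `2`-subgroups -/
theorem sylow_two_map_cyclic {X : Type*} [Group X] (f : G →* X) (N : Subgroup G)
    (hZ : ∀ (p : ℕ) [Fact p.Prime] (P : Sylow p N), IsCyclic P) (P : Sylow 2 (N.map f)) :
    IsCyclic P := by
  have hZN : IsZGroup N := ⟨fun p hp P => by
    have : Fact p.Prime := ⟨hp⟩
    exact hZ p P⟩
  have hZm : IsZGroup (N.map f) := IsZGroup.of_surjective (f := f.subgroupMap N)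
    (f.subgroupMap_surjective N)
  have : Fact (Nat.Prime 2) := ⟨Nat.prime_two⟩
  infer_instance

theorem map_eq_bot_iff_le_ker {X : Type*} [Group X] (f : G →* X) (N : Subgroup G) :
    N.map f = ⊥ ↔ N ≤ f.ker := by
  rw [Subgroup.map_eq_bot_iff]

theorem mixed_false {Y₁ Y₂ : Type*} [Group Y₁] [Group Y₂] [Finite Y₁] [Finite Y₂]
    (M₁ M₂ : Subgroup G) (g₁ : G →* Y₁) (g₂ : G →* Y₂) (hg₁ : Function.Surjective g₁)
    (hg₂ : Function.Surjective g₂) (hM₁ : g₁.ker = M₁) (hM₂ : g₂.ker = M₂)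
    (h4 : 4 ≤ Nat.card Y₂) (hle : M₁ ≤ M₂)
    (hY₁ : Nat.card Y₁ = 4) (hc2 : Nat.card (M₂.map g₁) = 2) : False := by
  have hi₁ : (M₂.map g₁).index = M₂.index := Subgroup.index_map_eq M₂ hg₁ (by rw [hM₁]; exact hle)
  have hi₂ : M₂.index = Nat.card Y₂ := by
    rw [← hM₂, Subgroup.index_ker, MonoidHom.range_eq_top.mpr hg₂, Subgroup.card_top]
  have hmul := Subgroup.card_mul_index (M₂.map g₁)
  rw [hc2, hi₁, hi₂, hY₁] at hmul
  omega

/-- **uniqueness** for two quotient maps onto targets -/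
theorem unique_of_targets (Q : Sylow 2 G)
    (hQ : IsCyclic Q ∨ ∃ n, Nonempty (Q ≃* QuaternionGroup n))
    {X₁ X₂ : Type*} [Group X₁] [Group X₂] (h₁ : Target X₁) (h₂ : Target X₂)
    (N₁ N₂ : Subgroup G)
    (hZ₁ : ∀ (p : ℕ) [Fact p.Prime] (P : Sylow p N₁), IsCyclic P)
    (hZ₂ : ∀ (p : ℕ) [Fact p.Prime] (P : Sylow p N₂), IsCyclic P)
    (f₁ : G →* X₁) (hs₁ : Function.Surjective f₁) (hk₁ : f₁.ker = N₁)
    (f₂ : G →* X₂) (hs₂ : Function.Surjective f₂) (hk₂ : f₂.ker = N₂) : N₁ = N₂ := by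
  have hfin₁ : Finite X₁ := h₁.fin
  have hfin₂ : Finite X₂ := h₂.fin
  have hN₁ : N₁.Normal := hk₁ ▸ MonoidHom.normal_ker f₁
  have hN₂ : N₂.Normal := hk₂ ▸ MonoidHom.normal_ker f₂
  have hn₂₁ : (N₁.map f₂).Normal := Subgroup.Normal.map hN₁ f₂ hs₂
  have hn₁₂ : (N₂.map f₁).Normal := Subgroup.Normal.map hN₂ f₁ hs₁
  have hc₂₁ := h₂.normal_sub (N₁.map f₂) hn₂₁ (sylow_two_map_cyclic f₂ N₁ hZ₁)
  have hc₁₂ := h₁.normal_sub (N₂.map f₁) hn₁₂ (sylow_two_map_cyclic f₁ N₂ hZ₂)
  have hcardX₁ : N₁.index = Nat.card X₁ := by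
    rw [← hk₁, Subgroup.index_ker, MonoidHom.range_eq_top.mpr hs₁, Subgroup.card_top]
  have hcardX₂ : N₂.index = Nat.card X₂ := by
    rw [← hk₂, Subgroup.index_ker, MonoidHom.range_eq_top.mpr hs₂, Subgroup.card_top]
  rcases hc₂₁ with hb₂₁ | ⟨hX₂, hK₂₁⟩
  · have hle₁₂ : N₁ ≤ N₂ := by
      rw [← hk₂]; exact (map_eq_bot_iff_le_ker f₂ N₁).mp hb₂₁
    rcases hc₁₂ with hb₁₂ | ⟨hX₁, hK₁₂⟩
    · have hle₂₁ : N₂ ≤ N₁ := by
        rw [← hk₁]; exact (map_eq_bot_iff_le_ker f₁ N₂).mp hb₁₂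
      exact le_antisymm hle₁₂ hle₂₁
    · exact (mixed_false N₁ N₂ f₁ f₂ hs₁ hs₂ hk₁ hk₂ h₂.four_le hle₁₂ hX₁ hK₁₂).elim
  · rcases hc₁₂ with hb₁₂ | ⟨hX₁, hK₁₂⟩
    · have hle₂₁ : N₂ ≤ N₁ := by
        rw [← hk₁]; exact (map_eq_bot_iff_le_ker f₁ N₂).mp hb₁₂
      exact (mixed_false N₂ N₁ f₂ f₁ hs₂ hs₁ hk₂ hk₁ h₁.four_le hle₂₁ hX₂ hK₂₁).elim
    · -- both quotients are four-groups: an elementary abelian quotient of order `8`
      exfalso
      have hker : (f₁.prod f₂).ker = N₁ ⊓ N₂ := by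
        rw [MonoidHom.ker_prod, hk₁, hk₂]
      have hcardE : Nat.card (f₁.prod f₂).range = 8 := by
        rw [← Subgroup.index_ker, hker]
        have h1 : (N₁ ⊓ N₂).relIndex N₁ * N₁.index = (N₁ ⊓ N₂).index :=
          Subgroup.relIndex_mul_index inf_le_left
        have h2 : (N₁ ⊓ N₂).relIndex N₁ = N₂.relIndex N₁ := Subgroup.inf_relIndex_left N₁ N₂
        have h3 : N₂.relIndex N₁ = Nat.card (N₁.map f₂) := by
          rw [← hk₂, Subgroup.relIndex_ker]
        rw [← h1, h2, h3, hK₂₁, hcardX₁, hX₁]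
      refine no_E8 Q hQ hcardE ?_ (f₁.prod f₂).rangeRestrict (f₁.prod f₂).rangeRestrict_surjective
      rintro ⟨⟨x₁, x₂⟩, hx⟩
      apply Subtype.ext
      show (x₁, x₂) * (x₁, x₂) = 1
      rw [Prod.mk_mul_mk, h₁.sq_of_four hX₁ x₁, h₂.sq_of_four hX₂ x₂]
      rfl

/-- the conclusion of S4291 about the quotient by `N` -/
def InList (N : Subgroup G) : Prop :=
  N = ⊤ ∨
    (∃ f : G →* DihedralGroup 2, Function.Surjective f ∧ f.ker = N) ∨
    (∃ f : G →* alternatingGroup (Fin 4), Function.Surjective f ∧ f.ker = N) ∨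
    (∃ f : G →* Equiv.Perm (Fin 4), Function.Surjective f ∧ f.ker = N) ∨
    (∃ f : G →* alternatingGroup (Fin 5), Function.Surjective f ∧ f.ker = N) ∨
    (∃ f : G →* Equiv.Perm (Fin 5), Function.Surjective f ∧ f.ker = N)

theorem InList.exists_target {N : Subgroup G} (h : InList N) :
    N = ⊤ ∨ ∃ (X : Type) (_ : Group X) (_ : Target X) (f : G →* X),
      Function.Surjective f ∧ f.ker = N := by
  rcases h with h | ⟨f, hf, hk⟩ | ⟨f, hf, hk⟩ | ⟨f, hf, hk⟩ | ⟨f, hf, hk⟩ | ⟨f, hf, hk⟩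
  · exact Or.inl h
  · exact Or.inr ⟨_, _, target_dihedral, f, hf, hk⟩
  · exact Or.inr ⟨_, _, target_alt_four, f, hf, hk⟩
  · exact Or.inr ⟨_, _, target_perm_four, f, hf, hk⟩
  · exact Or.inr ⟨_, _, target_alt_five, f, hf, hk⟩
  · exact Or.inr ⟨_, _, target_perm_five, f, hf, hk⟩

/-- a group with cyclic Sylow subgroups has no quotient among the targets -/
theorem top_of_target (N₁ N₂ : Subgroup G) (h1 : N₁ = ⊤)
    (hZ₁ : ∀ (p : ℕ) [Fact p.Prime] (P : Sylow p N₁), IsCyclic P)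
    {X : Type*} [Group X] (hX : Target X) (f : G →* X) (hs : Function.Surjective f)
    (hk : f.ker = N₂) : False := by
  have hfin : Finite X := hX.fin
  have hn : (N₁.map f).Normal := by
    rw [h1, ← MonoidHom.range_eq_map, MonoidHom.range_eq_top.mpr hs]
    infer_instance
  have hc := hX.normal_sub (N₁.map f) hn (sylow_two_map_cyclic f N₁ hZ₁)
  have htop : N₁.map f = ⊤ := by
    rw [h1, ← MonoidHom.range_eq_map, MonoidHom.range_eq_top.mpr hs]
  have h4 := hX.four_le
  rcases hc with h | ⟨_, h⟩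
  · rw [htop] at h
    have : Nat.card (⊤ : Subgroup X) = Nat.card (⊥ : Subgroup X) := by rw [h]
    rw [Subgroup.card_top, Subgroup.card_bot] at this
    omega
  · rw [htop, Subgroup.card_top] at h
    omega

/-- **uniqueness of `N`** -/
theorem unique_of_inList (Q : Sylow 2 G)
    (hQ : IsCyclic Q ∨ ∃ n, Nonempty (Q ≃* QuaternionGroup n)) (N₁ N₂ : Subgroup G)
    (hZ₁ : ∀ (p : ℕ) [Fact p.Prime] (P : Sylow p N₁), IsCyclic P)
    (hZ₂ : ∀ (p : ℕ) [Fact p.Prime] (P : Sylow p N₂), IsCyclic P)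
    (hL₁ : InList N₁) (hL₂ : InList N₂) : N₁ = N₂ := by
  rcases hL₁.exists_target with h1 | ⟨X₁, _, hX₁, f₁, hs₁, hk₁⟩
  · rcases hL₂.exists_target with h2 | ⟨X₂, _, hX₂, f₂, hs₂, hk₂⟩
    · rw [h1, h2]
    · exact (top_of_target N₁ N₂ h1 hZ₁ hX₂ f₂ hs₂ hk₂).elim
  · rcases hL₂.exists_target with h2 | ⟨X₂, _, hX₂, f₂, hs₂, hk₂⟩
    · exact (top_of_target N₂ N₁ h2 hZ₂ hX₁ f₁ hs₁ hk₁).elim
    · exact unique_of_targets Q hQ hX₁ hX₂ N₁ N₂ hZ₁ hZ₂ f₁ hs₁ hk₁ f₂ hs₂ hk₂

end Unique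

end Cfsg.Agent.Lib.Helper24.ZassN
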