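import Mathlib
import Cfsg.Agent.Lib.Helper24.ZFrobMain
import Cfsg.Agent.Lib.Helper24.ZassN2

/-!
# Helper24 library: Zassenhaus' normal subgroup `N` for solvable groups with `PQ`

* `quatV4`: the homomorphism of a generalized quaternion group onto the four-group.
* `exists_N_solvable`: existence of `N` in the solvable case of S4291.
-/

set_option autoImplicit false

namespace Cfsg.Agent.Lib.Helper24.ZassN

open Cfsg Cfsg.Agent.Lib Cfsg.Agent.Lib.Helper24.ZFrob
open Cfsg.Agent.Lib.Helper10 (UniqueOrderP)

section QuatV4

/-- reduction modulo two on `ZMod (2 * m)` -/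
def red2 (m : ℕ) : ZMod (2 * m) →+* ZMod 2 := ZMod.castHom (Dvd.intro m rfl) (ZMod 2)

theorem red2_m (m : ℕ) (hm : Even m) : red2 m (m : ZMod (2 * m)) = 0 := by
  rw [map_natCast]
  obtain ⟨k, rfl⟩ := hm
  rw [← two_mul, Nat.cast_mul]
  have : ((2 : ℕ) : ZMod 2) = 0 := by decide
  rw [this, zero_mul]

/-- the homomorphism of a generalized quaternion group onto the four-group -/
def quatV4 (m : ℕ) (hm : Even m) : QuaternionGroup m →* DihedralGroup 2 where
  toFun g := match g with
    | .a i => DihedralGroup.r (red2 m i)
    | .xa i => DihedralGroup.sr (red2 m i)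
  map_one' := by
    show DihedralGroup.r (red2 m 0) = 1
    rw [map_zero]; rfl
  map_mul' := by
    rintro (i | i) (j | j)
    · simp [QuaternionGroup.a_mul_a, DihedralGroup.r_mul_r]
    · simp [QuaternionGroup.a_mul_xa, DihedralGroup.r_mul_sr]
    · simp [QuaternionGroup.xa_mul_a, DihedralGroup.sr_mul_r]
    · simp only [QuaternionGroup.xa_mul_xa, DihedralGroup.sr_mul_sr]
      rw [map_sub, map_add, red2_m m hm, zero_add]

theorem quatV4_a (m : ℕ) (hm : Even m) (i : ZMod (2 * m)) :
    quatV4 m hm (QuaternionGroup.a i) = DihedralGroup.r (red2 m i) := rfl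

theorem quatV4_xa (m : ℕ) (hm : Even m) (i : ZMod (2 * m)) :
    quatV4 m hm (QuaternionGroup.xa i) = DihedralGroup.sr (red2 m i) := rfl

theorem quatV4_surjective (m : ℕ) (hm : Even m) : Function.Surjective (quatV4 m hm) := by
  have hcast : ∀ j : ZMod 2, ∃ i : ZMod (2 * m), red2 m i = j := by
    intro j
    exact ZMod.castHom_surjective (Dvd.intro m rfl) j
  rintro (j | j)
  · obtain ⟨i, rfl⟩ := hcast j
    exact ⟨QuaternionGroup.a i, rfl⟩
  · obtain ⟨i, rfl⟩ := hcast j
    exact ⟨QuaternionGroup.xa i, rfl⟩

theorem quatV4_ker_comm (m : ℕ) (hm : Even m) {g h : QuaternionGroup m}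
    (hg : quatV4 m hm g = 1) (hh : quatV4 m hm h = 1) : g * h = h * g := by
  have key : ∀ x : QuaternionGroup m, quatV4 m hm x = 1 → ∃ i, x = QuaternionGroup.a i := by
    intro x hx
    cases x with
    | a i => exact ⟨i, rfl⟩
    | xa i =>
      exfalso
      rw [quatV4_xa] at hx
      rw [DihedralGroup.one_def] at hx
      cases hx
  obtain ⟨i, rfl⟩ := key g hg
  obtain ⟨j, rfl⟩ := key h hh
  rw [QuaternionGroup.a_mul_a, QuaternionGroup.a_mul_a, add_comm]

end QuatV4

section Solvable

variable {G : Type*} [Group G] [Finite G]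

/-- the kernel of a homomorphism factoring through `G / O(G)` with abelian kernel there has
cyclic Sylow subgroups -/
theorem sylow_cyclic_of_ker_comp (hpq : PQ G) {X : Type*} [Group X]
    (ψ : (G ⧸ pPrimeCore 2 G) →* X) (hψ : ∀ a ∈ ψ.ker, ∀ b ∈ ψ.ker, a * b = b * a)
    (p : ℕ) [Fact p.Prime]
    (P : Sylow p (ψ.comp (QuotientGroup.mk' (pPrimeCore 2 G))).ker) : IsCyclic P := by
  have hOn : (pPrimeCore 2 G).Normal := Helper1.pPrimeCore_normal 2
  have hOodd : (Nat.card (pPrimeCore 2 G)).Coprime 2 := Helper1.pPrimeCore_coprime 2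
  refine sylow_isCyclic_of_pq hpq _ (fun P hP hPk a ha b hb => ?_) p P
  have h1 := hψ (QuotientGroup.mk' (pPrimeCore 2 G) a) (hPk ha)
    (QuotientGroup.mk' (pPrimeCore 2 G) b) (hPk hb)
  rw [← map_mul, ← map_mul, QuotientGroup.mk'_eq_mk'] at h1
  obtain ⟨z, hz, hzab⟩ := h1
  have hzP : z ∈ P := by
    have : z = (a * b)⁻¹ * (b * a) := by rw [← hzab]; group
    rw [this]
    exact P.mul_mem (P.inv_mem (P.mul_mem ha hb)) (P.mul_mem hb ha)
  have hz1 := eq_one_of_mem_two_group_of_mem_odd hP hOodd hzP hz
  rw [hz1, mul_one] at hzab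
  exact hzab

theorem center_q8 : ∀ g : QuaternionGroup 2, (∀ h : QuaternionGroup 2, g * h = h * g) →
    g = 1 ∨ g = QuaternionGroup.a 2 := by
  decide

/-- the dichotomy for `G / O(G)`: a `2`-group with a unique involution, or a homomorphism to `S₄`
with abelian kernel of order at most two -/
theorem quot_dichotomy (hsol : Group.IsSolvable G) (hpq : PQ G) :
    (IsPGroup 2 (G ⧸ pPrimeCore 2 G) ∧ UniqueOrderP 2 (G ⧸ pPrimeCore 2 G)) ∨
    ∃ ψ : (G ⧸ pPrimeCore 2 G) →* Equiv.Perm (Fin 4),
      (∀ a ∈ ψ.ker, ∀ b ∈ ψ.ker, a * b = b * a) ∧ Nat.card ψ.ker ≤ 2 ∧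
        8 ∣ Nat.card (G ⧸ pPrimeCore 2 G) := by
  have hf2 : Fact (Nat.Prime 2) := ⟨Nat.prime_two⟩
  set O : Subgroup G := pPrimeCore 2 G with hO
  have hOn : O.Normal := Helper1.pPrimeCore_normal 2
  have hOodd : (Nat.card O).Coprime 2 := Helper1.pPrimeCore_coprime 2
  set π : G →* G ⧸ O := QuotientGroup.mk' O with hπ
  have hπs : Function.Surjective π := QuotientGroup.mk'_surjective O
  have hbot : pPrimeCore 2 (G ⧸ O) = ⊥ := Helper10.pPrimeCore_quotient_eq_bot 2
  have hsolq : Group.IsSolvable (G ⧸ O) := solvable_of_surjective hπs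
  set T : Subgroup (G ⧸ O) := pCore 2 (G ⧸ O) with hT
  have hTn : T.Normal := Helper1.pCore_normal 2
  have hT2 : IsPGroup 2 T := Helper1.pCore_isPGroup 2
  have hcent : Subgroup.centralizer (T : Set (G ⧸ O)) ≤ T := Helper1.centralizer_pCore_le 2 hbot
  -- a Sylow 2-subgroup and its image
  let S : Sylow 2 G := default
  have hSu : UniqueOrderP 2 S := (hpq.subgroup S).uniqueOrderP S.2
  let φ : S →* ↥((S : Subgroup G).map π) := π.subgroupMap S
  have hφs : Function.Surjective φ := π.subgroupMap_surjective S
  have hφi : Function.Injective φ := by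
    rw [injective_iff_map_eq_one]
    intro s hs
    have h1 : π (s : G) = 1 := congrArg Subtype.val hs
    have h2 : (s : G) ∈ O := (QuotientGroup.eq_one_iff _).mp h1
    exact Subtype.ext (eq_one_of_mem_two_group_of_mem_odd S.2 hOodd s.2 h2)
  let e : S ≃* ↥((S : Subgroup G).map π) := MulEquiv.ofBijective φ ⟨hφi, hφs⟩
  have hSbar : UniqueOrderP 2 ↥((S : Subgroup G).map π) :=
    uniqueOrderP_of_injective hSu e.symm.toMonoidHom e.symm.injective
  have hTS : T ≤ (S : Subgroup G).map π := by
    have := Helper1.pCore_le_sylow (S.mapSurjective hπs)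
    rwa [Sylow.coe_mapSurjective] at this
  have hTu : UniqueOrderP 2 T :=
    uniqueOrderP_of_injective hSbar (Subgroup.inclusion hTS) (Subgroup.inclusion_injective hTS)
  -- the `2`-group case
  have htwo : IsPGroup 2 (G ⧸ O) → IsPGroup 2 (G ⧸ O) ∧ UniqueOrderP 2 (G ⧸ O) := by
    intro h2
    refine ⟨h2, ?_⟩
    have htop : (S : Subgroup G).map π = ⊤ := by
      have h3 : IsPGroup 2 (⊤ : Subgroup (G ⧸ O)) := h2.to_subgroup ⊤
      have := (S.mapSurjective hπs).is_maximal' h3 le_top
      exact this.symm
    let e2 : (G ⧸ O) ≃* ↥((S : Subgroup G).map π) :=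
      (Subgroup.topEquiv.symm).trans (MulEquiv.subgroupCongr htop.symm)
    exact uniqueOrderP_of_injective hSbar e2.toMonoidHom e2.injective
  rcases Helper10.isCyclic_or_quaternion_of_uniqueOrderP hT2 hTu with hTc | ⟨-, j, ⟨eT⟩⟩
  · exact Or.inl (htwo (isPGroup_two_of_mulAut T hT2 hcent (isPGroup_two_mulAut_of_isCyclic hT2)))
  · rcases Nat.lt_or_ge j 1 with hj | hj
    · -- `j = 0`: cyclic of order four
      have hj0 : j = 0 := by omega
      subst hj0
      have hcyc : IsCyclic (QuaternionGroup (2 ^ 0)) := by
        rw [pow_zero]; exact QuaternionGroup.quaternionGroup_one_isCyclic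
      have hTc : IsCyclic T := isCyclic_of_surjective eT.symm eT.symm.surjective
      exact Or.inl (htwo (isPGroup_two_of_mulAut T hT2 hcent
        (isPGroup_two_mulAut_of_isCyclic hT2)))
    · rcases Nat.lt_or_ge j 2 with hj2 | hj2
      · -- `j = 1`: `T ≅ Q₈`
        right
        have hj1 : j = 1 := by omega
        subst hj1
        rw [pow_one] at eT
        obtain ⟨eA⟩ := Helper16.mulAut_q8_equiv_perm
        have hker : ∀ a : G ⧸ O, a ∈ (eA.toMonoidHom.comp
            ((MulAut.congr eT).toMonoidHom.comp (MulAut.conjNormal (H := T)))).ker →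
            a ∈ Subgroup.centralizer (T : Set (G ⧸ O)) := by
          intro a ha
          have h1 : eA ((MulAut.congr eT) (MulAut.conjNormal a)) = 1 := ha
          have h2 : (MulAut.conjNormal a : MulAut T) = 1 := by
            have h3 : (MulAut.congr eT) (MulAut.conjNormal a) = 1 := by
              apply eA.injective; rw [h1, map_one]
            apply (MulAut.congr eT).injective; rw [h3, map_one]
          rw [Subgroup.mem_centralizer_iff]
          intro t ht
          have h4 : MulAut.conjNormal a (⟨t, ht⟩ : T) = ⟨t, ht⟩ := by rw [h2]; rfl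
          have h5 := congrArg Subtype.val h4
          rw [MulAut.conjNormal_apply] at h5
          simp only at h5
          calc t * a = (a * t * a⁻¹) * a := by rw [h5]
            _ = a * t := by group
        refine ⟨eA.toMonoidHom.comp ((MulAut.congr eT).toMonoidHom.comp MulAut.conjNormal),
          ?_, ?_, ?_⟩
        · intro a ha b hb
          have hac := hker a ha
          have hbT : b ∈ T := hcent (hker b hb)
          exact ((Subgroup.mem_centralizer_iff.mp hac) b hbT).symm
        · -- the kernel has at most two elements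
          have hsub : ∀ a ∈ (eA.toMonoidHom.comp
              ((MulAut.congr eT).toMonoidHom.comp (MulAut.conjNormal (H := T)))).ker,
              a = 1 ∨ a = ((eT.symm (QuaternionGroup.a 2) : T) : G ⧸ O) := by
            intro a ha
            have hac := hker a ha
            have haT : a ∈ T := hcent hac
            have hcen : ∀ h : QuaternionGroup 2, eT ⟨a, haT⟩ * h = h * eT ⟨a, haT⟩ := by
              intro h
              have h1 : (a : G ⧸ O) * ((eT.symm h : T) : G ⧸ O) =
                  ((eT.symm h : T) : G ⧸ O) * a :=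
                ((Subgroup.mem_centralizer_iff.mp hac) _ (eT.symm h).2).symm
              have h2 : (⟨a, haT⟩ : T) * eT.symm h = eT.symm h * ⟨a, haT⟩ := Subtype.ext h1
              have h3 := congrArg eT h2
              rw [map_mul, map_mul, MulEquiv.apply_symm_apply] at h3
              exact h3
            rcases center_q8 _ hcen with h | h
            · left
              have : (⟨a, haT⟩ : T) = 1 := by
                apply eT.injective; rw [h, map_one]
              exact congrArg Subtype.val this
            · right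
              have : (⟨a, haT⟩ : T) = eT.symm (QuaternionGroup.a 2) := by
                apply eT.injective; rw [h, MulEquiv.apply_symm_apply]
              exact congrArg Subtype.val this
          rw [← SetLike.coe_sort_coe, Nat.card_coe_set_eq]
          refine le_trans (Set.ncard_le_ncard (t := {1, ((eT.symm (QuaternionGroup.a 2) : T) :
            G ⧸ O)}) (fun a ha => ?_) (Set.toFinite _)) ?_
          · rcases hsub a ha with h | h
            · left; exact h
            · right; exact h
          · exact (Set.ncard_insert_le _ _).trans (by rw [Set.ncard_singleton])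
        · have hcardT : Nat.card T = 8 := by
            rw [Nat.card_congr eT.toEquiv, Nat.card_eq_fintype_card, QuaternionGroup.card]
          rw [← hcardT]
          exact Subgroup.card_subgroup_dvd_card T
      · -- `j ≥ 2`
        have hA : IsPGroup 2 (MulAut (QuaternionGroup (2 ^ j))) := by
          have h0 := Cfsg.Agent.H26.isPGroup_two_mulAut_quaternion (j + 2) (by omega)
          rwa [Nat.add_sub_cancel] at h0
        have hAT : IsPGroup 2 (MulAut T) := hA.of_equiv (MulAut.congr eT).symm
        exact Or.inl (htwo (isPGroup_two_of_mulAut T hT2 hcent hAT))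

/-- a homomorphism from `G / O(G)` with abelian kernel gives a normal subgroup with cyclic Sylow
subgroups -/
theorem exists_of_hom (hpq : PQ G) {X : Type*} [Group X]
    (ψ : (G ⧸ pPrimeCore 2 G) →* X) (hψ : ∀ a ∈ ψ.ker, ∀ b ∈ ψ.ker, a * b = b * a)
    (hlist : InList (ψ.comp (QuotientGroup.mk' (pPrimeCore 2 G))).ker) :
    ∃ N : Subgroup G, N.Normal ∧ (∀ (p : ℕ) [Fact p.Prime] (P : Sylow p N), IsCyclic P) ∧
      InList N :=
  ⟨_, MonoidHom.normal_ker _, fun p _ P => sylow_cyclic_of_ker_comp hpq ψ hψ p P, hlist⟩

theorem not_two_pow_of_not_isPGroup {X : Type*} [Group X] (h : ¬ IsPGroup 2 X) (k : ℕ) :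
    Nat.card X ≠ 2 ^ k := fun hk => h (IsPGroup.of_card hk)

theorem arith_range (κ w : ℕ) (hκ : 0 < κ) (hκ2 : κ ≤ 2) (hw : w ∣ 24) (h8 : 8 ∣ κ * w)
    (h3 : κ * w ≠ 8) (h4 : κ * w ≠ 16) : w = 12 ∨ w = 24 := by
  have hle : w ≤ 24 := Nat.le_of_dvd (by norm_num) hw
  have hpos : 0 < w := Nat.pos_of_dvd_of_pos hw (by norm_num)
  interval_cases κ <;> interval_cases w <;> omega

/-- **existence of `N`**, solvable case -/
theorem exists_N_solvable (hsol : Group.IsSolvable G) (hpq : PQ G) :
    ∃ N : Subgroup G, N.Normal ∧ (∀ (p : ℕ) [Fact p.Prime] (P : Sylow p N), IsCyclic P) ∧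
      InList N := by
  have hOn : (pPrimeCore 2 G).Normal := Helper1.pPrimeCore_normal 2
  have hf2 : Fact (Nat.Prime 2) := ⟨Nat.prime_two⟩
  have hmk : Function.Surjective (QuotientGroup.mk' (pPrimeCore 2 G)) :=
    QuotientGroup.mk'_surjective _
  -- the commutative case
  have hcomm : (∀ a b : G ⧸ pPrimeCore 2 G, a * b = b * a) →
      ∃ N : Subgroup G, N.Normal ∧ (∀ (p : ℕ) [Fact p.Prime] (P : Sylow p N), IsCyclic P) ∧
        InList N := by
    intro hc
    refine exists_of_hom hpq (1 : (G ⧸ pPrimeCore 2 G) →* DihedralGroup 2)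
      (fun a _ b _ => hc a b) (Or.inl ?_)
    rw [eq_top_iff]
    intro x _
    rw [MonoidHom.mem_ker]
    rfl
  rcases quot_dichotomy hsol hpq with ⟨h2, hu⟩ | ⟨ψ, hψ, hk2, h8⟩
  · rcases Helper10.isCyclic_or_quaternion_of_uniqueOrderP h2 hu with hc | ⟨-, n, ⟨e⟩⟩
    · exact hcomm (fun a b => (IsCyclic.commGroup (α := G ⧸ pPrimeCore 2 G)).mul_comm a b)
    · rcases Nat.eq_zero_or_pos n with rfl | hn
      · have hcyc : IsCyclic (QuaternionGroup (2 ^ 0)) := by
          rw [pow_zero]; exact QuaternionGroup.quaternionGroup_one_isCyclic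
        have hc : IsCyclic (G ⧸ pPrimeCore 2 G) :=
          isCyclic_of_surjective e.symm e.symm.surjective
        exact hcomm (fun a b => (IsCyclic.commGroup (α := G ⧸ pPrimeCore 2 G)).mul_comm a b)
      · have hev : Even (2 ^ n) := (Nat.even_pow' (by omega)).mpr even_two
        refine exists_of_hom hpq ((quatV4 (2 ^ n) hev).comp e.toMonoidHom) ?_ ?_
        · intro a ha b hb
          have ha' : quatV4 (2 ^ n) hev (e a) = 1 := ha
          have hb' : quatV4 (2 ^ n) hev (e b) = 1 := hb
          have := quatV4_ker_comm (2 ^ n) hev ha' hb'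
          apply e.injective
          rw [map_mul, map_mul, this]
        · right; left
          refine ⟨_, ?_, rfl⟩
          exact ((quatV4_surjective (2 ^ n) hev).comp e.surjective).comp hmk
  · by_cases h2 : IsPGroup 2 (G ⧸ pPrimeCore 2 G)
    · -- still a `2`-group: use the first case through the unique involution
      -- (re-run the dichotomy argument with the `2`-group information)
      have hu : UniqueOrderP 2 (G ⧸ pPrimeCore 2 G) := by
        -- `G / O(G)` is isomorphic to a Sylow `2`-subgroup of `G`
        have hOodd : (Nat.card (pPrimeCore 2 G)).Coprime 2 := Helper1.pPrimeCore_coprime 2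
        let S : Sylow 2 G := default
        have hSu : UniqueOrderP 2 S := (hpq.subgroup S).uniqueOrderP S.2
        let φ : S →* ↥((S : Subgroup G).map (QuotientGroup.mk' (pPrimeCore 2 G))) :=
          (QuotientGroup.mk' (pPrimeCore 2 G)).subgroupMap S
        have hφs : Function.Surjective φ :=
          (QuotientGroup.mk' (pPrimeCore 2 G)).subgroupMap_surjective S
        have hφi : Function.Injective φ := by
          rw [injective_iff_map_eq_one]
          intro s hs
          have h1 : QuotientGroup.mk' (pPrimeCore 2 G) (s : G) = 1 := congrArg Subtype.val hs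
          have h2 : (s : G) ∈ pPrimeCore 2 G := (QuotientGroup.eq_one_iff _).mp h1
          exact Subtype.ext (eq_one_of_mem_two_group_of_mem_odd S.2 hOodd s.2 h2)
        let e : S ≃* ↥((S : Subgroup G).map (QuotientGroup.mk' (pPrimeCore 2 G))) :=
          MulEquiv.ofBijective φ ⟨hφi, hφs⟩
        have hSbar : UniqueOrderP 2
            ↥((S : Subgroup G).map (QuotientGroup.mk' (pPrimeCore 2 G))) :=
          uniqueOrderP_of_injective hSu e.symm.toMonoidHom e.symm.injective
        have htop : (S : Subgroup G).map (QuotientGroup.mk' (pPrimeCore 2 G)) = ⊤ := by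
          have h3 : IsPGroup 2 (⊤ : Subgroup (G ⧸ pPrimeCore 2 G)) := h2.to_subgroup ⊤
          have := (S.mapSurjective hmk).is_maximal' h3 le_top
          exact this.symm
        let e2 : (G ⧸ pPrimeCore 2 G) ≃*
            ↥((S : Subgroup G).map (QuotientGroup.mk' (pPrimeCore 2 G))) :=
          (Subgroup.topEquiv.symm).trans (MulEquiv.subgroupCongr htop.symm)
        exact uniqueOrderP_of_injective hSbar e2.toMonoidHom e2.injective
      rcases Helper10.isCyclic_or_quaternion_of_uniqueOrderP h2 hu with hc | ⟨-, n, ⟨e⟩⟩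
      · exact hcomm (fun a b => (IsCyclic.commGroup (α := G ⧸ pPrimeCore 2 G)).mul_comm a b)
      · rcases Nat.eq_zero_or_pos n with rfl | hn
        · have hcyc : IsCyclic (QuaternionGroup (2 ^ 0)) := by
            rw [pow_zero]; exact QuaternionGroup.quaternionGroup_one_isCyclic
          have hc : IsCyclic (G ⧸ pPrimeCore 2 G) :=
            isCyclic_of_surjective e.symm e.symm.surjective
          exact hcomm (fun a b => (IsCyclic.commGroup (α := G ⧸ pPrimeCore 2 G)).mul_comm a b)
        · have hev : Even (2 ^ n) := (Nat.even_pow' (by omega)).mpr even_two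
          refine exists_of_hom hpq ((quatV4 (2 ^ n) hev).comp e.toMonoidHom) ?_ ?_
          · intro a ha b hb
            have ha' : quatV4 (2 ^ n) hev (e a) = 1 := ha
            have hb' : quatV4 (2 ^ n) hev (e b) = 1 := hb
            have := quatV4_ker_comm (2 ^ n) hev ha' hb'
            apply e.injective
            rw [map_mul, map_mul, this]
          · right; left
            refine ⟨_, ?_, rfl⟩
            exact ((quatV4_surjective (2 ^ n) hev).comp e.surjective).comp hmk
    · -- the image in `S₄` has order `12` or `24`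
      have hnot := not_two_pow_of_not_isPGroup h2
      have hmul := Subgroup.card_mul_index ψ.ker
      rw [Subgroup.index_ker] at hmul
      have hdvd : Nat.card ψ.range ∣ 24 := by
        have := Subgroup.card_subgroup_dvd_card ψ.range
        rwa [card_perm_fin, show (4 : ℕ).factorial = 24 by decide] at this
      have hkpos : 0 < Nat.card ψ.ker := Nat.card_pos
      have hcases : Nat.card ψ.range = 12 ∨ Nat.card ψ.range = 24 := by
        have h3 := hnot 3
        have h4 := hnot 4
        rw [← hmul] at h8 h3 h4
        exact arith_range _ _ hkpos hk2 hdvd h8 (by simpa using h3) (by simpa using h4)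
      rcases hcases with h12 | h24
      · -- `A₄`
        have hidx : ψ.range.index = 2 := by
          have := Subgroup.card_mul_index ψ.range
          rw [h12, card_perm_fin, show (4 : ℕ).factorial = 24 by decide] at this
          omega
        have hrange : ψ.range = alternatingGroup (Fin 4) :=
          Equiv.Perm.eq_alternatingGroup_of_index_eq_two hidx
        have hmem : ∀ g : G, (ψ.comp (QuotientGroup.mk' (pPrimeCore 2 G))) g ∈
            alternatingGroup (Fin 4) := by
          intro g
          rw [← hrange]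
          exact ⟨_, rfl⟩
        refine exists_of_hom hpq ψ hψ ?_
        right; right; left
        refine ⟨(ψ.comp (QuotientGroup.mk' (pPrimeCore 2 G))).codRestrict
          (alternatingGroup (Fin 4)) hmem, ?_, ?_⟩
        · rintro ⟨y, hy⟩
          rw [← hrange] at hy
          obtain ⟨x, rfl⟩ := hy
          obtain ⟨g, rfl⟩ := hmk x
          exact ⟨g, rfl⟩
        · ext g
          simp only [MonoidHom.mem_ker]
          constructor
          · intro h
            exact congrArg Subtype.val h
          · intro h
            exact Subtype.ext h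
      · -- `S₄`
        have htop : ψ.range = ⊤ :=
          Subgroup.eq_top_of_card_eq _ (by
            rw [h24, card_perm_fin]; decide)
        refine exists_of_hom hpq ψ hψ ?_
        right; right; right; left
        refine ⟨_, ?_, rfl⟩
        exact (MonoidHom.range_eq_top.mp htop).comp hmk

end Solvable

end Cfsg.Agent.Lib.Helper24.ZassN
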