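import Mathlib
import Cfsg.Agent.Lib.Helper3.CardSL
import Cfsg.Agent.Lib.Helper24.ZFrobMain
import Cfsg.Agent.Lib.Helper24.ZassN2

/-!
# Helper24 library: Zassenhaus' normal subgroup `N`, nonsolvable case, I

The data `G₀ = S × M ⊴ G` of index at most two with `S ≅ SL(2,5)` and `|M|` prime to `30`
(the conclusion of S3359), and the normal subgroup `N = ⟨z⟩ × M`.
-/

set_option autoImplicit false

namespace Cfsg.Agent.Lib.Helper24.ZassN

open Cfsg Cfsg.Agent.Lib Cfsg.Agent.Lib.Helper24.ZFrob
open Cfsg.Agent.Lib.Helper10 (UniqueOrderP)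
open Matrix

/-- `SL(2,5)` -/
abbrev SL25 := Matrix.SpecialLinearGroup (Fin 2) (ZMod 5)

section Mat

/-- an element of order four -/
def matU : SL25 := ⟨!![0, 1; -1, 0], by decide⟩

/-- an element of order four -/
def matV : SL25 := ⟨!![2, 0; 0, 3], by decide⟩

theorem matU_sq : matU * matU = -1 := by decide
theorem matV_sq : matV * matV = -1 := by decide
theorem matU_matV : matU * matV ≠ matV * matU := by decide
theorem neg_one_mul_neg_one : (-1 : SL25) * (-1) = 1 := by decide
theorem neg_one_ne_one : (-1 : SL25) ≠ 1 := by decide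

theorem center_SL25 : ∀ A : SL25, A * matU = matU * A → A * matV = matV * A →
    A = 1 ∨ A = -1 := by
  decide +kernel

theorem fact_prime_five : Fact (Nat.Prime 5) := ⟨by norm_num⟩

theorem card_SL25 : Nat.card SL25 = 120 := by
  haveI := fact_prime_five
  have h := Cfsg.Agent.Lib.Helper3.CardSL.card_SL2 (F := ZMod 5)
  rw [ZMod.card] at h
  exact h

theorem commutator_SL25 : commutator SL25 = ⊤ := by
  have h2 : (2 : ZMod 5) ≠ 0 := by decide
  have h4 : (2 : ZMod 5) ^ 2 ≠ 1 := by decide
  haveI := fact_prime_five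
  exact Matrix.SL2.commutator_eq_top (F := ZMod 5) (a := (2 : ZMod 5)) h2 h4

end Mat

section Chain

variable {G : Type*} [Group G]

theorem comm_of_mem_closure_pair {d w : G} (hdw : d * w = w * d) :
    ∀ x ∈ Subgroup.closure ({d, w} : Set G), ∀ y ∈ Subgroup.closure ({d, w} : Set G),
      x * y = y * x := by
  have h1 : ∀ x ∈ Subgroup.closure ({d, w} : Set G), x * d = d * x ∧ x * w = w * x := by
    intro x hx
    induction hx using Subgroup.closure_induction with
    | mem y hy =>
      rcases hy with rfl | rfl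
      · exact ⟨rfl, hdw⟩
      · exact ⟨hdw.symm, rfl⟩
    | one => simp
    | mul y z _ _ hy hz =>
      obtain ⟨hyd, hyw⟩ := hy
      obtain ⟨hzd, hzw⟩ := hz
      exact ⟨by rw [mul_assoc, hzd, ← mul_assoc, hyd, mul_assoc],
        by rw [mul_assoc, hzw, ← mul_assoc, hyw, mul_assoc]⟩
    | inv y _ hy =>
      obtain ⟨hyd, hyw⟩ := hy
      constructor
      · calc y⁻¹ * d = y⁻¹ * (d * y) * y⁻¹ := by group
          _ = y⁻¹ * (y * d) * y⁻¹ := by rw [hyd]
          _ = d * y⁻¹ := by group
      · calc y⁻¹ * w = y⁻¹ * (w * y) * y⁻¹ := by group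
          _ = y⁻¹ * (y * w) * y⁻¹ := by rw [hyw]
          _ = w * y⁻¹ := by group
  intro x hx y hy
  induction hy using Subgroup.closure_induction with
  | mem v hv =>
    rcases hv with rfl | rfl
    · exact (h1 x hx).1
    · exact (h1 x hx).2
  | one => simp
  | mul u v _ _ hu hv => rw [← mul_assoc, hu, mul_assoc, hv, mul_assoc]
  | inv u _ hu =>
    calc x * u⁻¹ = u⁻¹ * (u * x) * u⁻¹ := by group
      _ = u⁻¹ * (x * u) * u⁻¹ := by rw [hu]
      _ = u⁻¹ * x := by group

/-- two commuting `2`-elements of a group with `PQ`: one is a power of the other -/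
theorem two_elements_chain [Finite G] (hpq : PQ G) {d w : G} (hdw : d * w = w * d)
    (hd : ∃ k : ℕ, d ^ 2 ^ k = 1) (hw : ∃ k : ℕ, w ^ 2 ^ k = 1) :
    d ∈ Subgroup.zpowers w ∨ w ∈ Subgroup.zpowers d := by
  have hf2 : Fact (Nat.Prime 2) := ⟨Nat.prime_two⟩
  have hcomm := comm_of_mem_closure_pair hdw
  have hA : IsPGroup 2 (Subgroup.closure ({d, w} : Set G)) := by
    rintro ⟨x, hx⟩
    have : ∃ k : ℕ, x ^ 2 ^ k = 1 := by
      induction hx using Subgroup.closure_induction with
      | mem y hy =>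
        rcases hy with rfl | rfl
        · exact hd
        · exact hw
      | one => exact ⟨0, by simp⟩
      | mul y z hy hz ihy ihz =>
        obtain ⟨k, hk⟩ := ihy
        obtain ⟨l, hl⟩ := ihz
        refine ⟨k + l, ?_⟩
        have hc : Commute y z := hcomm y hy z hz
        rw [hc.mul_pow, pow_add, pow_mul, hk, one_pow, one_mul, mul_comm (2 ^ k), pow_mul, hl,
          one_pow]
      | inv y _ ihy =>
        obtain ⟨k, hk⟩ := ihy
        exact ⟨k, by rw [inv_pow, hk, inv_one]⟩
    obtain ⟨k, hk⟩ := this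
    exact ⟨k, Subtype.ext (by simpa using hk)⟩
  have hu : UniqueOrderP 2 (Subgroup.closure ({d, w} : Set G)) :=
    (hpq.subgroup _).uniqueOrderP hA
  have hcyc : IsCyclic (Subgroup.closure ({d, w} : Set G)) :=
    Helper10.isCyclic_of_comm_of_uniqueOrderP hA
      (fun a b => Subtype.ext (hcomm a a.2 b b.2)) hu
  have hdA : d ∈ Subgroup.closure ({d, w} : Set G) := Subgroup.subset_closure (by simp)
  have hwA : w ∈ Subgroup.closure ({d, w} : Set G) := Subgroup.subset_closure (by simp)
  obtain ⟨k, hk⟩ := hd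
  obtain ⟨l, hl⟩ := hw
  obtain ⟨i, -, hi⟩ := (Nat.dvd_prime_pow Nat.prime_two).mp (orderOf_dvd_of_pow_eq_one hk)
  obtain ⟨j, -, hj⟩ := (Nat.dvd_prime_pow Nat.prime_two).mp (orderOf_dvd_of_pow_eq_one hl)
  rcases le_total i j with hij | hij
  · left
    exact Helper10.mem_zpowers_of_orderOf_dvd' _ hcyc hdA hwA
      (by rw [hi, hj]; exact pow_dvd_pow 2 hij)
  · right
    exact Helper10.mem_zpowers_of_orderOf_dvd' _ hcyc hwA hdA
      (by rw [hi, hj]; exact pow_dvd_pow 2 hij)

end Chain

end Cfsg.Agent.Lib.Helper24.ZassN
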