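import Mathlib
import Cfsg.Agent.Lib.Helper24.ZassN4

/-!
# Helper24 library: Zassenhaus' normal subgroup `N`, nonsolvable case, II

The data `G₀ = S × M ⊴ G` (`NSData`), normality of `S` and `M`, the central involution `z` and the
normal subgroup `N = ⟨z⟩ × M` (`NSData.N`).
-/

set_option autoImplicit false

namespace Cfsg.Agent.Lib.Helper24.ZassN

open Cfsg Cfsg.Agent.Lib Cfsg.Agent.Lib.Helper24.ZFrob
open Cfsg.Agent.Lib.Helper10 (UniqueOrderP)

/-- the conclusion of S3359 as data -/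
structure NSData (G : Type*) [Group G] where
  /-- the subgroup of index at most two -/
  G₀ : Subgroup G
  /-- the factor `SL(2,5)` -/
  S : Subgroup G
  /-- the factor of order prime to `30` -/
  M : Subgroup G
  normal : G₀.Normal
  index : G₀.index = 1 ∨ G₀.index = 2
  sup : S ⊔ M = G₀
  inf : S ⊓ M = ⊥
  comm : ∀ s ∈ S, ∀ x ∈ M, s * x = x * s
  /-- the isomorphism with `SL(2,5)` -/
  eS : S ≃* SL25
  coprime : (Nat.card M).Coprime 30

namespace NSData

variable {G : Type*} [Group G] (D : NSData G)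

theorem S_le : D.S ≤ D.G₀ := D.sup ▸ le_sup_left

theorem M_le : D.M ≤ D.G₀ := D.sup ▸ le_sup_right

theorem card_S : Nat.card D.S = 120 := by
  rw [Nat.card_congr D.eS.toEquiv, card_SL25]

theorem exists_mul {x : G} (hx : x ∈ D.G₀) : ∃ s ∈ D.S, ∃ m ∈ D.M, x = s * m := by
  rw [← D.sup, Subgroup.sup_eq_closure] at hx
  induction hx using Subgroup.closure_induction with
  | mem y hy =>
    rcases hy with hy | hy
    · exact ⟨y, hy, 1, D.M.one_mem, (mul_one y).symm⟩
    · exact ⟨1, D.S.one_mem, y, hy, (one_mul y).symm⟩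
  | one => exact ⟨1, D.S.one_mem, 1, D.M.one_mem, (mul_one 1).symm⟩
  | mul y z _ _ hy hz =>
    obtain ⟨s, hs, m, hm, rfl⟩ := hy
    obtain ⟨s', hs', m', hm', rfl⟩ := hz
    refine ⟨s * s', D.S.mul_mem hs hs', m * m', D.M.mul_mem hm hm', ?_⟩
    calc s * m * (s' * m') = s * (m * s') * m' := by group
      _ = s * (s' * m) * m' := by rw [D.comm s' hs' m hm]
      _ = s * s' * (m * m') := by group
  | inv y _ hy =>
    obtain ⟨s, hs, m, hm, rfl⟩ := hy
    refine ⟨s⁻¹, D.S.inv_mem hs, m⁻¹, D.M.inv_mem hm, ?_⟩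
    rw [mul_inv_rev, D.comm s⁻¹ (D.S.inv_mem hs) m⁻¹ (D.M.inv_mem hm)]

theorem eq_one_of_mem_S_of_mem_M {x : G} (hS : x ∈ D.S) (hM : x ∈ D.M) : x = 1 := by
  have : x ∈ D.S ⊓ D.M := ⟨hS, hM⟩
  rw [D.inf] at this
  exact this

variable [Finite G]

theorem coprime120 : (Nat.card D.M).Coprime 120 := by
  have h2 : (Nat.card D.M).Coprime 2 := Nat.Coprime.coprime_dvd_right (by norm_num) D.coprime
  have h3 : (Nat.card D.M).Coprime 3 := Nat.Coprime.coprime_dvd_right (by norm_num) D.coprime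
  have h5 : (Nat.card D.M).Coprime 5 := Nat.Coprime.coprime_dvd_right (by norm_num) D.coprime
  have : (120 : ℕ) = 2 ^ 3 * 3 * 5 := by norm_num
  rw [this]
  exact ((h2.pow_right 3).mul_right h3).mul_right h5

theorem pow_S {s : G} (hs : s ∈ D.S) : s ^ 120 = 1 := by
  have h := pow_card_eq_one' (G := D.S) (x := ⟨s, hs⟩)
  rw [D.card_S] at h
  have := congrArg Subtype.val h
  rw [Subgroup.coe_pow, Subgroup.coe_one] at this
  exact this

theorem pow_M {m : G} (hm : m ∈ D.M) : m ^ Nat.card D.M = 1 := by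
  have h := pow_card_eq_one' (G := D.M) (x := ⟨m, hm⟩)
  have := congrArg Subtype.val h
  rw [Subgroup.coe_pow, Subgroup.coe_one] at this
  exact this

theorem eq_one_of_pow {x : G} {a b : ℕ} (hab : a.Coprime b) (ha : x ^ a = 1) (hb : x ^ b = 1) :
    x = 1 := by
  have h1 : orderOf x ∣ a := orderOf_dvd_of_pow_eq_one ha
  have h2 : orderOf x ∣ b := orderOf_dvd_of_pow_eq_one hb
  exact orderOf_eq_one_iff.mp (Nat.eq_one_of_dvd_coprimes hab h1 h2)

theorem mem_M_iff {x : G} : x ∈ D.M ↔ x ∈ D.G₀ ∧ x ^ Nat.card D.M = 1 := by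
  constructor
  · intro hx
    exact ⟨D.M_le hx, D.pow_M hx⟩
  · rintro ⟨hx, hpow⟩
    obtain ⟨s, hs, m, hm, rfl⟩ := D.exists_mul hx
    have hc : Commute s m := D.comm s hs m hm
    rw [hc.mul_pow, D.pow_M hm, mul_one] at hpow
    have hs1 : s = 1 := eq_one_of_pow D.coprime120 hpow (D.pow_S hs)
    rw [hs1, one_mul]
    exact hm

theorem mem_S_iff {x : G} : x ∈ D.S ↔ x ∈ D.G₀ ∧ x ^ 120 = 1 := by
  constructor
  · intro hx
    exact ⟨D.S_le hx, D.pow_S hx⟩
  · rintro ⟨hx, hpow⟩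
    obtain ⟨s, hs, m, hm, rfl⟩ := D.exists_mul hx
    have hc : Commute s m := D.comm s hs m hm
    rw [hc.mul_pow, D.pow_S hs, one_mul] at hpow
    have hm1 : m = 1 := eq_one_of_pow D.coprime120 (D.pow_M hm) hpow
    rw [hm1, mul_one]
    exact hs

theorem normal_M : D.M.Normal := by
  have := D.normal
  refine ⟨fun m hm g => ?_⟩
  rw [D.mem_M_iff] at hm ⊢
  refine ⟨D.normal.conj_mem m hm.1 g, ?_⟩
  rw [_root_.conj_pow, hm.2, mul_one, mul_inv_cancel]

theorem normal_S : D.S.Normal := by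
  refine ⟨fun s hs g => ?_⟩
  rw [D.mem_S_iff] at hs ⊢
  refine ⟨D.normal.conj_mem s hs.1 g, ?_⟩
  rw [_root_.conj_pow, hs.2, mul_one, mul_inv_cancel]

/-- the central involution -/
noncomputable def z : G := ((D.eS.symm (-1) : D.S) : G)

theorem z_mem : D.z ∈ D.S := (D.eS.symm (-1)).2

theorem z_sq : D.z * D.z = 1 := by
  have h : D.eS.symm (-1) * D.eS.symm (-1) = 1 := by
    rw [← map_mul, neg_one_mul_neg_one, map_one]
  exact congrArg Subtype.val h

theorem z_ne_one : D.z ≠ 1 := by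
  intro h
  have h1 : D.eS.symm (-1) = 1 := Subtype.ext h
  have h2 : (-1 : SL25) = 1 := by
    have := congrArg D.eS h1
    rwa [MulEquiv.apply_symm_apply, map_one] at this
  exact neg_one_ne_one h2

theorem z_inv : D.z⁻¹ = D.z := by
  rw [inv_eq_iff_mul_eq_one]; exact D.z_sq

theorem z_comm_S {s : G} (hs : s ∈ D.S) : D.z * s = s * D.z := by
  have h : D.eS.symm (-1) * ⟨s, hs⟩ = ⟨s, hs⟩ * D.eS.symm (-1) := by
    apply D.eS.injective
    rw [map_mul, map_mul, MulEquiv.apply_symm_apply, neg_one_mul, mul_neg_one]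
  exact congrArg Subtype.val h

/-- the centre of `S` is `{1, z}` -/
theorem center_S {t : G} (ht : t ∈ D.S) (hc : ∀ s ∈ D.S, t * s = s * t) : t = 1 ∨ t = D.z := by
  have hU : D.eS ⟨t, ht⟩ * matU = matU * D.eS ⟨t, ht⟩ := by
    have := hc _ (D.eS.symm matU).2
    have h2 : (⟨t, ht⟩ : D.S) * D.eS.symm matU = D.eS.symm matU * ⟨t, ht⟩ := Subtype.ext this
    have h3 := congrArg D.eS h2
    rwa [map_mul, map_mul, MulEquiv.apply_symm_apply] at h3
  have hV : D.eS ⟨t, ht⟩ * matV = matV * D.eS ⟨t, ht⟩ := by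
    have := hc _ (D.eS.symm matV).2
    have h2 : (⟨t, ht⟩ : D.S) * D.eS.symm matV = D.eS.symm matV * ⟨t, ht⟩ := Subtype.ext this
    have h3 := congrArg D.eS h2
    rwa [map_mul, map_mul, MulEquiv.apply_symm_apply] at h3
  rcases center_SL25 _ hU hV with h | h
  · left
    have : (⟨t, ht⟩ : D.S) = 1 := by
      apply D.eS.injective; rw [h, map_one]
    exact congrArg Subtype.val this
  · right
    have : (⟨t, ht⟩ : D.S) = D.eS.symm (-1) := by
      apply D.eS.injective; rw [h, MulEquiv.apply_symm_apply]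
    exact congrArg Subtype.val this

/-- `z` is central in `G` -/
theorem z_central (g : G) : g * D.z = D.z * g := by
  have hn := D.normal_S
  have hmem : g * D.z * g⁻¹ ∈ D.S := hn.conj_mem _ D.z_mem g
  have hc : ∀ s ∈ D.S, g * D.z * g⁻¹ * s = s * (g * D.z * g⁻¹) := by
    intro s hs
    have hs' : g⁻¹ * s * g ∈ D.S := by
      have := hn.conj_mem s hs g⁻¹
      rwa [inv_inv] at this
    have h1 := D.z_comm_S hs'
    calc g * D.z * g⁻¹ * s = g * (D.z * (g⁻¹ * s * g)) * g⁻¹ := by group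
      _ = g * ((g⁻¹ * s * g) * D.z) * g⁻¹ := by rw [h1]
      _ = s * (g * D.z * g⁻¹) := by group
  rcases D.center_S hmem hc with h | h
  · exfalso
    apply D.z_ne_one
    have : D.z = g⁻¹ * (g * D.z * g⁻¹) * g := by group
    rw [this, h]; group
  · calc g * D.z = (g * D.z * g⁻¹) * g := by group
      _ = D.z * g := by rw [h]

/-- the normal subgroup `N = ⟨z⟩ × M` -/
noncomputable def N : Subgroup G where
  carrier := {x | x ∈ D.M ∨ D.z * x ∈ D.M}
  one_mem' := Or.inl D.M.one_mem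
  mul_mem' := by
    rintro x y (hx | hx) (hy | hy)
    · exact Or.inl (D.M.mul_mem hx hy)
    · right
      have : D.z * (x * y) = x * (D.z * y) := by
        rw [← mul_assoc, ← D.z_central x, mul_assoc]
      rw [this]
      exact D.M.mul_mem hx hy
    · right
      rw [← mul_assoc]
      exact D.M.mul_mem hx hy
    · left
      have : x * y = (D.z * x) * (D.z * y) := by
        calc x * y = (D.z * D.z) * x * y := by rw [D.z_sq, one_mul]
          _ = D.z * (D.z * x) * y := by group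
          _ = D.z * (x * D.z) * y := by rw [D.z_central x]
          _ = (D.z * x) * (D.z * y) := by group
      rw [this]
      exact D.M.mul_mem hx hy
  inv_mem' := by
    rintro x (hx | hx)
    · exact Or.inl (D.M.inv_mem hx)
    · right
      have : D.z * x⁻¹ = (D.z * x)⁻¹ := by
        rw [mul_inv_rev, D.z_inv, D.z_central]
      rw [this]
      exact D.M.inv_mem hx

theorem mem_N {x : G} : x ∈ D.N ↔ x ∈ D.M ∨ D.z * x ∈ D.M := Iff.rfl

theorem M_le_N : D.M ≤ D.N := fun _ hx => Or.inl hx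

theorem z_mem_N : D.z ∈ D.N := Or.inr (by rw [D.z_sq]; exact D.M.one_mem)

theorem N_le : D.N ≤ D.G₀ := by
  rintro x (hx | hx)
  · exact D.M_le hx
  · have h1 : D.z * x ∈ D.G₀ := D.M_le hx
    have h2 : D.z ∈ D.G₀ := D.S_le D.z_mem
    have : x = D.z⁻¹ * (D.z * x) := by group
    rw [this]
    exact D.G₀.mul_mem (D.G₀.inv_mem h2) h1

theorem normal_N : D.N.Normal := by
  have hM := D.normal_M
  refine ⟨fun x hx g => ?_⟩
  rcases hx with hx | hx
  · exact Or.inl (hM.conj_mem x hx g)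
  · right
    have : D.z * (g * x * g⁻¹) = g * (D.z * x) * g⁻¹ := by
      rw [← mul_assoc, ← mul_assoc, ← D.z_central g]
      group
    rw [this]
    exact hM.conj_mem _ hx g

/-- `N ∩ S = {1, z}` -/
theorem mem_N_S {x : G} (hN : x ∈ D.N) (hS : x ∈ D.S) : x = 1 ∨ x = D.z := by
  rcases hN with h | h
  · left
    exact D.eq_one_of_mem_S_of_mem_M hS h
  · right
    have h1 : D.z * x = 1 := D.eq_one_of_mem_S_of_mem_M (D.S.mul_mem D.z_mem hS) h
    calc x = D.z⁻¹ * (D.z * x) := by group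
      _ = D.z := by rw [h1, mul_one, D.z_inv]

end NSData

end Cfsg.Agent.Lib.Helper24.ZassN
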