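import Mathlib
import Cfsg.Agent.Lib.Helper24.ZassN5

/-!
# Helper24 library: Zassenhaus' normal subgroup `N`, nonsolvable case, III

* `NSData.sylow_cyclic_N`: the Sylow subgroups of `N` are cyclic.
* `NSData.mem_N_of_centralizes`: `C_G(S) ≤ N`.
-/

set_option autoImplicit false

namespace Cfsg.Agent.Lib.Helper24.ZassN

open Cfsg Cfsg.Agent.Lib Cfsg.Agent.Lib.Helper24.ZFrob
open Cfsg.Agent.Lib.Helper10 (UniqueOrderP)

namespace NSData

variable {G : Type*} [Group G] [Finite G] (D : NSData G)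

theorem coprime_two_pow (k : ℕ) : (Nat.card D.M).Coprime (2 ^ k) := by
  have h2 : (Nat.card D.M).Coprime 2 := Nat.Coprime.coprime_dvd_right (by norm_num) D.coprime
  exact h2.pow_right k

theorem z_pow_two_pow (k : ℕ) : D.z ^ 2 ^ (k + 1) = 1 := by
  rw [pow_succ', pow_mul, pow_two, D.z_sq, one_pow]

/-- a `2`-element of `N` is `1` or `z` -/
theorem two_elt_N {a : G} (ha : a ∈ D.N) (h2 : ∃ k : ℕ, a ^ 2 ^ k = 1) : a = 1 ∨ a = D.z := by
  obtain ⟨k, hk⟩ := h2
  rcases ha with h | h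
  · left
    exact eq_one_of_pow (D.coprime_two_pow k) (D.pow_M h) hk
  · right
    have hc : Commute D.z a := (D.z_central a).symm
    have hk1 : a ^ 2 ^ (k + 1) = 1 := by rw [pow_succ, pow_mul, hk, one_pow]
    have h1 : (D.z * a) ^ 2 ^ (k + 1) = 1 := by
      rw [hc.mul_pow, D.z_pow_two_pow, hk1, one_mul]
    have h3 : D.z * a = 1 := eq_one_of_pow (D.coprime_two_pow (k + 1)) (D.pow_M h) h1
    calc a = D.z⁻¹ * (D.z * a) := by group
      _ = D.z := by rw [h3, mul_one, D.z_inv]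

theorem sylow_cyclic_N (hpq : PQ G) (p : ℕ) [Fact p.Prime] (P : Sylow p D.N) : IsCyclic P := by
  refine sylow_isCyclic_of_pq hpq D.N (fun P hP hPN a ha b hb => ?_) p P
  have h2 : ∀ x ∈ P, ∃ k : ℕ, x ^ 2 ^ k = 1 := by
    intro x hx
    obtain ⟨k, hk⟩ := hP ⟨x, hx⟩
    refine ⟨k, ?_⟩
    have := congrArg Subtype.val hk
    rw [Subgroup.coe_pow, Subgroup.coe_one] at this
    exact this
  rcases D.two_elt_N (hPN ha) (h2 a ha) with rfl | rfl
  · simp
  · rcases D.two_elt_N (hPN hb) (h2 b hb) with rfl | rfl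
    · simp
    · rfl

/-- an element acting on `S` trivially modulo `N` centralizes `S` -/
theorem centralizes_of_mod (c : G) (hc : ∀ s ∈ D.S, c * s * c⁻¹ * s⁻¹ ∈ D.N) :
    ∀ s ∈ D.S, c * s = s * c := by
  have hn := D.normal_S
  have hval : ∀ s ∈ D.S, c * s * c⁻¹ * s⁻¹ = 1 ∨ c * s * c⁻¹ * s⁻¹ = D.z := by
    intro s hs
    exact D.mem_N_S (hc s hs) (D.S.mul_mem (hn.conj_mem s hs c) (D.S.inv_mem hs))
  have hcen : ∀ s ∈ D.S, c * s * c⁻¹ * s⁻¹ ∈ Subgroup.center G := by
    intro s hs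
    rcases hval s hs with h | h
    · rw [h]; exact Subgroup.one_mem _
    · rw [h, Subgroup.mem_center_iff]
      intro g
      exact D.z_central g
  -- the homomorphism `s ↦ [c, s]` into the centre
  letI cg : CommGroup (Subgroup.center G) :=
    { (inferInstance : Group (Subgroup.center G)) with
      mul_comm := fun a b => Subtype.ext (Subgroup.mem_center_iff.mp b.2 a) }
  let δ : D.S →* Subgroup.center G :=
    { toFun := fun s => ⟨c * (s : G) * c⁻¹ * (s : G)⁻¹, hcen s s.2⟩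
      map_one' := by
        apply Subtype.ext
        simp
      map_mul' := by
        intro s t
        apply Subtype.ext
        have ht := Subgroup.mem_center_iff.mp (hcen t t.2)
        show c * ((s : G) * (t : G)) * c⁻¹ * ((s : G) * (t : G))⁻¹ =
          (c * (s : G) * c⁻¹ * (s : G)⁻¹) * (c * (t : G) * c⁻¹ * (t : G)⁻¹)
        calc c * ((s : G) * (t : G)) * c⁻¹ * ((s : G) * (t : G))⁻¹
            = (c * (s : G) * c⁻¹) * (c * (t : G) * c⁻¹ * (t : G)⁻¹) * (s : G)⁻¹ := by group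
          _ = (c * (s : G) * c⁻¹) * ((s : G)⁻¹ * (c * (t : G) * c⁻¹ * (t : G)⁻¹)) := by
              rw [mul_assoc, ← ht (s : G)⁻¹]
          _ = (c * (s : G) * c⁻¹ * (s : G)⁻¹) * (c * (t : G) * c⁻¹ * (t : G)⁻¹) := by group }
  have hperf : commutator D.S = ⊤ := by
    have h1 : commutator SL25 = ⊤ := commutator_SL25
    rw [commutator_def] at h1 ⊢
    have h2 := Subgroup.map_commutator (⊤ : Subgroup SL25) ⊤ D.eS.symm.toMonoidHom
    rw [h1] at h2
    have h3 : (⊤ : Subgroup SL25).map D.eS.symm.toMonoidHom = ⊤ := by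
      rw [← MonoidHom.range_eq_map, MonoidHom.range_eq_top]
      exact D.eS.symm.surjective
    rw [h3] at h2
    exact h2.symm
  have hker : δ.ker = ⊤ := by
    rw [eq_top_iff, ← hperf]
    exact Abelianization.commutator_subset_ker δ
  intro s hs
  have h1 : (⟨s, hs⟩ : D.S) ∈ δ.ker := by rw [hker]; trivial
  have h2 : c * s * c⁻¹ * s⁻¹ = 1 := by
    have := congrArg Subtype.val (MonoidHom.mem_ker.mp h1)
    exact this
  calc c * s = (c * s * c⁻¹ * s⁻¹) * s * c := by group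
    _ = s * c := by rw [h2, one_mul]

/-- the elements `u`, `v` of order four -/
noncomputable def u : G := ((D.eS.symm matU : D.S) : G)

/-- the elements `u`, `v` of order four -/
noncomputable def v : G := ((D.eS.symm matV : D.S) : G)

theorem u_mem : D.u ∈ D.S := (D.eS.symm matU).2

theorem v_mem : D.v ∈ D.S := (D.eS.symm matV).2

theorem u_sq : D.u * D.u = D.z := by
  have h : D.eS.symm matU * D.eS.symm matU = D.eS.symm (-1) := by
    rw [← map_mul, matU_sq]
  exact congrArg Subtype.val h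

theorem v_sq : D.v * D.v = D.z := by
  have h : D.eS.symm matV * D.eS.symm matV = D.eS.symm (-1) := by
    rw [← map_mul, matV_sq]
  exact congrArg Subtype.val h

theorem u_v : D.u * D.v ≠ D.v * D.u := by
  intro h
  have h1 : D.eS.symm matU * D.eS.symm matV = D.eS.symm matV * D.eS.symm matU := Subtype.ext h
  rw [← map_mul, ← map_mul] at h1
  exact matU_matV (D.eS.symm.injective h1)

theorem u_pow : D.u ^ 2 ^ 2 = 1 := by
  have : D.u ^ 2 ^ 2 = (D.u * D.u) * (D.u * D.u) := by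
    rw [show (2 : ℕ) ^ 2 = 2 + 2 by norm_num, pow_add, pow_two]
  rw [this, D.u_sq, D.z_sq]

theorem v_pow : D.v ^ 2 ^ 2 = 1 := by
  have : D.v ^ 2 ^ 2 = (D.v * D.v) * (D.v * D.v) := by
    rw [show (2 : ℕ) ^ 2 = 2 + 2 by norm_num, pow_add, pow_two]
  rw [this, D.v_sq, D.z_sq]

/-- the centralizer of `S` lies in `G₀` -/
theorem mem_G₀_of_centralizes (hpq : PQ G) (c : G) (hc : ∀ s ∈ D.S, c * s = s * c) :
    c ∈ D.G₀ := by
  by_contra hcG
  have hidx : D.G₀.index = 2 := by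
    rcases D.index with h | h
    · exfalso
      rw [Subgroup.index_eq_one] at h
      exact hcG (h ▸ Subgroup.mem_top c)
    · exact h
  obtain ⟨k, m, hm, ho⟩ := Nat.exists_eq_two_pow_mul_odd (orderOf_pos c).ne'
  -- the `2`-part of `c`
  have hd2 : (c ^ m) ^ 2 ^ k = 1 := by
    rw [← pow_mul, mul_comm, ← ho, pow_orderOf_eq_one]
  have hdG : c ^ m ∉ D.G₀ := by
    intro h
    obtain ⟨j, rfl⟩ := hm
    have h2 : c ^ 2 ∈ D.G₀ := Subgroup.sq_mem_of_index_two hidx c
    have h3 : (c ^ 2) ^ j ∈ D.G₀ := D.G₀.pow_mem h2 j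
    apply hcG
    have : c = ((c ^ 2) ^ j)⁻¹ * c ^ (2 * j + 1) := by
      rw [pow_succ (n := 2 * j), pow_mul, inv_mul_cancel_left]
    rw [this]
    exact D.G₀.mul_mem (D.G₀.inv_mem h3) h
  have hdc : ∀ s ∈ D.S, c ^ m * s = s * c ^ m := by
    intro s hs
    exact ((show Commute c s from hc s hs).pow_left m).eq
  have key : ∀ w ∈ D.S, (∃ k : ℕ, w ^ 2 ^ k = 1) → w ∈ Subgroup.zpowers (c ^ m) := by
    intro w hw hw2
    rcases two_elements_chain hpq (hdc w hw) ⟨k, hd2⟩ hw2 with h | h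
    · exfalso
      apply hdG
      obtain ⟨i, hi⟩ := Subgroup.mem_zpowers_iff.mp h
      rw [← hi]
      exact D.G₀.zpow_mem (D.S_le hw) i
    · exact h
  obtain ⟨i, hi⟩ := Subgroup.mem_zpowers_iff.mp (key D.u D.u_mem ⟨2, D.u_pow⟩)
  obtain ⟨j, hj⟩ := Subgroup.mem_zpowers_iff.mp (key D.v D.v_mem ⟨2, D.v_pow⟩)
  apply D.u_v
  rw [← hi, ← hj, ← zpow_add, ← zpow_add, add_comm]

/-- `C_G(S) ≤ N` -/
theorem mem_N_of_centralizes (hpq : PQ G) (c : G) (hc : ∀ s ∈ D.S, c * s = s * c) : c ∈ D.N := by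
  have hcG := D.mem_G₀_of_centralizes hpq c hc
  obtain ⟨s₀, hs₀, m₀, hm₀, rfl⟩ := D.exists_mul hcG
  have hcen : ∀ t ∈ D.S, s₀ * t = t * s₀ := by
    intro t ht
    have h1 := hc t ht
    have h2 : m₀ * t = t * m₀ := (D.comm t ht m₀ hm₀).symm
    have h3 : s₀ * t * m₀ = t * s₀ * m₀ := by
      calc s₀ * t * m₀ = s₀ * (t * m₀) := by group
        _ = s₀ * (m₀ * t) := by rw [h2]
        _ = s₀ * m₀ * t := by group
        _ = t * (s₀ * m₀) := h1
        _ = t * s₀ * m₀ := by group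
    exact mul_right_cancel h3
  rcases D.center_S hs₀ hcen with rfl | rfl
  · rw [one_mul]
    exact D.M_le_N hm₀
  · right
    rw [← mul_assoc, D.z_sq, one_mul]
    exact hm₀

end NSData

end Cfsg.Agent.Lib.Helper24.ZassN
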