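import Mathlib
import Cfsg.Agent.S0494
import Cfsg.Agent.S2119
import Cfsg.Agent.Lib.Helper16.SL25Recog
import Cfsg.Agent.Lib.Helper24.ZassN6

/-!
# Helper24 library: Zassenhaus' normal subgroup `N`, nonsolvable case, IV

* `NSData.exists_N`: existence of `N` with `G / N ≅ A₅` or `S₅` from the data of S3359.
-/

set_option autoImplicit false

namespace Cfsg.Agent.Lib.Helper24.ZassN

open Cfsg Cfsg.Agent.Lib Cfsg.Agent.Lib.Helper24.ZFrob
open Cfsg.Agent.Lib.Helper10 (UniqueOrderP)

theorem commutator_eq_top_of_surj {A B : Type*} [Group A] [Group B] (f : A →* B)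
    (hf : Function.Surjective f) (hA : commutator A = ⊤) : commutator B = ⊤ := by
  rw [commutator_def] at hA ⊢
  have h2 := Subgroup.map_commutator (⊤ : Subgroup A) ⊤ f
  rw [hA] at h2
  have h3 : (⊤ : Subgroup A).map f = ⊤ := by
    rw [← MonoidHom.range_eq_map, MonoidHom.range_eq_top]
    exact hf
  rw [h3] at h2
  exact h2.symm

theorem not_solvable_of_perfect {A : Type*} [Group A] [Nontrivial A] (hA : commutator A = ⊤) :
    ¬ Group.IsSolvable A := by
  intro h
  exact (IsSolvable.commutator_lt_top_of_nontrivial (G := A)).ne hA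

namespace NSData

variable {G : Type*} [Group G] [Finite G] (D : NSData G)

theorem commutator_S : commutator D.S = ⊤ :=
  commutator_eq_top_of_surj D.eS.symm.toMonoidHom D.eS.symm.surjective commutator_SL25

theorem S_sup_N : D.S ⊔ D.N = D.G₀ := by
  apply le_antisymm
  · exact sup_le D.S_le D.N_le
  · rw [← D.sup]
    exact sup_le_sup_left D.M_le_N _

/-- **existence of `N`**, nonsolvable case -/
theorem exists_N (D : NSData G) (hpq : PQ G) :
    ∃ N : Subgroup G, N.Normal ∧ (∀ (p : ℕ) [Fact p.Prime] (P : Sylow p N), IsCyclic P) ∧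
      InList N := by
  have hNn := D.normal_N
  have hSn := D.normal_S
  refine ⟨D.N, hNn, fun p _ P => D.sylow_cyclic_N hpq p P, ?_⟩
  have hmk : Function.Surjective (QuotientGroup.mk' D.N) := QuotientGroup.mk'_surjective D.N
  have hAn : (D.S.map (QuotientGroup.mk' D.N)).Normal :=
    Subgroup.Normal.map hSn (QuotientGroup.mk' D.N) hmk
  -- the order of the image of `S`
  have hcardA : Nat.card (D.S.map (QuotientGroup.mk' D.N)) = 60 := by
    have hrange : ((QuotientGroup.mk' D.N).comp D.S.subtype).range =
        D.S.map (QuotientGroup.mk' D.N) := by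
      rw [MonoidHom.range_comp, Subgroup.range_subtype]
    have hker : ((QuotientGroup.mk' D.N).comp D.S.subtype).ker =
        Subgroup.zpowers (⟨D.z, D.z_mem⟩ : D.S) := by
      apply le_antisymm
      · intro s hs
        have h1 : QuotientGroup.mk' D.N (s : G) = 1 := hs
        have h2 : (s : G) ∈ D.N := (QuotientGroup.eq_one_iff _).mp h1
        rcases D.mem_N_S h2 s.2 with h | h
        · have : s = 1 := Subtype.ext h
          rw [this]; exact Subgroup.one_mem _
        · have : s = ⟨D.z, D.z_mem⟩ := Subtype.ext h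
          rw [this]; exact Subgroup.mem_zpowers _
      · rw [Subgroup.zpowers_le]
        show QuotientGroup.mk' D.N D.z = 1
        exact (QuotientGroup.eq_one_iff _).mpr D.z_mem_N
    have hord : orderOf (⟨D.z, D.z_mem⟩ : D.S) = 2 := by
      apply orderOf_eq_prime
      · apply Subtype.ext
        rw [Subgroup.coe_pow, Subgroup.coe_one, pow_two]
        exact D.z_sq
      · intro h
        exact D.z_ne_one (congrArg Subtype.val h)
    have hmul := Subgroup.card_mul_index ((QuotientGroup.mk' D.N).comp D.S.subtype).ker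
    rw [Subgroup.index_ker, hrange, hker, Nat.card_zpowers, hord, D.card_S] at hmul
    omega
  -- the image of `S` is `A₅`
  have hntA : Nontrivial (D.S.map (QuotientGroup.mk' D.N)) := by
    rw [← Finite.one_lt_card_iff_nontrivial, hcardA]; norm_num
  have hperfA : commutator (D.S.map (QuotientGroup.mk' D.N)) = ⊤ :=
    commutator_eq_top_of_surj ((QuotientGroup.mk' D.N).subgroupMap D.S)
      ((QuotientGroup.mk' D.N).subgroupMap_surjective D.S) D.commutator_S
  have hsimple : IsSimpleGroup (D.S.map (QuotientGroup.mk' D.N)) :=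
    Cfsg.Agent.Lib.Helper16.SL25Recog.simple_of_card_sixty hcardA (not_solvable_of_perfect hperfA)
  obtain ⟨e₅⟩ := Cfsg.Agent.S0494.result hcardA
  -- the conjugation action on the image of `S` is faithful
  have hκ : Function.Injective
      (MulAut.conjNormal : (G ⧸ D.N) →* MulAut (D.S.map (QuotientGroup.mk' D.N))) := by
    rw [injective_iff_map_eq_one]
    intro x hx
    obtain ⟨c, rfl⟩ := hmk x
    rw [QuotientGroup.mk'_apply, QuotientGroup.eq_one_iff]
    apply D.mem_N_of_centralizes hpq c
    apply D.centralizes_of_mod c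
    intro s hs
    have hsA : QuotientGroup.mk' D.N s ∈ D.S.map (QuotientGroup.mk' D.N) :=
      Subgroup.mem_map_of_mem _ hs
    have h1 : MulAut.conjNormal (QuotientGroup.mk' D.N c)
        (⟨QuotientGroup.mk' D.N s, hsA⟩ : D.S.map (QuotientGroup.mk' D.N)) =
        ⟨QuotientGroup.mk' D.N s, hsA⟩ := by
      rw [hx]; rfl
    have h2 := congrArg Subtype.val h1
    rw [MulAut.conjNormal_apply] at h2
    simp only at h2
    rw [← QuotientGroup.eq_one_iff, ← QuotientGroup.mk'_apply, map_mul, map_mul, map_mul,
      map_inv, map_inv, h2, mul_inv_cancel]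
  -- the homomorphism to `S₅`
  have hbij := Cfsg.Agent.S2119.result 5 (by norm_num) (by norm_num)
  let Φ : Equiv.Perm (Fin 5) ≃* MulAut (alternatingGroup (Fin 5)) :=
    MulEquiv.ofBijective MulAut.conjNormal hbij
  let j : (G ⧸ D.N) →* Equiv.Perm (Fin 5) :=
    Φ.symm.toMonoidHom.comp ((MulAut.congr e₅).toMonoidHom.comp MulAut.conjNormal)
  have hj : Function.Injective j := by
    intro a b hab
    have h1 : Φ.symm ((MulAut.congr e₅) (MulAut.conjNormal a)) =
        Φ.symm ((MulAut.congr e₅) (MulAut.conjNormal b)) := hab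
    exact hκ ((MulAut.congr e₅).injective (Φ.symm.injective h1))
  have hkerf : (j.comp (QuotientGroup.mk' D.N)).ker = D.N := by
    ext x
    rw [MonoidHom.mem_ker, MonoidHom.comp_apply]
    constructor
    · intro h
      have : QuotientGroup.mk' D.N x = 1 := hj (by rw [h, map_one])
      exact (QuotientGroup.eq_one_iff _).mp this
    · intro h
      have : QuotientGroup.mk' D.N x = 1 := (QuotientGroup.eq_one_iff _).mpr h
      rw [this, map_one]
  -- orders
  have hidxA : (D.S.map (QuotientGroup.mk' D.N)).index = D.G₀.index := by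
    rw [Subgroup.index_map, QuotientGroup.ker_mk', D.S_sup_N, MonoidHom.range_eq_top.mpr hmk,
      Subgroup.index_top, mul_one]
  have hcardQ : Nat.card (G ⧸ D.N) = 60 * D.G₀.index := by
    rw [← Subgroup.card_mul_index (D.S.map (QuotientGroup.mk' D.N)), hcardA, hidxA]
  have hcardR : Nat.card (j.comp (QuotientGroup.mk' D.N)).range = 60 * D.G₀.index := by
    rw [← Subgroup.index_ker, hkerf, Subgroup.index_eq_card, hcardQ]
  have hcardS5 : Nat.card (Equiv.Perm (Fin 5)) = 120 := by
    rw [card_perm_fin]; decide
  rcases D.index with h1 | h2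
  · -- `A₅`
    right; right; right; right; left
    rw [h1, mul_one] at hcardR
    have hidx : (j.comp (QuotientGroup.mk' D.N)).range.index = 2 := by
      have := Subgroup.card_mul_index (j.comp (QuotientGroup.mk' D.N)).range
      rw [hcardR, hcardS5] at this
      omega
    have hrange : (j.comp (QuotientGroup.mk' D.N)).range = alternatingGroup (Fin 5) :=
      Equiv.Perm.eq_alternatingGroup_of_index_eq_two hidx
    have hmem : ∀ g : G, (j.comp (QuotientGroup.mk' D.N)) g ∈ alternatingGroup (Fin 5) := by
      intro g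
      rw [← hrange]
      exact ⟨_, rfl⟩
    refine ⟨(j.comp (QuotientGroup.mk' D.N)).codRestrict (alternatingGroup (Fin 5)) hmem, ?_, ?_⟩
    · rintro ⟨y, hy⟩
      rw [← hrange] at hy
      obtain ⟨g, rfl⟩ := hy
      exact ⟨g, rfl⟩
    · refine Eq.trans ?_ hkerf
      ext g
      simp only [MonoidHom.mem_ker]
      constructor
      · intro h
        exact congrArg Subtype.val h
      · intro h
        exact Subtype.ext h
  · -- `S₅`
    right; right; right; right; right
    rw [h2] at hcardR
    have htop : (j.comp (QuotientGroup.mk' D.N)).range = ⊤ :=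
      Subgroup.eq_top_of_card_eq _ (by rw [hcardR, hcardS5])
    exact ⟨j.comp (QuotientGroup.mk' D.N), MonoidHom.range_eq_top.mp htop, hkerf⟩

end NSData

end Cfsg.Agent.Lib.Helper24.ZassN
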