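import Mathlib
import Cfsg.Agent.Lib.Helper24.ZassN3
import Cfsg.Agent.Lib.Helper24.ZassN7

/-!
# Helper24 library: Zassenhaus' normal subgroup `N` (S4291), assembly

`main`: a finite group with `PQ` (in particular a Frobenius complement) which, when nonsolvable,
has the structure of S3359, has a unique normal subgroup `N` with cyclic Sylow subgroups and
`G / N ∈ {1, V₄, A₄, S₄, A₅, S₅}`.
-/

set_option autoImplicit false

namespace Cfsg.Agent.Lib.Helper24.ZassN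

open Cfsg Cfsg.Agent.Lib Cfsg.Agent.Lib.Helper24.ZFrob
open Cfsg.Agent.Lib.Helper10 (UniqueOrderP)

theorem main {G : Type*} [Group G] [Finite G] (hpq : PQ G)
    (h3359 : ¬ Group.IsSolvable G →
      ∃ G₀ : Subgroup G, G₀.Normal ∧ (G₀.index = 1 ∨ G₀.index = 2) ∧
      ∃ S M : Subgroup G, S ⊔ M = G₀ ∧ S ⊓ M = ⊥ ∧ (∀ s ∈ S, ∀ x ∈ M, s * x = x * s) ∧
        Nonempty (S ≃* Matrix.SpecialLinearGroup (Fin 2) (ZMod 5)) ∧
        (∀ (p : ℕ) [Fact p.Prime] (P : Sylow p M), IsCyclic P) ∧ (Nat.card M).Coprime 30) :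
    ∃! N : Subgroup G, N.Normal ∧ (∀ (p : ℕ) [Fact p.Prime] (P : Sylow p N), IsCyclic P) ∧
      (N = ⊤ ∨
        (∃ f : G →* DihedralGroup 2, Function.Surjective f ∧ f.ker = N) ∨
        (∃ f : G →* alternatingGroup (Fin 4), Function.Surjective f ∧ f.ker = N) ∨
        (∃ f : G →* Equiv.Perm (Fin 4), Function.Surjective f ∧ f.ker = N) ∨
        (∃ f : G →* alternatingGroup (Fin 5), Function.Surjective f ∧ f.ker = N) ∨
        (∃ f : G →* Equiv.Perm (Fin 5), Function.Surjective f ∧ f.ker = N)) := by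
  have hf2 : Fact (Nat.Prime 2) := ⟨Nat.prime_two⟩
  have hex : ∃ N : Subgroup G, N.Normal ∧
      (∀ (p : ℕ) [Fact p.Prime] (P : Sylow p N), IsCyclic P) ∧ InList N := by
    by_cases hsol : Group.IsSolvable G
    · exact exists_N_solvable hsol hpq
    · obtain ⟨G₀, hn, hidx, S, M, hsup, hinf, hcomm, ⟨eS⟩, -, hcop⟩ := h3359 hsol
      exact NSData.exists_N ⟨G₀, S, M, hn, hidx, hsup, hinf, hcomm, eS, hcop⟩ hpq
  obtain ⟨N, hNn, hZ, hL⟩ := hex
  refine ⟨N, ⟨hNn, hZ, hL⟩, ?_⟩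
  rintro N' ⟨-, hZ', hL'⟩
  let Q : Sylow 2 G := default
  have hQu : UniqueOrderP 2 Q := (hpq.subgroup Q).uniqueOrderP Q.2
  have hQ : IsCyclic Q ∨ ∃ n, Nonempty (Q ≃* QuaternionGroup n) := by
    rcases Helper10.isCyclic_or_quaternion_of_uniqueOrderP Q.2 hQu with h | ⟨-, n, hn⟩
    · exact Or.inl h
    · exact Or.inr ⟨2 ^ n, hn⟩
  exact unique_of_inList Q hQ N' N hZ' hZ hL' hL

end Cfsg.Agent.Lib.Helper24.ZassN
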