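import Mathlib
import Cfsg.Agent.Lib.Helper12.FC3
import Cfsg.Agent.Lib.Helper24.ZassN8

/-!
# Helper24 library: S4291 modulo Zassenhaus' theorem S0690

`frobenius_complement_N (hZ : ZassHyp)`: the statement of S4291, given the statement of S0690
(`Cfsg.Agent.Lib.Helper12.FC.ZassHyp`).
-/

set_option autoImplicit false

namespace Cfsg.Agent.Lib.Helper24.ZassN

open Cfsg Cfsg.Agent.Lib Cfsg.Agent.Lib.Helper24.ZFrob

theorem frobenius_complement_N (hZ : Cfsg.Agent.Lib.Helper12.FC.ZassHyp)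
    {G : Type*} [Group G] [Finite G]
    (hFC : (∃ (L : Type) (_ : Group L) (_ : Finite L) (H : Subgroup L),
      Cfsg.IsFrobeniusComplement H ∧ Nonempty (G ≃* H))) :
    ∃! N : Subgroup G, N.Normal ∧ (∀ (p : ℕ) [Fact p.Prime] (P : Sylow p N), IsCyclic P) ∧
      (N = ⊤ ∨
        (∃ f : G →* DihedralGroup 2, Function.Surjective f ∧ f.ker = N) ∨
        (∃ f : G →* alternatingGroup (Fin 4), Function.Surjective f ∧ f.ker = N) ∨
        (∃ f : G →* Equiv.Perm (Fin 4), Function.Surjective f ∧ f.ker = N) ∨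
        (∃ f : G →* alternatingGroup (Fin 5), Function.Surjective f ∧ f.ker = N) ∨
        (∃ f : G →* Equiv.Perm (Fin 5), Function.Surjective f ∧ f.ker = N)) := by
  have hpq : PQ G := by
    obtain ⟨L, _, _, H, hH, ⟨φ⟩⟩ := hFC
    exact pq_of_frobenius_complement hH φ
  exact main hpq (fun hns => Cfsg.Agent.Lib.Helper12.FC.nonsolvable_fc_structure hZ hns hFC)

end Cfsg.Agent.Lib.Helper24.ZassN
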